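import Cfsg.Agent.H90.Word
import Cfsg.Agent.H57.SLGen
import Cfsg.Agent.H57.SLCard
import Cfsg.Agent.H11.DicksonEmbed
import Cfsg.Agent.H61.SL2Basic

/-! Two presentations of `SL(2,5)` and its normal subgroups. -/

set_option autoImplicit false

namespace H90

open W
open scoped commutatorElement

/-- A closed table for generators in a product `G × Γ` with as many rows as `Γ` has elements gives
a homomorphism `Γ →* G`. -/
theorem exists_hom_of_chk {G Γ : Type*} [Group G] [Group Γ] [Finite Γ] (gs : List (G × Γ))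
    {R : List (List ℕ)} (hR : ∀ r ∈ R, ev (mkv gs) r = 1)
    (T : List (List ℕ)) (C : List (List ℕ × List (List ℕ × ℕ)))
    (D : List (List (ℕ × List (List ℕ × ℕ))))
    (h : chkRels (fun R' => chkTab R' ([] :: T) (List.range (2 * gs.length)) ([] :: T) D) C R = true)
    (hgen : ∀ S : Subgroup Γ, (∀ g ∈ gs, g.2 ∈ S) → S = ⊤) (hcard : Nat.card Γ = T.length + 1) :
    ∃ φ : Γ →* G, ∀ g ∈ gs, φ g.2 = g.1 := by
  let B := Subgroup.closure {g | g ∈ gs}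
  let f : B →* Γ := (MonoidHom.snd G Γ).comp B.subtype
  have hf : Function.Surjective f := by
    rw [← MonoidHom.range_eq_top]
    exact hgen _ fun g hg => ⟨⟨g, Subgroup.subset_closure hg⟩, rfl⟩
  have hcov : ∀ b : B, ∃ i : Fin ([] :: T).length, (b : G × Γ) = ev (mkv gs) (([] :: T)[i]) := by
    intro b
    obtain ⟨t, ht, e⟩ := cover_of_chk gs hR T C D h b.2
    obtain ⟨i, hi, rfl⟩ := List.getElem_of_mem ht
    exact ⟨⟨i, hi⟩, e⟩
  choose k hk using hcov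
  have hk' : Function.Injective k := fun a b e => Subtype.ext (by rw [hk a, hk b, e])
  have : Finite B := Finite.of_injective k hk'
  have hle : Nat.card B ≤ Nat.card Γ := by
    simpa [hcard] using Nat.card_le_card_of_injective k hk'
  have hbij : Function.Bijective f := hf.bijective_of_nat_card_le hle
  let e := MulEquiv.ofBijective f hbij
  refine ⟨((MonoidHom.fst G Γ).comp B.subtype).comp e.symm.toMonoidHom, fun g hg => ?_⟩
  have : e.symm g.2 = ⟨g, Subgroup.subset_closure hg⟩ := by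
    rw [MulEquiv.symm_apply_eq]; rfl
  simp [this]

instance factFive : Fact (Nat.Prime 5) := ⟨by norm_num⟩

/-- The group `SL(2,5)`. -/
abbrev SL5 := Matrix.SpecialLinearGroup (Fin 2) (ZMod 5)

theorem card_SL5 : Nat.card SL5 = 120 := by
  rw [H57.card_sl_two]; simp

theorem commutator_SL5 : commutator SL5 = ⊤ :=
  H57.sl_commutator_eq_top_of_sq_ne_one (x := 2) (by decide) (by decide)

theorem normal_SL5 (N : Subgroup SL5) [hN : N.Normal] : N = ⊥ ∨ -1 ∈ N := by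
  have hs := H57.psl_isSimpleGroup_of_perfect commutator_SL5
  rcases (hN.map (QuotientGroup.mk' (Subgroup.center SL5)) (QuotientGroup.mk'_surjective _)
    ).eq_bot_or_eq_top with h | h
  · by_cases h1 : (-1 : SL5) ∈ N
    · exact Or.inr h1
    · left
      rw [eq_bot_iff]
      intro g hg
      have : (QuotientGroup.mk' (Subgroup.center SL5)) g ∈ (⊥ : Subgroup _) := h ▸ ⟨g, hg, rfl⟩
      rw [Subgroup.mem_bot, QuotientGroup.mk'_apply, QuotientGroup.eq_one_iff,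
        H61.sl_mem_center_iff] at this
      rcases this with rfl | rfl
      · exact Subgroup.one_mem _
      · exact absurd hg h1
  · right
    have h1 : Subgroup.center SL5 ⊔ N = ⊤ := by
      have := congrArg (Subgroup.comap (QuotientGroup.mk' (Subgroup.center SL5))) h
      rwa [QuotientGroup.comap_map_mk', Subgroup.comap_top] at this
    have h2 : commutator SL5 ≤ N := by
      rw [commutator_def, Subgroup.commutator_le]
      intro a _ b _
      obtain ⟨z, hz, n, hn, rfl⟩ := Subgroup.mem_sup_of_normal_right.1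
        (show a ∈ Subgroup.center SL5 ⊔ N by rw [h1]; trivial)
      have hz' := Subgroup.mem_center_iff.1 hz
      have : ⁅z * n, b⁆ = n * (b * n⁻¹ * b⁻¹) := by
        rw [commutatorElement_def, ← hz' n, mul_inv_rev, mul_assoc n z b, ← hz' b]
        group
      rw [this]
      exact N.mul_mem hn (hN.conj_mem _ (N.inv_mem hn) b)
    rw [commutator_SL5] at h2
    exact h2 trivial

theorem injective_of_SL5 {G : Type*} [Group G] (φ : SL5 →* G) (h : φ (-1) ≠ 1) :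
    Function.Injective φ := by
  rw [← MonoidHom.ker_eq_bot_iff]
  exact (normal_SL5 φ.ker).resolve_right h

/-- An element of order three of `SL(2,5)`. -/
def m3 : SL5 := ⟨!![0, 4; 1, 4], by decide⟩

/-- A second element of order three. -/
def m3a : SL5 := ⟨!![2, 3; 1, 2], by decide⟩

/-- A third element of order three. -/
def m3b : SL5 := ⟨!![4, 3; 3, 0], by decide⟩

theorem eq_top_of_m3_uMat (S : Subgroup SL5) (h1 : m3 ∈ S) (h2 : H11.uMat 1 ∈ S) : S = ⊤ := by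
  refine H11.eq_top_of_uMat_one_lMat_one 5 S h2 ?_
  have : (H11.lMat 1 : SL5) = m3 * (H11.uMat 1)⁻¹ * m3⁻¹ := by decide
  rw [this]
  exact S.mul_mem (S.mul_mem h1 (S.inv_mem h2)) (S.inv_mem h1)

theorem eq_top_of_m3_m3a_m3b (S : Subgroup SL5) (h1 : m3 ∈ S) (h2 : m3a ∈ S) (h3 : m3b ∈ S) :
    S = ⊤ := by
  refine eq_top_of_m3_uMat S h1 ?_
  have : (H11.uMat 1 : SL5) = m3a⁻¹ * m3 * m3b := by decide
  rw [this]
  exact S.mul_mem (S.mul_mem (S.inv_mem h2) h1) h3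

def slC : List (List ℕ × List (List ℕ × ℕ)) :=
  [([4,4],[([],4)]),
  ([0,0,0],[([],0)]),
  ([5,0,4,1],[([],6)]),
  ([5,2,4,3],[([],8)]),
  ([2,2,2,2,2],[([],2)]),
  ([0,2,0,2,5],[([],10)]),
  ([5,5],[([5],13)]),
  ([4,0,5,1],[([],25),([5,0],13),([],16)]),
  ([4,2,5,3],[([],25),([5,2],13),([],18)]),
  ([1,1,1],[([1],15)]),
  ([4,1,5,0],[([4],15),([],26),([0],26),([],14)]),
  ([1,2,0,2,5,1],[([],15),([0],22)]),
  ([4,3,0,0,3,1],[([],23),([0,2],14)]),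
  ([4,3,4,2],[([],23),([0,2],27),([0],29),([],27),([4],22),([],12)]),
  ([4,3,3,5,2,2],[([4],21),([],28),([2],28),([2,2],28),([],20)]),
  ([4,3,1,4,0,2],[([4,3],33),([],38)]),
  ([3,3,3,3,3],[([3],21)]),
  ([1,4,3,1,3],[([1],23)]),
  ([4,3,1,3,1],[([],23)]),
  ([0,2,4,0,2],[([],49),([],42)]),
  ([3,1,3,5,1],[([],51),([0,2],23),([],22),([],26)]),
  ([0,2,1,2,0,2,2],[([],37),([4,3],50),([],40),([3,3],32)]),
  ([4,3,5,2],[([],25),([5],39)]),
  ([2,0,4,2,0],[([],47),([1],38)]),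
  ([1,3,4,1,3],[([1],57),([],46)]),
  ([3,1,4,3,1],[([3],33),([],57),([],48)]),
  ([3,0,4,0,3,1],[([3],27),([],57),([],36)]),
  ([2,0,3,4,2,2,0],[([2,0],57),([],58)]),
  ([1,3,3,4,2,1,3],[([1,3],57),([],60)]),
  ([3,0,3,4,2,0,3,1],[([3,0],57),([],64)]),
  ([3,0,2,1,2,0,3,3],[([3],65),([3,3],53),([],44)]),
  ([3,1,2,2,5,2,2,1],[([3,1],45),([],52),([0],56),([0,3],56)]),
  ([3,3,0,2,5,0,3,3],[([3,3],63),([],44)]),
  ([1,3,1,5,3],[([1],51)]),
  ([1,2,4,0,2,1],[([],15),([0],50)]),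
  ([0,2,2,4,3,0,2],[([0,2],29),([],50)]),
  ([1,2,1,2,0,2,2,1],[([],15),([0],65),([0,3],27),([0],57),([],53),([3,1],76),([],74),([0,3,3],32),([0,3],62),([0,3],50)]),
  ([2,1,4,1,2,0],[([2],15),([2,0],27),([],58)]),
  ([3,1,2,1,3,1,2,2,1],[([3,1,2],59),([],74),([0,3,3],26),([0,3],64),([0],72),([0,2,2],60),([0],20)]),
  ([2,0,2,5,0],[([],61),([1,3],28)]),
  ([0,2,2,0,2,1,2],[([0,2],61),([2],72),([2,2,2],68),([2],20)]),
  ([3,0,3,1,3,3,1],[([3],81),([3,1],29),([],62)]),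
  ([2,2,1,3,3,1,3,0,2,2],[([],73),([3,0,2],78),([3],82)]),
  ([1,3,0,3,3,1,3,1,2,0,3],[([1,3],85),([],78),([2],28),([2,2],32),([2],86)]),
  ([1,2,2,4,3,0,2,1],[([1,2],29),([],80)]),
  ([2,2,1,3,0,3,1,2],[([2,2,1,3],95),([2,2,1,3,3],81),([],96),([3],74),([3,0,3,3],12),([3,0],44)]),
  ([1,3,0,3,0,2,0,2,2,0,3],[([1,3,0,3],95),([1,3,0,3,3],81),([],98),([2,1,3],82)]),
  ([2,0,3,1,3,1,2,0],[([2],81),([2,1],29),([],86)]),
  ([1,3,0,3,1,3,3],[([],87),([2,1],56),([2],60)]),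
  ([1,3,3,1,3,0,3],[([3],105),([3],108),([2],14)]),
  ([2,0,3,3,3,0,2,1],[([2,0],21),([],90),([1],28),([],80)]),
  ([3,0,3,0,0,3,3,1],[([3],31),([3,1],87),([3,1,2],91),([],74),([0,3,3],26),([0,3],64),([0],72)]),
  ([2,0,3,0,2,0,3,3,0],[([2,0],103),([],90),([1],28),([],80),([0,3],30),([0],114),([],14)]),
  ([3,0,3,3,4,2,2,0,3,1],[([3],75),([],55),([0,2,1],20)]),
  ([3,0,2,2,1,2,0,3,3,0,3,3],[([],103),([2,2,1,3],54),([2,2,1],44)]),
  ([2,1,2,1,1,2,2,0],[([2],15),([2,0],65),([2,0,3],27),([],66)]),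
  ([1,2,2,1,3,1,2,1,3],[([1],73),([1,3],65),([1,3,3],27),([],68)]),
  ([2,1,3,0,2,2,2,2,1,2,2],[([2],107),([2,2],101),([2,2,1],45),([],73),([3,0,2],68),([3],92)]),
  ([1,2,2,0,2,1,2,1],[([1,2],69),([3],122),([3,1,3],118),([3,1],72),([3],124)]),
  ([3,0,2,2,1,3,1,2,2,0,3,1],[([3,0],73),([],114),([0,2],122)]),
  ([2,2,1,3,3,0,0,3,0,2,2],[([1],115),([1,3,0,3],89),([1,3],85),([1,3,1,2,1],73),([1],88),([3,3],14)]),
  ([3,3,0,3,3,0,2,1,2,2,0,3],[([3],93),([3,0,2],125),([],72),([2],122)]),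
  ([3,0,3,3,1,2,2,2,1,2,2,1],[([3],85),([2],133),([2],73),([0],126)]),
  ([1,3,3,0,3,3,1,3,0,3,3,0,3],[([1],127),([1,2,1,3],115),([1,2],123),([1,2,2,1,2],87),([1,2,2,1],77),([],124),([2,0],114),([2],14)]),
  ([3,0,3,3,0,3,3,1,1,2,2,1,2,1,3,3],[([3],137),([3,3,0],133),([],76),([2],86),([2,1],72),([2],124)]),
  ([0,2,1,3,0,0,3,0,2],[([0,2],87),([0,2,2],33),([],82)]),
  ([0,2,1,3,3,0,3,3,3,0,3,3,0,3,3],[([0,2],123),([],115),([3,0,3],119),([3],137),([3,3],85),([],133),([2,2,1,3,3],82),([2,2,1],44)]),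
  ([1,2,1,3,0,0,3,0,2,1],[([1,2],87),([1],77),([],123),([2],84),([],112)]),
  ([2,0,3,0,3,3,3,3,0,3,3,0],[([2,0,3],85),([],106),([1],120)]),
  ([1,2,1,3,3,0,3,3,3,0,3,3,0,3,3,1],[([1,2,1],127),([],84),([0,3,3],30),([0,3],114),([0],120)]),
  ([2,1,2,2,1,2,2,1,2,2,1,2,2,1,2],[([],139),([1,3,3,0,3,3],84),([1],134),([],150),([0,2,2,1,2,2],30),([0,2,2],128),([],92)]),
  ([1,2,2,1,2,2,1,2,2,2,1,2,2,0,3],[([1],121),([1,3],115),([],123),([2,1],126)]),
  ([2,2,1,2,2,1,2,2,2,1,2,2,0,3,1],[([],121),([3,0,2,2,1],20),([],130)])]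

def slT : List (List ℕ) :=
  [[0],[1],[2],[3],[4],[0,2],[0,3],[0,4],[1,2],[1,3],[1,4],[2,0],[2,1],[2,2],[2,4],[3,0],[3,1],[3,3],[3,4],[0,2,1],[0,2,2],[0,3,0],[0,3,1],[0,3,3],[0,3,4],[1,2,1],[1,2,2],[1,3,0],[1,3,3],[2,0,3],[2,1,2],[2,1,3],[2,2,0],[2,2,1],[2,2,4],[3,0,2],[3,0,3],[3,1,2],[3,3,0],[3,3,1],[3,3,4],[0,2,1,3],[0,2,2,1],[0,3,0,2],[0,3,0,3],[0,3,1,2],[0,3,3,0],[0,3,3,1],[0,3,3,4],[1,2,1,3],[1,2,2,1],[1,3,0,2],[1,3,3,0],[2,0,3,0],[2,1,2,2],[2,1,3,0],[2,1,3,3],[2,2,0,3],[2,2,1,2],[2,2,1,3],[3,0,2,2],[3,0,3,3],[3,1,2,1],[3,3,0,3],[3,3,1,2],[0,2,1,3,3],[0,2,2,1,2],[0,2,2,1,3],[0,3,0,2,2],[0,3,0,3,3],[0,3,1,2,1],[0,3,3,0,3],[0,3,3,1,2],[1,2,1,3,3],[1,2,2,1,2],[1,3,0,2,2],[1,3,3,0,3],[2,0,3,0,3],[2,1,2,2,1],[2,1,3,0,2],[2,1,3,3,0],[2,2,0,3,0],[2,2,1,2,2],[2,2,1,3,3],[3,0,2,2,1],[3,0,3,3,0],[3,0,3,3,1],[3,3,0,3,3],[3,3,1,2,1],[0,2,1,3,3,0],[0,2,2,1,2,2],[0,2,2,1,3,3],[0,3,0,2,2,1],[0,3,0,3,3,0],[0,3,0,3,3,1],[0,3,3,0,3,3],[0,3,3,1,2,1],[1,2,1,3,3,0],[1,2,2,1,2,2],[1,3,0,2,2,1],[1,3,3,0,3,3],[2,1,2,2,1,2],[2,1,3,3,0,3],[2,2,0,3,0,3],[2,2,1,2,2,1],[3,0,3,3,0,3],[3,3,0,3,3,1],[0,2,1,3,3,0,3],[0,2,2,1,2,2,1],[0,3,0,3,3,0,3],[0,3,3,0,3,3,1],[1,2,1,3,3,0,3],[1,2,2,1,2,2,1],[2,1,2,2,1,2,2],[2,1,3,3,0,3,3],[2,2,1,2,2,1,2],[3,0,3,3,0,3,3],[0,2,2,1,2,2,1,2],[0,3,0,3,3,0,3,3]]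

def slD : List (List (ℕ × List (List ℕ × ℕ))) :=
  [[(1,[]),(2,[]),(3,[]),(4,[]),(5,[]),(5,[([],24)])],
  [(2,[([],14)]),(0,[]),(6,[]),(7,[]),(8,[]),(8,[([0],24)])],
  [(0,[]),(1,[([],30)]),(9,[]),(10,[]),(11,[]),(11,[([1],24)])],
  [(12,[]),(13,[]),(14,[]),(0,[]),(15,[]),(15,[([2],24)])],
  [(16,[]),(17,[]),(0,[]),(18,[]),(19,[]),(19,[([3],24)])],
  [(8,[([],26)]),(11,[([],32)]),(15,[([],28)]),(19,[([],56)]),(0,[([],12)]),(0,[])],
  [(19,[([],22),([],56)]),(20,[]),(21,[]),(1,[]),(17,[([],50)]),(17,[([0,2],24),([],50)])],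
  [(22,[]),(23,[]),(1,[]),(24,[]),(25,[]),(25,[([0,3],24)])],
  [(11,[([0],26),([],14)]),(5,[([0],32)]),(17,[([0],28),([],50)]),(25,[([0],56)]),(1,[([0],12)]),(1,[])],
  [(25,[([],34),([0],56)]),(26,[]),(27,[]),(2,[]),(23,[([],80)]),(23,[([1,2],24),([],80)])],
  [(28,[]),(15,[([],78)]),(2,[]),(29,[]),(12,[([],60)]),(12,[([1,3],24),([],60)])],
  [(5,[([1],26)]),(8,[([1],32),([],30)]),(23,[([1],28),([],80)]),(12,[([1],56),([],60)]),(2,[([1],12)]),(2,[])],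
  [(13,[([2],14)]),(3,[]),(11,[([],90)]),(30,[]),(10,[([],58)]),(10,[([2,0],24),([],58)])],
  [(3,[]),(12,[([2],30)]),(31,[]),(32,[]),(28,[([],86)]),(28,[([2,1],24),([],86)])],
  [(33,[]),(34,[]),(18,[([],20)]),(3,[]),(35,[]),(35,[([2,2],24)])],
  [(10,[([2],26),([],58)]),(28,[([2],32),([],86)]),(35,[([2],28)]),(5,[([2],56)]),(3,[([2],12)]),(3,[])],
  [(17,[([3],14)]),(4,[]),(36,[]),(37,[]),(20,[([],64)]),(20,[([3,0],24),([],64)])],
  [(4,[]),(16,[([3],30)]),(38,[]),(8,[([],52)]),(6,[([],62)]),(6,[([3,1],24),([],62)])],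
  [(39,[]),(40,[]),(4,[]),(14,[([],44)]),(41,[]),(41,[([3,3],24)])],
  [(20,[([3],26),([],64)]),(6,[([3],32),([],62)]),(5,[([3],28)]),(41,[([3],56)]),(4,[([3],12)]),(4,[])],
  [(6,[]),(19,[([0,2],30),([],22),([],56)]),(40,[([],54)]),(42,[]),(16,[([0],86)]),(16,[([0,2,1],24),([0],86)])],
  [(37,[([],92)]),(43,[]),(24,[([0],20)]),(6,[]),(38,[([],82)]),(38,[([0,2,2],24),([],82)])],
  [(23,[([0,3],14)]),(7,[]),(44,[]),(45,[]),(26,[([0],64),([],14)]),(26,[([0,3,0],24),([0],64),([],14)])],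
  [(7,[]),(22,[([0,3],30)]),(46,[]),(11,[([0],52),([],14)]),(9,[([0],62),([],14)]),(9,[([0,3,1],24),([0],62),([],14)])],
  [(47,[]),(48,[]),(7,[]),(21,[([0],44)]),(49,[]),(49,[([0,3,3],24)])],
  [(26,[([0,3],26),([0],64),([],14)]),(9,[([0,3],32),([0],62),([],14)]),(8,[([0,3],28)]),(49,[([0,3],56)]),(7,[([0,3],12)]),(7,[])],
  [(9,[]),(25,[([1,2],30),([],34),([0],56)]),(48,[([],84)]),(50,[]),(22,[([1],86),([],30)]),(22,[([1,2,1],24),([1],86),([],30)])],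
  [(45,[([],128)]),(51,[]),(29,[([1],20)]),(9,[]),(46,[([],100)]),(46,[([1,2,2],24),([],100)])],
  [(15,[([1,3],14),([],78)]),(10,[]),(52,[]),(33,[([],108)]),(13,[([1],64)]),(13,[([1,3,0],24),([1],64)])],
  [(53,[]),(31,[([],110)]),(10,[]),(27,[([1],44)]),(30,[([],68)]),(30,[([1,3,3],24),([],68)])],
  [(54,[]),(52,[([],106)]),(12,[]),(46,[([],112)]),(29,[([],66)]),(29,[([2,0,3],24),([],66)])],
  [(29,[([2],34),([],58)]),(53,[([],122)]),(55,[]),(13,[]),(52,[([2],80),([],106)]),(52,[([2,1,2],24),([2],80),([],106)])],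
  [(56,[]),(35,[([2],78)]),(13,[]),(57,[]),(33,[([2],60)]),(33,[([2,1,3],24),([2],60)])],
  [(34,[([2,2],14)]),(14,[]),(28,[([2],90),([],86)]),(58,[]),(32,[([2],58)]),(32,[([2,2,0],24),([2],58)])],
  [(14,[]),(33,[([2,2],30)]),(59,[]),(60,[]),(56,[([2],86)]),(56,[([2,2,1],24),([2],86)])],
  [(32,[([2,2],26),([2],58)]),(56,[([2,2],32),([2],86)]),(41,[([2,2],28),([],20)]),(15,[([2,2],56)]),(14,[([2,2],12)]),(14,[])],
  [(41,[([3],22),([3],56)]),(60,[([],72)]),(61,[]),(16,[]),(40,[([3],50)]),(40,[([3,0,2],24),([3],50)])],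
  [(43,[([],114)]),(21,[([],94)]),(16,[]),(62,[]),(42,[([],70)]),(42,[([3,0,3],24),([],70)])],
  [(42,[([3],34),([],64)]),(63,[]),(49,[([],74)]),(17,[]),(21,[([3],80),([],94)]),(21,[([3,1,2],24),([3],80),([],94)])],
  [(40,[([3,3],14)]),(18,[]),(56,[([],76),([2],86)]),(64,[]),(60,[([3],64),([],72)]),(60,[([3,3,0],24),([3],64),([],72)])],
  [(18,[]),(39,[([3,3],30)]),(65,[]),(20,[([3],52),([],64)]),(36,[([3],62)]),(36,[([3,3,1],24),([3],62)])],
  [(60,[([3,3],26),([3],64),([],72)]),(36,[([3,3],32),([3],62)]),(19,[([3,3],28)]),(35,[([3,3],56),([],44)]),(18,[([3,3],12)]),(18,[])],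
  [(63,[([],142)]),(38,[([0,2],78),([],82)]),(20,[]),(66,[]),(37,[([0,2],60),([],92)]),(37,[([0,2,1,3],24),([0,2],60),([],92)])],
  [(21,[]),(37,[([0,2,2],30),([],92)]),(67,[]),(68,[]),(63,[([0,2],86),([],142)]),(63,[([0,2,2,1],24),([0,2],86),([],142)])],
  [(49,[([0,3],22),([0,3],56)]),(68,[([0],72)]),(69,[]),(22,[]),(48,[([0,3],50)]),(48,[([0,3,0,2],24),([0,3],50)])],
  [(51,[([0],114),([],14)]),(27,[([0],94),([],14)]),(22,[]),(70,[]),(50,[([0],70),([],14)]),(50,[([0,3,0,3],24),([0],70),([],14)])],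
  [(50,[([0,3],34),([0],64),([],14)]),(71,[]),(30,[([0],74),([],14),([],68)]),(23,[]),(27,[([0,3],80),([0],94),([],14)]),(27,[([0,3,1,2],24),([0,3],80),([0],94),([],14)])],
  [(48,[([0,3,3],14)]),(24,[]),(63,[([0],76),([0,2],86),([],142)]),(72,[]),(68,[([0,3],64),([0],72)]),(68,[([0,3,3,0],24),([0,3],64),([0],72)])],
  [(24,[]),(47,[([0,3,3],30)]),(73,[]),(26,[([0,3],52),([0],64),([],14)]),(44,[([0,3],62)]),(44,[([0,3,3,1],24),([0,3],62)])],
  [(68,[([0,3,3],26),([0,3],64),([0],72)]),(44,[([0,3,3],32),([0,3],62)]),(25,[([0,3,3],28)]),(38,[([0,3,3],56),([0],44),([],82)]),(24,[([0,3,3],12)]),(24,[])],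
  [(71,[([],146)]),(46,[([1,2],78),([],100)]),(26,[]),(74,[]),(45,[([1,2],60),([],128)]),(45,[([1,2,1,3],24),([1,2],60),([],128)])],
  [(27,[]),(45,[([1,2,2],30),([],128)]),(75,[]),(54,[([],124)]),(71,[([1,2],86),([],146)]),(71,[([1,2,2,1],24),([1,2],86),([],146)])],
  [(30,[([1,3],22),([],60)]),(54,[([1],72),([],124)]),(76,[]),(28,[]),(31,[([1,3],50),([],110)]),(31,[([1,3,0,2],24),([1,3],50),([],110)])],
  [(31,[([1,3,3],14),([],110)]),(29,[]),(71,[([1],76),([1,2],86),([],146)]),(77,[]),(54,[([1,3],64),([1],72),([],124)]),(54,[([1,3,3,0],24),([1,3],64),([1],72),([],124)])],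
  [(52,[([2,0,3],14),([],106)]),(30,[]),(51,[([],116)]),(78,[]),(53,[([2,0],64),([2],14),([],122)]),(53,[([2,0,3,0],24),([2,0],64),([2],14),([],122)])],
  [(78,[([2],128)]),(79,[]),(57,[([2,1],20)]),(31,[]),(76,[([2],100),([],106)]),(76,[([2,1,2,2],24),([2],100),([],106)])],
  [(35,[([2,1,3],14),([2],78)]),(32,[]),(80,[]),(39,[([2],108),([],20)]),(34,[([2,1],64)]),(34,[([2,1,3,0],24),([2,1],64)])],
  [(81,[]),(59,[([2],110)]),(32,[]),(55,[([2,1],44)]),(58,[([2],68)]),(58,[([2,1,3,3],24),([2],68)])],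
  [(82,[]),(80,[([2],106)]),(33,[]),(76,[([2],112),([],106)]),(57,[([2],66)]),(57,[([2,2,0,3],24),([2],66)])],
  [(57,[([2,2],34),([2],58)]),(81,[([2],122)]),(83,[]),(34,[]),(80,[([2,2],80),([2],106)]),(80,[([2,2,1,2],24),([2,2],80),([2],106)])],
  [(36,[([],102)]),(41,[([2,2],78),([],20)]),(34,[]),(84,[]),(39,[([2,2],60),([],20)]),(39,[([2,2,1,3],24),([2,2],60),([],20)])],
  [(64,[([3],92)]),(85,[]),(62,[([3,0],20)]),(36,[]),(65,[([3],82)]),(65,[([3,0,2,2],24),([3],82)])],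
  [(86,[]),(87,[]),(37,[]),(61,[([3,0],44)]),(66,[([],118)]),(66,[([3,0,3,3],24),([],118)])],
  [(38,[]),(42,[([3,1,2],30),([3],34),([],64)]),(87,[([3],84)]),(47,[([],88)]),(43,[([3,1],86),([3],30),([],114)]),(43,[([3,1,2,1],24),([3,1],86),([3],30),([],114)])],
  [(85,[([3],114)]),(61,[([3],94)]),(39,[]),(88,[]),(84,[([3],70),([],72)]),(84,[([3,3,0,3],24),([3],70),([],72)])],
  [(84,[([3,3],34),([3],64),([],72)]),(89,[]),(66,[([3],74),([],118)]),(40,[]),(61,[([3,3],80),([3],94)]),(61,[([3,3,1,2],24),([3,3],80),([3],94)])],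
  [(90,[]),(67,[([0,2],110)]),(42,[]),(65,[([0,2,1],44),([],54)]),(62,[([0,2],68),([],92)]),(62,[([0,2,1,3,3],24),([0,2],68),([],92)])],
  [(66,[([0,2,2],34),([],92),([],70)]),(90,[([0,2],122)]),(91,[]),(43,[]),(87,[([0,2,2],80),([],92)]),(87,[([0,2,2,1,2],24),([0,2,2],80),([],92)])],
  [(44,[([0],102)]),(49,[([0,2,2],78),([0],20)]),(43,[]),(92,[]),(47,[([0,2,2],60),([0],20)]),(47,[([0,2,2,1,3],24),([0,2,2],60),([0],20)])],
  [(72,[([0,3],92)]),(93,[]),(70,[([0,3,0],20)]),(44,[]),(73,[([0,3],82)]),(73,[([0,3,0,2,2],24),([0,3],82)])],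
  [(94,[]),(95,[]),(45,[]),(69,[([0,3,0],44)]),(74,[([0],118),([],14)]),(74,[([0,3,0,3,3],24),([0],118),([],14)])],
  [(46,[]),(50,[([0,3,1,2],30),([0,3],34),([0],64),([],14)]),(95,[([0,3],84)]),(53,[([0],88),([],14)]),(51,[([0,3,1],86),([0,3],30),([0],114),([],14)]),(51,[([0,3,1,2,1],24),([0,3,1],86),([0,3],30),([0],114),([],14)])],
  [(93,[([0,3],114)]),(69,[([0,3],94)]),(47,[]),(96,[]),(92,[([0,3],70),([0],72)]),(92,[([0,3,3,0,3],24),([0,3],70),([0],72)])],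
  [(92,[([0,3,3],34),([0,3],64),([0],72)]),(97,[]),(74,[([0,3],74),([0],118),([],14)]),(48,[]),(69,[([0,3,3],80),([0,3],94)]),(69,[([0,3,3,1,2],24),([0,3,3],80),([0,3],94)])],
  [(98,[]),(75,[([1,2],110)]),(50,[]),(73,[([1,2,1],44),([],84)]),(70,[([1,2],68),([],128)]),(70,[([1,2,1,3,3],24),([1,2],68),([],128)])],
  [(74,[([1,2,2],34),([],128),([0],70),([],14)]),(98,[([1,2],122)]),(99,[]),(51,[]),(95,[([1,2,2],80),([],128)]),(95,[([1,2,2,1,2],24),([1,2,2],80),([],128)])],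
  [(77,[([1,3],92)]),(100,[]),(58,[([1,3,0],20),([],108)]),(52,[]),(55,[([1,3],82),([],110)]),(55,[([1,3,0,2,2],24),([1,3],82),([],110)])],
  [(100,[([1,3],114)]),(76,[([1,3],94)]),(53,[]),(101,[]),(78,[([1,3],70),([1],72),([],124)]),(78,[([1,3,3,0,3],24),([1,3],70),([1],72),([],124)])],
  [(79,[([2,0],114),([2],14)]),(55,[([2,0],94),([2],14)]),(54,[]),(99,[([],148)]),(77,[([2,0],70),([2],14),([],122)]),(77,[([2,0,3,0,3],24),([2,0],70),([2],14),([],122)])],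
  [(55,[]),(78,[([2,1,2,2],30),([2],128)]),(102,[]),(82,[([2],124)]),(100,[([2,1,2],86),([],122),([1,3],114)]),(100,[([2,1,2,2,1],24),([2,1,2],86),([],122),([1,3],114)])],
  [(58,[([2,1,3],22),([2],60)]),(82,[([2,1],72),([2],124)]),(88,[([],126)]),(56,[]),(59,[([2,1,3],50),([2],110)]),(59,[([2,1,3,0,2],24),([2,1,3],50),([2],110)])],
  [(59,[([2,1,3,3],14),([2],110)]),(57,[]),(100,[([2,1],76),([2,1,2],86),([],122),([1,3],114)]),(103,[]),(82,[([2,1,3],64),([2,1],72),([2],124)]),(82,[([2,1,3,3,0],24),([2,1,3],64),([2,1],72),([2],124)])],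
  [(80,[([2,2,0,3],14),([2],106)]),(58,[]),(79,[([2],116)]),(104,[]),(81,[([2,2,0],64),([2,2],14),([2],122)]),(81,[([2,2,0,3,0],24),([2,2,0],64),([2,2],14),([2],122)])],
  [(104,[([2,2],128)]),(105,[]),(84,[([2,2,1],20)]),(59,[]),(88,[([2,2],100),([2],106),([],126)]),(88,[([2,2,1,2,2],24),([2,2],100),([2],106),([],126)])],
  [(89,[([],132)]),(65,[([2,2],110),([],20)]),(60,[]),(83,[([2,2,1],44)]),(64,[([2,2],68),([],20)]),(64,[([2,2,1,3,3],24),([2,2],68),([],20)])],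
  [(61,[]),(64,[([3,0,2,2],30),([3],92)]),(105,[([],120)]),(90,[([],130)]),(89,[([3,0,2],86),([],72),([],132)]),(89,[([3,0,2,2,1],24),([3,0,2],86),([],72),([],132)])],
  [(87,[([3,0,3,3],14)]),(62,[]),(89,[([3,0],76),([3,0,2],86),([],72),([],132)]),(106,[]),(90,[([3,0,3],64),([],114),([0,2],122)]),(90,[([3,0,3,3,0],24),([3,0,3],64),([],114),([0,2],122)])],
  [(62,[]),(86,[([3,0,3,3],30)]),(96,[([],136)]),(63,[([3,0,3],52),([],114),([0,2],86),([],142)]),(67,[([3,0,3],62),([],114)]),(67,[([3,0,3,3,1],24),([3,0,3],62),([],114)])],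
  [(103,[([],134)]),(107,[]),(64,[]),(80,[([3,3,0],44),([],76),([2],86)]),(83,[([3],118),([],72),([2,2,1],44)]),(83,[([3,3,0,3,3],24),([3],118),([],72),([2,2,1],44)])],
  [(65,[]),(84,[([3,3,1,2],30),([3,3],34),([3],64),([],72)]),(107,[([3,3],84)]),(86,[([3],88)]),(85,[([3,3,1],86),([3,3],30),([3],114)]),(85,[([3,3,1,2,1],24),([3,3,1],86),([3,3],30),([3],114)])],
  [(67,[([0,2,1,3,3],14),([0,2],110)]),(66,[]),(85,[([0,2,1],76),([],54),([3,3,1],86),([3,3],30),([3],114)]),(108,[]),(86,[([0,2,1,3],64),([],142),([3],84),([3,0,3,3],30)]),(86,[([0,2,1,3,3,0],24),([0,2,1,3],64),([],142),([3],84),([3,0,3,3],30)])],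
  [(106,[([0,2,2],128),([],92)]),(109,[]),(92,[([0,2,2,1],20)]),(67,[]),(96,[([0,2,2],100),([],92),([],136)]),(96,[([0,2,2,1,2,2],24),([0,2,2],100),([],92),([],136)])],
  [(97,[([0],132)]),(73,[([0,2,2],110),([0],20)]),(68,[]),(91,[([0,2,2,1],44)]),(72,[([0,2,2],68),([0],20)]),(72,[([0,2,2,1,3,3],24),([0,2,2],68),([0],20)])],
  [(69,[]),(72,[([0,3,0,2,2],30),([0,3],92)]),(109,[([0],120)]),(98,[([0],130),([],14)]),(97,[([0,3,0,2],86),([0],72),([0],132)]),(97,[([0,3,0,2,2,1],24),([0,3,0,2],86),([0],72),([0],132)])],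
  [(95,[([0,3,0,3,3],14)]),(70,[]),(97,[([0,3,0],76),([0,3,0,2],86),([0],72),([0],132)]),(110,[]),(98,[([0,3,0,3],64),([0],114),([],14),([1,2],122)]),(98,[([0,3,0,3,3,0],24),([0,3,0,3],64),([0],114),([],14),([1,2],122)])],
  [(70,[]),(94,[([0,3,0,3,3],30)]),(101,[([0],136),([],14)]),(71,[([0,3,0,3],52),([0],114),([],14),([1,2],86),([],146)]),(75,[([0,3,0,3],62),([0],114),([],14)]),(75,[([0,3,0,3,3,1],24),([0,3,0,3],62),([0],114),([],14)])],
  [(108,[([0],134)]),(111,[]),(72,[]),(87,[([0,3,3,0],44),([0],76),([0,2],86),([],142),([3],84)]),(91,[([0,3],118),([0],72),([0,2,2,1],44)]),(91,[([0,3,3,0,3,3],24),([0,3],118),([0],72),([0,2,2,1],44)])],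
  [(73,[]),(92,[([0,3,3,1,2],30),([0,3,3],34),([0,3],64),([0],72)]),(111,[([0,3,3],84)]),(94,[([0,3],88)]),(93,[([0,3,3,1],86),([0,3,3],30),([0,3],114)]),(93,[([0,3,3,1,2,1],24),([0,3,3,1],86),([0,3,3],30),([0,3],114)])],
  [(75,[([1,2,1,3,3],14),([1,2],110)]),(74,[]),(93,[([1,2,1],76),([],84),([0,3,3,1],86),([0,3,3],30),([0,3],114)]),(112,[]),(94,[([1,2,1,3],64),([],146),([0,3],84),([0,3,0,3,3],30)]),(94,[([1,2,1,3,3,0],24),([1,2,1,3],64),([],146),([0,3],84),([0,3,0,3,3],30)])],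
  [(110,[([1,2,2],128),([],128)]),(113,[]),(78,[([1,2,2,1],20),([],124)]),(75,[]),(101,[([1,2,2],100),([],128),([0],136),([],14)]),(101,[([1,2,2,1,2,2],24),([1,2,2],100),([],128),([0],136),([],14)])],
  [(76,[]),(77,[([1,3,0,2,2],30),([1,3],92)]),(113,[([1],120)]),(81,[([1],130)]),(79,[([1,3,0,2],86),([1],72),([],124),([2,0],114),([2],14)]),(79,[([1,3,0,2,2,1],24),([1,3,0,2],86),([1],72),([],124),([2,0],114),([2],14)])],
  [(112,[([1],134)]),(102,[([],138)]),(77,[]),(95,[([1,3,3,0],44),([1],76),([1,2],86),([],146),([0,3],84)]),(99,[([1,3],118),([1],72),([],124),([],148)]),(99,[([1,3,3,0,3,3],24),([1,3],118),([1],72),([],124),([],148)])],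
  [(101,[([2,1,2,2],34),([2],128),([2,0],70),([2],14),([],122)]),(112,[([2,1,2],122),([],122),([1],134)]),(114,[]),(79,[]),(113,[([2,1,2,2],80),([2],128),([],148)]),(113,[([2,1,2,2,1,2],24),([2,1,2,2],80),([2],128),([],148)])],
  [(107,[([2,1,3],114),([],126)]),(88,[([2,1,3],94),([],126)]),(81,[]),(115,[]),(104,[([2,1,3],70),([2,1],72),([2],124)]),(104,[([2,1,3,3,0,3],24),([2,1,3],70),([2,1],72),([2],124)])],
  [(105,[([2,2,0],114),([2,2],14)]),(83,[([2,2,0],94),([2,2],14)]),(82,[]),(114,[([2],148)]),(103,[([2,2,0],70),([2,2],14),([2],122)]),(103,[([2,2,0,3,0,3],24),([2,2,0],70),([2,2],14),([2],122)])],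
  [(83,[]),(104,[([2,2,1,2,2],30),([2,2],128)]),(116,[]),(85,[([2,2],124),([],20),([3],114)]),(107,[([2,2,1,2],86),([2],122),([2,1,3],114),([],126)]),(107,[([2,2,1,2,2,1],24),([2,2,1,2],86),([2],122),([2,1,3],114),([],126)])],
  [(109,[([3,0,3],114),([],114)]),(91,[([3,0,3],94),([],114)]),(86,[]),(117,[]),(108,[([3,0,3],70),([],114),([0,2],122)]),(108,[([3,0,3,3,0,3],24),([3,0,3],70),([],114),([0,2],122)])],
  [(88,[]),(103,[([3,3,0,3,3],30),([],134)]),(117,[([3],136)]),(89,[([3,3,0,3],52),([3],114),([3,0,2],86),([],72),([],132)]),(105,[([3,3,0,3],62),([3],114),([],120)]),(105,[([3,3,0,3,3,1],24),([3,3,0,3],62),([3],114),([],120)])],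
  [(111,[([0,2,1,3],114),([],142),([3],84),([],136)]),(96,[([0,2,1,3],94),([],142),([3],84),([],136)]),(90,[]),(116,[([],144)]),(106,[([0,2,1,3],70),([],142),([3],84),([3,0,3,3],30)]),(106,[([0,2,1,3,3,0,3],24),([0,2,1,3],70),([],142),([3],84),([3,0,3,3],30)])],
  [(91,[]),(106,[([0,2,2,1,2,2],30),([0,2,2],128),([],92)]),(118,[]),(93,[([0,2,2],124),([0],20),([0,3],114)]),(111,[([0,2,2,1,2],86),([0,2],122),([0,2,1,3],114),([],142),([3],84),([],136)]),(111,[([0,2,2,1,2,2,1],24),([0,2,2,1,2],86),([0,2],122),([0,2,1,3],114),([],142),([3],84),([],136)])],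
  [(113,[([0,3,0,3],114),([0],114),([],14)]),(99,[([0,3,0,3],94),([0],114),([],14)]),(94,[]),(119,[]),(112,[([0,3,0,3],70),([0],114),([],14),([1,2],122)]),(112,[([0,3,0,3,3,0,3],24),([0,3,0,3],70),([0],114),([],14),([1,2],122)])],
  [(96,[]),(108,[([0,3,3,0,3,3],30),([0],134)]),(119,[([0,3],136)]),(97,[([0,3,3,0,3],52),([0,3],114),([0,3,0,2],86),([0],72),([0],132)]),(109,[([0,3,3,0,3],62),([0,3],114),([0],120)]),(109,[([0,3,3,0,3,3,1],24),([0,3,3,0,3],62),([0,3],114),([0],120)])],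
  [(102,[([1,2,1,3],114),([],146),([0,3],84),([0],136),([],14),([],138)]),(101,[([1,2,1,3],94),([],146),([0,3],84),([0],136),([],14)]),(98,[]),(118,[([],150)]),(110,[([1,2,1,3],70),([],146),([0,3],84),([0,3,0,3,3],30)]),(110,[([1,2,1,3,3,0,3],24),([1,2,1,3],70),([],146),([0,3],84),([0,3,0,3,3],30)])],
  [(99,[]),(110,[([1,2,2,1,2,2],30),([1,2,2],128),([],128)]),(115,[([],154)]),(100,[([1,2,2],124),([1],20),([1,3],114)]),(102,[([1,2,2,1,2],86),([1,2],122),([1,2,1,3],114),([],146),([0,3],84),([0],136),([],14),([],138)]),(102,[([1,2,2,1,2,2,1],24),([1,2,2,1,2],86),([1,2],122),([1,2,1,3],114),([],146),([0,3],84),([0],136),([],14),([],138)])],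
  [(119,[([2,1,2,2],128),([2],128),([],148),([1,2,2],128),([],128)]),(117,[([],152)]),(104,[([2,1,2,2,1],20),([2],124)]),(102,[]),(115,[([2,1,2,2],100),([2],128),([],148),([],154)]),(115,[([2,1,2,2,1,2,2],24),([2,1,2,2],100),([2],128),([],148),([],154)])],
  [(118,[([2,1],134),([],122),([1],134),([],150)]),(116,[([2],138)]),(103,[]),(113,[([2,1,3,3,0],44),([2,1],76),([2,1,2],86),([],122),([1,3],114),([1],120)]),(114,[([2,1,3],118),([2,1],72),([2],124),([2],148)]),(114,[([2,1,3,3,0,3,3],24),([2,1,3],118),([2,1],72),([2],124),([2],148)])],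
  [(115,[([2,2,1,2,2],34),([2,2],128),([2,2,0],70),([2,2],14),([2],122)]),(118,[([2,2,1,2],122),([2],122),([2,1],134),([],122),([1],134),([],150)]),(108,[([],156)]),(105,[]),(117,[([2,2,1,2,2],80),([2,2],128),([2],148),([],152)]),(117,[([2,2,1,2,2,1,2],24),([2,2,1,2,2],80),([2,2],128),([2],148),([],152)])],
  [(114,[([3,0],134),([],72),([2,2,1],44),([2,2],128),([2],148)]),(119,[([],140),([2],148),([2,1,2,2],128),([2],128),([],148),([1,2,2],128),([],128)]),(106,[]),(107,[([3,0,3,3,0],44),([3,0],76),([3,0,2],86),([],72),([],132),([3,3],84)]),(116,[([3,0,3],118),([],114),([0,2],122),([],144)]),(116,[([3,0,3,3,0,3,3],24),([3,0,3],118),([],114),([0,2],122),([],144)])],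
  [(116,[([0,2,2,1,2,2],34),([0,2,2],128),([],92),([3,0,3],70),([],114),([0,2],122),([],144)]),(115,[([0,2,2,1,2],122),([0,2],122),([],144),([2,2,1,2,2],34),([2,2],128),([2,2,0],70),([2,2],14),([2],122)]),(112,[([0],156),([],14)]),(109,[]),(119,[([0,2,2,1,2,2],80),([0,2,2],128),([],92),([],140),([2],148),([2,1,2,2],128),([2],128),([],148),([1,2,2],128),([],128)]),(119,[([0,2,2,1,2,2,1,2],24),([0,2,2,1,2,2],80),([0,2,2],128),([],92),([],140),([2],148),([2,1,2,2],128),([2],128),([],148),([1,2,2],128),([],128)])],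
  [(117,[([0,3,0],134),([0],72),([0,2,2,1],44),([0,2,2],128),([],92)]),(114,[([0],140),([],92),([3,0],134),([],72),([2,2,1],44),([2,2],128),([2],148)]),(110,[]),(111,[([0,3,0,3,3,0],44),([0,3,0],76),([0,3,0,2],86),([0],72),([0],132),([0,3,3],84)]),(118,[([0,3,0,3],118),([0],114),([],14),([1,2],122),([],150)]),(118,[([0,3,0,3,3,0,3,3],24),([0,3,0,3],118),([0],114),([],14),([1,2],122),([],150)])]]

def carC : List (List ℕ × List (List ℕ × ℕ)) :=
  [([6,6],[([],6)]),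
  ([0,0,0],[([],0)]),
  ([2,2,2],[([],2)]),
  ([4,4,4],[([],4)]),
  ([6,0,7,1],[([],14)]),
  ([6,2,7,3],[([],16)]),
  ([6,4,7,5],[([],18)]),
  ([2,0,2,0,7],[([],8)]),
  ([4,0,4,0,7],[([],10)]),
  ([2,4,2,4,7],[([],12)]),
  ([7,7],[([7],21)]),
  ([6,0,7,1],[([6],29),([],20),([0],40)]),
  ([6,2,7,3],[([6],31),([],20),([2],40)]),
  ([6,4,7,5],[([6],33),([],20),([4],40)]),
  ([1,1,1],[([1],23)]),
  ([6,1,7,0],[([6],23),([],42),([0],42),([],22)]),
  ([3,3,3],[([3],25)]),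
  ([6,3,7,2],[([6],25),([],44),([2],44),([],24)]),
  ([3,0,2,7,0,3],[([],25),([2],34),([2],50)]),
  ([2,0,3,7,3,0],[([2,0],25),([],34),([],50),([1],44)]),
  ([3,4,2,4,7,3],[([],25),([2],38)]),
  ([6,5,2,2,5,3],[([],39),([2,4],24)]),
  ([5,5,5],[([5],27)]),
  ([6,5,7,4],[([6],27),([],46),([4],46),([],26)]),
  ([5,0,4,7,0,5],[([],27),([4],36),([4],50)]),
  ([4,0,5,7,5,0],[([4,0],27),([],36),([],50),([1],46)]),
  ([5,2,6,2,5,3],[([5],45),([],67),([],62)]),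
  ([5,2,0,6,1,2,5,3],[([5,2],43),([],72)]),
  ([5,3,6,5,3],[([5],25),([5,2],45),([],72)]),
  ([5,3,4,6,4,3],[([5,3],47),([],76),([2],26)]),
  ([5,2,4,6,5,2,5,3],[([5,2],47),([],72)]),
  ([5,2,0,4,6,5,1,2,5,3],[([5,2,0],47),([],74)]),
  ([5,3,1,6,0,5,3],[([5,3],51),([],76)]),
  ([5,2,1,6,0,2,5,3],[([5,2],51),([],72)]),
  ([5,3,4,1,6,0,4,3],[([5,3,4],51),([],78)]),
  ([5,2,0,4,1,6,0,5,1,2,5,3],[([5,2,0,4],51),([],82)]),
  ([5,3,4,3,6,2,4,3],[([5,3,4],55),([],78)]),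
  ([5,3,1,3,6,2,0,5,3],[([5,3,1],55),([],84)]),
  ([5,2,1,3,6,2,0,2,5,3],[([5,2,1],55),([],86)]),
  ([5,3,4,1,3,6,2,0,4,3],[([5,3,4,1],55),([],88)]),
  ([5,2,0,4,3,6,2,5,1,2,5,3],[([5,2,0,4],55),([],82)]),
  ([5,2,0,4,1,3,6,2,0,5,1,2,5,3],[([5,2,0,4,1],55),([],90)]),
  ([5,2,4,7,2,5],[([5],77),([],64)]),
  ([4,3,4,6,4,3,4],[([],65),([5],78)]),
  ([2,4,3,4,2,5],[([],81),([],104),([4,3],20)]),
  ([4,3,4,1,6,0,4,3,4],[([],65),([5],88)]),
  ([4,3,4,3,6,2,4,3,4],[([],65),([5],92)]),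
  ([4,3,4,1,3,6,2,0,4,3,4],[([],65),([5],98)]),
  ([5,3,5,7,3],[([5,3],67),([],76),([2],40)]),
  ([5,2,5,6,4,2,5,3],[([5,2],67),([],72)]),
  ([5,3,1,5,6,4,0,5,3],[([5,3,1],67),([],84)]),
  ([5,2,0,5,6,4,1,2,5,3],[([5,2,0],67),([],74)]),
  ([5,2,1,5,6,4,0,2,5,3],[([5,2,1],67),([],86)]),
  ([5,3,4,1,5,6,4,0,4,3],[([5,3,4,1],67),([],88)]),
  ([5,3,4,3,5,2],[([5,3,4,3],67),([],92),([2],116),([],24)]),
  ([3,4,6,2,4,3],[([],129),([],92)]),
  ([5,2,5,3,4,3],[([5],131),([],78)]),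
  ([4,2,5,3,4,3,4],[([4],131),([],106)]),
  ([5,3,1,3,5,6,4,2,0,5,3],[([5,3,1,3],67),([],94)]),
  ([4,3,4,1,5,6,4,0,4,3,4],[([4,3,4,1],67),([],110)]),
  ([4,3,4,3,5,7,5,3],[([4,3,4,3],67),([],112),([],132),([2],64),([2,4],40)]),
  ([4,3,4,1,3,5,6,4,2,0,4,3,4],[([4,3,4,1,3],67),([],114)]),
  ([5,2,0,4,3,5,6,4,2,5,1,2,5,3],[([5,2,0,4,3],67),([],100)]),
  ([3,1,6,3,1],[([3],51),([3],35)]),
  ([1,3,6,1,3],[([1],55),([],51),([],35)]),
  ([5,0,2,0,5,3],[([5],147),([],84)]),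
  ([2,0,5,3,5,0],[([2,0],67),([2,0],39),([],34),([],50),([1],46),([1,4],44)]),
  ([3,4,1,6,0,2,4,3],[([],25),([2],151),([2,5,0],45),([2,5],43),([2],67),([],61),([3,4],34),([],130)]),
  ([2,0,4,3,4,3,4,0],[([2,0],109),([],34),([],50),([1],46),([1,4],54),([1,4,3],46),([1,4],130),([1],134)]),
  ([2,4,1,3,1,4],[([],95),([5,3],148)]),
  ([2,4,3,1,3,1,2,4],[([],97),([5,2],148),([5],24)]),
  ([4,3,5,0,2,0,4],[([3],73),([3,5],61),([3,5,3,4],149),([3],98)]),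
  ([5,1,4,2,6,4,1,2,5,3],[([5],153),([],122)]),
  ([5,2,5,1,3,7,1,4,3,5],[([],115),([4,3,4],148),([4],60),([4,2],66),([4,2,5],42)]),
  ([2,4,3,0,4,1,3,1,3,5,1,3,4],[([],103),([5,2,0,4],148)]),
  ([2,4,3,0,4,3,5,2,5,0,4],[([],145),([5],156),([5,1,5,2],64),([5,1],104),([5,1,4,3],20)]),
  ([5,1,6,5,1],[([5],51),([5],37)]),
  ([1,5,6,1,5],[([1],67),([],51),([],37)]),
  ([4,3,0,4,6,0,2,5,3],[([4,3,0],47),([4,3],43),([],105),([5,2],36),([],72)]),
  ([4,3,0,4,3,1,5,3],[([],109),([2,4,3],36),([2,4,3],50),([2,4],146)]),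
  ([5,3,4,0,4,0,5,3],[([5,3],175),([],120)]),
  ([0,2,6,0,2],[([5,3],179),([5,3],176)]),
  ([4,2,5,6,5,2],[([4,2],67),([4],45),([0],71),([0,4,0],135),([0],36),([0],50),([],44),([2],66),([2,5],54),([2],76),([],24)]),
  ([2,4,3,1,5,7,1,2,5],[([],125),([5,2],174),([],104),([4,3],42)]),
  ([5,1,5,7,1],[([3],127),([3,5,3,4],174),([3,5,3],26),([3],116),([],42)]),
  ([4,0,2,4,2,5,0],[([4,0],141),([],36),([],50),([1],54),([],148),([],156),([1,5,2],64),([1],104)]),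
  ([2,4,3,0,2,0,4],[([],75),([5,2],189),([],139),([4,3,4],174),([4,3],26),([],162)]),
  ([4,3,4,2,5,2],[([0,4],171),([0,4],192)]),
  ([2,4,3,5,2,5,2],[([],119),([0],157),([0],149),([],55),([0],51),([0],37),([0,4,0],112),([0],70),([4],44),([4,2],66),([],184)]),
  ([2,0,4,2,0,2,0,5,2,0],[([4],169),([4],192)]),
  ([3,4,3,1,3,1,4,3,5],[([],195),([],142),([],166),([4,2,5,0],66)]),
  ([3,4,1,5,1,3,5],[([],185),([4,2],67),([4],45),([0],71),([0,4,0],139),([0],36),([0],50),([],54),([0],148),([0,2,0,4],174),([0,2,0],26),([0],152)]),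
  ([3,5,6,3,5],[([3],67),([3],39)]),
  ([2,5,2,5,7,2,5],[([2],135),([],38),([],66),([5],66),([],64),([4],54)]),
  ([2,1,4,2,4,1,2],[([2,1,4],45),([2,1],47),([],57),([3,0],38),([3,0],66)]),
  ([2,4,1,2,2,1,4],[([2,4],59),([],38),([],66),([5],42),([5,0],54)]),
  ([2,4,1,4,2,7,4,1,4],[([],151),([5,0],38),([5,0],66)]),
  ([3,0,6,2,0,3],[([3],43),([],55),([],39),([2,4],192)]),
  ([2,4,1,5,2,5,2,0,5],[([2,4],157),([],38),([],66),([5],42),([5,0],46),([],68),([4,1],20)]),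
  ([3,1,4,2,4,1],[([3,1],205),([4],136),([4],158)]),
  ([2,5,2,1,3,4,3,1],[([2,5],215),([2],27),([2,4],187),([],38),([],54),([3],50),([],146)]),
  ([1,2,0,7,2,1],[([1],21),([5],69),([5,5,0],47),([5,5],43),([5],67),([5],39),([5,2,4],198),([5],158),([5],68),([1],50),([],48),([0],54)]),
  ([2,1,2,6,2,1,2],[([2,1],45),([],57),([3,0],24)]),
  ([2,1,3,1,7,2],[([],215),([3,0],35),([],56),([2,1],42),([2],44),([],24)]),
  ([3,0,5,6,4,2,0,3],[([],209),([2,1,4],45),([2,1],47),([],57),([3,0],38),([],214)]),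
  ([0,4,6,0,4],[([],173),([5],51),([],67),([],39),([2,4],57),([],192)]),
  ([2,5,1,5,2,0],[([2],231),([4],82),([4],192)]),
  ([5,3,4,1,2,4,3,0],[([5],25),([5,2],151),([],135),([4,2,5],56),([4,2],86),([4],24),([],194),([3,4],52),([],60),([2],66),([2,5],50),([],232),([1],130)]),
  ([3,0,3,4,3,3,4,0,3],[([3,0],197),([],56),([2,1],46),([2,1,4],54),([2,1,4,3],66),([2,1,4],204),([2,1],26)]),
  ([3,0,4,3,6,4,3,1,5,3],[([3,0],207),([],56),([2,1],66),([2],174)]),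
  ([3,0,3,0,5,7,4,3,0],[([3,0],209),([],56),([2,1],50),([2],48),([2,0],46),([2],230),([],232),([1],60),([1,2],66)]),
  ([3,5,2,5,7,2,5,3],[([3,0],157),([],56),([2,1],42),([2],46),([2,4],54)]),
  ([3,0,5,3,5,0,3],[([3,0],161),([],56),([2,1],46),([2,1,4],54),([2,1,4,3],50),([2,1,4],146)]),
  ([2,4,0,2,1,3,4,3,0,2],[([2],175),([2,1],67),([],57),([3,0],220),([3],22)]),
  ([2,5,2,1,2,2,4,3,1],[([2,5,2,1],57),([],220),([0,2],150),([0],24),([0,3,4,1],40),([0],154)]),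
  ([3,0,4,2,1,3,4,3,1,5,0,3],[([3,0,4],215),([3,0],187),([],56),([2,1],46),([2,1,4],54),([2,1,4,3],50),([2,1,4],146)]),
  ([3,4,3,1,2,1,4,3,0,5],[([3,4,3,1],57),([],200),([4,2,5],22),([4],232),([4,1],60),([4,1,2],66)]),
  ([2,1,4,1,4,2,4,1,4,1,2],[([2,1,4,1,4],45),([2,1,4,1],47),([2,1,4],51),([2,1],47),([],57),([3,0],212)]),
  ([3,0,4,1,3,4,0,5,3,0,3],[([3,0],217),([],56),([2,1],46),([2,1,4],50),([2,1,4,1],66),([2,1,4],174),([2,1],26),([2,1],150)]),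
  ([5,0,3,4,4,3,0,5],[([],211),([2,4,1],77),([],151),([5,0],131),([5],49),([5,1],233),([5,1,2,5],51),([5,1,2],67),([5,1],61),([5],233),([5,2,5,1],57),([],166),([4,2,5,0],42),([4,2,5],22),([4],232),([4,1],130)]),
  ([2,1,2,0,3,0],[([2],23),([2,0],147),([],58),([1,2],50),([1,2,1],20)]),
  ([1,2,1,6,2,1,2],[([],261),([],224)]),
  ([2,0,4,2,4,3,0],[([2,0],205),([],58),([1,2],66),([1,2,5],20)]),
  ([4,0,6,4,0],[([],175),([1],67),([1],39),([1,2,4],45),([1,2],47),([],59),([2,0],60),([],34),([],50),([1],20)]),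
  ([3,4,1,2,2,1,4,3],[([3,4],59),([],60),([2],66),([2,5],42),([2,5,0],54)]),
  ([4,0,3,5,3,0],[([],175),([1],67),([],51),([],35),([2,0],131),([],58),([1,2],46),([1,2,4],20)]),
  ([3,1,4,1,2,6,2,1,4,1],[([3,1,4],59),([],218)]),
  ([3,4,1,3,1,4,3],[([0],199),([0],264)]),
  ([5,0,3,0,3,0,2,5,3],[([],211),([2,4,1],58),([2,4],48),([2,4],182)]),
  ([0,3,5,3,0,4],[([0,3],21),([],223),([1,2],43),([],59),([2,0],244),([],34),([],50),([1],50),([],48),([0],46),([],230)]),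
  ([3,4,3,5,2,5],[([],25),([2],73),([2,5],45),([2],67),([0],59),([0,2,0],242),([0],34),([0],50),([],46),([4],54),([4,3],20)]),
  ([2,4,1,4,1,2,2,1,4,1,4],[([2,4,1,4],59),([],212),([5,0,5],42),([5,0,5,0],54)]),
  ([2,4,1,5,1,2,6,5,3,0,2,0,5],[([2,4,1,5],59),([],216),([4,1,3],270)]),
  ([0,2,5,3,0,7,4,3,0],[([],249),([2,5,2,1],58),([2,5,2],48),([2,5],34),([2,5],50),([],232),([1],130),([1,2],76),([1],24),([1],60),([1,2],66)]),
  ([3,4,3,6,4,3,4],[([3],21),([1],223),([1,1,2],43),([1],59),([1,2,0],238),([1],34),([1],50),([1,1],46),([1,1,4],42),([1,1],266),([1],48)]),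
  ([2,0,4,1,2,5,0,5,0,3,1],[([2,0],253),([],58),([1,2],46),([1,2,4],54),([1,2,4,3],50),([1,2,4],146),([1,2,4,0],24),([1,2],270),([1],260),([],48)]),
  ([2,1,4,1,4,1,2,6,2,1,4,1,4,1,2],[([2,1,4,1,4],59),([],254)]),
  ([0,2,4,1,6,0,5,0,2],[([0,2],69),([0],275),([0,3],21),([],223),([1,2],43),([],59),([2,0],256),([],34),([],50),([1],50),([],48),([0],44),([],182)]),
  ([3,1,5,1,3,4,3,4],[([],183),([0],61),([0,3],21),([],223),([1,2],43),([],59),([2,0],250),([],34),([],50),([1],50),([],48),([0],46),([],230)]),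
  ([4,3,6,3,4,2],[([],105),([5,2],65),([],289),([],197),([],73),([5],61),([5,3,4],61),([],128),([3],26)]),
  ([5,2,5,3,4,3],[([],289),([3],298),([],52)]),
  ([3,4,1,4,2,7,4,1,4,3],[([3,4],153),([],60),([2],66),([2,5],42),([2,5,0],66)]),
  ([1,2,5,2,1,3,4,3],[([1,2,5],53),([1],131),([],233),([2,5],51),([2],67),([],61),([3,4],226),([3],298),([],52)]),
  ([4,1,2,5,2,1,4,3],[([],259),([5,0],60),([],150),([2,4,1],66),([2,4],174),([2],26)]),
  ([4,3,1,5,3,4,3,0],[([4],183),([4,0],61),([],270),([1,2],26)]),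
  ([1,2,1,5,2,2,0,3,5],[([],261),([2],309),([],186),([4],214)]),
  ([5,1,4,2,4,2,5,1],[([],279),([0,3,5],60),([0,3],72)]),
  ([3,0,3,5,2,4,3,1,5,3],[([3,0],299),([],238)]),
  ([5,1,3,5,3,4,1],[([],193),([],165),([],312),([0,4],204),([0],26)]),
  ([2,4,6,2,4],[([2],65),([2,5],67),([2],67),([],61),([3,4],53),([],195),([4],25),([4,2],73),([4,2,5],61),([],134),([5],24)]),
  ([3,1,3,7,1],[([3,4],193),([],60),([2],54),([],42)]),
  ([5,3,0,4,0,3],[([],161),([2,4],320),([2],266)]),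
  ([4,2,5,0,4,0,2],[([],201),([3,4],320),([3],266)]),
  ([1,2,5,6,4,0,2,1],[([],287),([0,2],322),([0],24)]),
  ([3,4,3,0,5,2,5,0],[([3,4],209),([],60),([2],66),([2,5],50),([],232),([1],130),([1,2,5],60),([1,2],72),([1],24),([1],280)]),
  ([0,3,1,4,2,4,0],[([0,3,1],65),([],327),([],265),([2,0,4],61),([],156),([1,5],24)]),
  ([3,4,0,2,5,2,0,4],[([3,4],221),([],60),([2],66),([2,5],66),([2],64),([],318)]),
  ([3,1,5,0,3,4,0,5,3],[([3,1,5],327),([3,1,5,1,2],67),([3,1,5,1],61),([],296),([5],24),([],180)]),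
  ([3,5,3,7,5],[([3,5],25),([],299),([],105),([0,3],237),([0,3,3,0,3,4],60),([0,3,3,0],60),([0,3],56),([],20),([0],174),([0],70)]),
  ([1,2,1,4,1,2,4,0,5],[([],261),([],257),([3,0,4,1],60),([3,0,4,1,2],66),([3,0,4],326),([3,0],270)]),
  ([3,4,3,1,2,5,2,1],[([3,4],247),([],60),([2],42),([2,0],44),([],34),([],50),([1],20),([],48)]),
  ([4,1,2,5,0,5,2,1],[([],253),([],340)]),
  ([0,2,5,0,3,1,4,3],[([0],269),([],343),([],306)]),
  ([2,1,3,0,3,1],[([2],23),([2,0],343),([],290)]),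
  ([0,2,0,7,2],[([0,2],49),([],347),([],226)]),
  ([3,4,0,4,3,1],[([3,4],49),([],25),([2],151),([2,5],347),([],220)]),
  ([0,3,5,2,2,0,4],[([0],25),([0,2],301),([],351),([],332)]),
  ([5,0,3,1,4,3,0,2],[([],211),([2,4],23),([2,4,0],347),([],246)]),
  ([2,4,0,2,5,2,0,4,2],[([],315),([3],352)]),
  ([2,1,4,3,1,2,5,0],[([0],261),([0,2,1],73),([0,2,1,5],61),([],49),([1],261),([1,2],235),([1],131),([],233),([2,5],51),([2],67),([],61),([3,4],254),([],328)]),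
  ([0,2,5,2,1,4,1,2,0,4,2],[([],351),([3,4],291),([],60),([2],66),([2,5],42),([2,5,0],46),([2],68),([2,4,1],20),([2,4],48),([],356)]),
  ([3,0,4,3,0,3,1,5],[([3,0,4],263),([3,0,4],261),([3,0,4,2,1],61),([],250),([2,1,4,0],24),([2,1],270),([2],48),([],34),([],50),([1],46),([1,4],46),([1],26),([],174)]),
  ([3,5,1,3,1,2,5],[([3],27),([3,4],285),([],60),([2],50),([2,1],66),([2],174),([],38),([],66),([5],20),([],64)]),
  ([1,4,3,0,5,0,3,4],[([],329),([3,4],293),([],60),([2],66),([2,5],50),([],232),([1],130),([1,2],234),([1],260),([],48),([0,2,1],234),([0,2],48),([],348),([3],44),([],66),([5],54),([],76),([],38),([],66),([5],20)]),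
  ([4,1,4,6,4,1,4],[([4,1],47),([],69),([5,0],26)]),
  ([5,1,3,4,3,4,3,1],[([],163),([4,3],68),([],194),([3,4],146),([],350)]),
  ([2,0,4,1,6,5,1,3,5,0],[([2,0],69),([],152)]),
  ([4,2,0,4,1,4,3,1],[([4],149),([4,1],55),([],69),([5,0],194),([],258),([],342),([0],274)]),
  ([2,0,6,2,0],[([],149),([1],55),([5],69),([5,5,0],298),([5,5],352),([5],64)]),
  ([5,0,5,1,3,1,3,5,0,5],[([5,0],163),([],68),([4,1],54),([4],148),([4],152)]),
  ([3,4,1,4,1,6,5,0,3,5],[([3,4,1],69),([],202),([4,2],22)]),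
  ([5,2,0,4,0,2,5,2],[([1],317),([1,5,1,3],68),([1],370),([2],86),([],24)]),
  ([3,1,2,4,2,4,3,1],[([3,1,2],65),([],355),([5,0],325),([],68),([4,1],44),([4,1,2],66),([],342),([0],154)]),
  ([4,2,5,2,4,3],[([4],149),([4,1],55),([],69),([5,0],308),([],300),([2,5],24)]),
  ([4,0,2,1,6,3,1,5,3,0],[([3],179),([3,4,3,0],69),([],328),([1],178)]),
  ([0,2,5,2,1,3,4,3,0],[([],371),([5],23),([5,0],343),([],68),([4,1],50),([4],48),([],266),([1],300)]),
  ([4,3,1,3,4,0],[([4,3],23),([],365),([],361),([],390),([1,2],104),([1,2],298)]),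
  ([3,1,5,3,5,2,1],[([3,1,5],25),([3],393),([],340)]),
  ([0,2,1,4,0,4,2],[([],49),([1],261),([1,2],389),([1],179),([1,4,3,0],69),([],366),([],104),([],298)]),
  ([3,0,3,0,4,1,7,0,5,3,0],[([3,0,3,0],69),([],240),([],326),([0,3,1],68),([],330),([1,5],146),([1],150),([1,2,4,1],40)]),
  ([4,1,4,0,5,0],[([4],23),([4,0],173),([],70),([1,4],50),([1,4,1],20)]),
  ([1,4,1,6,4,1,4],[([],401),([],368)]),
  ([5,2,1,4,6,4,2,5,1,2],[([5,2],71),([],104),([],298),([3,5],152),([3],312)]),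
  ([4,0,2,1,5,1,3,4,2,0],[([4,0],323),([],70),([1,4],54),([1],298)]),
  ([3,1,4,1,2,7,4,1,4,3],[([3],401),([],302)]),
  ([4,2,1,4,4,1,2],[([],381),([3],400),([3,1,4],48),([3,1],266),([3],48)]),
  ([2,5,0,5,2,1,4,1],[([2,5,0,5],21),([],409),([],272)]),
  ([2,4,0,2,0,3,4],[([],179),([4,3],173),([4],397),([4,0,2],71),([],190),([],366)]),
  ([5,2,1,5,1,2,5],[([],415),([],356),([],364)]),
  ([4,1,5,2,7,0,5,3],[([4],23),([4,0],317),([],70),([1,4],50),([],402),([5,0],116),([],150)]),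
  ([4,1,3,4,0,2,4,3],[([],217),([2],418),([],24),([],154)]),
  ([1,2,1,4,0,4,2,1],[([1,2,1],65),([1],323),([],331),([0,3,1],70),([0,3],48),([0,3],230)]),
  ([4,1,5,3,1,4,2,1],[([],339),([],422),([0,3,5],48)]),
  ([5,0,5,0,3,3,1,5,0,3],[([],283),([2],400),([2,1,4],48)]),
  ([0,5,3,4,4,0,2],[([],49),([1],267),([1,4],43),([],71),([4,0],258),([],36),([],50),([1],50),([],48),([0],44),([],182)]),
  ([1,4,1,3,5,0,5,3],[([],401),([4],23),([4,0],313),([],70),([1,4],50),([],402),([],150)]),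
  ([1,5,0,3,5,0,2,4,1],[([1],211),([],271),([4,0],355),([],70),([1,4],42),([1],266),([],48)]),
  ([5,3,1,5,1,4,3],[([5],429),([],403),([1,4],51),([],71),([4,0],370),([4],22),([],342),([0],268),([],344)]),
  ([3,0,3,0,4,2,4,0],[([3,0,3],173),([3],423),([3,1,2],71),([],384),([0,2],322),([0],24),([0,3,1],64),([],330)]),
  ([2,4,1,6,0,2,4],[([0],399),([0],436)]),
  ([3,1,4,2,4,1],[([],295),([0],438)]),
  ([3,1,2,7,2,1],[([4,1],441),([4,1],408),([4,1],412)]),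
  ([0,2,1,5,3,0,3,5,0],[([0],323),([],49),([1],267),([1,4],43),([],71),([4,0],276),([],190),([1,4],52)]),
  ([5,0,3,6,2,0,5,1],[([5],223),([],231),([0],47),([],49),([1],51),([],51),([],37),([4,0],379),([],70),([1,4],42),([1],266),([],48),([0],64)]),
  ([4,2,6,4,2],[([],65),([5],72),([],104),([],298)]),
  ([5,1,2,4,2,1],[([5,1],73),([],188),([0],44),([],182),([],146),([0],24)]),
  ([5,2,0,2,5,1],[([5],149),([],353),([0,3],72)]),
  ([3,1,5,2,2,5,2,1],[([3],393),([],383),([],452),([0],194)]),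
  ([1,5,2,1,1,2,5],[([1],415),([],389),([4],347),([],311),([1,2,1],72),([1],260),([],48),([],396),([],364)]),
  ([5,0,5,3,1,3,5,0],[([],403),([1],69),([1,5,0,3],73),([],432),([0,5],442),([0],446),([],22),([1,4],148)]),
  ([1,3,5,1,5,0,3],[([1,3],231),([1,3],453),([],407),([4,0,2,1],72),([4,0],260),([],410),([],244)]),
  ([4,2,4,7,2],[([4],77)]),
  ([5,3,4,7,4,3],[([5],25),([5,2],77),([],300)]),
  ([0,2,5,6,4,0,2],[([0],465),([],428)]),
  ([0,3,5,0,6,5,3,0,5],[([],425),([4,1],76)]),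
  ([2,1,4,1,2,0,5,0],[([2],401),([],151),([5,0],77),([],458),([1,4],376)]),
  ([5,0,3,5,3,0,5],[([],211),([2],259),([],269),([3,4,1],77),([],202),([4],58),([4,1,2],20)]),
  ([1,4,1,2,0,2,4,1],[([1],473),([],432)]),
  ([5,1,4,7,4,1],[([5,1,3],77),([],316)]),
  ([4,3,5,2,5,3],[([1],313),([1],476),([5],44),([],72)]),
  ([2,0,4,1,3,0,2,4,3,1],[([2],447),([],435),([5,3,1],76),([5],442),([],446),([0],420)]),
  ([5,0,6,0,5,1],[([],159),([],431),([1,4,1,3],76),([1],400),([],48)]),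
  ([0,3,0,4,1,5,3,0,5],[([0,3],483),([],468)]),
  ([1,2,5,3,5,1,3],[([1],131),([],23),([0],395),([],327),([],241),([3,0,3,0],76),([3,0],56),([],56),([2,1],50),([2],48),([],376),([],148)]),
  ([4,1,3,1,4,2],[([],65),([5],193),([],104),([],298)]),
  ([4,2,1,5,1,2],[([],65),([5],415),([],104),([],298),([3],452)]),
  ([4,1,2,1,3,5,1,2],[([],473),([5],423),([5],261),([5,2],271),([],104),([],298),([3],452),([3,0,4],52)]),
  ([3,0,4,1,1,3,5],[([3],483),([],489),([0],401),([0,4,1],105),([0],418),([0],438),([0,5],440),([0],458)]),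
  ([4,1,2,4,1,3,5,1],[([],485),([0],494)]),
  ([3,1,5,0,0,2,4,3],[([1],327),([1,1,2],67),([1],59),([1,2,0],489),([1],480)]),
  ([4,1,5,0,5,1],[([3],335),([3],498),([5],320),([],482)]),
  ([0,4,1,2,0,2,4],[([],501),([],418),([],438)]),
  ([0,2,4,0,4,1,2],[([0],77),([0,5],55),([],477),([5],359),([5,2],191),([],104),([],298),([3],452),([3,0],26)]),
  ([0,3,0,4,3,3,4,0,3],[([0],491),([0,4],215),([0],365),([],423),([1,2,1],105),([],310),([],490),([3,0],194),([],236)]),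
  ([2,1,5,0,0,2,4],[([1],347),([1],229),([1],209),([1,2,1,4],45),([1,2],71),([1,2,4],49),([1],151),([1,5],347),([1,5,2],407),([1],104),([1],298),([1,3],452),([1],494),([1,4],152),([1],400),([1],474)]),
  ([1,3,0,5,1,5,3],[([1,3,0],27),([1,3],453),([],407),([4,0,2,1],104),([4],396),([],478),([2],392),([2],174)]),
  ([3,0,3,4,2,4,0,3],[([],263),([],261),([2,1],45),([2],51),([],117),([5,3],450),([],322)]),
  ([0,4,2,0,2,1,4],[([0],495),([0,3],483),([0],489),([],447),([5],443),([5,3,1],117),([],434),([2],472),([],210)]),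
  ([2,1,6,1,2,0],[([0],261),([0,2,1],117),([],444),([1],490)]),
  ([3,0,3,1,2,1],[([],263),([1],516),([],48)]),
  ([5,1,3,0,3,4,0,3],[([5],517),([],86),([2],392)]),
  ([2,1,5,3,5,1,2,1],[([],513),([],518)]),
  ([1,5,0,3,1,3,5],[([],23),([0],413),([0],53),([0,3],489),([],343),([4,1,2],116),([4,1],24),([],488),([3],482),([],494)]),
  ([5,0,5,0,7,5,0],[([],403),([1,4],51),([1,4],35),([],459),([5],441),([5,3],459),([],116),([2],42),([],376),([1],336)]),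
  ([2,1,4,0,4,2,0],[([],427),([],526),([1,4],54),([1],298)]),
  ([1,3,5,0,3,0,2,4,1],[([],377),([2],43),([],117),([5,3],426),([],476),([0,5],42),([0],482),([],22),([],474)]),
  ([0,2,5,0,0,5,2],[([0],53),([0,3],489),([],343),([4,1],131),([],488),([3],68),([],154),([2,5],146),([2],150),([],24)]),
  ([3,0,4,2,4,0,3,0],[([3,0,4],53),([],491),([],311),([],261),([2,1],301),([2,1,5],131),([],522),([0,3,0],26),([0],228),([0],346),([],22)]),
  ([3,0,5,2,1,2,5,0],[([1],519),([1,3,0],299),([1],491),([1,4],215),([],359),([2,1],105),([],507),([0,3,0,4],130),([0],534),([2,1],64),([],358)]),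
  ([1,2,4,3,3,1,5],[([1],73),([],393),([4],146)]),
  ([1,5,3,1,3,0,5],[([1],439),([],271),([4,0],146),([4],22)]),
  ([5,1,2,4,2,1],[([5],23),([5,0],147),([],354),([],442),([0,3],66),([0],204),([0],448)]),
  ([1,3,4,1,1,4,3],[([1],25),([1,2],151),([1,2,5],147),([],486),([],372),([1],374)]),
  ([4,1,6,1,4,0],[([],541),([1,5,3],148)]),
  ([5,0,5,1,4,1],[([],403),([1],546),([],48)]),
  ([1,4,6,0,4,1],[([],527),([],548),([0,5],22)]),
  ([1,4,2,0,2,1,4,1],[([],153),([2],549),([],412)]),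
  ([1,3,0,4,3,3,4,0,3,1],[([],517),([],57),([3,0],479),([],405),([5,2],550),([],452),([0],478),([0,2],392)]),
  ([0,4,0,7,4],[([3],487),([3,1,2,5],25),([3,1,2,5,2],149),([3],304)]),
  ([3,0,5,0,0,5,3,1],[([],209),([2,1,4],149),([],470),([1],488),([],530),([0,5],146),([0],150)]),
  ([3,5,2,1,3,1,5],[([],299),([],105),([5],151),([],64)]),
  ([1,2,6,0,2,1],[([1],45),([],23),([0],43),([],189),([5,1],150),([],542)]),
  ([2,5,0,3,0,5,2,1],[([],269),([],533),([0,2],150),([0],24)]),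
  ([1,3,5,2,2,0,4,1],[([1],489),([],471),([2],401),([],151),([5,0],210),([],548),([0,5],22)]),
  ([2,1,5,1,2,4],[([0],23),([0,0],347),([0,0],229),([0,0,3],477),([0],543),([0,5],261),([0,5,2,1],151),([0],416),([0,4,3],22),([0],392),([5],24)]),
  ([1,3,1,7,3],[([1,3],23),([],517),([2],51),([2],37),([2,4],49),([],151),([5,0],528),([],116)]),
  ([3,0,5,1,5,3,1],[([3,0],27),([],491),([4,0],261),([4,0,2,1],151),([],406),([],566),([0],520),([0,2,1],452)]),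
  ([1,4,0,7,4,1],[([],153),([2,0],322),([],34),([],50),([1],50),([],48),([0],66)]),
  ([4,0,2,5,2,5,2,0],[([],363),([],491),([],311),([1,2,1,5],152),([1],568),([1],464),([],326),([0],454),([],22)]),
  ([0,4,3,0,0,3,4],[([0],365),([],423),([],261),([2,1],73),([2],393),([],479),([4,3],172),([],178),([],414)]),
  ([5,0,3,0,4,1,5,3,0],[([5,0,3],173),([],472),([],492),([],534),([1,2],174)]),
  ([3,4,3,0,2,5,2,0],[([],195),([4,3],175),([],392),([1],300),([1,2],72),([1],24)]),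
  ([5,0,3,0,5,1,2,1],[([],515),([],497),([4,1,2],175),([],492),([],534),([1,2,1],64),([],422),([0,3],172)]),
  ([1,2,4,0,4,1,2,1],[([],581),([],584),([0,3,0],26)]),
  ([4,0,2,1,2,5,1,2],[([],539),([1,2,4],183),([],586),([0],536),([4],214),([],490)]),
  ([5,2,1,4,1,2,5,0],[([],579),([0],365),([],423),([1,2,1],194),([1],346),([],358)]),
  ([1,5,1,7,5],[([1,2],397),([],222),([0,3],44),([0],50),([],46)]),
  ([2,5,2,1,3,4,3,1],[([],301),([5,2],231),([],452),([0],194),([0,3],298),([0],52)]),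
  ([1,4,3,0,0,3,4,1],[([],359),([0],261),([0,2,1],73),([],555),([1],491),([1,4],215),([],359),([2,1],105),([],521),([5,1,3],230),([],316)]),
  ([1,2,5,0,0,5,2,1],[([1,2],27),([],271),([4,0],350),([4],22),([],342)]),
  ([4,3,0,5,0,3,4,1],[([0],537),([],587),([1,2,4],351),([],538),([],190),([],596)]),
  ([3,5,0,3,3,0,5],[([],25),([2],435),([],499),([3,1,5],441),([],394),([0,3],400),([0],440),([],22),([],540)])]

def carT : List (List ℕ) :=
  [[0],[1],[2],[3],[4],[5],[6],[0,2],[0,3],[0,4],[0,5],[0,6],[1,2],[1,3],[1,4],[1,5],[1,6],[2,0],[2,1],[2,4],[2,5],[2,6],[3,0],[3,1],[3,4],[3,5],[3,6],[4,0],[4,1],[4,2],[4,3],[4,6],[5,0],[5,1],[5,2],[5,3],[5,6],[0,2,1],[0,2,4],[0,2,5],[0,3,0],[0,3,1],[0,3,4],[0,3,5],[0,3,6],[0,4,1],[0,4,2],[0,4,3],[0,5,0],[0,5,1],[0,5,2],[0,5,3],[0,5,6],[1,2,1],[1,2,4],[1,2,5],[1,3,0],[1,3,4],[1,3,5],[1,4,1],[1,4,2],[1,4,3],[1,5,0],[1,5,2],[1,5,3],[2,0,4],[2,1,4],[2,1,5],[2,4,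0],[2,4,1],[2,4,3],[2,5,0],[2,5,2],[2,5,3],[2,5,6],[3,0,4],[3,0,5],[3,1,5],[3,4,1],[3,4,3],[3,5,0],[3,5,1],[3,5,2],[4,0,2],[4,1,2],[4,2,0],[4,3,0],[5,0,3],[5,1,3],[5,2,1],[5,3,1],[0,2,1,5],[0,2,4,1],[0,2,4,3],[0,2,5,2],[0,2,5,3],[0,3,0,4],[0,3,0,5],[0,3,1,5],[0,3,4,1],[0,3,4,3],[0,3,5,0],[0,3,5,1],[0,5,0,3],[0,5,1,3],[0,5,2,1],[0,5,3,1],[1,2,1,5],[1,2,4,1],[1,2,5,2],[1,3,0,4],[1,3,4,3],[1,3,5,0],[2,0,4,1],[2,1,5,2],[2,5,3,1],[3,0,4,3],[0,2,1,5,2],[0,2,5,3,1]]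

def carD : List (List (ℕ × List (List ℕ × ℕ))) :=
  [[(1,[]),(2,[]),(3,[]),(4,[]),(5,[]),(6,[]),(7,[]),(7,[([],40)])],
  [(2,[([],22)]),(0,[]),(8,[]),(9,[]),(10,[]),(11,[]),(12,[]),(12,[([0],40)])],
  [(0,[]),(1,[([],48)]),(13,[]),(14,[]),(15,[]),(16,[]),(17,[]),(17,[([1],40)])],
  [(18,[]),(19,[]),(4,[([],24)]),(0,[]),(20,[]),(21,[]),(22,[]),(22,[([2],40)])],
  [(23,[]),(24,[]),(0,[]),(3,[([],52)]),(25,[]),(26,[]),(27,[]),(27,[([3],40)])],
  [(28,[]),(29,[]),(30,[]),(31,[]),(6,[([],26)]),(0,[]),(32,[]),(32,[([4],40)])],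
  [(33,[]),(34,[]),(35,[]),(36,[]),(0,[]),(5,[([],64)]),(37,[]),(37,[([5],40)])],
  [(12,[([],42)]),(17,[([],50)]),(22,[([],44)]),(27,[([],54)]),(32,[([],46)]),(37,[([],66)]),(0,[([],20)]),(0,[])],
  [(27,[([],348)]),(38,[]),(9,[([0],24)]),(1,[]),(39,[]),(40,[]),(24,[([],182)]),(24,[([0,2],40),([],182)])],
  [(41,[]),(42,[]),(1,[]),(8,[([0],52)]),(43,[]),(44,[]),(45,[]),(45,[([0,3],40)])],
  [(37,[([],556)]),(46,[]),(47,[]),(48,[]),(11,[([0],26)]),(1,[]),(34,[([],230)]),(34,[([0,4],40),([],230)])],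
  [(49,[]),(50,[]),(51,[]),(52,[]),(1,[]),(10,[([0],64)]),(53,[]),(53,[([0,5],40)])],
  [(17,[([0],42),([],22)]),(7,[([0],50)]),(24,[([0],44),([],182)]),(45,[([0],54)]),(34,[([0],46),([],230)]),(53,[([0],66)]),(1,[([0],20)]),(1,[])],
  [(45,[([],222)]),(54,[]),(14,[([1],24)]),(2,[]),(55,[]),(56,[]),(42,[([],562)]),(42,[([1,2],40),([],562)])],
  [(57,[]),(22,[([],570)]),(2,[]),(13,[([1],52)]),(58,[]),(59,[]),(18,[([],148)]),(18,[([1,3],40),([],148)])],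
  [(53,[([],574)]),(60,[]),(61,[]),(62,[]),(16,[([1],26)]),(2,[]),(50,[([],550)]),(50,[([1,4],40),([],550)])],
  [(63,[]),(32,[([],592)]),(64,[]),(65,[]),(2,[]),(15,[([1],64)]),(28,[([],174)]),(28,[([1,5],40),([],174)])],
  [(7,[([1],42)]),(12,[([1],50),([],48)]),(42,[([1],44),([],562)]),(18,[([1],54),([],148)]),(50,[([1],46),([],550)]),(28,[([1],66),([],174)]),(2,[([1],20)]),(2,[])],
  [(19,[([2],22)]),(3,[]),(17,[([],34),([],50)]),(42,[([],58),([],562)]),(66,[]),(61,[([],152)]),(14,[([],376)]),(14,[([2,0],40),([],376)])],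
  [(3,[]),(18,[([2],48)]),(54,[([],260)]),(38,[([],346)]),(67,[]),(68,[]),(57,[([],516)]),(57,[([2,1],40),([],516)])],
  [(69,[]),(70,[]),(37,[([],38),([],66)]),(71,[]),(21,[([2],26)]),(3,[]),(36,[([],318)]),(36,[([2,4],40),([],318)])],
  [(72,[]),(58,[([],232)]),(73,[]),(74,[]),(3,[]),(20,[([2],64)]),(75,[]),(75,[([2,5],40)])],
  [(14,[([2],42),([],376)]),(57,[([2],50),([],516)]),(27,[([2],44),([],24)]),(7,[([2],54)]),(36,[([2],46),([],318)]),(75,[([2],66)]),(3,[([2],20)]),(3,[])],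
  [(24,[([3],22)]),(4,[]),(57,[([],56),([],516)]),(41,[([],518)]),(76,[]),(77,[]),(38,[([],214),([],346)]),(38,[([3,0],40),([],214),([],346)])],
  [(4,[]),(23,[([3],48)]),(45,[([],442)]),(12,[([],320)]),(52,[([],440)]),(78,[]),(8,[([],146)]),(8,[([3,1],40),([],146)])],
  [(40,[([],350)]),(79,[]),(75,[([],60),([2],66)]),(80,[]),(26,[([3],26)]),(4,[]),(74,[([],130)]),(74,[([3,4],40),([],130)])],
  [(81,[]),(82,[]),(83,[]),(32,[([],336)]),(4,[]),(25,[([3],64)]),(30,[([],204)]),(30,[([3,5],40),([],204)])],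
  [(38,[([3],42),([],214),([],346)]),(8,[([3],50),([],146)]),(7,[([3],44)]),(22,[([3],54),([],52)]),(74,[([3],46),([],130)]),(30,[([3],66),([],204)]),(4,[([3],20)]),(4,[])],
  [(29,[([4],22)]),(5,[]),(84,[]),(55,[([],270)]),(17,[([],36),([],50)]),(50,[([],70),([],550)]),(16,[([],266)]),(16,[([4,0],40),([],266)])],
  [(5,[]),(28,[([4],48)]),(85,[]),(81,[([],488)]),(60,[([],400)]),(46,[([],500)]),(63,[([],546)]),(63,[([4,1],40),([],546)])],
  [(86,[]),(76,[([],490)]),(31,[([4],24)]),(5,[]),(27,[([],462)]),(74,[([],386)]),(26,[([],448)]),(26,[([4,2],40),([],448)])],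
  [(87,[]),(64,[([],392)]),(5,[]),(30,[([4],52)]),(80,[([],194)]),(71,[([],478)]),(83,[([],298)]),(83,[([4,3],40),([],298)])],
  [(16,[([4],42),([],266)]),(63,[([4],50),([],546)]),(26,[([4],44),([],448)]),(83,[([4],54),([],298)]),(37,[([4],46),([],26)]),(7,[([4],66)]),(5,[([4],20)]),(5,[])],
  [(34,[([5],22)]),(6,[]),(70,[([],150)]),(88,[]),(63,[([],68),([],546)]),(49,[([],548)]),(46,[([],482)]),(46,[([5,0],40),([],482)])],
  [(6,[]),(33,[([5],48)]),(44,[([],542)]),(89,[]),(53,[([],476)]),(12,[([],188)]),(10,[([],172)]),(10,[([5,1],40),([],172)])],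
  [(48,[([],452)]),(90,[]),(36,[([5],24)]),(6,[]),(83,[([],104),([],298)]),(73,[([],300)]),(71,[([],72)]),(71,[([5,2],40),([],72)])],
  [(68,[([],322)]),(91,[]),(6,[]),(35,[([5],52)]),(75,[([],464)]),(22,[([],116)]),(20,[([],76)]),(20,[([5,3],40),([],76)])],
  [(46,[([5],42),([],482)]),(10,[([5],50),([],172)]),(71,[([5],44),([],72)]),(20,[([5],54),([],76)]),(7,[([5],46)]),(32,[([5],66),([],64)]),(6,[([5],20)]),(6,[])],
  [(8,[]),(27,[([0,2],48),([],348)]),(19,[([0],260)]),(54,[([0],346),([],22)]),(82,[([],396)]),(92,[]),(23,[([0],516)]),(23,[([0,2,1],40),([0],516)])],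
  [(77,[([],504)]),(93,[]),(53,[([0],38),([0],66)]),(94,[]),(40,[([0,2],26)]),(8,[]),(52,[([0],318)]),(52,[([0,2,4],40),([0],318)])],
  [(79,[([],532)]),(25,[([0],232)]),(95,[]),(96,[]),(8,[]),(39,[([0,2],64)]),(78,[([],466)]),(78,[([0,2,5],40),([],466)])],
  [(42,[([0,3],22)]),(9,[]),(23,[([0],56),([0],516)]),(57,[([0],518),([],22)]),(97,[]),(98,[]),(54,[([0],214),([0],346),([],22)]),(54,[([0,3,0],40),([0],214),([0],346),([],22)])],
  [(9,[]),(41,[([0,3],48)]),(18,[([0],442),([],22),([],148)]),(17,[([0],320),([],22)]),(65,[([0],440),([],22)]),(99,[]),(13,[([0],146),([],22)]),(13,[([0,3,1],40),([0],146),([],22)])],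
  [(56,[([0],350),([],22)]),(100,[]),(78,[([0],60),([],182)]),(101,[]),(44,[([0,3],26)]),(9,[]),(96,[([0],130)]),(96,[([0,3,4],40),([0],130)])],
  [(102,[]),(103,[]),(89,[([],352)]),(34,[([0],336),([],230)]),(9,[]),(43,[([0,3],64)]),(47,[([0],204)]),(47,[([0,3,5],40),([0],204)])],
  [(54,[([0,3],42),([0],214),([0],346),([],22)]),(13,[([0,3],50),([0],146),([],22)]),(12,[([0,3],44)]),(24,[([0,3],54),([0],52),([],182)]),(96,[([0,3],46),([0],130)]),(47,[([0,3],66),([0],204)]),(9,[([0,3],20)]),(9,[])],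
  [(10,[]),(37,[([0,4],48),([],556)]),(91,[([],502)]),(102,[([0],488)]),(29,[([0],400)]),(60,[([0],500),([],22)]),(33,[([0],546)]),(33,[([0,4,1],40),([0],546)])],
  [(88,[([],514)]),(97,[([0],490)]),(48,[([0,4],24)]),(10,[]),(45,[([0],462)]),(96,[([0],386)]),(44,[([0],448)]),(44,[([0,4,2],40),([0],448)])],
  [(90,[([],578)]),(35,[([0],392)]),(10,[]),(47,[([0,4],52)]),(101,[([0],194)]),(94,[([0],478)]),(89,[([0],298),([],352)]),(89,[([0,4,3],40),([0],298),([],352)])],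
  [(50,[([0,5],22)]),(11,[]),(93,[([0],150)]),(104,[]),(33,[([0],68),([0],546)]),(63,[([0],548),([],22)]),(60,[([0],482),([],22)]),(60,[([0,5,0],40),([0],482),([],22)])],
  [(11,[]),(49,[([0,5],48)]),(59,[([0],542),([],22)]),(105,[]),(28,[([0],476),([],22),([],174)]),(17,[([0],188),([],22)]),(15,[([0],172),([],22)]),(15,[([0,5,1],40),([0],172),([],22)])],
  [(62,[([0],452),([],22)]),(106,[]),(52,[([0,5],24)]),(11,[]),(89,[([0],104),([0],298),([],352)]),(95,[([0],300)]),(94,[([0],72)]),(94,[([0,5,2],40),([0],72)])],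
  [(92,[([0],322)]),(107,[]),(11,[]),(51,[([0,5],52)]),(78,[([0],464),([],466)]),(24,[([0],116),([],182)]),(39,[([0],76)]),(39,[([0,5,3],40),([0],76)])],
  [(60,[([0,5],42),([0],482),([],22)]),(15,[([0,5],50),([0],172),([],22)]),(94,[([0,5],44),([0],72)]),(39,[([0,5],54),([0],76)]),(12,[([0,5],46)]),(34,[([0,5],66),([0],64),([],230)]),(11,[([0,5],20)]),(11,[])],
  [(13,[]),(45,[([1,2],48),([],222)]),(38,[([1],260),([],48)]),(19,[([1],346)]),(103,[([],422)]),(108,[]),(41,[([1],516),([],48)]),(41,[([1,2,1],40),([1],516),([],48)])],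
  [(98,[([],586)]),(109,[]),(28,[([1],38),([1],66),([],174)]),(84,[([],538)]),(56,[([1,2],26)]),(13,[]),(65,[([1],318)]),(65,[([1,2,4],40),([1],318)])],
  [(100,[([],598)]),(43,[([1],232),([],48)]),(110,[]),(66,[([],486)]),(13,[]),(55,[([1,2],64)]),(99,[([],326)]),(99,[([1,2,5],40),([],326)])],
  [(22,[([1,3],22),([],570)]),(14,[]),(41,[([1],56),([1],516),([],48)]),(23,[([1],518)]),(111,[]),(69,[([],510)]),(19,[([1],214),([1],346)]),(19,[([1,3,0],40),([1],214),([1],346)])],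
  [(21,[([1],350)]),(72,[([],544)]),(99,[([1],60),([],562)]),(112,[]),(59,[([1,3],26)]),(14,[]),(66,[([1],130),([],486)]),(66,[([1,3,4],40),([1],130),([],486)])],
  [(113,[]),(67,[([],460)]),(105,[([],566)]),(50,[([1],336),([],550)]),(14,[]),(58,[([1,3],64)]),(61,[([1],204)]),(61,[([1,3,5],40),([1],204)])],
  [(15,[]),(53,[([1,4],48),([],574)]),(107,[([],474)]),(113,[([1],488)]),(46,[([1],400),([],48)]),(29,[([1],500)]),(49,[([1],546),([],48)]),(49,[([1,4,1],40),([1],546),([],48)])],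
  [(104,[([],552)]),(111,[([1],490)]),(62,[([1,4],24)]),(15,[]),(18,[([1],462),([],148)]),(66,[([1],386),([],486)]),(59,[([1],448)]),(59,[([1,4,2],40),([1],448)])],
  [(106,[([],596)]),(51,[([1],392),([],48)]),(15,[]),(61,[([1,4],52)]),(112,[([1],194)]),(84,[([1],478),([],538)]),(105,[([1],298),([],566)]),(105,[([1,4,3],40),([1],298),([],566)])],
  [(32,[([1,5],22),([],592)]),(16,[]),(109,[([1],150)]),(86,[([],524)]),(49,[([1],68),([1],546),([],48)]),(33,[([1],548)]),(29,[([1],482)]),(29,[([1,5,0],40),([1],482)])],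
  [(31,[([1],452)]),(87,[([],456)]),(65,[([1,5],24)]),(16,[]),(105,[([1],104),([1],298),([],566)]),(110,[([1],300)]),(84,[([1],72),([],538)]),(84,[([1,5,2],40),([1],72),([],538)])],
  [(108,[([1],322)]),(85,[([],540)]),(16,[]),(64,[([1,5],52)]),(99,[([1],464),([],326)]),(42,[([1],116),([],562)]),(55,[([1],76)]),(55,[([1,5,3],40),([1],76)])],
  [(75,[([2],556)]),(114,[]),(56,[([],264)]),(110,[([],156),([1],300)]),(61,[([2,0],26),([],152)]),(18,[]),(58,[([2],230),([],232)]),(58,[([2,0,4],40),([2],230),([],232)])],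
  [(59,[([2],574),([],152),([1],448)]),(113,[([],470),([1],488)]),(77,[([],208)]),(106,[([],358),([],596)]),(68,[([2,1],26)]),(19,[]),(111,[([2],550),([],152),([1],490)]),(111,[([2,1,4],40),([2],550),([],152),([1],490)])],
  [(91,[([],508)]),(36,[([2],592),([],318)]),(115,[]),(97,[([],522)]),(19,[]),(67,[([2,1],64)]),(69,[([2],174)]),(69,[([2,1,5],40),([2],174)])],
  [(70,[([2,4],22)]),(20,[]),(90,[([],414)]),(103,[([2],270),([],260),([],422)]),(57,[([2],36),([2],50),([],516)]),(111,[([2],70),([2],550),([],152),([1],490)]),(68,[([2],266)]),(68,[([2,4,0],40),([2],266)])],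
  [(20,[]),(69,[([2,4],48)]),(88,[([],210)]),(33,[([2],488)]),(113,[([2],400),([],470),([1],488)]),(114,[([2],500)]),(91,[([2],546),([],508)]),(91,[([2,4,1],40),([2],546),([],508)])],
  [(89,[([],192)]),(115,[([2],392)]),(20,[]),(37,[([2,4],52),([],38),([],66)]),(31,[([2],194)]),(80,[([2],478),([],24)]),(35,[([2],298)]),(35,[([2,4,3],40),([2],298)])],
  [(58,[([2,5],22),([],232)]),(21,[]),(79,[([2],150),([],24)]),(100,[([],564)]),(91,[([2],68),([2],546),([],508)]),(104,[([2],548),([],152),([],552)]),(114,[([2],482)]),(114,[([2,5,0],40),([2],482)])],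
  [(110,[([2],452),([],156),([1],300)]),(95,[([],594)]),(74,[([2,5],24)]),(21,[]),(35,[([2],104),([2],298)]),(83,[([2],300),([],24)]),(80,[([2],72),([],24)]),(80,[([2,5,2],40),([2],72),([],24)])],
  [(78,[([2],322),([],24)]),(116,[]),(21,[]),(73,[([2,5],52)]),(30,[([2],464),([],24),([],204)]),(27,[([2],116),([],24)]),(25,[([2],76),([],24)]),(25,[([2,5,3],40),([2],76),([],24)])],
  [(114,[([2,5],42),([2],482)]),(66,[([2,5],50),([],232),([1],130),([],486)]),(80,[([2,5],44),([2],72),([],24)]),(25,[([2,5],54),([2],76),([],24)]),(22,[([2,5],46)]),(36,[([2,5],66),([2],64),([],318)]),(21,[([2,5],20)]),(21,[])],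
  [(30,[([3],556),([],204)]),(86,[([],494)]),(108,[([],534)]),(117,[]),(77,[([3,0],26)]),(23,[]),(82,[([3],230)]),(82,[([3,0,4],40),([3],230)])],
  [(93,[([],558)]),(39,[([],572)]),(106,[([],536),([],596)]),(67,[([],244)]),(23,[]),(76,[([3,0],64)]),(92,[([],228),([],346)]),(92,[([3,0,5],40),([],228),([],346)])],
  [(116,[([],498)]),(74,[([3],592),([],130)]),(101,[([],454)]),(43,[([],394)]),(24,[]),(52,[([3,1],64),([],440)]),(40,[([3],174),([],350)]),(40,[([3,1,5],40),([3],174),([],350)])],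
  [(25,[]),(40,[([3,4],48),([],350)]),(100,[([],268),([],564)]),(72,[([3],488),([],52)]),(107,[([3],400),([],440)]),(86,[([3],500),([],494)]),(116,[([3],546),([],498)]),(116,[([3,4,1],40),([3],546),([],498)])],
  [(112,[([],582)]),(101,[([3],392),([],454)]),(25,[]),(75,[([3,4],52),([],60),([2],66)]),(71,[([3],194),([],52)]),(31,[([3],478)]),(73,[([3],298),([],52)]),(73,[([3,4,3],40),([3],298),([],52)])],
  [(82,[([3,5],22)]),(26,[]),(29,[([3],150)]),(85,[([],602)]),(116,[([3],68),([3],546),([],498)]),(93,[([3],548),([],558)]),(86,[([3],482),([],494)]),(86,[([3,5,0],40),([3],482),([],494)])],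
  [(26,[]),(81,[([3,5],48)]),(98,[([3],542),([],518)]),(87,[([],364)]),(92,[([3],476),([],228),([],346)]),(38,[([3],188),([],214),([],346)]),(76,[([3],172)]),(76,[([3,5,1],40),([3],172)])],
  [(117,[([3],452)]),(84,[([],560)]),(32,[([3,5],24),([],336)]),(26,[]),(73,[([3],104),([3],298),([],52)]),(35,[([3],300)]),(31,[([3],72)]),(31,[([3,5,2],40),([3],72)])],
  [(83,[([4],348),([],298)]),(117,[([],588)]),(55,[([4,0],24),([],270)]),(28,[]),(62,[([],190)]),(112,[([],576)]),(64,[([4],182),([],392)]),(64,[([4,0,2],40),([4],182),([],392)])],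
  [(65,[([4],222),([],270),([1],318)]),(108,[([],492),([],534)]),(81,[([4,1],24),([],488)]),(29,[]),(88,[([],496),([],514)]),(100,[([],342)]),(109,[([4],562),([],270)]),(109,[([4,1,2],40),([4],562),([],270)])],
  [(76,[([4,2],22),([],490)]),(30,[]),(63,[([4],34),([4],50),([],546)]),(109,[([4],58),([4],562),([],270)]),(79,[([],374),([],532)]),(107,[([4],152),([],400),([],474)]),(81,[([4],376),([],488)]),(81,[([4,2,0],40),([4],376),([],488)])],
  [(64,[([4,3],22),([],392)]),(31,[]),(82,[([4],56),([],490),([3],230)]),(98,[([4],518),([],270),([],586)]),(90,[([],178),([],414)]),(106,[([],600)]),(117,[([4],214),([],490)]),(117,[([4,3,0],40),([4],214),([],490)])],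
  [(97,[([],584)]),(47,[([],354),([],442),([0,3],66),([0],204)]),(33,[]),(70,[([5,0],52),([],150)]),(100,[([],258),([],342)]),(85,[([],472)]),(102,[([],446),([0],488)]),(102,[([5,0,3],40),([],446),([0],488)])],
  [(115,[([],520)]),(71,[([5],570),([],72)]),(34,[]),(44,[([5,1],52),([],542)]),(95,[([],370)]),(51,[([],316)]),(48,[([5],148),([],452)]),(48,[([5,1,3],40),([5],148),([],452)])],
  [(35,[]),(48,[([5,2],48),([],452)]),(103,[([5],260),([],542)]),(69,[([5],346),([],150),([2,4],48)]),(106,[([],590),([],596)]),(87,[([],416)]),(115,[([5],516),([],520)]),(115,[([5,2,1],40),([5],516),([],520)])],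
  [(36,[]),(68,[([5,3],48),([],322)]),(102,[([5],442),([],446),([0],488)]),(46,[([5],320),([],482)]),(104,[([5],440),([],548)]),(72,[([],434)]),(70,[([5],146),([],150)]),(70,[([5,3,1],40),([5],146),([],150)])],
  [(107,[([0],508)]),(52,[([0,2],592),([0],318)]),(118,[]),(111,[([0],522),([],22)]),(38,[]),(82,[([0,2,1],64),([],396)]),(77,[([0,2],174),([],504)]),(77,[([0,2,1,5],40),([0,2],174),([],504)])],
  [(39,[]),(77,[([0,2,4],48),([],504)]),(104,[([0],210)]),(49,[([0,2],488)]),(81,[([0,2],400),([],396),([3,5],48)]),(116,[([0,2],500),([],348),([3],46),([],130)]),(107,[([0,2],546),([0],508)]),(107,[([0,2,4,1],40),([0,2],546),([0],508)])],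
  [(105,[([0],192)]),(118,[([0,2],392)]),(39,[]),(53,[([0,2,4],52),([0],38),([0],66)]),(48,[([0,2],194)]),(101,[([0,2],478),([0],24)]),(51,[([0,2],298)]),(51,[([0,2,4,3],40),([0,2],298)])],
  [(73,[([0,2],452),([],348),([3],46),([],130),([2,5],52)]),(110,[([0],594),([],22)]),(96,[([0,2,5],24)]),(40,[]),(51,[([0,2],104),([0,2],298)]),(89,[([0,2],300),([0],24),([],352)]),(101,[([0,2],72),([0],24)]),(101,[([0,2,5,2],40),([0,2],72),([0],24)])],
  [(99,[([0,2],322),([0],24)]),(119,[]),(40,[]),(95,[([0,2,5],52)]),(47,[([0,2],464),([0],24),([0],204)]),(45,[([0,2],116),([0],24)]),(43,[([0,2],76),([0],24)]),(43,[([0,2,5,3],40),([0,2],76),([0],24)])],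
  [(47,[([0,3],556),([0],204)]),(88,[([0],494),([],514)]),(68,[([0],534)]),(115,[([],506)]),(98,[([0,3,0],26)]),(41,[]),(103,[([0,3],230)]),(103,[([0,3,0,4],40),([0,3],230)])],
  [(109,[([0],558),([],22)]),(55,[([0],572),([],22)]),(87,[([0],536)]),(82,[([0],244),([],396)]),(41,[]),(97,[([0,3,0],64)]),(108,[([0],228),([0],346),([],22)]),(108,[([0,3,0,5],40),([0],228),([0],346),([],22)])],
  [(119,[([0],498)]),(96,[([0,3],592),([0],130)]),(112,[([0],454),([],22)]),(58,[([0],394),([],22)]),(42,[]),(65,[([0,3,1],64),([0],440),([],22)]),(56,[([0,3],174),([0],350),([],22)]),(56,[([0,3,1,5],40),([0,3],174),([0],350),([],22)])],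
  [(43,[]),(56,[([0,3,4],48),([0],350),([],22)]),(72,[([0],268),([],532),([3],488),([],52)]),(79,[([0,3],488),([0],52),([],532)]),(85,[([0,3],400),([0],440),([],22),([],540)]),(88,[([0,3],500),([0],494),([],514)]),(119,[([0,3],546),([0],498)]),(119,[([0,3,4,1],40),([0,3],546),([0],498)])],
  [(80,[([0],582)]),(112,[([0,3],392),([0],454),([],22)]),(43,[]),(78,[([0,3,4],52),([0],60),([],182)]),(94,[([0,3],194),([0],52)]),(48,[([0,3],478)]),(95,[([0,3],298),([0],52)]),(95,[([0,3,4,3],40),([0,3],298),([0],52)])],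
  [(103,[([0,3,5],22)]),(44,[]),(46,[([0,3],150)]),(91,[([0],602),([],502)]),(119,[([0,3],68),([0,3],546),([0],498)]),(109,[([0,3],548),([0],558),([],22)]),(88,[([0,3],482),([0],494),([],514)]),(88,[([0,3,5,0],40),([0,3],482),([0],494),([],514)])],
  [(44,[]),(102,[([0,3,5],48)]),(69,[([0,3],542),([0],518),([],22),([],510)]),(90,[([0],364),([],578)]),(108,[([0,3],476),([0],228),([0],346),([],22)]),(54,[([0,3],188),([0],214),([0],346),([],22)]),(97,[([0,3],172)]),(97,[([0,3,5,1],40),([0,3],172)])],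
  [(111,[([0],584),([],22)]),(61,[([0],354),([0],442),([],22),([],148),([],152)]),(49,[]),(93,[([0,5,0],52),([0],150)]),(72,[([0],258),([],502),([],434)]),(91,[([0],472),([],502)]),(113,[([0],446),([],22),([1],488)]),(113,[([0,5,0,3],40),([0],446),([],22),([1],488)])],
  [(118,[([0],520)]),(94,[([0,5],570),([0],72)]),(50,[]),(59,[([0,5,1],52),([0],542),([],22)]),(110,[([0],370),([],22)]),(64,[([0],316),([],22)]),(62,[([0,5],148),([0],452),([],22)]),(62,[([0,5,1,3],40),([0,5],148),([0],452),([],22)])],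
  [(51,[]),(62,[([0,5,2],48),([0],452),([],22)]),(67,[([0,5],260),([0],542),([],22),([],460)]),(77,[([0,5],346),([0],150),([0,2,4],48),([],504)]),(87,[([0],590)]),(90,[([0],416),([],578)]),(118,[([0,5],516),([0],520)]),(118,[([0,5,2,1],40),([0,5],516),([0],520)])],
  [(52,[]),(92,[([0,5,3],48),([0],322)]),(113,[([0,5],442),([0],446),([],22),([1],488)]),(60,[([0,5],320),([0],482),([],22)]),(86,[([0,5],440),([0],548),([],22),([],524)]),(79,[([0],434),([],532)]),(93,[([0,5],146),([0],150)]),(93,[([0,5,3,1],40),([0,5],146),([0],150)])],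
  [(85,[([1],508),([],540)]),(65,[([1,2],592),([1],318)]),(117,[([],310),([],490)]),(76,[([1],522)]),(54,[]),(103,[([1,2,1],64),([],422)]),(98,[([1,2],174),([],586)]),(98,[([1,2,1,5],40),([1,2],174),([],586)])],
  [(55,[]),(98,[([1,2,4],48),([],586)]),(86,[([1],210),([],524)]),(63,[([1,2],488)]),(102,[([1,2],400),([],422),([0,3,5],48)]),(119,[([1,2],500),([],222),([0,3],46),([0],130)]),(85,[([1,2],546),([1],508),([],540)]),(85,[([1,2,4,1],40),([1,2],546),([1],508),([],540)])],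
  [(95,[([1,2],452),([],222),([0,3],46),([0],130),([0,2,5],52)]),(73,[([1],594)]),(66,[([1,2,5],24),([],486)]),(56,[]),(64,[([1,2],104),([],538),([4],182),([],392)]),(105,[([1,2],300),([1],24),([],566)]),(112,[([1,2],72),([1],24)]),(112,[([1,2,5,2],40),([1,2],72),([1],24)])],
  [(61,[([1,3],556),([1],204)]),(104,[([1],494),([],552)]),(92,[([1],534),([],48)]),(118,[([],554)]),(69,[([1,3,0],26),([],510)]),(57,[]),(67,[([1,3],230),([],460)]),(67,[([1,3,0,4],40),([1,3],230),([],460)])],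
  [(101,[([1],582),([],48)]),(80,[([1,3],392),([],570),([2],66),([2,5],44),([2],72),([],24)]),(58,[]),(99,[([1,3,4],52),([1],60),([],562)]),(84,[([1,3],194),([1],52),([],538)]),(62,[([1,3],478)]),(110,[([1,3],298),([1],52)]),(110,[([1,3,4,3],40),([1,3],298),([1],52)])],
  [(67,[([1,3,5],22),([],460)]),(59,[]),(60,[([1,3],150)]),(107,[([1],602),([],474)]),(114,[([1,3],68),([],544),([2],482)]),(70,[([1,3],548),([],510),([2,4],22)]),(104,[([1,3],482),([1],494),([],552)]),(104,[([1,3,5,0],40),([1,3],482),([1],494),([],552)])],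
  [(66,[]),(75,[([2,0,4],48),([2],556)]),(116,[([2],502)]),(119,[([2,0],488),([],58),([],562),([0],498)]),(70,[([2,0],400)]),(113,[([2,0],500),([2],22),([],470),([1],488)]),(72,[([2,0],546)]),(72,[([2,0,4,1],40),([2,0],546)])],
  [(71,[([2,1],452)]),(89,[([2],456),([],192)]),(97,[([2,1,5],24),([],522)]),(68,[]),(118,[([2,1],104),([],358),([],596),([0,5],516),([0],520)]),(117,[([2,1],300),([],260),([],310),([],490)]),(90,[([2,1],72),([],260),([],422),([0],364),([],578)]),(90,[([2,1,5,2],40),([2,1],72),([],260),([],422),([0],364),([],578)])],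
  [(74,[]),(78,[([2,5,3],48),([2],322),([],24)]),(119,[([2,5],442),([],564),([0,3],546),([0],498)]),(114,[([2,5],320),([2],482)]),(93,[([2,5],440),([2],548),([],152),([],552),([0,5,0],52),([0],150)]),(81,[([2],434),([],24)]),(79,[([2,5],146),([2],150),([],24)]),(79,[([2,5,3,1],40),([2,5],146),([2],150),([],24)])],
  [(84,[([3],578),([],560)]),(83,[([3,0],392)]),(76,[]),(108,[([3,0,4],52),([],534)]),(115,[([3,0],194),([],518),([],506)]),(118,[([3,0],478),([],56),([],516),([],554)]),(87,[([3,0],298),([],518),([0],536)]),(87,[([3,0,4,3],40),([3,0],298),([],518),([0],536)])],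
  [(94,[([0,2,1],452)]),(105,[([0,2],456),([0],192)]),(111,[([0,2,1,5],24),([0],522),([],22)]),(92,[]),(117,[([0,2,1],104),([],396),([],364),([4],214),([],490)]),(115,[([0,2,1],300),([0],260)]),(106,[([0,2,1],72),([0],260),([],358),([],596)]),(106,[([0,2,1,5,2],40),([0,2,1],72),([0],260),([],358),([],596)])],
  [(96,[]),(99,[([0,2,5,3],48),([0,2],322),([0],24)]),(114,[([0,2,5],442),([],532),([3],488),([],52),([2],482)]),(116,[([0,2,5],320),([],532),([3],546),([],498)]),(109,[([0,2,5],440),([],532),([3],500),([],494),([4],58),([4],562),([],270)]),(102,[([0,2],434),([0],24)]),(100,[([0,2,5],146),([],532),([],268),([],564)]),(100,[([0,2,5,3,1],40),([0,2,5],146),([],532),([],268),([],564)])]]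

/-- The presentation `⟨x, y, z | x³ = y⁵ = z² = 1, z central, (xy)² = z⟩` of `SL(2,5)`. -/
theorem exists_hom_SL5 {G : Type*} [Group G] {x y z : G} (hx : x ^ 3 = 1) (hy : y ^ 5 = 1)
    (hz : z ^ 2 = 1) (hxz : z⁻¹ * x * z = x) (hyz : z⁻¹ * y * z = y) (hxy : (x * y) ^ 2 = z) :
    ∃ φ : SL5 →* G, φ m3 = x ∧ φ (H11.uMat 1) = y ∧ φ (-1) = z := by
  obtain ⟨φ, hφ⟩ := exists_hom_of_chk [(x, m3), (y, H11.uMat 1), (z, (-1 : SL5))]
    (R := [[0,0,0],[2,2,2,2,2],[4,4],[5,0,4,1],[5,2,4,3],[0,2,0,2,5]]) (by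
      simp only [List.mem_cons, List.not_mem_nil, or_false, forall_eq_or_imp, forall_eq, ev, mkv]
      norm_num [Prod.ext_iff]
      refine ⟨⟨?_, by decide⟩, ⟨?_, by decide⟩, ?_, ?_, ?_, ?_, by decide⟩
      · simpa [pow_succ, mul_assoc] using hx
      · simpa [pow_succ, mul_assoc] using hy
      · simpa [pow_succ, mul_assoc] using hz
      · rw [← mul_assoc, ← mul_assoc, hxz]; group
      · rw [← mul_assoc, ← mul_assoc, hyz]; group
      · rw [← hxy]; group) slT slC slD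
    (by simp only [List.length_cons, List.length_nil]; decide +kernel)
    (fun S hS => eq_top_of_m3_uMat S (hS (x, m3) (by simp)) (hS (y, H11.uMat 1) (by simp)))
    (by rw [card_SL5]; rfl)
  exact ⟨φ, hφ (x, m3) (by simp), hφ (y, H11.uMat 1) (by simp), hφ (z, -1) (by simp)⟩

/-- The presentation of `SL(2,5)` on three elements of order three whose products in pairs square
to the central involution. -/
theorem exists_hom_SL5' {G : Type*} [Group G] {y a b z : G} (hy : y ^ 3 = 1) (ha : a ^ 3 = 1)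
    (hb : b ^ 3 = 1) (hz : z ^ 2 = 1) (hay : (a * y) ^ 2 = z) (hby : (b * y) ^ 2 = z)
    (hab : (a * b) ^ 2 = z) (hyz : z * y = y * z) (haz : z * a = a * z) (hbz : z * b = b * z) :
    ∃ φ : SL5 →* G, φ m3 = y ∧ φ m3a = a ∧ φ m3b = b ∧ φ (-1) = z := by
  obtain ⟨φ, hφ⟩ := exists_hom_of_chk [(y, m3), (a, m3a), (b, m3b), (z, (-1 : SL5))]
    (R := [[0,0,0],[2,2,2],[4,4,4],[6,6],[2,0,2,0,7],[4,0,4,0,7],[2,4,2,4,7],[6,0,7,1],[6,2,7,3],
      [6,4,7,5]]) (by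
      simp only [List.mem_cons, List.not_mem_nil, or_false, forall_eq_or_imp, forall_eq, ev, mkv]
      norm_num [Prod.ext_iff]
      refine ⟨⟨?_, by decide⟩, ⟨?_, by decide⟩, ⟨?_, by decide⟩, ?_, ⟨?_, by decide⟩,
        ⟨?_, by decide⟩, ⟨?_, by decide⟩, ?_, ?_, ?_⟩
      · simpa [pow_succ, mul_assoc] using hy
      · simpa [pow_succ, mul_assoc] using ha
      · simpa [pow_succ, mul_assoc] using hb
      · simpa [pow_succ, mul_assoc] using hz
      · rw [← hay]; group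
      · rw [← hby]; group
      · rw [← hab]; group
      · rw [← mul_assoc, hyz]; group
      · rw [← mul_assoc, haz]; group
      · rw [← mul_assoc, hbz]; group) carT carC carD
    (by simp only [List.length_cons, List.length_nil]; decide +kernel)
    (fun S hS => eq_top_of_m3_m3a_m3b S (hS (y, m3) (by simp)) (hS (a, m3a) (by simp))
      (hS (b, m3b) (by simp)))
    (by rw [card_SL5]; rfl)
  exact ⟨φ, hφ (y, m3) (by simp), hφ (a, m3a) (by simp), hφ (b, m3b) (by simp),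
    hφ (z, -1) (by simp)⟩

end H90
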