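import Cfsg.Agent.H90.D8Lift
import Cfsg.Agent.H49.D8Kit
import Cfsg.Agent.H8.FE6
import Cfsg.Agent.H88.Moebius
import Cfsg.Agent.H61.PSLMin
import Cfsg.Agent.S0813
import Cfsg.Agent.S2119
import Cfsg.Agent.S0254

/-! The facts about `L₂(q)`, `q ≡ 7, 9 mod 16`, and `A₇` (jobs D8-K and D8-I0). -/

set_option autoImplicit false
set_option linter.unusedSectionVars false

namespace H90.D8

open Subgroup Cfsg H98 H1.Gold H85.FZ H49.D8 Matrix
open scoped MatrixGroups

universe u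

/-- numerical data bounding the automorphisms that centralize a Sylow `2`-subgroup -/
structure NX (X : Type*) [Group X] (k : ℕ) : Prop where
  simple : IsSimpleGroup X
  dh : ∃ v s z : X, DH v s z ∧ IsSyl 2 (cl [v, s]) ⊤
  aut : ¬ 2 ^ (k + 3) ∣ Nat.card (MulAut X) ∨ (¬ 2 ^ (k + 4) ∣ Nat.card (MulAut X) ∧
    ∃ (α : MulAut X) (g : X), α * α = MulAut.conj g ∧ orderOf g = 4)

theorem NX.of_iso {X Y : Type*} [Group X] [Group Y] {k : ℕ} (h : NX X k) (e : X ≃* Y) : NX Y k := by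
  have c : Nat.card (MulAut Y) = Nat.card (MulAut X) :=
    (Nat.card_congr (MulAut.congr e).toEquiv).symm
  obtain ⟨v, s, z, d, t⟩ := h.dh
  have := h.simple
  refine ⟨e.symm.isSimpleGroup, ⟨e v, e s, e z, ⟨by rw [← map_mul, d.vv, map_one],
    by rw [← map_mul, d.ss, map_one], by rw [← map_mul, d.zz, map_one],
    fun r => d.z1 (e.map_eq_one_iff.1 r), by rw [← map_mul, d.vs, map_mul, map_mul],
    by rw [← map_mul, d.vz, map_mul], by rw [← map_mul, d.sz, map_mul]⟩, ?_⟩, ?_⟩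
  · have := t.map_of_injective (f := e.toMonoidHom) e.injective
    rwa [map_cl, map_top_of_surjective _ e.surjective] at this
  · rw [c]
    refine h.aut.imp id fun ⟨a, α, g, b, o⟩ => ⟨a, MulAut.congr e α, e g, ?_, by rw [e.orderOf_eq, o]⟩
    rw [← map_mul, b]
    ext y
    simp [MulAut.congr]

section
variable {X : Type u} [Group X] [Finite X] {k : ℕ}

theorem two_pow_le {n j k : ℕ} (h : ¬ 2 ^ (k + 1) ∣ n) (hj : 2 ^ j ∣ n) : 2 ^ j ≤ 2 ^ k :=
  Nat.pow_le_pow_right (by norm_num) (not_lt.1 fun r => h ((pow_dvd_pow 2 r).trans hj))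

theorem card_le_of_not_dvd {G : Type*} [Group G] [Finite G] {P : Subgroup G} (hP : IsPGroup 2 P)
    (h : ¬ 2 ^ (k + 1) ∣ Nat.card G) : Nat.card P ≤ 2 ^ k := by
  obtain ⟨j, e⟩ := hP.exists_card_eq
  exact e ▸ two_pow_le h (e ▸ P.card_subgroup_dvd_card)

theorem NX.bound (h : NX X k) (D : Subgroup X) (hD : IsSyl 2 D ⊤) (P : Subgroup (MulAut X))
    (hP : IsPGroup 2 P) (fx : ∀ α ∈ P, ∀ d ∈ D, α d = d) : Nat.card P ≤ 2 ^ k := by
  obtain ⟨v0, s0, z0, d0, t0⟩ := h.dh
  obtain ⟨g0, -, rfl⟩ := t0.exists_cj_eq hD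
  have d := d0.cj g0
  rw [cj_cl] at hD fx
  simp only [List.map_cons, List.map_nil] at hD fx
  generalize g0 * v0 * g0⁻¹ = v at *
  generalize g0 * s0 * g0⁻¹ = s at *
  generalize g0 * z0 * g0⁻¹ = z at *
  have := h.simple
  have inj : Function.Injective (MulAut.conj : X →* MulAut X) := by
    rw [← MonoidHom.ker_eq_bot_iff]
    refine (Normal.eq_bot_or_eq_top inferInstance).resolve_right fun e => d.nc ?_
    have : MulAut.conj v = 1 := (e ▸ mem_top v : v ∈ (MulAut.conj : X →* MulAut X).ker)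
    exact mul_inv_eq_iff_eq_mul.1 (DFunLike.congr_fun this s)
  set I := (cl [v, s]).map (MulAut.conj : X →* MulAut X) with hI
  have cI : Nat.card I = 8 := by rw [card_map_of_injective inj, d.card]
  have com : ∀ α ∈ P, ∀ y ∈ cl [v, s], α * MulAut.conj y = MulAut.conj y * α := fun α a y b => by
    ext x
    simp [fx α a y b]
  have PI : P ≤ nor I := fun α a => centralizer_le_normalizer _ (by
    rintro _ ⟨y, b, rfl⟩
    exact (com α a y b).symm)
  have hS : IsPGroup 2 ↥(I ⊔ P) := (d.two.map _).to_sup_of_normal_left' hP PI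
  have cz : ∀ y : X, MulAut.conj y ∈ P ∨ (∃ c ∈ P, MulAut.conj y = c * c) → y = 1 ∨ y = z := by
    intro y r
    have yP : MulAut.conj y ∈ P := r.elim id fun ⟨c, a, e⟩ => e ▸ mul_mem a a
    have yc : y ∈ cen (cl [v, s]) := fun x hx =>
      (mul_inv_eq_iff_eq_mul.1 (fx _ yP x hx)).symm
    obtain ⟨n, hn⟩ := isPGroup_iff_forall.1 hP _ yP
    rw [← map_pow, ← map_one (MulAut.conj : X →* MulAut X)] at hn
    exact d.cenD (zpowers_le.1 (hD.le_of_le_normalizer' (isPGroup_zpowers (inj hn)) le_top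
      (zpowers_le.2 (centralizer_le_normalizer _ yc)))) yc
  have c1 : Nat.card ↥(I ⊓ P) ≤ 2 := by
    have : I ⊓ P ≤ zpowers (MulAut.conj z) := by
      rintro _ ⟨⟨y, -, rfl⟩, b⟩
      rcases cz y (Or.inl b) with rfl | rfl
      · rw [map_one]; exact one_mem _
      · exact mem_zpowers _
    refine (card_le_of_le this).trans ?_
    rw [Nat.card_zpowers]
    exact Nat.le_of_dvd two_pos (orderOf_dvd_of_pow_eq_one (by rw [pow_two, ← map_mul, d.zz, map_one]))
  have c2 : 4 * Nat.card P ≤ Nat.card ↥(I ⊔ P) := by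
    have := H46.card_sup_mul_card_inf PI
    rw [cI] at this
    nlinarith
  rcases h.aut with a | ⟨a, α, g, e, og⟩
  · have := card_le_of_not_dvd (k := k + 2) hS a
    rw [pow_add] at this
    omega
  by_contra r
  obtain ⟨j, ej⟩ := hP.exists_card_eq
  have r' : 2 ^ (k + 1) ≤ Nat.card P := by
    rw [ej] at r ⊢
    exact Nat.pow_le_pow_right (by norm_num)
      (Nat.succ_le_of_lt (lt_of_not_ge fun q => r (Nat.pow_le_pow_right (by norm_num) q)))
  obtain ⟨S, s1⟩ := exists_isSyl 2 (⊤ : Subgroup (MulAut X))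
  have s2 : IsSyl 2 (I ⊔ P) ⊤ := s1.of_card_ge hS le_top (by
    have := card_le_of_not_dvd (k := k + 3) s1.isPGroup a
    rw [pow_add] at this r'
    omega)
  obtain ⟨γ, -, b⟩ := s2.exists_cj_le (isPGroup_zpowers (x := α) (k := 3) (by
    rw [show 2 ^ 3 = 2 * 4 from rfl, pow_mul, pow_two, e, ← map_pow, ← og, pow_orderOf_eq_one,
      map_one])) le_top
  obtain ⟨_, ⟨y, hy, rfl⟩, c, hc, e'⟩ := (mem_sup_right_norm PI).1 (b (conj_mem_cj (mem_zpowers α)))
  have e2 : MulAut.conj ((y * y)⁻¹ * γ g) = c * c := by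
    have e3 : MulAut.conj (γ g) = γ * α * γ⁻¹ * (γ * α * γ⁻¹) := by
      rw [show γ * α * γ⁻¹ * (γ * α * γ⁻¹) = γ * (α * α) * γ⁻¹ by group, e]
      ext x
      simp
    rw [map_mul, e3, e', mul_assoc, ← mul_assoc c, com c hc y hy, map_inv, map_mul]
    group
  have o4 : orderOf (γ g) = 4 := by rw [γ.orderOf_eq, og]
  have : γ g * γ g = 1 := by
    rcases cz _ (Or.inr ⟨c, hc, e2⟩) with q | q <;> rw [inv_mul_eq_iff_eq_mul] at q <;> rw [q] <;>
      rcases d.sq hy with w | w <;> simp [w, d.zz]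
  have := orderOf_dvd_of_pow_eq_one ((pow_two _).trans this)
  rw [o4] at this
  omega

end

theorem nx_A7 : NX (alternatingGroup (Fin 7)) 2 := by
  have d : DH (G := alternatingGroup (Fin 7))
      ⟨Equiv.swap 0 2 * Equiv.swap 4 5, Equiv.Perm.mem_alternatingGroup.2 (by decide)⟩
      ⟨Equiv.swap 0 1 * Equiv.swap 2 3, Equiv.Perm.mem_alternatingGroup.2 (by decide)⟩
      ⟨Equiv.swap 0 2 * Equiv.swap 1 3, Equiv.Perm.mem_alternatingGroup.2 (by decide)⟩ :=
    ⟨by decide, by decide, by decide, by decide, by decide, by decide, by decide⟩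
  refine ⟨alternatingGroup.isSimpleGroup (by simp), ⟨_, _, _, d, ?_⟩, Or.inl ?_⟩
  · obtain ⟨S, s1⟩ := exists_isSyl 2 (⊤ : Subgroup (alternatingGroup (Fin 7)))
    refine s1.of_card_ge d.two le_top ?_
    rw [d.card]
    refine card_le_of_not_dvd (k := 3) s1.isPGroup ?_
    rw [nat_card_alternatingGroup]
    simp [Nat.factorial]
  · rw [← Nat.card_eq_of_bijective _ (Cfsg.Agent.S2119.result 7 (by norm_num) (by norm_num)),
      Nat.card_perm]
    simp [Nat.factorial]

section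
variable {F : Type} [Field F] [Fintype F]
  (hq : Fintype.card F % 16 = 7 ∨ Fintype.card F % 16 = 9)
include hq

theorem sq16 : ∃ m, Odd m ∧ Fintype.card F * (Fintype.card F ^ 2 - 1) = 16 * m := by
  generalize Fintype.card F = q at *
  rcases hq with h | h
  · obtain ⟨a, rfl⟩ : ∃ a, q = 16 * a + 7 := ⟨q / 16, by omega⟩
    refine ⟨(16 * a + 7) * (16 * a ^ 2 + 14 * a + 3), ?_, ?_⟩
    · exact Odd.mul ⟨8 * a + 3, by ring⟩ ⟨8 * a ^ 2 + 7 * a + 1, by ring⟩
    · rw [show (16 * a + 7) ^ 2 = 16 * (16 * a ^ 2 + 14 * a + 3) + 1 by ring, Nat.add_sub_cancel]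
      ring
  · obtain ⟨a, rfl⟩ : ∃ a, q = 16 * a + 9 := ⟨q / 16, by omega⟩
    refine ⟨(16 * a + 9) * (16 * a ^ 2 + 18 * a + 5), ?_, ?_⟩
    · exact Odd.mul ⟨8 * a + 4, by ring⟩ ⟨8 * a ^ 2 + 9 * a + 2, by ring⟩
    · rw [show (16 * a + 9) ^ 2 = 16 * (16 * a ^ 2 + 18 * a + 5) + 1 by ring, Nat.add_sub_cancel]
      ring

theorem exists_sqrt : ∃ (α : MulAut PSL(2, F)) (g : PSL(2, F)),
    α * α = MulAut.conj g ∧ orderOf g = 4 := by
  obtain ⟨θ, hθ⟩ : IsSquare (2 : F) := FiniteField.isSquare_two_iff.2 (by omega)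
  have h2 : (2 : F) ≠ 0 := Ring.two_ne_zero
    (mt FiniteField.even_card_of_char_two (by omega))
  have t0 : θ ≠ 0 := by rintro rfl; exact h2 (by simpa using hθ)
  have t2 : 2 + θ ≠ 0 := fun e => h2 (by
    have : θ = -2 := by linear_combination e
    rw [this] at hθ
    linear_combination -hθ)
  let h : SL(2, F) := ⟨!![0, -1; 1, θ], by simp [det_fin_two]⟩
  let x : GL (Fin 2) F := GeneralLinearGroup.mkOfDetNeZero !![1, -1; 1, 1 + θ] (by
    rw [det_fin_two_of]; intro e; exact t2 (by linear_combination e))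
  refine ⟨H57.pslDiag _ F x, QuotientGroup.mk h, ?_, ?_⟩
  · rw [← map_mul, ← H57.pslDiag_toGL, ← mul_inv_eq_one, ← map_inv, ← map_mul, ← MonoidHom.mem_ker,
      H57.ker_pslDiag]
    have e : ((x * x : GL (Fin 2) F) : Matrix (Fin 2) (Fin 2) F) =
        (2 + θ) • ((SpecialLinearGroup.toGL h : GL (Fin 2) F) : Matrix (Fin 2) (Fin 2) F) := by
      show !![1, -1; 1, 1 + θ] * !![1, -1; 1, 1 + θ] = (2 + θ) • !![0, -1; 1, θ]
      ext i j
      fin_cases i <;> fin_cases j <;> simp [Matrix.mul_apply, Fin.sum_univ_two] <;> ring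
    have e' : ((x * x * (SpecialLinearGroup.toGL h)⁻¹ : GL (Fin 2) F) : Matrix (Fin 2) (Fin 2) F) =
        (2 + θ) • (1 : Matrix (Fin 2) (Fin 2) F) := by
      rw [Units.val_mul, e, smul_mul_assoc, Units.mul_inv]
    refine Subgroup.mem_center_iff.2 fun y => Units.ext ?_
    rw [Units.val_mul y, Units.val_mul _ y, e']
    simp
  · have e2 : ((h * h : SL(2, F)) : Matrix (Fin 2) (Fin 2) F) = !![-1, -θ; θ, 1] := by
      show !![0, -1; 1, θ] * !![0, -1; 1, θ] = _
      ext i j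
      fin_cases i <;> fin_cases j <;> simp [Matrix.mul_apply, Fin.sum_univ_two]
      linear_combination -hθ
    refine orderOf_eq_prime_pow (p := 2) (n := 1) (fun e => ?_) ?_
    · rw [← QuotientGroup.mk_pow, QuotientGroup.eq_one_iff,
        Matrix.SpecialLinearGroup.mem_center_iff, pow_one, pow_two, e2] at e
      obtain ⟨r, -, e⟩ := e
      have := congrFun (congrFun e 1) 0
      simp at this
      exact t0 this.symm
    · rw [← QuotientGroup.mk_pow, QuotientGroup.eq_one_iff,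
        Matrix.SpecialLinearGroup.mem_center_iff, show h ^ 2 ^ (1 + 1) = h * h * (h * h) by
          rw [show 2 ^ (1 + 1) = 2 + 2 from rfl, pow_add, pow_two], Matrix.SpecialLinearGroup.coe_mul, e2]
      refine ⟨-1, by simp, ?_⟩
      ext i j
      fin_cases i <;> fin_cases j <;> simp [Matrix.mul_apply, Fin.sum_univ_two]
      · linear_combination -hθ
      · linear_combination -hθ

theorem nx_L2 {k : ℕ} {p f : ℕ} (hp : p.Prime) (e : Fintype.card F = p ^ f) (hk : ¬ 2 ^ k ∣ f) :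
    NX PSL(2, F) k := by
  have := Fact.mk hp
  have odd : Odd (Fintype.card F) := Nat.odd_iff.2 (by omega)
  obtain ⟨m, om, em⟩ := sq16 hq
  have c := H88.two_mul_card_psl_two odd
  refine ⟨H61.isSimpleGroup_psl (by rw [Nat.card_eq_fintype_card]; omega), ?_,
    Or.inr ⟨?_, exists_sqrt hq⟩⟩
  · let P : Sylow 2 PSL(2, F) := default
    obtain ⟨n, hn, ⟨φ⟩⟩ := H8.FE.syl_L2 odd P
    have c8 : Nat.card P = 8 := by
      have a := card_le_of_not_dvd (k := 3) P.isPGroup' (by obtain ⟨j, rfl⟩ := om; omega)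
      have b := P.card_mul_index
      have d : Odd (P : Subgroup PSL(2, F)).index :=
        Nat.odd_iff.2 (Nat.two_dvd_ne_zero.1 P.not_dvd_index)
      exact le_antisymm a (Nat.le_of_dvd Nat.card_pos
        ((Nat.Coprime.pow_left 3 (Nat.coprime_two_left.2 d)).dvd_of_dvd_mul_right
          (by rw [b]; exact ⟨m, by omega⟩)))
    have : n = 4 := by
      have := Nat.card_congr φ.toEquiv
      rw [c8, DihedralGroup.nat_card] at this
      omega
    subst this
    obtain ⟨v, s, z, d, e⟩ := exists_dh φ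
    exact ⟨v, s, z, d, e ▸ isSyl_sylow P⟩
  · have hf : 1 ≤ f := Nat.pos_of_ne_zero fun r => by rw [r, pow_zero] at e; omega
    rw [Cfsg.Agent.S0813.result p f hf e 2 le_rfl (fun _ => by omega), H88.card_pgl_two, em,
      if_pos rfl]
    intro r
    refine hk ((Nat.Coprime.pow_left k (Nat.coprime_two_left.2 om)).dvd_of_dvd_mul_right
      (Nat.dvd_of_mul_dvd_mul_left (show 0 < 16 by norm_num) ?_))
    convert r using 1 <;> ring

theorem nx_L2' : NX PSL(2, F) 2 := by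
  obtain ⟨p, _, f, hp, e⟩ := FiniteField.card' F
  refine nx_L2 hq hp e fun ⟨c, r⟩ => ?_
  rw [r, mul_comm, pow_mul] at e
  generalize p ^ c = a at e
  have : a ^ 2 ^ 2 % 16 = 0 ∨ a ^ 2 ^ 2 % 16 = 1 := by
    rw [Nat.pow_mod]
    have := Nat.mod_lt a (show 0 < 16 by norm_num)
    generalize a % 16 = b at *
    interval_cases b <;> simp
  omega

end

theorem jobK : H49.D8.JobK.{u} := by
  intro X _ _ h
  have n : NX X 2 := by
    rcases h with ⟨F, _, _, a, ⟨e⟩⟩ | ⟨⟨e⟩⟩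
    · exact (nx_L2' a).of_iso e.symm
    · exact nx_A7.of_iso e.symm
  exact ⟨n.simple, n.dh, n.bound⟩

theorem exists_quot {G : Type u} [Group G] [Finite G] {N A K : Subgroup G} (h : Sc N A K) :
    ∃ (M : Type u) (_ : Group M) (_ : Finite M) (π : N →* M), Function.Surjective π ∧
      (∀ x : N, π x = 1 ↔ (x : G) ∈ K) ∧ ((A.subgroupOf N).map π).Normal ∧
      cen ((A.subgroupOf N).map π) = ⊥ ∧ ∀ (X : Type) [Group X] (f : A →* X),
        Function.Surjective f → (∀ a : A, f a = 1 ↔ (a : G) ∈ K) →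
        Nonempty (((A.subgroupOf N).map π) ≃* X) := by
  haveI nA : (A.subgroupOf N).Normal := normal_subgroupOf_of_le_normalizer h.nA
  haveI nK : (K.subgroupOf N).Normal := normal_subgroupOf_of_le_normalizer h.nK
  let π := QuotientGroup.mk' (K.subgroupOf N)
  have sj : Function.Surjective π := QuotientGroup.mk'_surjective _
  have ker : ∀ x, π x = 1 ↔ x ∈ K.subgroupOf N := fun x => QuotientGroup.eq_one_iff x
  refine ⟨_, _, inferInstance, π, sj, ker, nA.map π sj, ?_, fun X _ f fs fk => ?_⟩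
  · rw [eq_bot_iff]
    intro x hx
    obtain ⟨x, rfl⟩ := sj x
    refine (ker x).2 (h.cen x x.2 fun a ha => ?_)
    have := hx _ (mem_map_of_mem π (show (⟨a, h.AN ha⟩ : N) ∈ A.subgroupOf N from ha))
    refine (ker (x * ⟨a, h.AN ha⟩ * x⁻¹ * (⟨a, h.AN ha⟩ : N)⁻¹)).1 ?_
    rw [map_mul, map_mul, map_mul, ← this]
    simp
  · let f1 : A.subgroupOf N →* X := f.comp (subgroupOfEquivOfLe h.AN).toMonoidHom
    have s1 : Function.Surjective f1 := fs.comp (subgroupOfEquivOfLe h.AN).surjective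
    let f2 := π.subgroupMap (A.subgroupOf N)
    have s2 : Function.Surjective f2 := π.subgroupMap_surjective _
    have e : f2.ker = f1.ker := by
      ext a
      rw [MonoidHom.mem_ker, MonoidHom.mem_ker, ← Subtype.val_inj]
      exact (ker _).trans (fk (subgroupOfEquivOfLe h.AN a)).symm
    exact ⟨(QuotientGroup.quotientKerEquivOfSurjective f2 s2).symm.trans
      ((QuotientGroup.quotientMulEquivOfEq e).trans
        (QuotientGroup.quotientKerEquivOfSurjective f1 s1))⟩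

theorem NX.bound' {M : Type u} [Group M] [Finite M] {X D Q : Subgroup M} [X.Normal] {k : ℕ}
    (h : NX X k) (hc : cen X = ⊥) (hD : IsSyl 2 D X) (hQ : IsPGroup 2 Q) (l : Q ≤ cen D) :
    Nat.card Q ≤ 2 ^ k := by
  have inj : Function.Injective (MulAut.conjNormal : M →* MulAut X) :=
    (injective_iff_map_eq_one _).2 fun g hg => hc.le (x := g) fun x hx => by
      have := congrArg Subtype.val (DFunLike.congr_fun hg ⟨x, hx⟩)
      exact (mul_inv_eq_iff_eq_mul.1 this).symm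
  rw [← card_map_of_injective inj]
  refine h.bound _ hD.subgroupOf_top _ (hQ.map _) ?_
  rintro _ ⟨g, hg, rfl⟩ d hd
  exact Subtype.ext (mul_inv_eq_iff_eq_mul.2 (l hg d hd).symm)

theorem seven_or_nine {p n : ℕ} (hp : p.Prime) (h : p ^ n % 16 = 7 ∨ p ^ n % 16 = 9)
    (d : p ^ n * ((p ^ n) ^ 2 - 1) ∣ 2 * (2 ^ 11 * 3 ^ 5 * 5 ^ 3 * 7 ^ 3 * 11 * 17 * 31)) :
    p ^ n = 7 ∨ p ^ n = 9 := by
  have d1 := (Dvd.intro _ rfl).trans d
  have n0 : n ≠ 0 := by rintro rfl; simp at h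
  have d2 := (dvd_pow_self p n0).trans d1
  have p2 : p ≠ 2 := by
    rintro rfl
    obtain ⟨m, rfl⟩ := Nat.exists_eq_succ_of_ne_zero n0
    rw [pow_succ] at h
    omega
  have k : ∀ {q e : ℕ}, q.Prime → p ∣ q ^ e → p = q := fun hq r =>
    (Nat.prime_dvd_prime_iff_eq hp hq).1 (hp.dvd_of_dvd_pow r)
  have k' : ∀ {q : ℕ}, q.Prime → p ∣ q → p = q := fun hq r => (Nat.prime_dvd_prime_iff_eq hp hq).1 r
  have : p = 3 ∨ p = 5 ∨ p = 7 ∨ p = 11 ∨ p = 17 ∨ p = 31 := by
    simp only [hp.dvd_mul] at d2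
    rcases d2 with r | ((((((r | r) | r) | r) | r) | r) | r)
    · exact absurd (k' Nat.prime_two r) p2
    · exact absurd (k Nat.prime_two r) p2
    · exact Or.inl (k Nat.prime_three r)
    · exact Or.inr (Or.inl (k Nat.prime_five r))
    · exact Or.inr (Or.inr (Or.inl (k (by norm_num) r)))
    · exact Or.inr (Or.inr (Or.inr (Or.inl (k' (by norm_num) r))))
    · exact Or.inr (Or.inr (Or.inr (Or.inr (Or.inl (k' (by norm_num) r)))))
    · exact Or.inr (Or.inr (Or.inr (Or.inr (Or.inr (k' (by norm_num) r)))))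
  have n5 : n ≤ 5 := by
    by_contra r
    have := (pow_dvd_pow p (show 6 ≤ n by omega)).trans d1
    rcases ‹_ ∨ _› with rfl | rfl | rfl | rfl | rfl | rfl <;> norm_num at this
  rcases this with rfl | rfl | rfl | rfl | rfl | rfl <;> interval_cases n <;> revert h d <;> decide

theorem jobI0 : JobI0.{u} := by
  intro G _ _ t A K h ⟨T, v, s, z, f, c, hc, n⟩ hG
  obtain ⟨X, _, φ, ty, fs, fk⟩ := h.ty
  have key : ∀ m : ℕ, (X ≃* alternatingGroup (Fin m)) → TyQ A K m := fun m e =>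
    ⟨e.toMonoidHom.comp φ, e.surjective.comp fs, fun a => e.map_eq_one_iff.trans (fk a)⟩
  rcases ty with ⟨F, _, _, hq, ⟨e⟩⟩ | ⟨⟨e⟩⟩
  swap
  · exact Or.inr (key 7 e)
  obtain ⟨p, _, m, hp, ec⟩ := FiniteField.card' F
  have d : Nat.card PSL(2, F) ∣ Nat.card G := by
    rw [← Nat.card_congr e.toEquiv]
    exact (card_dvd_of_surjective φ fs).trans A.card_subgroup_dvd_card
  have c2 := H88.two_mul_card_psl_two (F := F) (Nat.odd_iff.2 (by omega))
  rcases seven_or_nine hp (ec ▸ hq) (by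
    rw [← ec, ← c2]; exact Nat.mul_dvd_mul_left 2 (d.trans hG)) with r | r
  swap
  · exact Or.inl (key 6 (e.trans (Cfsg.Agent.S0254.result (ec.trans r)).some))
  exfalso
  obtain ⟨M, _, _, π, -, ker, nm, cb, iso⟩ := exists_quot h.toSc
  obtain ⟨ψ⟩ := iso X φ fs fk
  have nx : NX ((A.subgroupOf (cen1 t)).map π) 1 :=
    (nx_L2 hq (p := 7) (f := 1) (by norm_num) (by rw [ec, r]; norm_num) (by norm_num)).of_iso
      (ψ.trans e).symm
  have l : T ⊓ cen (cl [v, s]) ≤ cen1 t := inf_le_left.trans f.syl.le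
  have := nx.bound' cb (((f.sylA h.AN h.nA).subgroupOf h.AN).map π)
    ((isPGroup_subgroupOf (f.syl.isPGroup.to_le
      (inf_le_left : T ⊓ cen (cl [v, s]) ≤ T)) (cen1 t)).map π)
    (map_le_centralizer_map π fun y hy x hx => Subtype.ext (hy.2 x hx))
  have zc : z ∈ T ⊓ cen (cl [v, s]) := ⟨f.D_le f.toDH.z_mem, f.toDH.z_cen⟩
  have zK : z ∉ K := fun r => by
    have o := orderOf_dvd_natCard _ (mem_inf.2 ⟨f.D_leA f.toDH.z_mem, r⟩)
    rw [H14.orderOf_two_of_mul_self f.zz f.z1] at o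
    exact Nat.not_even_iff_odd.2 h.odd (even_iff_two_dvd.2 o)
  have ft := Fintype.ofFinite (((T ⊓ cen (cl [v, s])).subgroupOf (cen1 t)).map π)
  rw [Nat.card_eq_fintype_card] at this
  refine absurd this (not_le.2 (Fintype.two_lt_card_iff.2 ⟨1, ⟨_, mem_map_of_mem π
    (x := ⟨z, l zc⟩) zc⟩, ⟨_, mem_map_of_mem π (x := ⟨c, l hc⟩) hc⟩, ?_, ?_, ?_⟩))
  · exact fun r => zK ((ker _).1 (congrArg Subtype.val r).symm)
  · exact fun r => n (Or.inl ((ker _).1 (congrArg Subtype.val r).symm))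
  · refine fun r => n (Or.inr ((ker (⟨c, l hc⟩ * ⟨z, l zc⟩)).1 ?_))
    rw [map_mul, ← show π ⟨z, l zc⟩ = π ⟨c, l hc⟩ from congrArg Subtype.val r, ← map_mul,
      show (⟨z, l zc⟩ * ⟨z, l zc⟩ : cen1 t) = 1 from Subtype.ext f.zz, map_one]

end H90.D8
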