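/- RF tower (row S5262): fusion systems on a Sylow 2-subgroup of the large Ree groups. Proofs: blueprints/RF.md. -/
import Cfsg.Agent.H63.OcSpec
import Cfsg.Agent.H92.Normal

set_option autoImplicit false
set_option linter.unusedSectionVars false

open Subgroup H63.Oc

universe u v

namespace H90.RF

section Gen
variable {P : Type*} [Group P]

/-- the commutator `m⁻¹ * s m s⁻¹` -/
def cm (s m : P) : P := m⁻¹ * (s * m * s⁻¹)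

/-- `β` restricts to an automorphism of `X` -/
structure Au (X : Subgroup P) (β : P → P) : Prop where
  mem : ∀ c ∈ X, β c ∈ X
  mul : ∀ c ∈ X, ∀ d ∈ X, β (c * d) = β c * β d
  inj : ∀ c ∈ X, β c = 1 → c = 1
  sur : ∀ c ∈ X, ∃ d ∈ X, β d = c

/-- `β` maps `X` into itself -/
def Pr (β : P → P) (X : Subgroup P) : Prop := ∀ c ∈ X, β c ∈ X

/-- `β` and `γ` agree on the factors of the chain `z 0 ≤ … ≤ z n` -/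
def Cg (z : ℕ → Subgroup P) (n : ℕ) (β γ : P → P) : Prop :=
  ∀ i < n, ∀ c ∈ z (i + 1), (γ c)⁻¹ * β c ∈ z i

/-- an automorphism of `E` preserving `z 0, …, z i` -/
def Ok (z : ℕ → Subgroup P) (i : ℕ) (E : Subgroup P) (β : P → P) : Prop :=
  Au E β ∧ ∀ j ≤ i, Pr β (z j)

/-- The faithful case at level `i`: `M` is the normal closure of `z (i + 1)` under a group of automorphisms
of `E`, and `N(E) / E` acts faithfully on `M / z i`. -/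
structure Bc (z : ℕ → Subgroup P) (i : ℕ) (E M : Subgroup P) : Prop where
  ne : E ≠ ⊤
  le : z (i + 1) ≤ M
  ME : M ≤ E
  cen : ∀ s, s ∈ E ↔ ∀ m ∈ M, cm s m ∈ z i
  sq : ∀ m ∈ M, m * m ∈ z i
  gen : M ≤ closure {m | m ∈ M ∧ ∃ β, Ok z i E β ∧ ∃ u ∈ z (i + 1), m = β u}
  red : ∀ X : Subgroup P, z i ≤ X → X ≤ E → (∀ β, Ok z i E β → Pr β X) →
    ∀ s ∈ normalizer (E : Set P), (∀ m ∈ M, cm s m ∈ X) → (∀ m ∈ M, m ∈ X → cm s m ∈ z i) → s ∈ E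
  b1 : ∀ (a b : ℕ) (f : Fin a → P) (g : Fin b → P), (∀ x, f x ∈ normalizer (E : Set P)) →
    (∀ x y, (f x)⁻¹ * f y ∈ E → x = y) → (∀ m ∈ M, ∃ k, (g k)⁻¹ * m ∈ z i) → a ^ 2 ≤ b
  b2 : ∀ B : Subgroup P, B ≤ normalizer (E : Set P) → (∀ x ∈ B, x * x ∈ E) →
    ∀ s ∈ normalizer (E : Set P), s ∉ E → ∀ (a b : ℕ) (f : Fin a → P) (g : Fin b → P), (∀ x, f x ∈ B) →
    (∀ x y, (f x)⁻¹ * f y ∈ E → x = y) → (∀ m ∈ M, ∃ k, (g k)⁻¹ * cm s m ∈ z i) → a ≤ b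

/-- a group of automorphisms of `X`, as permutations that fix the elements outside `X` -/
structure Lg (X : Subgroup P) (Y : Subgroup (Equiv.Perm P)) : Prop where
  au : ∀ y ∈ Y, Au X y
  out : ∀ y ∈ Y, ∀ c, c ∉ X → y c = c

/-- `θ⁻¹ Y θ` -/
def cjY (θ : MulAut P) (Y : Subgroup (Equiv.Perm P)) : Subgroup (Equiv.Perm P) :=
  Y.comap (MulAut.conj θ.toEquiv).toMonoidHom

/-- the automizer as a group of permutations -/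
noncomputable def aY {S : Subgroup P} (F : Cfsg.FusionSystem S) (X : Subgroup P) :
    Subgroup (Equiv.Perm P) := (F.autGroup X).map H92.af

end Gen

section Co
variable {K : Type*} [Field K] [CharP K 2] (T : TF K)

/-- `Z₅(S) = V U₇` -/
def sZ5 : Subgroup (Co T) where
  carrier := {c | c.a1 = 0 ∧ c.b2 = 0 ∧ c.b4 = 0 ∧ c.b6 = 0 ∧ c.b8 = 0 ∧ c.a8 = 0}
  one_mem' := by simp
  mul_mem' := fun {c d} hc hd => by simp_all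
  inv_mem' := fun {c} hc => by simp_all
theorem mem_sZ5 {c : Co T} : c ∈ sZ5 T ↔
    c.a1 = 0 ∧ c.b2 = 0 ∧ c.b4 = 0 ∧ c.b6 = 0 ∧ c.b8 = 0 ∧ c.a8 = 0 := Iff.rfl

/-- `R U₇ = C(V₀)` -/
def sF0 : Subgroup (Co T) where
  carrier := {c | c.a1 = 0 ∧ c.b2 = 0 ∧ c.b6 = 0 ∧ c.b8 = 0 ∧ c.a8 = 0}
  one_mem' := by simp
  mul_mem' := fun {c d} hc hd => by simp_all
  inv_mem' := fun {c} hc => by simp_all
theorem mem_sF0 {c : Co T} : c ∈ sF0 T ↔ c.a1 = 0 ∧ c.b2 = 0 ∧ c.b6 = 0 ∧ c.b8 = 0 ∧ c.a8 = 0 := Iff.rfl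

/-- `U₁ R` -/
def sF1 : Subgroup (Co T) where
  carrier := {c | c.b2 = 0 ∧ c.b6 = 0 ∧ c.a7 = 0 ∧ c.b8 = 0 ∧ c.a8 = 0}
  one_mem' := by simp
  mul_mem' := fun {c d} hc hd => by simp_all
  inv_mem' := fun {c} hc => by simp_all
theorem mem_sF1 {c : Co T} : c ∈ sF1 T ↔ c.b2 = 0 ∧ c.b6 = 0 ∧ c.a7 = 0 ∧ c.b8 = 0 ∧ c.a8 = 0 := Iff.rfl

/-- `Z₆(S)` -/
def sZ6 : Subgroup (Co T) where
  carrier := {c | c.a1 = 0 ∧ c.b2 = 0 ∧ c.b8 = 0 ∧ c.a8 = 0}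
  one_mem' := by simp
  mul_mem' := fun {c d} hc hd => by simp_all
  inv_mem' := fun {c} hc => by simp_all
theorem mem_sZ6 {c : Co T} : c ∈ sZ6 T ↔ c.a1 = 0 ∧ c.b2 = 0 ∧ c.b8 = 0 ∧ c.a8 = 0 := Iff.rfl

/-- `D = C(A)` -/
def sD : Subgroup (Co T) where
  carrier := {c | c.a1 = 0 ∧ c.b2 = 0 ∧ c.b8 = 0}
  one_mem' := by simp
  mul_mem' := fun {c d} hc hd => by simp_all
  inv_mem' := fun {c} hc => by simp_all
theorem mem_sD {c : Co T} : c ∈ sD T ↔ c.a1 = 0 ∧ c.b2 = 0 ∧ c.b8 = 0 := Iff.rfl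

/-- `Z₇(S)` -/
def sZ7 : Subgroup (Co T) where
  carrier := {c | c.a1 = 0 ∧ c.b8 = 0}
  one_mem' := by simp
  mul_mem' := fun {c d} hc hd => by simp_all
  inv_mem' := fun {c} hc => by simp_all
theorem mem_sZ7 {c : Co T} : c ∈ sZ7 T ↔ c.a1 = 0 ∧ c.b8 = 0 := Iff.rfl

/-- `Q V₈` -/
def sQ8 : Subgroup (Co T) where
  carrier := {c | c.b8 = 0}
  one_mem' := by simp
  mul_mem' := fun {c d} hc hd => by simp_all
  inv_mem' := fun {c} hc => by simp_all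
theorem mem_sQ8 {c : Co T} : c ∈ sQ8 T ↔ c.b8 = 0 := Iff.rfl

/-- the first terms of the upper central series -/
def zA : ℕ → Subgroup (Co T)
  | 0 => ⊥ | 1 => sZ T | 2 => sW T | 3 => sA T | 4 => sV0 T | _ => sZ5 T

/-- a characteristic series of `S` -/
def z0 : ℕ → Subgroup (Co T)
  | 0 => ⊥ | 1 => sZ T | 2 => sW T | 3 => sA T | 4 => sV0 T | 5 => sV T | 6 => sZ5 T | 7 => sF0 T
  | 8 => sZ6 T | 9 => sQ T ⊓ sQ1 T | 10 => sZ7 T | 11 => sQ1 T | _ => ⊤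

/-- a characteristic series of `Q` -/
def z8 : ℕ → Subgroup (Co T)
  | 0 => ⊥ | 1 => sZ T | 2 => sV T | 3 => sR T | _ => sQ T

/-- a characteristic series of `Q₁` -/
def z1 : ℕ → Subgroup (Co T)
  | 0 => ⊥ | 1 => sW T | 2 => sA T | 3 => sA7 T | 4 => sD T | _ => sQ1 T

/-- the field automorphism -/
def fa (φ : RingAut K) (c : Co T) : Co T :=
  ⟨φ c.a1, φ c.b2, φ c.a2, φ c.a3, φ c.b4, φ c.a4, φ c.a5, φ c.b6, φ c.a6, φ c.a7, φ c.b8, φ c.a8⟩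

/-- the standard automorphisms -/
def sd (p : Kˣ × Kˣ) (φ : RingAut K) (c : Co T) : Co T := dg T p.1 p.2 (fa T φ c)

/-- the automizers of `S`, `Q`, `Q₁` -/
structure Tri (Y0 Y8 Y1 : Subgroup (Equiv.Perm (Co T))) : Prop where
  l0 : Lg ⊤ Y0
  l8 : Lg (sQ T) Y8
  l1 : Lg (sQ1 T) Y1
  inn : ∀ s, ∃ y ∈ Y0, ∀ c, y c = s * c * s⁻¹
  rad0 : ∀ y ∈ Y0, Cg (z0 T) 12 y id → ∃ s, ∀ c, y c = s * c * s⁻¹
  res8 : ∀ y ∈ Y0, ∃ α ∈ Y8, ∀ c ∈ sQ T, α c = y c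
  ext8 : ∀ α ∈ Y8, Pr α (sF0 T) → ∃ y ∈ Y0, ∀ c ∈ sQ T, α c = y c
  rad8 : ∀ α ∈ Y8, Cg (z8 T) 4 α id → ∃ s ∈ sQ T, ∀ c ∈ sQ T, α c = s * c * s⁻¹
  res1 : ∀ y ∈ Y0, ∃ α ∈ Y1, ∀ c ∈ sQ1 T, α c = y c
  ext1 : ∀ α ∈ Y1, Pr α (sZ T) → ∃ y ∈ Y0, ∀ c ∈ sQ1 T, α c = y c
  rad1 : ∀ α ∈ Y1, (∀ c ∈ sW T, α c = c) → ∃ s ∈ sQ1 T, ∀ c ∈ sQ1 T, α c = s * c * s⁻¹

/-- the automorphisms of `S` -/
def AS : Prop := ∀ θ : Co T → Co T, Au ⊤ θ →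
  (∀ i, Pr θ (z0 T i)) ∧ (∀ X ∈ [sQ T, sR T, sA7 T, sD T, sQ8 T], Pr θ X) ∧
  ∃ p φ, Cg (z0 T) 12 θ (sd T p φ)

/-- the automorphisms of `Q`: characteristic subgroups and the ovoid -/
def A8 : Prop := ∀ β : Co T → Co T, Au (sQ T) β → (∀ i, Pr β (z8 T i)) ∧
  (Pr β (sF0 T) ∨ ∃ u ∈ sU8 T, ∀ c ∈ sF0 T, u⁻¹ * β c * u ∈ sF1 T) ∧
  (Pr β (sF0 T) → ∃ u ∈ sU8 T, ∀ c ∈ sF1 T, u⁻¹ * β c * u ∈ sF1 T)

/-- the automorphisms of `Q` fixing two points of the ovoid -/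
def B8 : Prop := ∀ β : Co T → Co T, Au (sQ T) β → Pr β (sF0 T) → Pr β (sF1 T) →
  ∃ p φ, Cg (z8 T) 4 β (sd T p φ)

/-- the automorphisms of `Q₁` -/
def A1 : Prop := ∀ β : Co T → Co T, Au (sQ1 T) β → (∀ i, Pr β (z1 T i)) ∧
  ((∀ c ∈ sW T, β c = c) → Cg (z1 T) 5 β id) ∧
  ∃ (φ : RingAut K) (a b c d : K), ∀ s r, β (ww T s r) = ww T (a * φ s + b * φ r) (c * φ s + d * φ r)

/-- what `Y₈` contains modulo the stabilizer of the chain -/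
def G8 (Y8 : Subgroup (Equiv.Perm (Co T))) : Prop :=
  (∃ α ∈ Y8, Cg (z8 T) 4 α Co.nu8) ∧ ∀ p ∈ T0 T, ∃ α ∈ Y8, Cg (z8 T) 4 α (dg T p.1 p.2)

/-- what `Y₁` induces on `W` -/
def G1 (Y1 : Subgroup (Equiv.Perm (Co T))) : Prop :=
  (∃ α ∈ Y1, ∀ s r, α (ww T s r) = ww T r s) ∧ ∀ a : Kˣ, ∃ α ∈ Y1, ∀ r, α (x4 T r) = x4 T (a * r)

/-- `Y₀` is standard -/
def St0 (Φ : Subgroup (RingAut K)) (Y0 : Subgroup (Equiv.Perm (Co T))) : Prop :=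
  ∀ y : Equiv.Perm (Co T), y ∈ Y0 ↔ ∃ s p, ∃ φ ∈ Φ, ∀ c, y c = s * sd T p φ c * s⁻¹

/-- `Y₈` contains `n₈` -/
def N8 (Y8 : Subgroup (Equiv.Perm (Co T))) : Prop := ∃ n ∈ Y8, ∀ c ∈ sQ T, n c = c.nu8
/-- `Y₁` contains `n₁` -/
def N1 (Y1 : Subgroup (Equiv.Perm (Co T))) : Prop := ∃ n ∈ Y1, ∀ c ∈ sQ1 T, n c = c.nu1

/-- the realizing group -/
structure Rl (Φ : Subgroup (RingAut K)) {G : Type*} [Group G] (ι : Co T →* G) : Prop where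
  inj : Function.Injective ι
  syl : ∃ S : Sylow 2 G, (S : Subgroup G) = ι.range
  nor : ∀ g ∈ normalizer (ι.range : Set G), ∃ s p, ∃ φ ∈ Φ, ∀ c, g * ι c * g⁻¹ = ι (s * sd T p φ c * s⁻¹)
  std : ∀ p, ∀ φ ∈ Φ, ∃ g, ∀ c, g * ι c * g⁻¹ = ι (sd T p φ c)
  n8 : ∃ g, ∀ c ∈ sQ T, g * ι c * g⁻¹ = ι c.nu8
  n1 : ∃ g, ∀ c ∈ sQ1 T, g * ι c * g⁻¹ = ι c.nu1

end Co

/-! ### General slots -/

/-- module bounds for groups with a strongly embedded subgroup -/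
def JobSE : Prop := ∀ (X V : Type v) [Group X] [Finite X] [CommGroup V] [Finite V] (H : Subgroup X)
  (S : Sylow 2 X) (ρ : X →* MulAut V), Cfsg.IsStronglyPEmbedded 2 H → (∀ v : V, v * v = 1) →
  (∀ s ∈ (S : Subgroup X), ρ s = 1 → s = 1) →
  (∀ N : Subgroup X, N.Normal → (∀ x ∈ N, ∃ k : ℕ, ρ x ^ 2 ^ k = 1) → ∀ x ∈ N, ρ x = 1) →
  Nat.card (S : Subgroup X) ^ 2 ≤ Nat.card V ∧
  ∀ B : Subgroup X, B ≤ S → (∀ b ∈ B, b * b = 1) → ∀ s ∈ (S : Subgroup X), s ≠ 1 →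
    Nat.card B ≤ (Set.range fun v : V => v⁻¹ * ρ s v).ncard

/-- the dichotomy along a central series -/
def JobD : Prop := JobSE.{v} → ∀ (P : Type v) [Group P] [Finite P], IsPGroup 2 P →
  ∀ F : Cfsg.FusionSystem (⊤ : Subgroup P), F.IsSaturated 2 → ∀ E, F.IsEssential 2 E →
  ∀ (z : ℕ → Subgroup P) (n : ℕ), z 0 = ⊥ → (∀ i, z i ≤ z (i + 1)) →
  (∀ i < n, ∀ c ∈ z (i + 1), c * c ∈ z i ∧ ∀ s, cm s c ∈ z i) →
  (∀ s, (∀ c ∈ z n, s * c = c * s) → s ∈ z n) → ∃ i < n, ∃ M, Bc z i E M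

/-- a statement about all fields -/
def All (p : ∀ {K : Type v} [Field K] [CharP K 2], TF K → Prop) : Prop :=
  ∀ (K : Type v) [Field K] [Finite K] [CharP K 2] (T : TF K), p T

/-! ### The essential subgroups -/

def JobL0a : Prop := All.{v} fun T => ∀ E M, Bc (zA T) 0 E M → M ≤ sV T
def JobL0b : Prop := All.{v} fun T => ∀ E M, Bc (zA T) 0 E M → M ≤ sV T → E = sQ1 T
def JobL1a : Prop := All.{v} fun T => ∀ E M, Bc (zA T) 1 E M → M ≤ sV T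
def JobL1b : Prop := All.{v} fun T => ∀ E M, Bc (zA T) 1 E M → M ≤ sV T → E = sQ T
def JobL2 : Prop := All.{v} fun T => ∀ E M, Bc (zA T) 2 E M → E = sQ T
def JobL3 : Prop := All.{v} fun T => (∀ E M, Bc (zA T) 3 E M → E = sQ1 T) ∧ ∀ E M, ¬ Bc (zA T) 4 E M

/-! ### Automorphisms -/

def JobA8 : Prop := All.{v} fun T => A8 T
def JobB8 : Prop := All.{v} fun T => A8 T → B8 T
def JobA1 : Prop := All.{v} fun T => A1 T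
def JobAS : Prop := All.{v} fun T => A8 T → B8 T → AS T

def JobTri : Prop := All.{v} fun T => AS T → A8 T → B8 T → A1 T →
  ∀ F : Cfsg.FusionSystem (⊤ : Subgroup (Co T)), F.IsSaturated 2 →
    Tri T (aY F ⊤) (aY F (sQ T)) (aY F (sQ1 T))

def JobCj : Prop := All.{v} fun T => AS T → ∀ (θ : MulAut (Co T)) Y0 Y8 Y1, Tri T Y0 Y8 Y1 →
  Tri T (cjY θ Y0) (cjY θ Y8) (cjY θ Y1)

def JobG8 : Prop := All.{v} fun T => A8 T → B8 T → ∀ (G : Type v) [Group G] (_ : CS T G) Y0 Y8 Y1,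
  Tri T Y0 Y8 Y1 → (∃ α ∈ Y8, ¬ Pr α (sF0 T)) → G8 T Y8

def JobG1 : Prop := All.{v} fun T => A1 T → ∀ Y0 Y8 Y1, Tri T Y0 Y8 Y1 →
  (∃ α ∈ Y1, ¬ Pr α (sZ T)) → G1 T Y1

def JobHall : Prop := All.{v} fun T => AS T → ∀ Y0 Y8 Y1, Tri T Y0 Y8 Y1 → G8 T Y8 → G1 T Y1 →
  ∃ θ Φ, St0 T Φ (cjY θ Y0)

def JobN8 : Prop := All.{v} fun {K} _ _ T => (∃ a : K, a ≠ 0 ∧ a ≠ 1) → A8 T → ∀ Φ Y0 Y8 Y1,
  Tri T Y0 Y8 Y1 → G8 T Y8 → St0 T Φ Y0 → N8 T Y8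

def JobN1 : Prop := All.{v} fun {K} _ _ T => (∃ a : K, a ≠ 0 ∧ a ≠ 1) → A1 T → ∀ Φ Y0 Y8 Y1,
  Tri T Y0 Y8 Y1 → G1 T Y1 → St0 T Φ Y0 → N1 T Y1

def JobQa : Prop := All.{v} fun {K} _ _ T => (∀ a : K, a = 0 ∨ a = 1) → A8 T → ∀ Y0 Y8 Y1,
  Tri T Y0 Y8 Y1 → G8 T Y8 → ∃ θ, N8 T (cjY θ Y8)

def JobQb : Prop := All.{v} fun {K} _ _ T => (∀ a : K, a = 0 ∨ a = 1) → A1 T → ∀ Y0 Y8 Y1,
  Tri T Y0 Y8 Y1 → G1 T Y1 → N8 T Y8 → ∃ θ, N8 T (cjY θ Y8) ∧ N1 T (cjY θ Y1)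

def JobReal : Prop := All.{v} fun {K} _ _ T => ∀ (G : Type v) [Group G] [Finite G] (A : AD T G),
  A.Braid → A.G0 = ⊤ → (∀ P : Subgroup G, IsPGroup 2 P → ∃ g, ∀ x ∈ P, g * x * g⁻¹ ∈ A.S) →
  ∀ Φ : Subgroup (RingAut K), ∃ (G' : Type v) (_ : Group G') (_ : Finite G') (ι : Co T →* G'), Rl T Φ ι

end H90.RF
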