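/- RF tower (row S5262): basic lemmas. -/
import Cfsg.Agent.H90.RFSpec
import Cfsg.Agent.H55.OcA
import Cfsg.Agent.H14.OcCoL
import Cfsg.Agent.H19.ParTYA

set_option autoImplicit false
set_option linter.unusedSectionVars false
set_option linter.unusedSimpArgs false

open Subgroup H63.Oc

universe u v

namespace H90.RF

section Gen
variable {P : Type*} [Group P] {X Y E M : Subgroup P} {β γ δ : P → P} {z : ℕ → Subgroup P} {i n : ℕ}

theorem cm_eq_one {s m : P} : cm s m = 1 ↔ s * m = m * s := by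
  rw [cm, inv_mul_eq_one, eq_mul_inv_iff_mul_eq, eq_comm]

theorem cm_conj (g s m : P) : cm (g * s * g⁻¹) (g * m * g⁻¹) = g * cm s m * g⁻¹ := by
  simp only [cm]; group

theorem conj_eq_cm (s m : P) : s * m * s⁻¹ = m * cm s m := by simp [cm]

namespace Au

theorem id' (X : Subgroup P) : Au X id :=
  ⟨fun _ h => h, fun _ _ _ _ => rfl, fun _ _ h => h, fun c h => ⟨c, h, rfl⟩⟩

theorem one (h : Au X β) : β 1 = 1 := by
  have := h.mul 1 X.one_mem 1 X.one_mem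
  rw [mul_one] at this
  exact left_eq_mul.1 this

theorem inv (h : Au X β) {c : P} (hc : c ∈ X) : β c⁻¹ = (β c)⁻¹ :=
  eq_inv_of_mul_eq_one_left (by rw [← h.mul _ (X.inv_mem hc) _ hc, inv_mul_cancel, h.one])

theorem pow (h : Au X β) {c : P} (hc : c ∈ X) (k : ℕ) : β (c ^ k) = β c ^ k := by
  induction k with
  | zero => simp [h.one]
  | succ k ih => rw [pow_succ, h.mul _ (X.pow_mem hc k) _ hc, ih, pow_succ]

theorem eq (h : Au X β) {c d : P} (hc : c ∈ X) (hd : d ∈ X) (e : β c = β d) : c = d :=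
  inv_mul_eq_one.1 (h.inj _ (X.mul_mem (X.inv_mem hc) hd)
    (by rw [h.mul _ (X.inv_mem hc) _ hd, h.inv hc, e, inv_mul_cancel]))

theorem conj (h : Au X β) {c d : P} (hc : c ∈ X) (hd : d ∈ X) :
    β (c * d * c⁻¹) = β c * β d * (β c)⁻¹ := by
  rw [h.mul _ (X.mul_mem hc hd) _ (X.inv_mem hc), h.mul _ hc _ hd, h.inv hc]

theorem cm (h : Au X β) {c d : P} (hc : c ∈ X) (hd : d ∈ X) : β (cm c d) = RF.cm (β c) (β d) := by
  rw [RF.cm, RF.cm, h.mul _ (X.inv_mem hd) _ (X.mul_mem (X.mul_mem hc hd) (X.inv_mem hc)), h.inv hd,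
    h.conj hc hd]

theorem comp (h : Au X β) (k : Au X γ) : Au X (fun c => β (γ c)) :=
  ⟨fun c hc => h.mem _ (k.mem c hc), fun c hc d hd => by
    rw [k.mul c hc d hd, h.mul _ (k.mem c hc) _ (k.mem d hd)],
    fun c hc e => k.inj c hc (h.inj _ (k.mem c hc) e), fun c hc => by
    obtain ⟨d, hd, rfl⟩ := h.sur c hc
    obtain ⟨e, he, rfl⟩ := k.sur d hd
    exact ⟨e, he, rfl⟩⟩

theorem congr (h : Au X β) (e : ∀ c ∈ X, β c = γ c) : Au X γ :=
  ⟨fun c hc => e c hc ▸ h.mem c hc, fun c hc d hd => by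
    rw [← e _ (X.mul_mem hc hd), ← e c hc, ← e d hd, h.mul c hc d hd],
    fun c hc k => h.inj c hc ((e c hc).trans k), fun c hc => by
    obtain ⟨d, hd, rfl⟩ := h.sur c hc
    exact ⟨d, hd, (e d hd).symm⟩⟩

/-- the inverse automorphism -/
theorem exists_inv (h : Au X β) : ∃ γ, Au X γ ∧ (∀ c ∈ X, β (γ c) = c) ∧ ∀ c ∈ X, γ (β c) = c := by
  classical
  choose! g hg hg' using h.sur
  have l : ∀ c ∈ X, g (β c) = c := fun c hc => h.eq (hg _ (h.mem c hc)) hc (hg' _ (h.mem c hc))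
  refine ⟨g, ⟨hg, fun c hc d hd => h.eq (hg _ (X.mul_mem hc hd)) (X.mul_mem (hg c hc) (hg d hd)) ?_,
    fun c hc e => ?_, fun c hc => ⟨β c, h.mem c hc, l c hc⟩⟩, hg', l⟩
  · rw [h.mul _ (hg c hc) _ (hg d hd), hg' c hc, hg' d hd, hg' _ (X.mul_mem hc hd)]
  · rw [← hg' c hc, e, h.one]

/-- an invariant finite subgroup is mapped onto itself -/
theorem sur_of [Finite P] (h : Au X β) (hY : Y ≤ X) (p : Pr β Y) : ∀ c ∈ Y, ∃ d ∈ Y, β d = c := by
  intro c hc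
  let f : Y → Y := fun y => ⟨β y, p y y.2⟩
  have : Function.Injective f := fun a b e =>
    Subtype.ext (h.eq (hY a.2) (hY b.2) (congrArg Subtype.val e))
  obtain ⟨d, hd⟩ := Finite.surjective_of_injective this ⟨c, hc⟩
  exact ⟨d, d.2, congrArg Subtype.val hd⟩

theorem mem_of [Finite P] (h : Au X β) (hY : Y ≤ X) (p : Pr β Y) {c : P} (hc : c ∈ X) (k : β c ∈ Y) :
    c ∈ Y := by
  obtain ⟨d, hd, e⟩ := h.sur_of hY p _ k
  exact h.eq (hY hd) hc e ▸ hd

theorem restrict [Finite P] (h : Au X β) (hY : Y ≤ X) (p : Pr β Y) : Au Y β :=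
  ⟨p, fun c hc d hd => h.mul c (hY hc) d (hY hd), fun c hc => h.inj c (hY hc), h.sur_of hY p⟩

theorem of_inj [Finite P] (mem : ∀ c ∈ X, β c ∈ X) (mul : ∀ c ∈ X, ∀ d ∈ X, β (c * d) = β c * β d)
    (inj : ∀ c ∈ X, ∀ d ∈ X, β c = β d → c = d) : Au X β := by
  have o : β 1 = 1 := by
    have := mul 1 X.one_mem 1 X.one_mem
    rw [mul_one] at this
    exact left_eq_mul.1 this
  refine ⟨mem, mul, fun c hc e => inj c hc 1 X.one_mem (e.trans o.symm), fun c hc => ?_⟩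
  let f : X → X := fun y => ⟨β y, mem y y.2⟩
  have : Function.Injective f := fun a b e => Subtype.ext (inj _ a.2 _ b.2 (congrArg Subtype.val e))
  obtain ⟨d, hd⟩ := Finite.surjective_of_injective this ⟨c, hc⟩
  exact ⟨d, d.2, congrArg Subtype.val hd⟩

/-- the centralizer of an invariant subgroup modulo an invariant subgroup is invariant -/
theorem cm_mem [Finite P] (h : Au X β) {U : Subgroup P} (hY : Y ≤ X) (p : Pr β Y) (pU : Pr β U) {c : P}
    (hc : c ∈ X) (k : ∀ y ∈ Y, RF.cm c y ∈ U) : ∀ y ∈ Y, RF.cm (β c) y ∈ U := fun y hy => by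
  obtain ⟨d, hd, rfl⟩ := h.sur_of hY p y hy
  rw [← h.cm hc (hY hd)]
  exact pU _ (k d hd)

theorem cm_mem' [Finite P] (h : Au X β) {U : Subgroup P} (hY : Y ≤ X) (p : Pr β Y) (pU : Pr β U) {c : P}
    (hc : c ∈ X) (k : ∀ y ∈ Y, RF.cm y c ∈ U) : ∀ y ∈ Y, RF.cm y (β c) ∈ U := fun y hy => by
  obtain ⟨d, hd, rfl⟩ := h.sur_of hY p y hy
  rw [← h.cm (hY hd) hc]
  exact pU _ (k d hd)

/-- the automorphism of the subgroup -/
noncomputable def toAut (h : Au X β) : MulAut X :=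
  MulEquiv.ofBijective (MonoidHom.mk' (fun c : X => (⟨β c, h.mem c c.2⟩ : X))
    fun c d => Subtype.ext (h.mul c c.2 d d.2))
    ⟨fun c d e => Subtype.ext (h.eq c.2 d.2 (congrArg Subtype.val e)), fun c => by
      obtain ⟨d, hd, e⟩ := h.sur c c.2
      exact ⟨⟨d, hd⟩, Subtype.ext e⟩⟩

theorem af_toAut (h : Au X β) {c : P} (hc : c ∈ X) : H92.af h.toAut c = β c := H92.af_of_mem _ hc

/-- the automorphism of the whole group -/
noncomputable def toTop (h : Au ⊤ β) : MulAut P :=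
  MulEquiv.ofBijective (MonoidHom.mk' β fun c d => h.mul c trivial d trivial)
    ⟨fun _ _ e => h.eq trivial trivial e, fun c => (h.sur c trivial).imp fun _ k => k.2⟩

theorem toTop_apply (h : Au ⊤ β) (c : P) : h.toTop c = β c := rfl

end Au

theorem au_af (α : MulAut X) : Au X (H92.af α) :=
  ⟨fun _ => H92.af_mem α, fun _ hc _ hd => (H92.mulOn_af α).map_mul hc hd, fun c hc e => by
    rw [H92.af_of_mem α hc] at e
    exact congrArg Subtype.val ((map_eq_one_iff α α.injective).1 (Subtype.ext e)),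
    fun c hc => ⟨H92.af α⁻¹ c, H92.af_mem _ hc, H92.af_af_inv α c⟩⟩

theorem au_aut (θ : MulAut P) : Au ⊤ θ :=
  ⟨fun _ _ => trivial, fun c _ d _ => map_mul θ c d, fun _ _ => (map_eq_one_iff θ θ.injective).1,
    fun c _ => ⟨θ.symm c, trivial, θ.apply_symm_apply c⟩⟩

theorem au_conj {s : P} (hs : s ∈ normalizer (X : Set P)) : Au X fun c => s * c * s⁻¹ :=
  ⟨fun c hc => (mem_normalizer_iff.1 hs c).1 hc, fun c _ d _ => by group, fun c _ e => by simpa using e,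
    fun c hc => ⟨s⁻¹ * c * s, (mem_normalizer_iff''.1 hs c).1 hc, by group⟩⟩

theorem Pr.closure {s : Set P} (h : Au X β) (hs : Subgroup.closure s ≤ X)
    (k : ∀ c ∈ s, β c ∈ Subgroup.closure s) : Pr β (Subgroup.closure s) := fun c hc => by
  induction hc using closure_induction with
  | mem c hc => exact k c hc
  | one => rw [h.one]; exact one_mem _
  | mul c d hc hd ic id => rw [h.mul c (hs hc) d (hs hd)]; exact mul_mem ic id
  | inv c hc ic => rw [h.inv (hs hc)]; exact inv_mem ic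

theorem Pr.inf {U : Subgroup P} (h : Pr β Y) (k : Pr β U) : Pr β (Y ⊓ U) :=
  fun c hc => ⟨h c hc.1, k c hc.2⟩

theorem Pr.commutator {U : Subgroup P} (h : Au X β) (hY : Y ≤ X) (hU : U ≤ X) (p : Pr β Y) (q : Pr β U) :
    Pr β ⁅Y, U⁆ := by
  refine Pr.closure h ((commutator_mono hY hU).trans (commutator_le_self X)) ?_
  rintro _ ⟨a, ha, b, hb, rfl⟩
  rw [commutatorElement_def, h.mul _ (mul_mem (mul_mem (hY ha) (hU hb)) (inv_mem (hY ha))) _
    (inv_mem (hU hb)), h.conj (hY ha) (hU hb), h.inv (hU hb)]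
  exact commutator_mem_commutator (p a ha) (q b hb)

namespace Cg

theorem refl (z : ℕ → Subgroup P) (n : ℕ) (β : P → P) : Cg z n β β := fun _ _ _ _ => by simp

theorem symm (h : Cg z n β γ) : Cg z n γ β := fun i hi c hc => by simpa using inv_mem (h i hi c hc)

theorem trans (h : Cg z n β γ) (k : Cg z n γ δ) : Cg z n β δ := fun i hi c hc => by
  simpa [mul_assoc] using mul_mem (k i hi c hc) (h i hi c hc)

theorem congr (h : Cg z n β γ) {β' γ' : P → P} (hz : ∀ i ≤ n, z i ≤ X) (e : ∀ c ∈ X, β c = β' c)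
    (e' : ∀ c ∈ X, γ c = γ' c) : Cg z n β' γ' := fun i hi c hc => by
  rw [← e c (hz _ hi hc), ← e' c (hz _ hi hc)]; exact h i hi c hc

theorem comp_right (h : Cg z n β γ) (p : ∀ i, Pr δ (z i)) :
    Cg z n (fun c => β (δ c)) (fun c => γ (δ c)) := fun i hi c hc => h i hi _ (p _ c hc)

theorem comp_left (h : Cg z n β γ) (a : Au X δ) (p : ∀ i, Pr δ (z i)) (hz : ∀ i ≤ n, z i ≤ X)
    (hβ : Pr β X) (hγ : Pr γ X) : Cg z n (fun c => δ (β c)) (fun c => δ (γ c)) := fun i hi c hc => by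
  have := p i _ (h i hi c hc)
  rwa [a.mul _ (inv_mem (hγ c (hz _ hi hc))) _ (hβ c (hz _ hi hc)), a.inv (hγ c (hz _ hi hc))] at this

end Cg

theorem Lg.ext {Y : Subgroup (Equiv.Perm P)} (h : Lg X Y) {y y' : Equiv.Perm P} (hy : y ∈ Y)
    (hy' : y' ∈ Y) (e : ∀ c ∈ X, y c = y' c) : y = y' :=
  Equiv.ext fun c => by
    by_cases hc : c ∈ X
    · exact e c hc
    · rw [h.out y hy c hc, h.out y' hy' c hc]

theorem mem_cjY {θ : MulAut P} {Y : Subgroup (Equiv.Perm P)} {y : Equiv.Perm P} :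
    y ∈ cjY θ Y ↔ ∃ α ∈ Y, ∀ c, α (θ c) = θ (y c) :=
  ⟨fun h => ⟨_, h, fun c => by simp⟩, fun ⟨α, h, e⟩ => by
    have : MulAut.conj θ.toEquiv y = α := Equiv.ext fun c => by
      simpa using (e (θ.symm c)).symm
    exact mem_comap.2 (this ▸ h)⟩

theorem exists_cjY (θ : MulAut P) {Y : Subgroup (Equiv.Perm P)} {α : Equiv.Perm P} (h : α ∈ Y) :
    ∃ y ∈ cjY θ Y, ∀ c, α (θ c) = θ (y c) :=
  ⟨θ.toEquiv⁻¹ * α * θ.toEquiv, mem_cjY.2 ⟨α, h, fun c => by simp⟩, fun c => by simp⟩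

theorem cjY_cjY (θ η : MulAut P) (Y : Subgroup (Equiv.Perm P)) : cjY η (cjY θ Y) = cjY (θ * η) Y := by
  ext y
  simp only [cjY, mem_comap, MulEquiv.coe_toMonoidHom, ← MulAut.mul_apply, ← map_mul]
  rfl

theorem mem_aY {S : Subgroup P} {F : Cfsg.FusionSystem S} {y : Equiv.Perm P} :
    y ∈ aY F X ↔ ∃ α ∈ F.autGroup X, H92.af α = y := Iff.rfl

theorem Ok.comp (h : Ok z i E β) (k : Ok z i E γ) : Ok z i E fun c => β (γ c) :=
  ⟨h.1.comp k.1, fun j hj c hc => h.2 j hj _ (k.2 j hj c hc)⟩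

theorem Ok.exists_inv [Finite P] (h : Ok z i E β) (hz : ∀ j ≤ i, z j ≤ E) :
    ∃ γ, Ok z i E γ ∧ (∀ c ∈ E, β (γ c) = c) ∧ ∀ c ∈ E, γ (β c) = c := by
  obtain ⟨γ, a, l, r⟩ := h.1.exists_inv
  exact ⟨γ, ⟨a, fun j hj c hc => h.1.mem_of (hz j hj) (h.2 j hj) (a.mem c (hz j hj hc))
    (by rwa [l c (hz j hj hc)])⟩, l, r⟩

namespace Bc

theorem gen_le (h : Bc z i E M) (k : ∀ β, Ok z i E β → ∀ u ∈ z (i + 1), β u ∈ M → β u ∈ X) : M ≤ X :=
  h.gen.trans ((closure_le _).2 fun _ ⟨hm, β, hβ, u, hu, e⟩ => e ▸ k β hβ u hu (e ▸ hm))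

theorem min (h : Bc z i E M) (hX : z (i + 1) ≤ X) (k : ∀ β, Ok z i E β → Pr β X) : M ≤ X :=
  h.gen_le fun β hβ u hu _ => k β hβ u (hX hu)

/-- `M` is not central modulo `z i` -/
theorem not_le (h : Bc z i E M) (k : ∀ c ∈ X, ∀ s, cm s c ∈ z i) : ¬ M ≤ X := fun hX =>
  h.ne (eq_top_iff.2 fun s _ => (h.cen s).2 fun m hm => k m (hX hm) s)

theorem b1' (h : Bc z i E M) {ι κ : Type*} [Finite ι] [Finite κ] (f : ι → P) (g : κ → P)
    (hf : ∀ x, f x ∈ normalizer (E : Set P)) (inj : ∀ x y, (f x)⁻¹ * f y ∈ E → x = y)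
    (cov : ∀ m ∈ M, ∃ k, (g k)⁻¹ * m ∈ z i) : Nat.card ι ^ 2 ≤ Nat.card κ :=
  h.b1 _ _ (f ∘ (Finite.equivFin ι).symm) (g ∘ (Finite.equivFin κ).symm) (fun _ => hf _)
    (fun _ _ e => (Finite.equivFin ι).symm.injective (inj _ _ e)) fun m hm =>
      (cov m hm).elim fun k hk => ⟨Finite.equivFin κ k, by simpa using hk⟩

theorem b2' (h : Bc z i E M) {B : Subgroup P} (hB : B ≤ normalizer (E : Set P)) (sq : ∀ x ∈ B, x * x ∈ E)
    {s : P} (hs : s ∈ normalizer (E : Set P)) (hs' : s ∉ E) {ι κ : Type*} [Finite ι] [Finite κ]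
    (f : ι → P) (g : κ → P) (hf : ∀ x, f x ∈ B) (inj : ∀ x y, (f x)⁻¹ * f y ∈ E → x = y)
    (cov : ∀ m ∈ M, ∃ k, (g k)⁻¹ * cm s m ∈ z i) : Nat.card ι ≤ Nat.card κ :=
  h.b2 B hB sq s hs hs' _ _ (f ∘ (Finite.equivFin ι).symm) (g ∘ (Finite.equivFin κ).symm) (fun _ => hf _)
    (fun _ _ e => (Finite.equivFin ι).symm.injective (inj _ _ e)) fun m hm =>
      (cov m hm).elim fun k hk => ⟨Finite.equivFin κ k, by simpa using hk⟩

/-- `q²` cosets against `q` -/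
theorem no2 (h : Bc z i E M) {B : Subgroup P} (hB : B ≤ normalizer (E : Set P)) (sq : ∀ x ∈ B, x * x ∈ E)
    {s : P} (hs : s ∈ normalizer (E : Set P)) (hs' : s ∉ E) {κ : Type*} [Finite κ] [Nontrivial κ]
    (f : κ → κ → P) (g : κ → P) (hf : ∀ x y, f x y ∈ B)
    (inj : ∀ x y x' y', (f x y)⁻¹ * f x' y' ∈ E → x = x' ∧ y = y')
    (cov : ∀ m ∈ M, ∃ k, (g k)⁻¹ * cm s m ∈ z i) : False := by
  have := h.b2' hB sq hs hs' (fun x : κ × κ => f x.1 x.2) g (fun _ => hf _ _)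
    (fun _ _ e => Prod.ext (inj _ _ _ _ e).1 (inj _ _ _ _ e).2) cov
  have h2 := Finite.one_lt_card (α := κ)
  rw [Nat.card_prod] at this
  nlinarith

/-- `q` cosets modulo an overgroup `X` of `E` against `q` -/
theorem full (h : Bc z i E M) {B : Subgroup P} (hB : B ≤ normalizer (E : Set P)) (sq : ∀ x ∈ B, x * x ∈ E)
    {s : P} (hs : s ∈ normalizer (E : Set P)) (hs' : s ∉ E) (hX : E ≤ X) (hXB : X ≤ B) {κ : Type*}
    [Finite κ] [Nonempty κ] (f g : κ → P) (hf : ∀ x, f x ∈ B) (inj : ∀ x y, (f x)⁻¹ * f y ∈ X → x = y)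
    (cov : ∀ m ∈ M, ∃ k, (g k)⁻¹ * cm s m ∈ z i) : E = X := by
  refine le_antisymm hX fun t ht => by_contra fun ht' => ?_
  have := h.b2' hB sq hs hs' (fun x : κ × Bool => if x.2 then f x.1 * t else f x.1) g
    (fun x => by split_ifs; exacts [mul_mem (hf _) (hXB ht), hf _]) (fun x y e => ?_) cov
  · have h2 := Nat.card_pos (α := κ)
    rw [Nat.card_prod, Nat.card_eq_fintype_card (α := Bool), Fintype.card_bool] at this
    omega
  · obtain ⟨x, a⟩ := x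
    obtain ⟨y, b⟩ := y
    cases a <;> cases b <;> simp only [Bool.false_eq_true, if_false, if_true] at e
    · rw [inj x y (hX e)]
    · obtain rfl := inj x y (by simpa [mul_assoc] using mul_mem (hX e) (inv_mem ht))
      exact absurd (by simpa using e) ht'
    · obtain rfl := inj x y (by simpa [mul_assoc] using mul_mem ht (hX e))
      exact absurd (by simpa using e) ht'
    · rw [inj x y (by simpa [mul_assoc] using mul_mem (mul_mem ht (hX e)) (inv_mem ht))]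

end Bc

/-- the conjugate subgroup `g⁻¹`-pulled back: `c ∈ cjS g X ↔ g⁻¹ c g ∈ X` -/
def cjS (g : P) (X : Subgroup P) : Subgroup P := X.comap (MulAut.conj g⁻¹).toMonoidHom

theorem mem_cjS {g c : P} : c ∈ cjS g X ↔ g⁻¹ * c * g ∈ X := by simp [cjS]

theorem conj_mem_cjS {g c : P} : g * c * g⁻¹ ∈ cjS g X ↔ c ∈ X := by simp [mem_cjS, mul_assoc]

theorem cjS_eq [X.Normal] (g : P) : cjS g X = X := by
  ext c; rw [mem_cjS]; exact (‹X.Normal›.mem_comm_iff.trans (by simp))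

theorem eq_of_cjS_eq [X.Normal] {g : P} (h : cjS g E = X) : E = X := by
  ext c; rw [← conj_mem_cjS (g := g), h, ← cjS_eq (X := X) g, conj_mem_cjS, cjS_eq]

theorem le_of_cjS_le [X.Normal] {g : P} (h : cjS g E ≤ X) : E ≤ X := fun c hc => by
  have := h (conj_mem_cjS.2 hc)
  rwa [← cjS_eq (X := X) g, conj_mem_cjS] at this

theorem mem_nor_cjS {g s : P} : s ∈ normalizer (cjS g E : Set P) ↔ g⁻¹ * s * g ∈ normalizer (E : Set P) := by
  simp only [mem_normalizer_iff, mem_cjS]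
  constructor
  · intro h c
    simpa [mul_assoc] using h (g * c * g⁻¹)
  · intro h c
    simpa [mul_assoc] using h (g⁻¹ * c * g)

theorem Ok.cj (hz : ∀ j, (z j).Normal) (g : P) (h : Ok z i E β) :
    Ok z i (cjS g E) fun c => g * β (g⁻¹ * c * g) * g⁻¹ :=
  ⟨⟨fun c hc => conj_mem_cjS.2 (h.1.mem _ (mem_cjS.1 hc)), fun c hc d hd => by
      rw [show g⁻¹ * (c * d) * g = g⁻¹ * c * g * (g⁻¹ * d * g) by group,
        h.1.mul _ (mem_cjS.1 hc) _ (mem_cjS.1 hd)]; group,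
    fun c hc e => by
      simpa [mul_assoc] using congrArg (fun x => g * x * g⁻¹) (h.1.inj _ (mem_cjS.1 hc) (by simpa using e)),
    fun c hc => by
      obtain ⟨d, hd, e⟩ := h.1.sur _ (mem_cjS.1 hc)
      exact ⟨g * d * g⁻¹, conj_mem_cjS.2 hd, by simp [mul_assoc, e]⟩⟩,
    fun j hj c hc => (hz j).conj_mem _ (h.2 j hj _ ((hz j).conj_mem' c hc g)) g⟩

theorem cjS_cjS (g : P) (X : Subgroup P) : cjS g⁻¹ (cjS g X) = X := by
  ext c; simp [mem_cjS, mul_assoc]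

/-- conjugation of the data -/
theorem Bc.conj (h : Bc z i E M) (hz : ∀ j, (z j).Normal) (g : P) : Bc z i (cjS g E) (cjS g M) := by
  have c : ∀ s m : P, cm (g⁻¹ * s * g) (g⁻¹ * m * g) ∈ z i ↔ cm s m ∈ z i := fun s m => by
    have := cm_conj g⁻¹ s m
    rw [inv_inv] at this
    rw [this]
    exact (hz i).mem_comm_iff.trans (by simp)
  have c' : ∀ s m : P, cm (g⁻¹ * s * g) m = g⁻¹ * cm s (g * m * g⁻¹) * g := fun s m => by
    simp only [cm]; group
  have d : ∀ a b : P, (g⁻¹ * a * g)⁻¹ * (g⁻¹ * b * g) = g⁻¹ * (a⁻¹ * b) * g := fun a b => by group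
  have dz : ∀ a b : P, a⁻¹ * (g * b * g⁻¹) ∈ z i → (g⁻¹ * a * g)⁻¹ * b ∈ z i := fun a b e => by
    simpa [mul_assoc] using (hz i).conj_mem' _ e g
  refine ⟨fun e => h.ne ?_, fun u hu => mem_cjS.2 (h.le ((hz _).conj_mem' u hu g)),
    fun m hm => mem_cjS.2 (h.ME (mem_cjS.1 hm)), fun s => ?_, fun m hm => ?_, fun m hm => ?_,
    fun X hU hX hinv s hs k1 k2 => ?_, fun a b f k hf inj cov => ?_,
    fun B hB sq s hs hs' a b f k hf inj cov => ?_⟩
  · rw [← cjS_cjS g E, e]; exact comap_top _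
  · rw [mem_cjS, h.cen]
    exact ⟨fun k m hm => (c s m).1 (k _ (mem_cjS.1 hm)), fun k m hm => by
      simpa [mul_assoc] using (c s _).2 (k _ (conj_mem_cjS.2 hm))⟩
  · simpa [mul_assoc] using (hz i).conj_mem _ (h.sq _ (mem_cjS.1 hm)) g
  · have : M ≤ cjS g⁻¹ (closure {m | m ∈ cjS g M ∧ ∃ β, Ok z i (cjS g E) β ∧ ∃ u ∈ z (i + 1), m = β u}) :=
      h.gen_le fun β hβ u hu hm => mem_cjS.2 (subset_closure ⟨by simpa [mem_cjS, mul_assoc] using hm, _,
        hβ.cj hz g, g * u * g⁻¹, (hz _).conj_mem u hu g, by simp [mul_assoc]⟩)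
    simpa [mem_cjS, mul_assoc] using this (mem_cjS.1 hm)
  · refine mem_cjS.2 (h.red (cjS g⁻¹ X) (fun u hu => mem_cjS.2 (hU (by simpa using (hz i).conj_mem u hu g)))
      (fun x hx => by simpa [mem_cjS, mul_assoc] using hX (mem_cjS.1 hx)) (fun β hβ x hx => ?_) _
      (mem_nor_cjS.1 hs) (fun m hm => ?_) fun m hm hx => ?_)
    · simpa [mem_cjS, mul_assoc] using hinv _ (hβ.cj hz g) _ (mem_cjS.1 hx)
    · rw [c']; simpa [mem_cjS, mul_assoc] using k1 _ (conj_mem_cjS.2 hm)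
    · rw [c']; exact (hz i).conj_mem' _ (k2 _ (conj_mem_cjS.2 hm) (by simpa using mem_cjS.1 hx)) g
  · exact h.b1 a b (fun x => g⁻¹ * f x * g) (fun x => g⁻¹ * k x * g) (fun x => mem_nor_cjS.1 (hf x))
      (fun x y e => inj x y (mem_cjS.2 (d _ _ ▸ e))) fun m hm =>
        (cov _ (conj_mem_cjS.2 hm)).imp fun _ => dz _ _
  · refine h.b2 (cjS g⁻¹ B) (fun x hx => ?_) (fun x hx => ?_) _ (mem_nor_cjS.1 hs)
      (fun e => hs' (mem_cjS.2 e)) a b (fun x => g⁻¹ * f x * g) (fun x => g⁻¹ * k x * g)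
      (fun x => by simpa [mem_cjS, mul_assoc] using hf x) (fun x y e => inj x y (mem_cjS.2 (d _ _ ▸ e)))
      fun m hm => (cov _ (conj_mem_cjS.2 hm)).imp fun j e => dz _ _ (by rw [c']; simpa [mul_assoc] using e)
    · simpa [mul_assoc] using mem_nor_cjS.1 (hB (mem_cjS.1 hx))
    · simpa [mem_cjS, mul_assoc] using sq _ (mem_cjS.1 hx)

/-- a subgroup `B` with `[B, E] ≤ E` normalises `E` -/
theorem le_nor [Finite P] {B : Subgroup P} (h : ∀ s ∈ B, ∀ c ∈ E, cm s c ∈ E) :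
    B ≤ normalizer (E : Set P) := fun s hs =>
  mem_normalizer_fintype fun c hc => by rw [conj_eq_cm]; exact mul_mem hc (h s hs c hc)

theorem mem_nor [Finite P] {s : P} (h : ∀ c ∈ E, cm s c ∈ E) : s ∈ normalizer (E : Set P) :=
  mem_normalizer_fintype fun c hc => by rw [conj_eq_cm]; exact mul_mem hc (h c hc)

end Gen

end H90.RF
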