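/- U5 tower (row S5258): the Sylow subgroup of the unitary group of degree five in coordinates. -/
import Cfsg.Agent.H90.RFKit

set_option autoImplicit false
set_option linter.unusedSectionVars false
set_option linter.unusedSimpArgs false
set_option linter.unusedVariables false

open Subgroup

namespace H90.U5

/-- A field with an automorphism of order two. -/
structure BF (K : Type*) [Field K] where
  σ : K →+* K
  sq : ∀ x, σ (σ x) = x
  ω : K
  ne : σ ω ≠ ω

variable {K : Type*} [Field K]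

/-- The unitriangular matrices with first row `(1, a, c, d, g)` and second row `(0, 1, b, e, *)` that preserve
the form `x₁ σy₅ - x₂ σy₄ + x₃ σy₃ - x₄ σy₂ + x₅ σy₁`. -/
@[ext] structure Co (T : BF K) where
  (a b c e d g : K)
  he : e + T.σ e = b * T.σ b
  hg : g + T.σ g = a * T.σ d + T.σ a * d - c * T.σ c

variable {T : BF K}

namespace Co

instance instMulCo : Mul (Co T) := ⟨fun u w => {
  a := u.a + w.a
  b := u.b + w.b
  c := u.c + w.c + u.a * w.b
  e := u.e + w.e + u.b * T.σ w.b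
  d := u.d + w.d + u.a * w.e + u.c * T.σ w.b
  g := u.g + w.g + u.a * (T.σ w.d + T.σ w.a * w.e - w.b * T.σ w.c) + u.c * (T.σ w.a * T.σ w.b - T.σ w.c) +
    u.d * T.σ w.a
  he := by simp only [map_add, map_mul, T.sq]; linear_combination u.he + w.he
  hg := by
    simp only [map_add, map_sub, map_mul, T.sq]
    linear_combination u.hg + w.hg - u.a * T.σ u.a * w.he }⟩

instance instInvCo : Inv (Co T) := ⟨fun u => {
  a := -u.a
  b := -u.b
  c := u.a * u.b - u.c
  e := T.σ u.e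
  d := u.c * T.σ u.b - u.d - u.a * T.σ u.e
  g := T.σ u.g
  he := by simp only [map_neg, T.sq]; linear_combination u.he
  hg := by
    simp only [map_neg, map_sub, map_mul, T.sq]
    linear_combination u.hg - u.a * T.σ u.a * u.he }⟩

instance instOneCo : One (Co T) := ⟨⟨0, 0, 0, 0, 0, 0, by simp, by simp⟩⟩

@[simp] theorem mul_a (u w : Co T) : (u * w).a = u.a + w.a := rfl
@[simp] theorem mul_b (u w : Co T) : (u * w).b = u.b + w.b := rfl
@[simp] theorem mul_c (u w : Co T) : (u * w).c = u.c + w.c + u.a * w.b := rfl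
@[simp] theorem mul_e (u w : Co T) : (u * w).e = u.e + w.e + u.b * T.σ w.b := rfl
@[simp] theorem mul_d (u w : Co T) : (u * w).d = u.d + w.d + u.a * w.e + u.c * T.σ w.b := rfl
@[simp] theorem mul_g (u w : Co T) : (u * w).g =
    u.g + w.g + u.a * (T.σ w.d + T.σ w.a * w.e - w.b * T.σ w.c) + u.c * (T.σ w.a * T.σ w.b - T.σ w.c) +
    u.d * T.σ w.a := rfl
@[simp] theorem inv_a (u : Co T) : u⁻¹.a = -u.a := rfl
@[simp] theorem inv_b (u : Co T) : u⁻¹.b = -u.b := rfl
@[simp] theorem inv_c (u : Co T) : u⁻¹.c = u.a * u.b - u.c := rfl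
@[simp] theorem inv_e (u : Co T) : u⁻¹.e = T.σ u.e := rfl
@[simp] theorem inv_d (u : Co T) : u⁻¹.d = u.c * T.σ u.b - u.d - u.a * T.σ u.e := rfl
@[simp] theorem inv_g (u : Co T) : u⁻¹.g = T.σ u.g := rfl
@[simp] theorem one_a : (1 : Co T).a = 0 := rfl
@[simp] theorem one_b : (1 : Co T).b = 0 := rfl
@[simp] theorem one_c : (1 : Co T).c = 0 := rfl
@[simp] theorem one_e : (1 : Co T).e = 0 := rfl
@[simp] theorem one_d : (1 : Co T).d = 0 := rfl
@[simp] theorem one_g : (1 : Co T).g = 0 := rfl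

/-- rewriting form of the constraints -/
theorem σe (u : Co T) : T.σ u.e = u.b * T.σ u.b - u.e := by linear_combination u.he
theorem σg (u : Co T) : T.σ u.g = u.a * T.σ u.d + T.σ u.a * u.d - u.c * T.σ u.c - u.g := by
  linear_combination u.hg

instance instGroupCo : Group (Co T) := Group.ofLeftAxioms
  (fun u w x => by
    ext <;> simp only [mul_a, mul_b, mul_c, mul_e, mul_d, mul_g, map_add, map_mul, T.sq, σe] <;> ring)
  (fun u => by ext <;> simp)
  (fun u => by ext <;> simp [σe, σg] <;> ring)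

instance instFiniteCo [Finite K] : Finite (Co T) :=
  Finite.of_injective (fun u : Co T => (u.a, u.b, u.c, u.e, u.d, u.g)) fun u w h => by ext <;> simp_all

/-- conjugation by `n₁` on `Q₁ = {b = e = 0}` -/
def nu1 (u : Co T) : Co T :=
  ⟨u.d, 0, -u.c, 0, u.a, u.g, by simp, by simp only [map_neg]; linear_combination u.hg⟩

/-- conjugation by `n₂` on `Q₂ = {a = 0}` -/
def nu2 (u : Co T) : Co T :=
  ⟨0, u.c, u.b, -(u.g - u.a * T.σ u.d), u.b * T.σ u.c - T.σ u.d, -u.e,
    by simp only [map_neg, map_sub, map_mul, T.sq]; linear_combination -u.hg,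
    by simp only [map_neg, map_zero]; linear_combination -u.he⟩

end Co

namespace BF
variable (T)

/-- an element of trace one -/
def ρ : K := T.ω / (T.ω - T.σ T.ω)

/-- a nonzero element of trace zero -/
def ε : K := T.ω - T.σ T.ω

theorem ε_ne : T.ε ≠ 0 := sub_ne_zero.2 T.ne.symm

theorem σε : T.σ T.ε = -T.ε := by simp [ε, T.sq]

theorem ρ_tr : T.ρ + T.σ T.ρ = 1 := by
  have h := T.ε_ne
  have h' : T.σ T.ω - T.ω ≠ 0 := sub_ne_zero.2 T.ne
  simp only [ρ, map_div₀, map_sub, T.sq, ε] at h ⊢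
  field_simp
  ring

end BF

variable (T)

/-- root element -/
def xa (t : K) : Co T := ⟨t, 0, 0, 0, 0, 0, by simp, by simp⟩
/-- root element -/
def xb (t : K) : Co T := ⟨0, t, 0, T.ρ * (t * T.σ t), 0, 0,
  by simp only [map_mul, T.sq]; linear_combination t * T.σ t * T.ρ_tr, by simp⟩
/-- root element -/
def xc (t : K) : Co T := ⟨0, 0, t, 0, 0, -(T.ρ * (t * T.σ t)), by simp,
  by simp only [map_neg, map_mul, T.sq, map_zero]; linear_combination -(t * T.σ t) * T.ρ_tr⟩
/-- root element -/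
def xe (t : K) : Co T := ⟨0, 0, 0, t - T.σ t, 0, 0, by simp [T.sq], by simp⟩
/-- root element -/
def xd (t : K) : Co T := ⟨0, 0, 0, 0, t, 0, by simp, by simp⟩
/-- root element -/
def xg (t : K) : Co T := ⟨0, 0, 0, 0, 0, t - T.σ t, by simp, by simp [T.sq]⟩
/-- the elements of the complement of `Q₁` -/
def uu (b e : K) (h : e + T.σ e = b * T.σ b) : Co T := ⟨0, b, 0, e, 0, 0, h, by simp⟩
/-- an element of `Q₁` with given coordinates modulo `Z` -/
def w1 (a c d : K) : Co T := xa T a * xc T c * xd T d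
/-- an element of `Q₂` with given coordinates modulo `V` -/
def w2 (c b : K) : Co T := xc T c * xb T b

/-- the diagonal action; `x` is the character of `xa`, `y` the character of `xb` -/
def dg (x y : K) (u : Co T) : Co T where
  a := x * u.a
  b := y * u.b
  c := x * y * u.c
  e := y * T.σ y * u.e
  d := x * y * T.σ y * u.d
  g := x * y * (T.σ x * T.σ y) * u.g
  he := by simp only [map_mul, T.sq]; linear_combination y * T.σ y * u.he
  hg := by simp only [map_mul, T.sq]; linear_combination x * y * (T.σ x * T.σ y) * u.hg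

theorem BF.comm [Finite K] (φ : RingAut K) (x : K) : φ (T.σ x) = T.σ (φ x) := by
  obtain ⟨m, hm⟩ := MonoidHom.map_cyclic (Units.map (T.σ : K →* K))
  have h : ∀ y : K, y ≠ 0 → T.σ y = y ^ m := fun y hy => by
    simpa using congrArg Units.val (hm (Units.mk0 y hy))
  by_cases hx : x = 0
  · simp [hx]
  · rw [h x hx, h _ ((map_ne_zero φ).2 hx), map_zpow₀]

/-- the field automorphisms -/
def fa [Finite K] (φ : RingAut K) (u : Co T) : Co T :=
  ⟨φ u.a, φ u.b, φ u.c, φ u.e, φ u.d, φ u.g, by simpa [T.comm] using congrArg φ u.he,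
    by simpa [T.comm] using congrArg φ u.hg⟩

variable (K) in
/-- the action of the field automorphisms on the torus -/
def ψ : RingAut K →* MulAut (Kˣ × Kˣ) where
  toFun φ := (Units.mapEquiv φ.toMulEquiv).prodCongr (Units.mapEquiv φ.toMulEquiv)
  map_one' := rfl
  map_mul' _ _ := rfl

variable (K) in
/-- the group of diagonal and field automorphisms -/
abbrev DD : Type _ := (Kˣ × Kˣ) ⋊[ψ K] RingAut K

/-- the standard automorphisms -/
def sd [Finite K] (δ : DD K) (u : Co T) : Co T := dg T δ.left.1 δ.left.2 (fa T δ.right u)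

/-- the torus of the unitary group of degree three -/
def t1 (s : Kˣ) : Kˣ × Kˣ := (s⁻¹, s ^ 2 * (Units.map (T.σ : K →* K) s)⁻¹)
/-- the torus of the linear group of degree two -/
def t2 (s : Kˣ) : Kˣ × Kˣ := (s ^ 2, s⁻¹)

/-- `Z = Z(S)` -/
def sZ : Subgroup (Co T) where
  carrier := {u | u.a = 0 ∧ u.b = 0 ∧ u.c = 0 ∧ u.e = 0 ∧ u.d = 0}
  one_mem' := by simp
  mul_mem' := fun {c d} hc hd => by simp_all
  inv_mem' := fun {c} hc => by simp_all
theorem mem_sZ {u : Co T} : u ∈ sZ T ↔ u.a = 0 ∧ u.b = 0 ∧ u.c = 0 ∧ u.e = 0 ∧ u.d = 0 := Iff.rfl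

/-- `Z₂(S)` -/
def sZ2 : Subgroup (Co T) where
  carrier := {u | u.a = 0 ∧ u.b = 0 ∧ u.c = 0 ∧ u.e = 0}
  one_mem' := by simp
  mul_mem' := fun {c d} hc hd => by simp_all
  inv_mem' := fun {c} hc => by simp_all
theorem mem_sZ2 {u : Co T} : u ∈ sZ2 T ↔ u.a = 0 ∧ u.b = 0 ∧ u.c = 0 ∧ u.e = 0 := Iff.rfl

/-- `V = Z(Q₂)` -/
def sV : Subgroup (Co T) where
  carrier := {u | u.a = 0 ∧ u.b = 0 ∧ u.c = 0}
  one_mem' := by simp
  mul_mem' := fun {c d} hc hd => by simp_all
  inv_mem' := fun {c} hc => by simp_all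
theorem mem_sV {u : Co T} : u ∈ sV T ↔ u.a = 0 ∧ u.b = 0 ∧ u.c = 0 := Iff.rfl

/-- `Z₃(S)` -/
def sZ3 : Subgroup (Co T) where
  carrier := {u | u.a = 0 ∧ u.b = 0}
  one_mem' := by simp
  mul_mem' := fun {c d} hc hd => by simp_all
  inv_mem' := fun {c} hc => by simp_all
theorem mem_sZ3 {u : Co T} : u ∈ sZ3 T ↔ u.a = 0 ∧ u.b = 0 := Iff.rfl

/-- `Q₂` -/
def sQ2 : Subgroup (Co T) where
  carrier := {u | u.a = 0}
  one_mem' := by simp
  mul_mem' := fun {c d} hc hd => by simp_all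
  inv_mem' := fun {c} hc => by simp_all
theorem mem_sQ2 {u : Co T} : u ∈ sQ2 T ↔ u.a = 0 := Iff.rfl

/-- `Q₁` -/
def sQ1 : Subgroup (Co T) where
  carrier := {u | u.b = 0 ∧ u.e = 0}
  one_mem' := by simp
  mul_mem' := fun {c d} hc hd => by simp_all
  inv_mem' := fun {c} hc => by simp_all
theorem mem_sQ1 {u : Co T} : u ∈ sQ1 T ↔ u.b = 0 ∧ u.e = 0 := Iff.rfl

/-- `B = Q₁ ∩ Q₂` -/
def sB : Subgroup (Co T) where
  carrier := {u | u.a = 0 ∧ u.b = 0 ∧ u.e = 0}
  one_mem' := by simp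
  mul_mem' := fun {c d} hc hd => by simp_all
  inv_mem' := fun {c} hc => by simp_all
theorem mem_sB {u : Co T} : u ∈ sB T ↔ u.a = 0 ∧ u.b = 0 ∧ u.e = 0 := Iff.rfl

/-- `R = Q₁ V` -/
def sR : Subgroup (Co T) where
  carrier := {u | u.b = 0}
  one_mem' := by simp
  mul_mem' := fun {c d} hc hd => by simp_all
  inv_mem' := fun {c} hc => by simp_all
theorem mem_sR {u : Co T} : u ∈ sR T ↔ u.b = 0 := Iff.rfl

/-- the image of `Z₂` under `n₁` -/
def sX : Subgroup (Co T) where
  carrier := {u | u.b = 0 ∧ u.c = 0 ∧ u.e = 0 ∧ u.d = 0}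
  one_mem' := by simp
  mul_mem' := fun {c d} hc hd => by simp_all
  inv_mem' := fun {c} hc => by simp_all
theorem mem_sX {u : Co T} : u ∈ sX T ↔ u.b = 0 ∧ u.c = 0 ∧ u.e = 0 ∧ u.d = 0 := Iff.rfl

/-- the upper central series -/
def zA : ℕ → Subgroup (Co T)
  | 0 => ⊥ | 1 => sZ T | 2 => sZ2 T | _ => sZ3 T

/-- a characteristic series of `S` -/
def z0 : ℕ → Subgroup (Co T)
  | 0 => ⊥ | 1 => sZ T | 2 => sZ2 T | 3 => sV T | 4 => sZ3 T | 5 => sQ2 T | _ => ⊤

end H90.U5
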