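/- U5 tower (row S5258): fusion systems on a Sylow subgroup of the unitary group of degree five.
Proofs: blueprints/U5.md. -/
import Cfsg.Agent.H90.U5Co
import Cfsg.Prelude.Def_Classical

set_option autoImplicit false
set_option linter.unusedSectionVars false

open Subgroup H90.RF

universe v

namespace H90.U5

section Gen
variable {P : Type*} [Group P]

/-- The faithful case at level `i`, for any prime: `M` is the normal closure of `z (i + 1)` under a group of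
automorphisms of `E`, and `N(E) / E` acts faithfully on `M / z i`. -/
structure Bq (p : ℕ) (z : ℕ → Subgroup P) (i : ℕ) (E M : Subgroup P) : Prop where
  ne : E ≠ ⊤
  le : z (i + 1) ≤ M
  ME : M ≤ E
  cen : ∀ s, s ∈ E ↔ ∀ m ∈ M, cm s m ∈ z i
  pw : ∀ m ∈ M, m ^ p ∈ z i
  gen : M ≤ closure {m | m ∈ M ∧ ∃ β, Ok z i E β ∧ ∃ u ∈ z (i + 1), m = β u}
  red : ∀ X : Subgroup P, z i ≤ X → X ≤ E → (∀ β, Ok z i E β → Pr β X) →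
    ∀ s ∈ normalizer (E : Set P), (∀ m ∈ M, cm s m ∈ X) → (∀ m ∈ M, m ∈ X → cm s m ∈ z i) → s ∈ E
  b2 : ∀ B : Subgroup P, B ≤ normalizer (E : Set P) → (∀ x ∈ B, ∀ y ∈ B, ∀ m ∈ M, cm x (cm y m) ∈ z i) →
    ∀ s ∈ B, s ∉ E → ∀ (a b : ℕ) (f : Fin a → P) (g : Fin b → P), (∀ x, f x ∈ B) →
    (∀ x y, (f x)⁻¹ * f y ∈ E → x = y) → (∀ m ∈ M, ∃ k, (g k)⁻¹ * cm s m ∈ z i) → a ≤ b

end Gen

section Co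
variable {K : Type*} [Field K] [Finite K] (T : BF K)

/-- the automizers of `S`, `Q₁`, `Q₂` -/
structure Tri (p : ℕ) (Y0 Y1 Y2 : Subgroup (Equiv.Perm (Co T))) : Prop where
  l0 : Lg ⊤ Y0
  l1 : Lg (sQ1 T) Y1
  l2 : Lg (sQ2 T) Y2
  inn : ∀ s, ∃ y ∈ Y0, ∀ u, y u = s * u * s⁻¹
  pel0 : ∀ y ∈ Y0, (∃ k : ℕ, y ^ p ^ k = 1) → ∃ s, ∀ u, y u = s * u * s⁻¹
  rad0 : ∀ y ∈ Y0, Cg (z0 T) 6 y id → ∃ s, ∀ u, y u = s * u * s⁻¹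
  res1 : ∀ y ∈ Y0, ∃ α ∈ Y1, ∀ u ∈ sQ1 T, α u = y u
  ext1 : ∀ α ∈ Y1, Pr α (sZ2 T) → ∃ y ∈ Y0, ∀ u ∈ sQ1 T, α u = y u
  pel1 : ∀ α ∈ Y1, Pr α (sZ2 T) → (∃ k : ℕ, α ^ p ^ k = 1) → ∃ s, ∀ u ∈ sQ1 T, α u = s * u * s⁻¹
  rad1 : ∀ α ∈ Y1, (∀ u ∈ sQ1 T, u⁻¹ * α u ∈ sZ T) → ∃ s ∈ sQ1 T, ∀ u ∈ sQ1 T, α u = s * u * s⁻¹
  res2 : ∀ y ∈ Y0, ∃ α ∈ Y2, ∀ u ∈ sQ2 T, α u = y u
  ext2 : ∀ α ∈ Y2, Pr α (sZ3 T) → ∃ y ∈ Y0, ∀ u ∈ sQ2 T, α u = y u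
  rad2 : ∀ α ∈ Y2, (∀ u ∈ sQ2 T, u⁻¹ * α u ∈ sV T) → ∃ s ∈ sQ2 T, ∀ u ∈ sQ2 T, α u = s * u * s⁻¹

/-- the automorphisms of `S` -/
def AS : Prop := ∀ θ : Co T → Co T, Au ⊤ θ →
  (∀ i, Pr θ (z0 T i)) ∧ Pr θ (sQ1 T) ∧ ∃ δ, Cg (z0 T) 6 θ (sd T δ)

/-- the automorphisms of `Q₁` are semilinear over the fixed field -/
def A1 : Prop := ∀ β : Co T → Co T, Au (sQ1 T) β → ∀ l, T.σ l = l → ∃ l', T.σ l' = l' ∧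
  ∀ u ∈ sQ1 T, ∀ w ∈ sQ1 T, w.a = l * u.a → w.c = l * u.c → w.d = l * u.d →
    (β w).a = l' * (β u).a ∧ (β w).c = l' * (β u).c ∧ (β w).d = l' * (β u).d

/-- the automorphisms of `Q₂` are semilinear -/
def A2 : Prop := ∀ β : Co T → Co T, Au (sQ2 T) β → ∃ (φ : RingAut K) (m n r s : K),
  ∀ u ∈ sQ2 T, (β u).c = m * φ u.c + n * φ u.b ∧ (β u).b = r * φ u.c + s * φ u.b

/-- two distinct conjugates of `Z₂` are opposite -/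
def Opp (Y1 : Subgroup (Equiv.Perm (Co T))) : Prop :=
  ∀ α ∈ Y1, Pr α (sZ2 T) ∨ ∀ z ∈ sZ2 T, (α z).a = 0 → z ∈ sZ T

/-- the conjugates of `Z₂` other than `Z₂` form one orbit under `S` -/
def Om (β γ δ : K) (Y1 : Subgroup (Equiv.Perm (Co T))) : Prop :=
  ∀ α ∈ Y1, Pr α (sZ2 T) ∨ ∃ s, ∀ z ∈ sZ2 T, (s⁻¹ * α z * s).c = β * T.σ (α z).a ∧
    (s⁻¹ * α z * s).d = γ * (α z).a + δ * T.σ (α z).a

/-- the parameters of the orbit -/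
def Par (β γ δ : K) : Prop := γ + T.σ γ = -(β * T.σ β) ∧ ((2 : K) ≠ 0 → β = 0) ∧ ((2 : K) = 0 → δ = 0)

/-- `Y₀` contains the diagonal automorphism -/
def HT (Y0 : Subgroup (Equiv.Perm (Co T))) (x : Kˣ × Kˣ) : Prop := ∃ y ∈ Y0, ∀ u, y u = dg T x.1 x.2 u

/-- agreement on `Q₁ / Z` -/
def Eq1 (β γ : Co T → Co T) : Prop :=
  ∀ u ∈ sQ1 T, (β u).a = (γ u).a ∧ (β u).c = (γ u).c ∧ (β u).d = (γ u).d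

/-- what `Y₁` induces on `Q₁ / Z` -/
def G1 (Y1 : Subgroup (Equiv.Perm (Co T))) : Prop :=
  (∃ α ∈ Y1, Eq1 T α Co.nu1) ∧ ∀ s, ∃ α ∈ Y1, Eq1 T α (dg T (t1 T s).1 (t1 T s).2)

/-- what `Y₂` induces on `Q₂ / V` -/
def G2 (Y2 : Subgroup (Equiv.Perm (Co T))) : Prop :=
  (∃ α ∈ Y2, ∀ u ∈ sQ2 T, (α u).c = u.b ∧ (α u).b = -u.c) ∧
    ∀ s : Kˣ, ∃ α ∈ Y2, ∀ u ∈ sQ2 T, (α u).c = s * u.c ∧ (α u).b = (s : K)⁻¹ * u.b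

/-- `Y₀` is standard -/
def St0 (Γ : Subgroup (DD K)) (Y0 : Subgroup (Equiv.Perm (Co T))) : Prop :=
  ∀ y : Equiv.Perm (Co T), y ∈ Y0 ↔ ∃ s, ∃ δ ∈ Γ, ∀ u, y u = s * sd T δ u * s⁻¹

/-- `Y₁` contains `n₁` -/
def N1 (Y1 : Subgroup (Equiv.Perm (Co T))) : Prop := ∃ n ∈ Y1, ∀ u ∈ sQ1 T, n u = u.nu1
/-- `Y₂` contains `n₂` -/
def N2 (Y2 : Subgroup (Equiv.Perm (Co T))) : Prop := ∃ n ∈ Y2, ∀ u ∈ sQ2 T, n u = u.nu2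

/-- the realizing group -/
structure Rl (p : ℕ) (Γ : Subgroup (DD K)) {G : Type*} [Group G] (ι : Co T →* G) : Prop where
  inj : Function.Injective ι
  syl : ∃ S : Sylow p G, (S : Subgroup G) = ι.range
  nor : ∀ g ∈ normalizer (ι.range : Set G), ∃ s, ∃ δ ∈ Γ, ∀ u, g * ι u * g⁻¹ = ι (s * sd T δ u * s⁻¹)
  std : ∀ δ ∈ Γ, ∃ g, ∀ u, g * ι u * g⁻¹ = ι (sd T δ u)
  n1 : ∃ g, ∀ u ∈ sQ1 T, g * ι u * g⁻¹ = ι u.nu1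
  n2 : ∃ g, ∀ u ∈ sQ2 T, g * ι u * g⁻¹ = ι u.nu2

end Co

/-! ### General slots -/

/-- the bound for quadratic subgroups -/
def JobQ : Prop := ∀ (p : ℕ) [Fact p.Prime] (X V : Type v) [Group X] [Finite X] [CommGroup V] [Finite V]
  (H A : Subgroup X) (ρ : X →* MulAut V), IsPGroup p V → H ≠ ⊤ → A ≤ H → ρ.ker ≤ H →
  (∀ g, g ∉ H → ∀ a ∈ A, g * a * g⁻¹ ∈ H → ρ a = 1) →
  (∀ a ∈ A, ∀ b ∈ A, ∀ w : V, ρ a (w⁻¹ * ρ b w) = w⁻¹ * ρ b w) →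
  ∀ s ∈ A, ρ s ≠ 1 → Nat.card (A.map ρ) ≤ (Set.range fun w : V => w⁻¹ * ρ s w).ncard

/-- the dichotomy along a central series -/
def JobD : Prop := JobQ.{v} → ∀ (p : ℕ) [Fact p.Prime] (P : Type v) [Group P] [Finite P], IsPGroup p P →
  ∀ F : Cfsg.FusionSystem (⊤ : Subgroup P), F.IsSaturated p → ∀ E, F.IsEssential p E →
  ∀ (z : ℕ → Subgroup P) (n : ℕ), z 0 = ⊥ → (∀ i, z i ≤ z (i + 1)) →
  (∀ i < n, ∀ c ∈ z (i + 1), c ^ p ∈ z i ∧ ∀ s, cm s c ∈ z i) →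
  (∀ s, (∀ c ∈ z n, s * c = c * s) → s ∈ z n) → ∃ i < n, ∃ M, Bq p z i E M

/-- a statement about all fields -/
def All (f : ∀ (_ : ℕ) {K : Type v} [Field K] [Finite K], BF K → Prop) : Prop :=
  ∀ (p : ℕ) [Fact p.Prime] (K : Type v) [Field K] [Finite K] [CharP K p] (T : BF K), f p T

/-! ### The essential subgroups -/

def JobL0 : Prop := All.{v} fun p _ _ _ T => ∀ E M, Bq p (zA T) 0 E M → E = sQ2 T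
def JobL1 : Prop := All.{v} fun p _ _ _ T =>
  (∀ E M, Bq p (zA T) 1 E M → E = sQ1 T) ∧ ∀ E M, ¬ Bq p (zA T) 2 E M

/-! ### Automorphisms -/

def JobA1 : Prop := All.{v} fun _ _ _ _ T => A1 T
def JobA2 : Prop := All.{v} fun _ _ _ _ T => A2 T
def JobAS : Prop := All.{v} fun _ _ _ _ T => A2 T → AS T

def JobTri : Prop := All.{v} fun p _ _ _ T => AS T →
  ∀ F : Cfsg.FusionSystem (⊤ : Subgroup (Co T)), F.IsSaturated p →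
    Tri T p (aY F ⊤) (aY F (sQ1 T)) (aY F (sQ2 T))

def JobOa : Prop := All.{v} fun p _ _ _ T => A1 T → ∀ Y0 Y1 Y2, Tri T p Y0 Y1 Y2 → Opp T Y1

def JobOb : Prop := All.{v} fun p _ _ _ T => A1 T → ∀ Y0 Y1 Y2, Tri T p Y0 Y1 Y2 → Opp T Y1 →
  ∃ β γ δ, Om T β γ δ Y1 ∧ Par T β γ δ

def JobOc : Prop := All.{v} fun p K _ _ T => ∀ Y0 Y1 Y2, Tri T p Y0 Y1 Y2 → Opp T Y1 →
  ∀ β γ δ, Om T β γ δ Y1 → Par T β γ δ →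
  (((2 : K) ≠ 0 ∨ ∀ x, T.σ x = x ^ 2) → ∃ θ, Om T 0 0 0 (cjY θ Y1)) ∧
  ((2 : K) = 0 → (∃ x, T.σ x ≠ x ^ 2) → (∀ s, HT T Y0 (t2 s)) → Om T 0 0 0 Y1) ∧
  ((∀ s, HT T Y0 (t1 T s)) → Om T 0 0 0 Y1)

def JobG1 : Prop := All.{v} fun p _ _ _ T => ∀ Y0 Y1 Y2, Tri T p Y0 Y1 Y2 → Opp T Y1 → Om T 0 0 0 Y1 →
  (∃ α ∈ Y1, ¬ Pr α (sZ2 T)) → G1 T Y1

def JobG2 : Prop := All.{v} fun p _ _ _ T => A2 T → ∀ Y0 Y1 Y2, Tri T p Y0 Y1 Y2 →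
  (∃ α ∈ Y2, ¬ Pr α (sZ3 T)) → G2 T Y2

def JobHall : Prop := All.{v} fun p K _ _ T => AS T → ∀ Y0 Y1 Y2, Tri T p Y0 Y1 Y2 →
  ∃ (θ : MulAut (Co T)) (Γ : Subgroup (DD K)), (Nat.card Γ).Coprime p ∧ St0 T Γ (cjY θ Y0) ∧
    ∀ δ, (∃ y ∈ Y0, Cg (z0 T) 6 y (sd T δ)) → δ ∈ Γ

def JobN1 : Prop := All.{v} fun p _ _ _ T => ∀ Y0 Y1 Y2, Tri T p Y0 Y1 Y2 → G1 T Y1 →
  (∀ s, HT T Y0 (t1 T s)) → (∀ s, HT T Y0 (t2 s)) → N1 T Y1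

def JobN2 : Prop := All.{v} fun p _ _ _ T => ∀ Y0 Y1 Y2, Tri T p Y0 Y1 Y2 → G2 T Y2 →
  (∀ s, HT T Y0 (t1 T s)) → (∀ s, HT T Y0 (t2 s)) → N2 T Y2

def JobReal : Prop := All.{v} fun p K _ _ T => ∀ Γ : Subgroup (DD K), (Nat.card Γ).Coprime p →
  (∀ s, SemidirectProduct.inl (t1 T s) ∈ Γ) → (∀ s, SemidirectProduct.inl (t2 s) ∈ Γ) →
  ∃ (G : Type v) (_ : Group G) (_ : Finite G) (ι : Co T →* G), Rl T p Γ ι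

def JobModel : Prop := ∀ (p : ℕ) [Fact p.Prime] (K : Type v) [Field K] [Fintype K] [CharP K p] (n : ℕ),
  1 ≤ n → Fintype.card K = (p ^ n) ^ 2 → ∀ S : Sylow p (Cfsg.PSU 5 K (p ^ n)),
  ∃ T : BF K, Nonempty ((S : Subgroup (Cfsg.PSU 5 K (p ^ n))) ≃* Co T)

end H90.U5
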