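/- U5 tower (row S5258): basic lemmas. -/
import Cfsg.Agent.H90.U5Spec

set_option autoImplicit false
set_option linter.unusedSectionVars false
set_option linter.unusedSimpArgs false

open Subgroup H90.RF

namespace H90.U5

section Gen
variable {P : Type*} [Group P] {X E M : Subgroup P} {z : ℕ → Subgroup P} {i p : ℕ}

namespace Bq

theorem gen_le (h : Bq p z i E M) (k : ∀ β, Ok z i E β → ∀ u ∈ z (i + 1), β u ∈ M → β u ∈ X) : M ≤ X :=
  h.gen.trans ((closure_le _).2 fun _ ⟨hm, β, hβ, u, hu, e⟩ => e ▸ k β hβ u hu (e ▸ hm))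

theorem min (h : Bq p z i E M) (hX : z (i + 1) ≤ X) (k : ∀ β, Ok z i E β → Pr β X) : M ≤ X :=
  h.gen_le fun β hβ u hu _ => k β hβ u (hX hu)

/-- `M` is not central modulo `z i` -/
theorem not_le (h : Bq p z i E M) (k : ∀ c ∈ X, ∀ s, cm s c ∈ z i) : ¬ M ≤ X := fun hX =>
  h.ne (eq_top_iff.2 fun s _ => (h.cen s).2 fun m hm => k m (hX hm) s)

theorem b2' (h : Bq p z i E M) {B : Subgroup P} (hB : B ≤ normalizer (E : Set P))
    (qu : ∀ x ∈ B, ∀ y ∈ B, ∀ m ∈ M, cm x (cm y m) ∈ z i) {s : P} (hs : s ∈ B) (hs' : s ∉ E)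
    {ι κ : Type*} [Finite ι] [Finite κ] (f : ι → P) (g : κ → P) (hf : ∀ x, f x ∈ B)
    (inj : ∀ x y, (f x)⁻¹ * f y ∈ E → x = y) (cov : ∀ m ∈ M, ∃ k, (g k)⁻¹ * cm s m ∈ z i) :
    Nat.card ι ≤ Nat.card κ :=
  h.b2 B hB qu s hs hs' _ _ (f ∘ (Finite.equivFin ι).symm) (g ∘ (Finite.equivFin κ).symm) (fun _ => hf _)
    (fun _ _ e => (Finite.equivFin ι).symm.injective (inj _ _ e)) fun m hm =>
      (cov m hm).elim fun k hk => ⟨Finite.equivFin κ k, by simpa using hk⟩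

/-- `q²` cosets against `q` -/
theorem no2 (h : Bq p z i E M) {B : Subgroup P} (hB : B ≤ normalizer (E : Set P))
    (qu : ∀ x ∈ B, ∀ y ∈ B, ∀ m ∈ M, cm x (cm y m) ∈ z i) {s : P} (hs : s ∈ B) (hs' : s ∉ E)
    {κ : Type*} [Finite κ] [Nontrivial κ] (f : κ → κ → P) (g : κ → P) (hf : ∀ x y, f x y ∈ B)
    (inj : ∀ x y x' y', (f x y)⁻¹ * f x' y' ∈ E → x = x' ∧ y = y')
    (cov : ∀ m ∈ M, ∃ k, (g k)⁻¹ * cm s m ∈ z i) : False := by
  have := h.b2' hB qu hs hs' (fun x : κ × κ => f x.1 x.2) g (fun _ => hf _ _)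
    (fun _ _ e => Prod.ext (inj _ _ _ _ e).1 (inj _ _ _ _ e).2) cov
  have h2 := Finite.one_lt_card (α := κ)
  rw [Nat.card_prod] at this
  nlinarith

/-- `q` cosets modulo an overgroup `X` of `B ∩ E` against `q` -/
theorem full (h : Bq p z i E M) {B : Subgroup P} (hB : B ≤ normalizer (E : Set P))
    (qu : ∀ x ∈ B, ∀ y ∈ B, ∀ m ∈ M, cm x (cm y m) ∈ z i) {s : P} (hs : s ∈ B) (hs' : s ∉ E)
    (hX : ∀ x ∈ B, x ∈ E → x ∈ X) (hXB : X ≤ B) {κ : Type*} [Finite κ] [Nonempty κ] (f g : κ → P)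
    (hf : ∀ x, f x ∈ B) (inj : ∀ x y, (f x)⁻¹ * f y ∈ X → x = y)
    (cov : ∀ m ∈ M, ∃ k, (g k)⁻¹ * cm s m ∈ z i) : X ≤ E := by
  refine fun t ht => by_contra fun ht' => ?_
  have hb : ∀ x : κ × Bool, (if x.2 then f x.1 * t else f x.1) ∈ B := fun x => by
    split_ifs; exacts [mul_mem (hf _) (hXB ht), hf _]
  have := h.b2' hB qu hs hs' (fun x : κ × Bool => if x.2 then f x.1 * t else f x.1) g hb (fun x y e => ?_) cov
  · have h2 := Nat.card_pos (α := κ)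
    rw [Nat.card_prod, Nat.card_eq_fintype_card (α := Bool), Fintype.card_bool] at this
    omega
  · have e' := hX _ (mul_mem (inv_mem (hb x)) (hb y)) e
    obtain ⟨x, a⟩ := x
    obtain ⟨y, b⟩ := y
    cases a <;> cases b <;> simp only [Bool.false_eq_true, if_false, if_true] at e e'
    · rw [inj x y e']
    · obtain rfl := inj x y (by simpa [mul_assoc] using mul_mem e' (inv_mem ht))
      exact absurd (by simpa using e) ht'
    · obtain rfl := inj x y (by simpa [mul_assoc] using mul_mem ht e')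
      exact absurd (by simpa using e) ht'
    · rw [inj x y (by simpa [mul_assoc] using mul_mem (mul_mem ht e') (inv_mem ht))]

end Bq

theorem cm_mem_commutator {Y : Subgroup P} {s m : P} (hs : s ∈ X) (hm : m ∈ Y) : cm s m ∈ ⁅Y, X⁆ := by
  simpa [cm, commutatorElement_def, mul_assoc] using commutator_mem_commutator (inv_mem hm) hs

theorem commutator_le_of_cm {Y U : Subgroup P} (h : ∀ s ∈ X, ∀ m ∈ Y, cm s m ∈ U) : ⁅Y, X⁆ ≤ U :=
  commutator_le.2 fun m hm s hs => by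
    simpa [cm, commutatorElement_def, mul_assoc] using h s hs m⁻¹ (inv_mem hm)

end Gen

/-! ### The field -/

variable {K : Type*} [Field K] (T : BF K)

namespace BF

theorem inj {x y : K} (h : T.σ x = T.σ y) : x = y := T.σ.injective h

theorem nm_zero {x : K} (h : x * T.σ x = 0) : x = 0 := by simpa using h

/-- the fixed field, as an index type -/
abbrev κ : Type _ := {x : K // T.σ x = x}

instance instNontrivialκ : Nontrivial T.κ := ⟨⟨0, map_zero _⟩, ⟨1, map_one _⟩, by simp⟩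

theorem exists_tr {n : K} (h : T.σ n = n) : ∃ g, g + T.σ g = n :=
  ⟨T.ρ * n, by rw [map_mul, h]; linear_combination n * T.ρ_tr⟩

theorem exists_sub {e : K} (h : e + T.σ e = 0) : ∃ t, e = t - T.σ t :=
  ⟨T.ρ * e, by rw [map_mul]; linear_combination T.σ T.ρ * h - e * T.ρ_tr⟩

theorem exists_ε {e : K} (h : e + T.σ e = 0) : ∃ l : T.κ, e = l * T.ε :=
  ⟨⟨e / T.ε, by rw [map_div₀, T.σε, show T.σ e = -e by linear_combination h, neg_div_neg_eq]⟩,
    (div_mul_cancel₀ e T.ε_ne).symm⟩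

theorem pair_inj {x y x' y' : T.κ} (h : (x : K) + y * T.ω = x' + y' * T.ω) : x = x' ∧ y = y' := by
  have h' := congrArg T.σ h
  simp only [map_add, map_mul, x.2, y.2, x'.2, y'.2] at h'
  have e : (y : K) = y' := mul_right_cancel₀ T.ε_ne (by rw [ε]; linear_combination h - h')
  exact ⟨Subtype.ext (by rw [e] at h; exact add_right_cancel h), Subtype.ext e⟩

theorem exists_pair (t : K) : ∃ x y : T.κ, t = x + y * T.ω := by
  obtain ⟨y, hy⟩ := T.exists_ε (e := t - T.σ t) (by simp [T.sq])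
  exact ⟨⟨t - y * T.ω, by rw [map_sub, map_mul, y.2]; rw [ε] at hy; linear_combination -hy⟩, y, by simp⟩

/-- `x σy` fixed by `σ` means that `x` is a multiple of `y` over the fixed field -/
theorem exists_mul {x y : K} (hy : y ≠ 0) (h : x * T.σ y = y * T.σ x) : ∃ l : T.κ, x = l * y :=
  ⟨⟨x / y, by
    have : T.σ y ≠ 0 := (map_ne_zero _).2 hy
    rw [map_div₀]; field_simp; linear_combination -h⟩, (div_mul_cancel₀ x hy).symm⟩

/-- a map `t ↦ x t + y σt` determines `x` and `y` -/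
theorem lin_zero {x y : K} (h : ∀ t, x * t + y * T.σ t = 0) : x = 0 ∧ y = 0 := by
  have h1 := h 1
  have h2 := h T.ω
  rw [map_one] at h1
  have e : x = 0 := by
    refine mul_right_cancel₀ T.ε_ne ?_
    rw [ε]; linear_combination h2 - T.σ T.ω * h1
  exact ⟨e, by simpa [e] using h1⟩

/-- a map that is linear over the fixed field -/
theorem exists_lin (f : K → K) (ha : ∀ x y, f (x + y) = f x + f y)
    (hl : ∀ (l : T.κ) x, f (l * x) = l * f x) : ∃ a b, ∀ t, f t = a * t + b * T.σ t := by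
  refine ⟨(f T.ω - f 1 * T.σ T.ω) / T.ε, (f 1 * T.ω - f T.ω) / T.ε, fun t => ?_⟩
  obtain ⟨x, y, rfl⟩ := T.exists_pair t
  have := T.ε_ne
  have h1 := hl x 1
  rw [mul_one] at h1
  rw [ha, h1, hl, map_add, map_mul, x.2, y.2]
  field_simp
  rw [ε]; ring

/-- the norm is onto -/
theorem exists_nm [Finite K] {n : K} (h : T.σ n = n) : ∃ b, b * T.σ b = n := by
  by_cases hn : n = 0
  · exact ⟨0, by simp [hn]⟩
  let N : Kˣ →* Kˣ := MonoidHom.id _ * Units.map (T.σ : K →* K)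
  let D : Kˣ →* Kˣ := MonoidHom.id _ / Units.map (T.σ : K →* K)
  have hN : ∀ x : Kˣ, (N x : K) = x * T.σ x := fun _ => rfl
  have hD : ∀ x : Kˣ, (D x : K) = x / T.σ x := fun x => by simp [D]
  have h1 : N.range ≤ D.ker := by
    rintro _ ⟨x, rfl⟩
    refine Units.ext ?_
    rw [hD, hN, map_mul, T.sq, mul_comm, div_self (by simp), Units.val_one]
  have h2 : N.ker ≤ D.range := fun x hx => by
    have hx' : (x : K) * T.σ x = 1 := congrArg Units.val (MonoidHom.mem_ker.1 hx)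
    obtain ⟨t, ht⟩ : ∃ t, t + x * T.σ t ≠ 0 := by_contra fun k => one_ne_zero (T.lin_zero (x := 1) (y := x)
      fun t => by simpa using not_exists.1 k t).1
    refine ⟨Units.mk0 _ ht, Units.ext ?_⟩
    rw [hD, Units.val_mk0, div_eq_iff ((map_ne_zero _).2 ht), map_add, map_mul, T.sq]
    linear_combination -t * hx'
  have c1 := N.ker.card_mul_index
  have c2 := D.ker.card_mul_index
  rw [index_ker] at c1 c2
  have c3 := card_le_of_le h2
  have c4 : Nat.card D.ker ≤ Nat.card N.range := by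
    have := Nat.card_pos (α := D.range)
    nlinarith
  obtain ⟨b, hb⟩ : Units.mk0 n hn ∈ N.range := by
    rw [eq_of_le_of_card_ge h1 c4]
    exact Units.ext (by rw [hD, Units.val_mk0, h, div_self hn, Units.val_one])
  exact ⟨b, congrArg Units.val hb⟩

theorem exists_uu [Finite K] (e : K) : ∃ b, e + T.σ e = b * T.σ b :=
  (T.exists_nm (n := e + T.σ e) (by simp [T.sq, add_comm])).imp fun _ => Eq.symm

end BF

/-- an additive map that is multiplicative up to a scalar -/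
theorem exists_semi [Finite K] (f : K → K) (ha : ∀ x y, f (x + y) = f x + f y) (h1 : f 1 ≠ 0)
    (hm : ∀ x y, f (x * y) * f 1 = f x * f y) : ∃ φ : RingAut K, ∀ x, f x = f 1 * φ x := by
  have h0 : f 0 = 0 := by simpa using ha 0 0
  let φ : K →+* K :=
    { toFun := fun x => f x / f 1, map_one' := div_self h1, map_zero' := by simp [h0]
      map_add' := fun x y => by rw [ha, add_div]
      map_mul' := fun x y => by field_simp; exact hm x y }
  exact ⟨RingEquiv.ofBijective φ (Finite.injective_iff_bijective.1 φ.injective),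
    fun x => (mul_div_cancel₀ (f x) h1).symm⟩

/-! ### Commutators -/

variable {T}

@[simp] theorem cm_a (s m : Co T) : (cm s m).a = 0 := by simp [cm]
@[simp] theorem cm_b (s m : Co T) : (cm s m).b = 0 := by simp [cm]
theorem cm_c (s m : Co T) : (cm s m).c = s.a * m.b - m.a * s.b := by simp [cm]; ring
theorem cm_e (s m : Co T) : (cm s m).e = s.b * T.σ m.b - m.b * T.σ s.b := by simp [cm, Co.σe]; ring
theorem cm_d (s m : Co T) : (cm s m).d = s.a * m.e - m.a * s.e + s.c * T.σ m.b - m.c * T.σ s.b -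
    m.a * (s.b * T.σ m.b - m.b * T.σ s.b) - (s.a * m.b - m.a * s.b) * T.σ s.b := by
  simp [cm, Co.σe, T.sq]; ring
/-- the last coordinate when `b = 0` in both and `a e` vanishes crosswise is `cm_g1`, `cm_g2`, `cm_gZ` -/
theorem cm_g1 {s m : Co T} (hs : s ∈ sQ1 T) (hm : m ∈ sQ1 T) : (cm s m).g =
    s.a * T.σ m.d - s.c * T.σ m.c + s.d * T.σ m.a - (m.a * T.σ s.d - m.c * T.σ s.c + m.d * T.σ s.a) := by
  simp [cm, Co.σg, T.sq, hs.1, hs.2, hm.1, hm.2]; ring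
theorem cm_g2 {s m : Co T} (hs : s.a = 0) (hm : m.a = 0) : (cm s m).g = m.c * T.σ s.c - s.c * T.σ m.c := by
  simp [cm, Co.σg, Co.σe, T.sq, hs, hm]; ring
theorem cm_gZ (s : Co T) {m : Co T} (hm : m ∈ sZ2 T) : (cm s m).g = s.a * T.σ m.d - T.σ s.a * m.d := by
  simp [cm, Co.σg, Co.σe, T.sq, hm.1, hm.2.1, hm.2.2.1, hm.2.2.2]; ring
theorem cm_gB {s m : Co T} (hs : s ∈ sB T) (hm : m.b = 0) : (cm s m).g =
    s.d * T.σ m.a - m.a * T.σ s.d + m.c * T.σ s.c - s.c * T.σ m.c := by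
  simp [cm, Co.σg, Co.σe, T.sq, hs.1, hs.2.1, hs.2.2, hm]; ring

theorem cm_Z3 (s m : Co T) : cm s m ∈ sZ3 T := ⟨cm_a s m, cm_b s m⟩
theorem cm_Z2 (s : Co T) {m : Co T} (hm : m ∈ sZ3 T) : cm s m ∈ sZ2 T :=
  ⟨cm_a s m, cm_b s m, by simp [cm_c, hm.1, hm.2], by simp [cm_e, hm.2]⟩
theorem cm_Z2' {s : Co T} (hs : s ∈ sZ3 T) (m : Co T) : cm s m ∈ sZ2 T :=
  ⟨cm_a s m, cm_b s m, by simp [cm_c, hs.1, hs.2], by simp [cm_e, hs.2]⟩
theorem cm_Z (s : Co T) {m : Co T} (hm : m ∈ sZ2 T) : cm s m ∈ sZ T :=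
  ⟨cm_a s m, cm_b s m, by simp [cm_c, hm.1, hm.2.1], by simp [cm_e, hm.2.1],
    by simp [cm_d, hm.1, hm.2.1, hm.2.2.1, hm.2.2.2]⟩
theorem cm_one (s : Co T) {m : Co T} (hm : m ∈ sZ T) : cm s m = 1 := by
  obtain ⟨h1, h2, h3, h4, h5⟩ := hm
  ext <;> simp [cm_c, cm_e, cm_d, cm_gZ s ⟨h1, h2, h3, h4⟩, *]
theorem cm_R {s m : Co T} (hs : s ∈ sR T) (hm : m ∈ sR T) : cm s m ∈ sZ2 T := by
  rw [mem_sR] at hs hm
  exact ⟨cm_a s m, cm_b s m, by simp [cm_c, hs, hm], by simp [cm_e, hs, hm]⟩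
theorem cm_Q1 {s m : Co T} (hs : s ∈ sQ1 T) (hm : m ∈ sQ1 T) : cm s m ∈ sZ T :=
  ⟨cm_a s m, cm_b s m, by simp [cm_c, hs.1, hm.1], by simp [cm_e, hs.1, hm.1],
    by simp [cm_d, hs.1, hs.2, hm.1, hm.2]⟩
theorem cm_Q2 {s m : Co T} (hs : s ∈ sQ2 T) (hm : m ∈ sQ2 T) : cm s m ∈ sV T := by
  rw [mem_sQ2] at hs hm
  exact ⟨cm_a s m, cm_b s m, by simp [cm_c, hs, hm]⟩
theorem cm_V {s m : Co T} (hs : s ∈ sQ2 T) (hm : m ∈ sV T) : cm s m = 1 := by
  rw [mem_sQ2] at hs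
  obtain ⟨h1, h2, h3⟩ := hm
  ext <;> simp [cm_c, cm_e, cm_d, cm_g2 hs h1, *]

/-- the action on `Q₁ / Z` -/
theorem cj_Q1 (s : Co T) {u : Co T} (hu : u ∈ sQ1 T) : (s⁻¹ * u * s).a = u.a ∧
    (s⁻¹ * u * s).c = u.c + u.a * s.b ∧ (s⁻¹ * u * s).d = u.d + u.a * s.e + u.c * T.σ s.b := by
  refine ⟨by simp, by simp [hu.1]; ring, by simp [hu.1, hu.2, Co.σe]; ring⟩

/-- the action on `Q₂ / V` -/
theorem cj_Q2 (s : Co T) {u : Co T} (hu : u ∈ sQ2 T) :
    (s * u * s⁻¹).c = u.c + s.a * u.b ∧ (s * u * s⁻¹).b = u.b := by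
  rw [mem_sQ2] at hu
  exact ⟨by simp [hu]; ring, by simp⟩

theorem eq_of_Z {u w : Co T} (hu : u ∈ sZ T) (hw : w ∈ sZ T) (h : u.g = w.g) : u = w := by
  ext <;> simp [hu.1, hu.2.1, hu.2.2.1, hu.2.2.2.1, hu.2.2.2.2, hw.1, hw.2.1, hw.2.2.1, hw.2.2.2.1,
    hw.2.2.2.2, h]

theorem Z_tr {u : Co T} (hu : u ∈ sZ T) : u.g + T.σ u.g = 0 := by
  simpa [hu.1, hu.2.2.1] using u.hg

theorem R_tr {u : Co T} (hu : u.b = 0) : u.e + T.σ u.e = 0 := by simpa [hu] using u.he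

theorem w1_mem (a c d : K) : w1 T a c d ∈ sQ1 T := by simp [mem_sQ1, w1, xa, xc, xd]
@[simp] theorem w1_a (a c d : K) : (w1 T a c d).a = a := by simp [w1, xa, xc, xd]
@[simp] theorem w1_c (a c d : K) : (w1 T a c d).c = c := by simp [w1, xa, xc, xd]
@[simp] theorem w1_d (a c d : K) : (w1 T a c d).d = d := by simp [w1, xa, xc, xd]
theorem w2_mem (c b : K) : w2 T c b ∈ sQ2 T := by simp [mem_sQ2, w2, xc, xb]
@[simp] theorem w2_c (c b : K) : (w2 T c b).c = c := by simp [w2, xc, xb]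
@[simp] theorem w2_b (c b : K) : (w2 T c b).b = b := by simp [w2, xc, xb]

/-- congruence modulo `Z` in `Q₁` -/
theorem Q1_mod {u w : Co T} (hu : u ∈ sQ1 T) (hw : w ∈ sQ1 T) :
    u⁻¹ * w ∈ sZ T ↔ w.a = u.a ∧ w.c = u.c ∧ w.d = u.d := by
  simp only [mem_sZ, Co.mul_a, Co.mul_b, Co.mul_c, Co.mul_e, Co.mul_d, Co.inv_a, Co.inv_b, Co.inv_c, Co.inv_e,
    Co.inv_d, hu.1, hu.2, hw.1, hw.2, map_zero]
  grind

/-- congruence modulo `V` in `Q₂` -/
theorem Q2_mod {u w : Co T} (hu : u ∈ sQ2 T) (hw : w ∈ sQ2 T) : u⁻¹ * w ∈ sV T ↔ w.c = u.c ∧ w.b = u.b := by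
  rw [mem_sQ2] at hu hw
  simp only [mem_sV, Co.mul_a, Co.mul_b, Co.mul_c, Co.inv_a, Co.inv_b, Co.inv_c, hu, hw]
  grind

/-! ### Normal subgroups -/

theorem Z_le : sZ T ≤ sZ2 T := fun _ h => ⟨h.1, h.2.1, h.2.2.1, h.2.2.2.1⟩
theorem Z2_le_V : sZ2 T ≤ sV T := fun _ h => ⟨h.1, h.2.1, h.2.2.1⟩
theorem V_le : sV T ≤ sZ3 T := fun _ h => ⟨h.1, h.2.1⟩
theorem Z3_le : sZ3 T ≤ sQ2 T := fun _ h => h.1
theorem Z2_le_B : sZ2 T ≤ sB T := fun _ h => ⟨h.1, h.2.1, h.2.2.2⟩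
theorem B_le : sB T ≤ sQ1 T := fun _ h => h.2
theorem Z2_le_Q1 : sZ2 T ≤ sQ1 T := Z2_le_B.trans B_le
theorem Q1_le : sQ1 T ≤ sR T := fun _ h => h.1

theorem normal_of_cm {P : Type*} [Group P] {X : Subgroup P} (h : ∀ s, ∀ m ∈ X, cm s m ∈ X) : X.Normal :=
  ⟨fun m hm s => by rw [conj_eq_cm]; exact mul_mem hm (h s m hm)⟩

instance nZ : (sZ T).Normal := normal_of_cm fun s _ h => by rw [cm_one s h]; exact one_mem _
instance nZ2 : (sZ2 T).Normal := normal_of_cm fun s _ h => Z_le (cm_Z s h)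
instance nV : (sV T).Normal := normal_of_cm fun s _ h => Z2_le_V (cm_Z2 s (V_le h))
instance nZ3 : (sZ3 T).Normal := normal_of_cm fun s m _ => cm_Z3 s m
instance nQ2 : (sQ2 T).Normal := normal_of_cm fun s m _ => cm_a s m
instance nR : (sR T).Normal := normal_of_cm fun s m _ => cm_b s m
instance nQ1 : (sQ1 T).Normal := normal_of_cm fun s m h => ⟨cm_b s m, by simp [cm_e, h.1]⟩
instance nB : (sB T).Normal := normal_of_cm fun s m h => ⟨cm_a s m, cm_b s m, by simp [cm_e, h.2.1]⟩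
instance nz0 (j : ℕ) : (z0 T j).Normal := by unfold z0; split <;> infer_instance

theorem z0_mono (i : ℕ) : z0 T i ≤ z0 T (i + 1) := by
  rcases i with _ | _ | _ | _ | _ | _ | i
  exacts [bot_le, Z_le, Z2_le_V, V_le, Z3_le, le_top, le_rfl]

/-- `S` acts trivially on the factors of `z0` -/
theorem z0_cm : ∀ i < 6, ∀ u ∈ z0 T (i + 1), ∀ s, cm s u ∈ z0 T i := by
  intro i hi u hu s
  interval_cases i
  exacts [cm_one s hu, cm_Z s hu, cm_Z2 s (V_le hu), Z2_le_V (cm_Z2 s hu), cm_Z3 s u, cm_a s u]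

theorem pow_a (u : Co T) (n : ℕ) : (u ^ n).a = n * u.a := by
  induction n with
  | zero => simp
  | succ n ih => rw [pow_succ, Co.mul_a, ih]; push_cast; ring

theorem pow_Q2 {u : Co T} (h : u.a = 0) (n : ℕ) : (u ^ n).b = n * u.b ∧ (u ^ n).c = n * u.c := by
  induction n with
  | zero => simp
  | succ n ih => rw [pow_succ, Co.mul_b, Co.mul_c, ih.1, ih.2, pow_a, h]; push_cast; constructor <;> ring

theorem pow_Z3 {u : Co T} (h : u ∈ sZ3 T) (n : ℕ) : (u ^ n).e = n * u.e ∧ (u ^ n).d = n * u.d := by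
  induction n with
  | zero => simp
  | succ n ih =>
    rw [pow_succ, Co.mul_e, Co.mul_d, ih.1, ih.2, pow_a, h.1, h.2]; push_cast; constructor <;> simp <;> ring

theorem pow_V {u : Co T} (h : u ∈ sV T) (n : ℕ) : (u ^ n).g = n * u.g := by
  induction n with
  | zero => simp
  | succ n ih => rw [pow_succ, Co.mul_g, ih, pow_a, h.1, h.2.2]; push_cast; simp; ring

theorem z0_pow (p : ℕ) [CharP K p] : ∀ i < 6, ∀ u ∈ z0 T (i + 1), u ^ p ∈ z0 T i := by
  intro i hi u hu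
  have hp := pow_mem hu p
  interval_cases i
  · exact eq_of_Z hp (one_mem _) (by simp [pow_V (Z2_le_V (Z_le hu))])
  · exact ⟨hp.1, hp.2.1, hp.2.2.1, hp.2.2.2, by simp [pow_Z3 (V_le (Z2_le_V hu))]⟩
  · exact ⟨hp.1, hp.2.1, hp.2.2, by simp [pow_Z3 (V_le hu)]⟩
  · exact ⟨hp.1, hp.2, by simp [pow_Q2 hu.1]⟩
  · exact ⟨hp, by simp [pow_Q2 hu]⟩
  · exact (mem_sQ2 T).2 (by simp [pow_a])

theorem pgroup_Co (p : ℕ) [CharP K p] : IsPGroup p (Co T) := fun u => ⟨6, by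
  have h := z0_pow (T := T) p
  have := h 0 (by omega) _ (h 1 (by omega) _ (h 2 (by omega) _ (h 3 (by omega) _ (h 4 (by omega) _
    (h 5 (by omega) u trivial)))))
  simp only [← pow_mul] at this
  rw [show p ^ 6 = p * p * p * p * p * p by ring]
  exact this⟩

/-! ### The standard automorphisms -/

theorem au_nu1 : Au (sQ1 T) Co.nu1 := by
  have h : ∀ u ∈ sQ1 T, u.nu1.nu1 = u := fun u hu => by ext <;> simp [Co.nu1, hu.1, hu.2]
  exact ⟨fun _ _ => ⟨rfl, rfl⟩, fun u hu w hw => by ext <;> simp [Co.nu1, hu.1, hu.2, hw.1, hw.2] <;> ring,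
    fun u hu e => by rw [← h u hu, e]; ext <;> simp [Co.nu1], fun u hu => ⟨u.nu1, ⟨rfl, rfl⟩, h u hu⟩⟩

theorem nu1_nu1 {u : Co T} (hu : u ∈ sQ1 T) : u.nu1.nu1 = u := by ext <;> simp [Co.nu1, hu.1, hu.2]

theorem nu2_nu2 {u : Co T} (hu : u ∈ sQ2 T) : u.nu2.nu2 = u := by
  rw [mem_sQ2] at hu
  ext <;> simp [Co.nu2, hu, T.sq, mul_comm]

theorem au_nu2 : Au (sQ2 T) Co.nu2 :=
  ⟨fun _ _ => rfl, fun u hu w hw => by
    rw [mem_sQ2] at hu hw
    ext <;> simp [Co.nu2, hu, hw, T.sq] <;> ring,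
    fun u hu e => by rw [← nu2_nu2 hu, e]; ext <;> simp [Co.nu2], fun u hu => ⟨u.nu2, rfl, nu2_nu2 hu⟩⟩

theorem dg_mul (x y : K) (u w : Co T) : dg T x y (u * w) = dg T x y u * dg T x y w := by
  ext <;> simp [dg, T.sq] <;> ring

theorem dg_dg (x y x' y' : K) (u : Co T) : dg T x y (dg T x' y' u) = dg T (x * x') (y * y') u := by
  ext <;> simp [dg] <;> ring

theorem dg_one (u : Co T) : dg T 1 1 u = u := by ext <;> simp [dg]

variable [Finite K]

theorem sd_mul (δ : DD K) (u w : Co T) : sd T δ (u * w) = sd T δ u * sd T δ w := by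
  rw [sd, sd, sd, ← dg_mul]; congr 1
  ext <;> simp [fa, T.comm]

theorem ψ_fst (φ : RingAut K) (x : Kˣ × Kˣ) : ((ψ K φ x).1 : K) = φ x.1 := rfl
theorem ψ_snd (φ : RingAut K) (x : Kˣ × Kˣ) : ((ψ K φ x).2 : K) = φ x.2 := rfl

theorem sd_sd (δ δ' : DD K) (u : Co T) : sd T δ (sd T δ' u) = sd T (δ * δ') u := by
  ext <;> simp [sd, dg, fa, ψ_fst, ψ_snd, T.comm] <;> ring

theorem sd_one (u : Co T) : sd T 1 u = u := dg_one u

theorem sd_inl (x : Kˣ × Kˣ) (u : Co T) : sd T (SemidirectProduct.inl x) u = dg T x.1 x.2 u := rfl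

theorem au_sd (δ : DD K) : Au ⊤ (sd T δ) :=
  Au.of_inj (fun _ _ => trivial) (fun u _ w _ => sd_mul δ u w) fun u _ w _ e => by
    rw [← sd_one u, ← inv_mul_cancel δ, ← sd_sd, e, sd_sd, inv_mul_cancel, sd_one]

theorem au_dg (x : Kˣ × Kˣ) : Au ⊤ (dg T x.1 x.2) := au_sd (SemidirectProduct.inl x)

variable (T) in
/-- the standard automorphisms as a homomorphism -/
noncomputable def sdH : DD K →* MulAut (Co T) :=
  MonoidHom.mk' (fun δ => (au_sd δ).toTop) fun δ δ' => MulEquiv.ext fun u => (sd_sd δ δ' u).symm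

theorem sdH_apply (δ : DD K) (u : Co T) : sdH T δ u = sd T δ u := rfl

theorem sd_a (δ : DD K) (u : Co T) : (sd T δ u).a = δ.left.1 * δ.right u.a := rfl
theorem sd_b (δ : DD K) (u : Co T) : (sd T δ u).b = δ.left.2 * δ.right u.b := rfl
theorem sd_c (δ : DD K) (u : Co T) : (sd T δ u).c = δ.left.1 * δ.left.2 * δ.right u.c := rfl

theorem sd_zero (δ : DD K) (u : Co T) :
    ((sd T δ u).a = 0 ↔ u.a = 0) ∧ ((sd T δ u).b = 0 ↔ u.b = 0) ∧ ((sd T δ u).c = 0 ↔ u.c = 0) ∧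
    ((sd T δ u).e = 0 ↔ u.e = 0) ∧ ((sd T δ u).d = 0 ↔ u.d = 0) := by
  simp [sd, dg, fa]

theorem pr_sd (δ : DD K) :
    ∀ X ∈ [sZ T, sZ2 T, sV T, sZ3 T, sQ2 T, sQ1 T, sB T, sR T, sX T], Pr (sd T δ) X := by
  simp only [List.forall_mem_cons, List.not_mem_nil, false_imp_iff, implies_true, and_true, Pr, mem_sZ,
    mem_sZ2, mem_sV, mem_sZ3, mem_sQ2, mem_sQ1, mem_sB, mem_sR, mem_sX, sd_zero, imp_self, and_self]

theorem pr_sd_z0 (δ : DD K) (i : ℕ) : Pr (sd T δ) (z0 T i) := by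
  have h := pr_sd (T := T) δ
  rcases i with _ | _ | _ | _ | _ | _ | i
  · exact fun u hu => by rw [mem_bot.1 hu, (au_sd δ).one]; exact one_mem _
  · exact h (sZ T) (by simp)
  · exact h (sZ2 T) (by simp)
  · exact h (sV T) (by simp)
  · exact h (sZ3 T) (by simp)
  · exact h (sQ2 T) (by simp)
  · exact fun _ _ => trivial

/-- the coordinates of a map congruent to a standard automorphism -/
theorem Cg_sd {θ : Co T → Co T} {δ : DD K} (h : Cg (z0 T) 6 θ (sd T δ)) :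
    (∀ u, (θ u).a = δ.left.1 * δ.right u.a) ∧ (∀ u ∈ sQ2 T, (θ u).b = δ.left.2 * δ.right u.b) ∧
    ∀ u ∈ sZ3 T, (θ u).c = δ.left.1 * δ.left.2 * δ.right u.c := by
  refine ⟨fun u => ?_, fun u hu => ?_, fun u hu => ?_⟩
  · have : _ = (0 : K) := h 5 (by omega) u trivial
    simp only [Co.mul_a, Co.inv_a, sd_a] at this
    linear_combination this
  · have := (h 4 (by omega) u hu).2
    simp only [Co.mul_b, Co.inv_b, sd_b] at this
    linear_combination this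
  · have := (h 3 (by omega) u hu).2.2
    simp only [Co.mul_c, Co.inv_c, Co.inv_a, sd_a, sd_c, hu.1, map_zero] at this
    linear_combination this

end H90.U5
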