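/- D3 tower (row S5261): the Sylow subgroup of the triality group in coordinates. -/
import Cfsg.Agent.H90.U5Kit

set_option autoImplicit false
set_option linter.unusedSectionVars false
set_option linter.unusedSimpArgs false
set_option linter.unusedVariables false

open Subgroup

namespace H90.D3

/-- A field of order `q ^ 3` with its automorphism `x ↦ x ^ q`. -/
structure CF (K : Type*) [Field K] where
  σ : K →+* K
  q : ℕ
  pw : ∀ x, σ x = x ^ q
  cube : ∀ x, σ (σ (σ x)) = x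
  ω : K
  ne : σ ω ≠ ω
  pp : IsPrimePow q
  card : Nat.card K = q ^ 3

variable {K : Type*} [Field K]

namespace CF
variable (T : CF K)

/-- the fixed field -/
def k : Subfield K where
  carrier := {x | T.σ x = x}
  mul_mem' := fun {a b} ha hb => by simp_all
  one_mem' := map_one _
  add_mem' := fun {a b} ha hb => by simp_all
  zero_mem' := map_zero _
  neg_mem' := fun {a} ha => by simp_all
  inv_mem' := fun a ha => by simp_all

theorem mem_k {x : K} : x ∈ T.k ↔ T.σ x = x := Iff.rfl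
@[simp] theorem σ_k (l : T.k) : T.σ l = l := l.2

/-- the trace -/
def tr (x : K) : K := x + T.σ x + T.σ (T.σ x)
/-- the norm -/
def nm (x : K) : K := x * T.σ x * T.σ (T.σ x)
/-- the adjoint `x^#` -/
def sh (x : K) : K := T.σ x * T.σ (T.σ x)
/-- the linearised adjoint `x × y` -/
def cr (x y : K) : K := T.σ x * T.σ (T.σ y) + T.σ (T.σ x) * T.σ y
/-- the alternating product, orthogonal to both arguments -/
def wg (x y : K) : K := T.σ x * T.σ (T.σ y) - T.σ (T.σ x) * T.σ y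

@[simp] theorem σ_tr (x : K) : T.σ (T.tr x) = T.tr x := by simp only [tr, map_add, T.cube]; ring
@[simp] theorem σ_nm (x : K) : T.σ (T.nm x) = T.nm x := by simp only [nm, map_mul, T.cube]; ring
@[simp] theorem tr_zero : T.tr 0 = 0 := by simp [tr]
@[simp] theorem nm_zero : T.nm 0 = 0 := by simp [nm]
@[simp] theorem sh_zero : T.sh 0 = 0 := by simp [sh]
@[simp] theorem cr_zero (x : K) : T.cr x 0 = 0 := by simp [cr]
@[simp] theorem zero_cr (x : K) : T.cr 0 x = 0 := by simp [cr]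
@[simp] theorem wg_zero (x : K) : T.wg x 0 = 0 := by simp [wg]
@[simp] theorem nm_one : T.nm 1 = 1 := by simp [nm]
@[simp] theorem sh_one : T.sh 1 = 1 := by simp [sh]

/-- the trace as an element of the fixed field -/
def trk (x : K) : T.k := ⟨T.tr x, T.σ_tr x⟩
/-- the norm as an element of the fixed field -/
def nmk (x : K) : T.k := ⟨T.nm x, T.σ_nm x⟩
@[simp] theorem coe_trk (x : K) : (T.trk x : K) = T.tr x := rfl
@[simp] theorem coe_nmk (x : K) : (T.nmk x : K) = T.nm x := rfl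

theorem comm (φ : RingAut K) (x : K) : φ (T.σ x) = T.σ (φ x) := by rw [T.pw, T.pw, map_pow]

end CF

/-- The elements `x_a(a) x_b(b) x_{a+b}(c) x_{2a+b}(d) x_{3a+b}(e) x_{3a+2b}(g)`. -/
@[ext] structure Co (T : CF K) where
  (a b c d e g : K)
  hb : T.σ b = b
  he : T.σ e = e
  hg : T.σ g = g

variable {T : CF K}

namespace Co
attribute [simp] hb he hg

instance instMulCo : Mul (Co T) := ⟨fun u w => {
  a := u.a + w.a
  b := u.b + w.b
  c := u.c + w.c + w.a * u.b
  d := u.d + w.d + T.cr w.a u.c + T.sh w.a * u.b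
  e := u.e + w.e + T.tr (w.a * u.d) + T.tr (T.sh w.a * u.c) + T.nm w.a * u.b
  g := u.g + w.g + T.tr (w.a * T.sh u.c) + u.b * T.tr (T.sh w.a * u.c) + T.nm w.a * u.b ^ 2 -
    w.b * (u.e + T.tr (w.a * u.d) + T.tr (T.sh w.a * u.c) + T.nm w.a * u.b) +
    T.tr (w.c * (u.d + T.cr w.a u.c + T.sh w.a * u.b))
  hb := by simp
  he := by simp
  hg := by simp }⟩

instance instInvCo : Inv (Co T) := ⟨fun u => {
  a := -u.a
  b := -u.b
  c := u.a * u.b - u.c
  d := T.cr u.a u.c - u.d - T.sh u.a * u.b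
  e := T.tr (u.a * u.d) - u.e - T.tr (T.sh u.a * u.c) + T.nm u.a * u.b
  g := T.tr (u.c * u.d) - u.g - u.b * u.e - T.tr (u.a * T.sh u.c) + u.b * T.tr (T.sh u.a * u.c) -
    T.nm u.a * u.b ^ 2
  hb := by simp
  he := by simp
  hg := by simp }⟩

instance instOneCo : One (Co T) := ⟨⟨0, 0, 0, 0, 0, 0, by simp, by simp, by simp⟩⟩

@[simp] theorem mul_a (u w : Co T) : (u * w).a = u.a + w.a := rfl
@[simp] theorem mul_b (u w : Co T) : (u * w).b = u.b + w.b := rfl
@[simp] theorem mul_c (u w : Co T) : (u * w).c = u.c + w.c + w.a * u.b := rfl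
@[simp] theorem mul_d (u w : Co T) : (u * w).d = u.d + w.d + T.cr w.a u.c + T.sh w.a * u.b := rfl
@[simp] theorem mul_e (u w : Co T) : (u * w).e =
    u.e + w.e + T.tr (w.a * u.d) + T.tr (T.sh w.a * u.c) + T.nm w.a * u.b := rfl
@[simp] theorem mul_g (u w : Co T) : (u * w).g =
    u.g + w.g + T.tr (w.a * T.sh u.c) + u.b * T.tr (T.sh w.a * u.c) + T.nm w.a * u.b ^ 2 -
    w.b * (u.e + T.tr (w.a * u.d) + T.tr (T.sh w.a * u.c) + T.nm w.a * u.b) +
    T.tr (w.c * (u.d + T.cr w.a u.c + T.sh w.a * u.b)) := rfl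
@[simp] theorem inv_a (u : Co T) : u⁻¹.a = -u.a := rfl
@[simp] theorem inv_b (u : Co T) : u⁻¹.b = -u.b := rfl
@[simp] theorem inv_c (u : Co T) : u⁻¹.c = u.a * u.b - u.c := rfl
@[simp] theorem inv_d (u : Co T) : u⁻¹.d = T.cr u.a u.c - u.d - T.sh u.a * u.b := rfl
@[simp] theorem inv_e (u : Co T) : u⁻¹.e =
    T.tr (u.a * u.d) - u.e - T.tr (T.sh u.a * u.c) + T.nm u.a * u.b := rfl
@[simp] theorem inv_g (u : Co T) : u⁻¹.g = T.tr (u.c * u.d) - u.g - u.b * u.e - T.tr (u.a * T.sh u.c) +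
    u.b * T.tr (T.sh u.a * u.c) - T.nm u.a * u.b ^ 2 := rfl
@[simp] theorem one_a : (1 : Co T).a = 0 := rfl
@[simp] theorem one_b : (1 : Co T).b = 0 := rfl
@[simp] theorem one_c : (1 : Co T).c = 0 := rfl
@[simp] theorem one_d : (1 : Co T).d = 0 := rfl
@[simp] theorem one_e : (1 : Co T).e = 0 := rfl
@[simp] theorem one_g : (1 : Co T).g = 0 := rfl

instance instGroupCo : Group (Co T) := Group.ofLeftAxioms
  (fun u w x => by
    ext <;> simp only [mul_a, mul_b, mul_c, mul_d, mul_e, mul_g, CF.tr, CF.nm, CF.sh, CF.cr, map_add, map_mul,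
      T.cube, hb] <;> ring)
  (fun u => by ext <;> simp)
  (fun u => by
    ext <;> simp only [mul_a, mul_b, mul_c, mul_d, mul_e, mul_g, inv_a, inv_b, inv_c, inv_d, inv_e, inv_g, one_a,
      one_b, one_c, one_d, one_e, one_g, CF.tr, CF.nm, CF.sh, CF.cr, map_add, map_mul, map_sub, map_neg,
      T.cube, hb] <;> ring)

instance instFiniteCo [Finite K] : Finite (Co T) :=
  Finite.of_injective (fun u : Co T => (u.a, u.b, u.c, u.d, u.e, u.g)) fun u w h => by ext <;> simp_all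

/-- the second coordinate in the fixed field -/
def bk (u : Co T) : T.k := ⟨u.b, u.hb⟩
/-- the fifth coordinate in the fixed field -/
def ek (u : Co T) : T.k := ⟨u.e, u.he⟩
/-- the last coordinate in the fixed field -/
def gk (u : Co T) : T.k := ⟨u.g, u.hg⟩
@[simp] theorem coe_bk (u : Co T) : (u.bk : K) = u.b := rfl
@[simp] theorem coe_ek (u : Co T) : (u.ek : K) = u.e := rfl
@[simp] theorem coe_gk (u : Co T) : (u.gk : K) = u.g := rfl

/-- conjugation by `n₁` on `Q₁ = {a = 0}` -/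
def nu1 (u : Co T) : Co T :=
  ⟨0, u.e, -u.d, u.c, -u.b, u.g + u.b * u.e - T.tr (u.c * u.d), by simp, by simp, by simp⟩

/-- conjugation by `n₂` on `Q₂ = {b = 0}` -/
def nu2 (u : Co T) : Co T :=
  ⟨-u.c, 0, u.a, u.d - T.cr u.a u.c, T.tr (u.a * T.sh u.c) - u.g, u.e - T.tr (T.sh u.a * u.c),
    by simp, by simp, by simp⟩

/-- the scalar multiple modulo `Z` -/
def sm (l : T.k) (u : Co T) : Co T :=
  ⟨0, l * u.b, l * u.c, l * u.d, l * u.e, 0, by simp, by simp, by simp⟩

end Co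

variable (T)

/-- root element -/
def xa (t : K) : Co T := ⟨t, 0, 0, 0, 0, 0, by simp, by simp, by simp⟩
/-- root element -/
def xb (l : T.k) : Co T := ⟨0, l, 0, 0, 0, 0, by simp, by simp, by simp⟩
/-- root element -/
def xc (t : K) : Co T := ⟨0, 0, t, 0, 0, 0, by simp, by simp, by simp⟩
/-- root element -/
def xd (t : K) : Co T := ⟨0, 0, 0, t, 0, 0, by simp, by simp, by simp⟩
/-- root element -/
def xe (l : T.k) : Co T := ⟨0, 0, 0, 0, l, 0, by simp, by simp, by simp⟩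
/-- root element -/
def xg (l : T.k) : Co T := ⟨0, 0, 0, 0, 0, l, by simp, by simp, by simp⟩
/-- an element of `Q₁` with given coordinates modulo `Z` -/
def w1 (b : T.k) (c d : K) (e : T.k) : Co T := ⟨0, b, c, d, e, 0, by simp, by simp, by simp⟩
/-- an element of `Q₂` with given coordinates modulo `W` -/
def w2 (a c d : K) : Co T := ⟨a, 0, c, d, 0, 0, by simp, by simp, by simp⟩

/-- the diagonal action; `x` is the character of `xa`, `y` the character of `xb` -/
def dg (x : K) (y : T.k) (u : Co T) : Co T :=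
  ⟨x * u.a, y * u.b, x * y * u.c, T.sh x * y * u.d, T.nm x * y * u.e, T.nm x * y ^ 2 * u.g,
    by simp, by simp, by simp⟩

/-- the field automorphisms -/
def fa (φ : RingAut K) (u : Co T) : Co T :=
  ⟨φ u.a, φ u.b, φ u.c, φ u.d, φ u.e, φ u.g, by simp [← T.comm], by simp [← T.comm], by simp [← T.comm]⟩

/-- the parameters of a standard automorphism -/
structure Pm where
  x : K
  y : T.k
  φ : RingAut K
  hx : x ≠ 0
  hy : (y : K) ≠ 0

variable {T} in
/-- the standard automorphisms -/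
def sd (δ : Pm T) (u : Co T) : Co T := dg T δ.x δ.y (fa T δ.φ u)

/-- `Z = Z(S)` -/
def sZ : Subgroup (Co T) where
  carrier := {u | u.a = 0 ∧ u.b = 0 ∧ u.c = 0 ∧ u.d = 0 ∧ u.e = 0}
  one_mem' := by simp
  mul_mem' := fun {c d} hc hd => by simp_all
  inv_mem' := fun {c} hc => by simp_all
theorem mem_sZ {u : Co T} : u ∈ sZ T ↔ u.a = 0 ∧ u.b = 0 ∧ u.c = 0 ∧ u.d = 0 ∧ u.e = 0 := Iff.rfl

/-- `W = Z₂(S) = Z(Q₂)` -/
def sW : Subgroup (Co T) where
  carrier := {u | u.a = 0 ∧ u.b = 0 ∧ u.c = 0 ∧ u.d = 0}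
  one_mem' := by simp
  mul_mem' := fun {c d} hc hd => by simp_all
  inv_mem' := fun {c} hc => by simp_all
theorem mem_sW {u : Co T} : u ∈ sW T ↔ u.a = 0 ∧ u.b = 0 ∧ u.c = 0 ∧ u.d = 0 := Iff.rfl

/-- `Z₃(S)` -/
def sZ3 : Subgroup (Co T) where
  carrier := {u | u.a = 0 ∧ u.b = 0 ∧ u.c = 0}
  one_mem' := by simp
  mul_mem' := fun {c d} hc hd => by simp_all
  inv_mem' := fun {c} hc => by simp_all
theorem mem_sZ3 {u : Co T} : u ∈ sZ3 T ↔ u.a = 0 ∧ u.b = 0 ∧ u.c = 0 := Iff.rfl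

/-- `Z₄(S) = Q₁ ∩ Q₂` -/
def sZ4 : Subgroup (Co T) where
  carrier := {u | u.a = 0 ∧ u.b = 0}
  one_mem' := by simp
  mul_mem' := fun {c d} hc hd => by simp_all
  inv_mem' := fun {c} hc => by simp_all
theorem mem_sZ4 {u : Co T} : u ∈ sZ4 T ↔ u.a = 0 ∧ u.b = 0 := Iff.rfl

/-- `Q₁ = q^(1+8)` -/
def sQ1 : Subgroup (Co T) where
  carrier := {u | u.a = 0}
  one_mem' := by simp
  mul_mem' := fun {c d} hc hd => by simp_all
  inv_mem' := fun {c} hc => by simp_all
theorem mem_sQ1 {u : Co T} : u ∈ sQ1 T ↔ u.a = 0 := Iff.rfl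

/-- `Q₂ = C(W)` -/
def sQ2 : Subgroup (Co T) where
  carrier := {u | u.b = 0}
  one_mem' := by simp
  mul_mem' := fun {c d} hc hd => by simp_all
  inv_mem' := fun {c} hc => by simp_all
theorem mem_sQ2 {u : Co T} : u ∈ sQ2 T ↔ u.b = 0 := Iff.rfl

/-- the upper central series -/
def zA : ℕ → Subgroup (Co T)
  | 0 => ⊥ | 1 => sZ T | 2 => sW T | _ => sZ3 T

/-- a characteristic series of `S` -/
def z0 : ℕ → Subgroup (Co T)
  | 0 => ⊥ | 1 => sZ T | 2 => sW T | 3 => sZ3 T | 4 => sZ4 T | 5 => sQ1 T | _ => ⊤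

end H90.D3
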