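/- D3 tower (row S5261): fusion systems on a Sylow subgroup of the triality group.
Proofs: blueprints/D3.md. -/
import Cfsg.Agent.H90.D3Co
import Cfsg.Prelude.Def_LieTwisted

set_option autoImplicit false
set_option linter.unusedSectionVars false

open Subgroup H90.RF

universe v

namespace H90.D3

section Gen
variable {P : Type*} [Group P]

/-- The faithful case at level `i` with a free vector `β u`. -/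
structure Bw (p : ℕ) (z : ℕ → Subgroup P) (i : ℕ) (E M : Subgroup P) (β : P → P) (u : P) : Prop where
  q : U5.Bq p z i E M
  ok : Ok z i E β
  hu : u ∈ z (i + 1)
  wM : β u ∈ M
  fr : ∀ s, s ∈ E ↔ cm s (β u) ∈ z i
  nM : ∀ s ∈ normalizer (E : Set P), ∀ m ∈ M, cm s m ∈ M
  b3 : ∀ s ∈ normalizer (E : Set P), s ∉ E → ∀ (a b : ℕ) (f : Fin a → P) (g : Fin b → P),
    (∀ x y, (∃ n ∈ normalizer (E : Set P), (cm n (β u))⁻¹ * ((f x)⁻¹ * f y) ∈ z i) ∧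
      ((f x)⁻¹ * f y ∈ z i → x = y)) → (∀ x, f x ∈ M) →
    (∀ m ∈ M, ∃ k, (g k)⁻¹ * cm s m ∈ z i) → a ≤ b
  b4 : ∀ X : Subgroup P, X.Normal → (∀ γ, Ok z i E γ → Pr γ X) →
    (∀ s, (∀ c ∈ z (i + 1), s * c = c * s) → s ∈ z (i + 1)) →
    (∀ n ∈ normalizer (E : Set P), (∀ c ∈ z i, cm n c ∈ X) ∧ ∀ m ∈ M, cm n m ∈ z (i + 1)) →
    (∀ m ∈ M, m ∉ z (i + 1) → ∀ d ∈ z (i + 1), ∃ n ∈ normalizer (E : Set P), (cm n m)⁻¹ * d ∈ z i) →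
    ∀ s ∈ normalizer (E : Set P), ∃ e ∈ E, ∀ d ∈ z (i + 1), cm (e * s * s) d ∈ X

end Gen

section Co
variable {K : Type*} [Field K] [Finite K] (T : CF K)

/-- the automizers of `S`, `Q₁`, `Q₂` -/
structure Tri (p : ℕ) (Y0 Y1 Y2 : Subgroup (Equiv.Perm (Co T))) : Prop where
  l0 : Lg ⊤ Y0
  l1 : Lg (sQ1 T) Y1
  l2 : Lg (sQ2 T) Y2
  inn : ∀ s, ∃ y ∈ Y0, ∀ u, y u = s * u * s⁻¹
  pel0 : ∀ y ∈ Y0, (∃ k : ℕ, y ^ p ^ k = 1) → ∃ s, ∀ u, y u = s * u * s⁻¹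
  rad0 : ∀ y ∈ Y0, Cg (z0 T) 6 y id → ∃ s, ∀ u, y u = s * u * s⁻¹
  res1 : ∀ y ∈ Y0, ∃ α ∈ Y1, ∀ u ∈ sQ1 T, α u = y u
  ext1 : ∀ α ∈ Y1, Pr α (sW T) → ∃ y ∈ Y0, ∀ u ∈ sQ1 T, α u = y u
  ti1 : ∀ α ∈ Y1, ∀ s, s ∉ sQ1 T → (∀ z ∈ sW T, ∃ z' ∈ sW T, s⁻¹ * α z * s = α z') → Pr α (sW T)
  rad1 : ∀ α ∈ Y1, (∀ u ∈ sQ1 T, u⁻¹ * α u ∈ sZ T) → ∃ s ∈ sQ1 T, ∀ u ∈ sQ1 T, α u = s * u * s⁻¹
  res2 : ∀ y ∈ Y0, ∃ α ∈ Y2, ∀ u ∈ sQ2 T, α u = y u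
  ext2 : ∀ α ∈ Y2, Pr α (sZ4 T) → ∃ y ∈ Y0, ∀ u ∈ sQ2 T, α u = y u
  rad2 : ∀ α ∈ Y2, (∀ u ∈ sQ2 T, u⁻¹ * α u ∈ sZ3 T) → ∃ s ∈ sQ2 T, ∀ u ∈ sQ2 T, α u = s * u * s⁻¹

/-- characteristic subgroups of `S` -/
def CH : Prop := ∀ θ : Co T → Co T, Au ⊤ θ → (∀ i, Pr θ (z0 T i)) ∧ Pr θ (sQ2 T)

/-- `θ` is semilinear on `S / Q₁` -/
def SL (θ : Co T → Co T) : Prop := ∃ (x : K) (φ : RingAut K), ∀ t, (θ (xa T t)).a = x * φ t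

/-- every element of `Y₀` is congruent to a standard automorphism -/
def Std (Y0 : Subgroup (Equiv.Perm (Co T))) : Prop := ∀ y ∈ Y0, ∃ δ : Pm T, Cg (z0 T) 6 y (sd δ)

/-- `Y₀` contains the standard automorphisms that are congruent to its elements -/
def Sp (Y0 : Subgroup (Equiv.Perm (Co T))) : Prop :=
  ∀ δ : Pm T, (∃ y ∈ Y0, Cg (z0 T) 6 y (sd δ)) → ∃ y ∈ Y0, ∀ u, y u = sd δ u

variable {T} in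
/-- the same coordinates on `Q₁ / Z` -/
def EqV (u w : Co T) : Prop := u.b = w.b ∧ u.c = w.c ∧ u.d = w.d ∧ u.e = w.e

/-- the automorphisms of `Q₁` are semilinear over the fixed field -/
def A1 : Prop := ∀ β : Co T → Co T, Au (sQ1 T) β → ∃ ψ : T.k ≃+* T.k,
  ∀ l, ∀ u ∈ sQ1 T, EqV (β (u.sm l)) ((β u).sm (ψ l))

/-- the automorphisms of `Q₂` on `Q₂ / Z₃` -/
def A2 : Prop := ∀ β : Co T → Co T, Au (sQ2 T) β → ∃ (F : K ≃+ K) (ψ : T.k ≃+* T.k) (m n r s : T.k),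
  (∀ (l : T.k) t, F (l * t) = ψ l * F t) ∧
  ∀ u ∈ sQ2 T, (β u).a = m * F u.a + n * F u.c ∧ (β u).c = r * F u.a + s * F u.c

/-- two distinct conjugates of `W` are opposite -/
def Opp (Y1 : Subgroup (Equiv.Perm (Co T))) : Prop :=
  ∀ α ∈ Y1, Pr α (sW T) ∨ ∀ z ∈ sW T, (α z).b = 0 → z ∈ sZ T

/-- the conjugates of `W` other than `W` form one orbit under `S` -/
def Om (a : K) (Y1 : Subgroup (Equiv.Perm (Co T))) : Prop :=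
  ∀ α ∈ Y1, Pr α (sW T) ∨ ∃ s, ∀ z ∈ sW T, (s⁻¹ * α z * s).c = 0 ∧
    (s⁻¹ * α z * s).d = a * (α z).b ∧ (s⁻¹ * α z * s).e = 0

/-- `Y₀` contains the diagonal automorphism -/
def HT (Y0 : Subgroup (Equiv.Perm (Co T))) (x : K) (y : T.k) : Prop := ∃ η ∈ Y0, ∀ u, η u = dg T x y u

/-- `Y₀` contains the torus of the long root -/
def H2 (Y0 : Subgroup (Equiv.Perm (Co T))) : Prop := ∀ s : T.k, s ≠ 0 → HT T Y0 (s : K)⁻¹ (s ^ 2)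

/-- `Y₀` contains the torus -/
def HA (Y0 : Subgroup (Equiv.Perm (Co T))) : Prop := ∀ (x : K) (y : T.k), x ≠ 0 → (y : K) ≠ 0 → HT T Y0 x y

/-- agreement on `Q₁ / Z` -/
def Eq1 (β γ : Co T → Co T) : Prop := ∀ u ∈ sQ1 T, EqV (β u) (γ u)

/-- `Y₁` induces `n₁` on `Q₁ / Z` -/
def G0 (Y1 : Subgroup (Equiv.Perm (Co T))) : Prop := ∃ α ∈ Y1, Eq1 T α Co.nu1

/-- `Y₁` induces the torus of the short root on `Q₁ / Z` -/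
def G1 (Y1 : Subgroup (Equiv.Perm (Co T))) : Prop :=
  ∀ s : K, s ≠ 0 → ∃ α ∈ Y1, Eq1 T α (dg T (s ^ 2) (T.nmk s)⁻¹)

/-- what `Y₂` induces on `Q₂ / Z₃` -/
def G2 (Y2 : Subgroup (Equiv.Perm (Co T))) : Prop :=
  (∃ α ∈ Y2, ∀ u ∈ sQ2 T, (α u).a = -u.c ∧ (α u).c = u.a) ∧
    ∀ s : T.k, s ≠ 0 → ∃ α ∈ Y2, ∀ u ∈ sQ2 T, (α u).a = (s : K)⁻¹ * u.a ∧ (α u).c = s * u.c

/-- `Y₁` contains `n₁` -/
def N1 (Y1 : Subgroup (Equiv.Perm (Co T))) : Prop := ∃ n ∈ Y1, ∀ u ∈ sQ1 T, n u = u.nu1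
/-- `Y₂` contains `n₂` -/
def N2 (Y2 : Subgroup (Equiv.Perm (Co T))) : Prop := ∃ n ∈ Y2, ∀ u ∈ sQ2 T, n u = u.nu2

/-- the realizing group -/
structure Rl (p : ℕ) (Φ : Subgroup (RingAut K)) {G : Type*} [Group G] (ι : Co T →* G) : Prop where
  inj : Function.Injective ι
  syl : ∃ S : Sylow p G, (S : Subgroup G) = ι.range
  nor : ∀ g ∈ normalizer (ι.range : Set G), ∃ s, ∃ δ : Pm T, δ.φ ∈ Φ ∧
    ∀ u, g * ι u * g⁻¹ = ι (s * sd δ u * s⁻¹)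
  std : ∀ δ : Pm T, δ.φ ∈ Φ → ∃ g, ∀ u, g * ι u * g⁻¹ = ι (sd δ u)
  n1 : ∃ g, ∀ u ∈ sQ1 T, g * ι u * g⁻¹ = ι u.nu1
  n2 : ∃ g, ∀ u ∈ sQ2 T, g * ι u * g⁻¹ = ι u.nu2

end Co

/-- a statement about all fields -/
def All (f : ∀ (_ : ℕ) {K : Type v} [Field K] [Finite K], CF K → Prop) : Prop :=
  ∀ (p : ℕ) [Fact p.Prime] (K : Type v) [Field K] [Finite K] [CharP K p] (T : CF K), f p T

/-! ### The essential subgroups -/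

def JobL0 : Prop := All.{v} fun p _ _ _ T => ∀ E M β u, Bw p (zA T) 0 E M β u → E = sQ2 T
def JobL1 : Prop := All.{v} fun p _ _ _ T => ∀ E M β u, Bw p (zA T) 1 E M β u → E = sQ1 T
def JobL2 : Prop := All.{v} fun p _ _ _ T => ∀ E M β u, ¬ Bw p (zA T) 2 E M β u

/-! ### Automorphisms -/

def JobA1 : Prop := All.{v} fun _ _ _ _ T => A1 T
def JobA2 : Prop := All.{v} fun _ _ _ _ T => A2 T
def JobCH : Prop := All.{v} fun _ _ _ _ T => CH T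
def JobAS0 : Prop := All.{v} fun _ _ _ _ T => CH T → ∀ θ, Au ⊤ θ → SL T θ → ∃ δ : Pm T, Cg (z0 T) 6 θ (sd δ)
def JobAS1 : Prop := All.{v} fun _ _ _ _ T => A1 T → CH T → (∃ l : T.k, l ≠ 0 ∧ l ≠ 1) →
  ∀ θ, Au ⊤ θ → SL T θ
def JobX2 : Prop := All.{v} fun p _ _ _ T => CH T → (∀ l : T.k, l = 0 ∨ l = 1) → ∀ Y0 Y1 Y2, Tri T p Y0 Y1 Y2 →
  ∃ θ : MulAut (Co T), ∀ y ∈ cjY θ Y0, SL T y

def JobTri : Prop := JobL0.{v} → JobL1.{v} → JobL2.{v} → All.{v} fun p _ _ _ T => CH T →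
  ∀ F : Cfsg.FusionSystem (⊤ : Subgroup (Co T)), F.IsSaturated p →
    (∀ E, F.IsEssential p E → E = sQ1 T ∨ E = sQ2 T) ∧ Tri T p (aY F ⊤) (aY F (sQ1 T)) (aY F (sQ2 T))

def JobOa : Prop := All.{v} fun p K _ _ T => (2 : K) ≠ 0 → A1 T → ∀ Y0 Y1 Y2, Tri T p Y0 Y1 Y2 →
  Std T Y0 → H2 T Y0 → Opp T Y1

def JobOe : Prop := All.{v} fun p K _ _ T => (2 : K) = 0 → A1 T → ∀ Y0 Y1 Y2, Tri T p Y0 Y1 Y2 → Opp T Y1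

def JobOm : Prop := All.{v} fun p K _ _ T => A1 T → ∀ Y0 Y1 Y2, Tri T p Y0 Y1 Y2 → Opp T Y1 →
  ((2 : K) ≠ 0 → H2 T Y0 → Om T 0 Y1) ∧ ((2 : K) = 0 → ∃ a, Om T a Y1)

def JobOc : Prop := All.{v} fun p K _ _ T => ∀ Y0 Y1 Y2, Tri T p Y0 Y1 Y2 → ∀ a, Om T a Y1 →
  (∀ (x : K) (y : T.k), x ≠ 0 → (y : K) ≠ 0 → HT T Y0 x y → T.sh x ≠ 1 → Om T 0 Y1) ∧
  ((∀ l : T.k, l = 0 ∨ l = 1) → ∃ θ : MulAut (Co T), Cg (z0 T) 6 θ id ∧ Om T 0 (cjY θ Y1))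

def JobGa : Prop := All.{v} fun p K _ _ T => (2 : K) ≠ 0 → A1 T → ∀ Y0 Y1 Y2, Tri T p Y0 Y1 Y2 →
  Std T Y0 → H2 T Y0 → Om T 0 Y1 → (∃ α ∈ Y1, ¬ Pr α (sW T)) → G0 T Y1

def JobGb : Prop := All.{v} fun p K _ _ T => (2 : K) = 0 → A1 T → ∀ Y0 Y1 Y2, Tri T p Y0 Y1 Y2 →
  Std T Y0 → Om T 0 Y1 → (∃ α ∈ Y1, ¬ Pr α (sW T)) → G0 T Y1

def JobGc : Prop := All.{v} fun p _ _ _ T => ∀ Y0 Y1 Y2, Tri T p Y0 Y1 Y2 → G0 T Y1 → G1 T Y1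

def JobG2 : Prop := All.{v} fun p _ _ _ T => A2 T → ∀ Y0 Y1 Y2, Tri T p Y0 Y1 Y2 →
  (∃ α ∈ Y2, ¬ Pr α (sZ4 T)) → G2 T Y2

def JobHall : Prop := All.{v} fun p _ _ _ T => CH T → ∀ Y0 Y1 Y2, Tri T p Y0 Y1 Y2 → Std T Y0 →
  ∃ θ : MulAut (Co T), Cg (z0 T) 6 θ id ∧ Sp T (cjY θ Y0)

def JobN1 : Prop := All.{v} fun p _ _ _ T => ∀ Y0 Y1 Y2, Tri T p Y0 Y1 Y2 → G0 T Y1 → HA T Y0 → N1 T Y1

def JobN2 : Prop := All.{v} fun p _ _ _ T => ∀ Y0 Y1 Y2, Tri T p Y0 Y1 Y2 → G2 T Y2 → HA T Y0 → N2 T Y2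

def JobReal : Prop := All.{v} fun p K _ _ T => ∀ Φ : Subgroup (RingAut K), (Nat.card Φ).Coprime p →
  ∃ (G : Type v) (_ : Group G) (_ : Finite G) (ι : Co T →* G), Rl T p Φ ι

def JobModel : Prop := ∀ (p : ℕ) [Fact p.Prime] (K : Type v) [Field K] [Fintype K] [CharP K p] (n : ℕ),
  1 ≤ n → Fintype.card K = (p ^ n) ^ 3 → ∀ S : Sylow p (Cfsg.Lie.twistedD4 K (p ^ n)),
  ∃ T : CF K, Nonempty ((S : Subgroup (Cfsg.Lie.twistedD4 K (p ^ n))) ≃* Co T)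

end H90.D3
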