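/- D3 tower (row S5261): the cubic extension. -/
import Cfsg.Agent.H90.D3Spec

set_option autoImplicit false
set_option linter.unusedSectionVars false
set_option linter.unusedSimpArgs false

namespace H90.D3

variable {K : Type*} [Field K]

theorem exists_sq [Finite K] (h2 : (2 : K) = 0) (x : K) : ∃ r : K, r ^ 2 = x :=
  (Finite.injective_iff_surjective (f := fun r : K => r ^ 2)).1
    (fun a b (e : a ^ 2 = b ^ 2) => sub_eq_zero.1 (pow_eq_zero_iff two_ne_zero |>.1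
      (by linear_combination e - (a * b - b ^ 2) * h2 : (a - b) ^ 2 = 0))) x

/-- an additive map with `F (a² c) = F(a)² F(c)` is a field automorphism -/
theorem hua_mul [Finite K] (F : K → K) (ha : ∀ x y, F (x + y) = F x + F y) (h1 : F 1 = 1)
    (h : ∀ a c, F (a ^ 2 * c) = F a ^ 2 * F c) : ∃ φ : RingAut K, ∀ x, F x = φ x := by
  have hm : ∀ x y, F (x * y) * F 1 = F x * F y := fun x y => by
    rw [h1, mul_one]
    by_cases h2 : (2 : K) = 0
    · obtain ⟨r, rfl⟩ := exists_sq h2 x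
      have := h r 1
      rw [mul_one, h1, mul_one] at this
      rw [h, this]
    · have e := h (x + 1) y
      rw [show (x + 1) ^ 2 * y = x ^ 2 * y + (x * y + x * y) + y by ring, ha, ha, ha, h, ha, h1] at e
      exact mul_left_cancel₀ h2 (by linear_combination e)
  simpa [h1] using U5.exists_semi F ha (by simp [h1]) hm

/-- Hua's identity -/
theorem hua_inv [Finite K] (F G : K → K) (ha : ∀ x y, F (x + y) = F x + F y)
    (hb : ∀ x y, G (x + y) = G x + G y) (h0 : ∀ x, F x = 0 → x = 0) (h1 : F 1 = 1)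
    (h : ∀ x, x ≠ 0 → G x⁻¹ = (F x)⁻¹) : ∃ φ : RingAut K, ∀ x, F x = φ x ∧ G x = φ x := by
  have F0 : F 0 = 0 := by simpa using ha 0 0
  have G0 : G 0 = 0 := by simpa using hb 0 0
  have Fn : ∀ x, F (-x) = -F x := fun x => by linear_combination F0 - ha x (-x) + congrArg F (add_neg_cancel x)
  have k : ∀ w a, F (w ^ 2 * a⁻¹) = F w ^ 2 * (F a)⁻¹ := fun w a => by
    by_cases hw : w = 0
    · simp [hw, F0]
    by_cases h2 : a = 0
    · simp [h2, F0]
    have n1 : F w ≠ 0 := mt (h0 w) hw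
    have n2 : F a ≠ 0 := mt (h0 a) h2
    by_cases h3 : w + a = 0
    · obtain rfl : w = -a := eq_neg_of_add_eq_zero_left h3
      rw [show (-a) ^ 2 * a⁻¹ = a by field_simp, Fn]; field_simp
    have n3 : F w + F a ≠ 0 := ha w a ▸ mt (h0 _) h3
    have h4 : w ^ 2 * a⁻¹ + w ≠ 0 := by
      rw [show w ^ 2 * a⁻¹ + w = w * (w + a) / a by field_simp]; positivity
    have e := hb (w ^ 2 * a⁻¹ + w)⁻¹ (w + a)⁻¹
    rw [show (w ^ 2 * a⁻¹ + w)⁻¹ + (w + a)⁻¹ = w⁻¹ by
      rw [show w ^ 2 * a⁻¹ + w = w * (w + a) / a by field_simp]; field_simp; ring,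
      h _ hw, h _ h4, h _ h3, ha, ha] at e
    have n4 : F (w ^ 2 * a⁻¹) + F w ≠ 0 := ha _ w ▸ mt (h0 _) h4
    generalize F (w ^ 2 * a⁻¹) = X at e n4 ⊢
    field_simp at e ⊢
    linear_combination e
  have i : ∀ a, F a⁻¹ = (F a)⁻¹ := fun a => by simpa [h1] using k 1 a
  obtain ⟨φ, hφ⟩ := hua_mul F ha h1 fun a c => by simpa [i] using k a c⁻¹
  refine ⟨φ, fun x => ⟨hφ x, ?_⟩⟩
  by_cases hx : x = 0
  · simp [hx, G0]
  · rw [← hφ, ← inv_inv x, h _ (inv_ne_zero hx), i, inv_inv, inv_inv]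

namespace CF
variable (T : CF K)

theorem inj {x y : K} (h : T.σ x = T.σ y) : x = y := T.σ.injective h

theorem tr_add (x y : K) : T.tr (x + y) = T.tr x + T.tr y := by simp only [tr, map_add]; ring
theorem tr_sub (x y : K) : T.tr (x - y) = T.tr x - T.tr y := by simp only [tr, map_sub]; ring
theorem tr_neg (x : K) : T.tr (-x) = -T.tr x := by simp only [tr, map_neg]; ring
theorem tr_σ (x : K) : T.tr (T.σ x) = T.tr x := by simp only [tr, T.cube]; ring
theorem tr_fix {l : K} (h : T.σ l = l) (x : K) : T.tr (l * x) = l * T.tr x := by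
  simp only [tr, map_mul, h]; ring
theorem tr_k (l : T.k) (x : K) : T.tr (l * x) = l * T.tr x := T.tr_fix l.2 x
theorem tr_of_fix {l : K} (h : T.σ l = l) : T.tr l = 3 * l := by simp only [tr, h]; ring
theorem nm_mul (x y : K) : T.nm (x * y) = T.nm x * T.nm y := by simp only [nm, map_mul]; ring
theorem nm_neg (x : K) : T.nm (-x) = -T.nm x := by simp only [nm, map_neg]; ring
theorem nm_inv (x : K) : T.nm x⁻¹ = (T.nm x)⁻¹ := by simp only [nm, map_inv₀, mul_inv]
theorem nm_of_fix {l : K} (h : T.σ l = l) : T.nm l = l ^ 3 := by simp only [nm, h]; ring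
theorem nm_add (x y : K) : T.nm (x + y) = T.nm x + T.tr (T.sh x * y) + T.tr (x * T.sh y) + T.nm y := by
  simp only [nm, tr, sh, map_add, map_mul, T.cube]; ring
@[simp] theorem nm_eq_zero {x : K} : T.nm x = 0 ↔ x = 0 := by simp [nm]
theorem sh_mul (x y : K) : T.sh (x * y) = T.sh x * T.sh y := by simp only [sh, map_mul]; ring
theorem sh_neg (x : K) : T.sh (-x) = T.sh x := by simp only [sh, map_neg]; ring
theorem sh_inv (x : K) : T.sh x⁻¹ = (T.sh x)⁻¹ := by simp only [sh, map_inv₀, mul_inv]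
theorem sh_of_fix {l : K} (h : T.σ l = l) : T.sh l = l ^ 2 := by simp only [sh, h]; ring
theorem sh_add (x y : K) : T.sh (x + y) = T.sh x + T.cr x y + T.sh y := by simp only [sh, cr, map_add]; ring
@[simp] theorem sh_eq_zero {x : K} : T.sh x = 0 ↔ x = 0 := by simp [sh]
theorem mul_sh (x : K) : x * T.sh x = T.nm x := by simp only [sh, nm]; ring
theorem sh_sh (x : K) : T.sh (T.sh x) = T.nm x * x := by simp only [sh, nm, map_mul, T.cube]; ring
theorem nm_sh (x : K) : T.nm (T.sh x) = T.nm x ^ 2 := by simp only [sh, nm, map_mul, T.cube]; ring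
theorem cr_comm (x y : K) : T.cr x y = T.cr y x := by simp only [cr]; ring
theorem cr_self (x : K) : T.cr x x = 2 * T.sh x := by simp only [cr, sh]; ring
theorem cr_add (x y z : K) : T.cr x (y + z) = T.cr x y + T.cr x z := by simp only [cr, map_add]; ring
theorem cr_sub (x y z : K) : T.cr x (y - z) = T.cr x y - T.cr x z := by simp only [cr, map_sub]; ring
theorem cr_neg (x y : K) : T.cr x (-y) = -T.cr x y := by simp only [cr, map_neg]; ring
theorem cr_fix {l : K} (h : T.σ l = l) (x y : K) : T.cr x (l * y) = l * T.cr x y := by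
  simp only [cr, map_mul, h]; ring
theorem cr_mul (x y z : K) : T.cr (x * y) (x * z) = T.sh x * T.cr y z := by simp only [cr, sh, map_mul]; ring
theorem one_cr (x : K) : T.cr 1 x = T.tr x - x := by simp only [cr, tr, map_one]; ring
theorem tr_cr (x y z : K) : T.tr (x * T.cr y z) = T.tr (y * T.cr x z) := by
  simp only [tr, cr, map_add, map_mul, T.cube]; ring
theorem tr_cr_self (x z : K) : T.tr (x * T.cr x z) = 2 * T.tr (T.sh x * z) := by
  simp only [tr, cr, sh, map_add, map_mul, T.cube]; ring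
theorem sq_mul (a c : K) : a ^ 2 * c = T.tr (a * c) * a - T.cr (T.sh a) c := by
  simp only [tr, cr, sh, map_mul, T.cube]; ring
theorem map_tr (φ : RingAut K) (x : K) : φ (T.tr x) = T.tr (φ x) := by simp only [tr, map_add, T.comm]
theorem map_nm (φ : RingAut K) (x : K) : φ (T.nm x) = T.nm (φ x) := by simp only [nm, map_mul, T.comm]
theorem map_sh (φ : RingAut K) (x : K) : φ (T.sh x) = T.sh (φ x) := by simp only [sh, map_mul, T.comm]
theorem map_cr (φ : RingAut K) (x y : K) : φ (T.cr x y) = T.cr (φ x) (φ y) := by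
  simp only [cr, map_add, map_mul, T.comm]
theorem wg_eq_cr (h : (2 : K) = 0) (x y : K) : T.wg x y = T.cr x y := by
  simp only [wg, cr]; linear_combination -(T.σ (T.σ x) * T.σ y) * h
theorem tr_wg (x y : K) : T.tr (x * T.wg x y) = 0 := by simp only [tr, wg, map_sub, map_mul, T.cube]; ring
theorem tr_wg' (x y : K) : T.tr (y * T.wg x y) = 0 := by simp only [tr, wg, map_sub, map_mul, T.cube]; ring
theorem tr_wg_rot (x y z : K) : T.tr (x * T.wg y z) = T.tr (y * T.wg z x) := by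
  simp only [tr, wg, map_sub, map_mul, T.cube]; ring
theorem wg_fix {l : K} (h : T.σ l = l) (x y : K) : T.wg x (l * y) = l * T.wg x y := by
  simp only [wg, map_mul, h]; ring
theorem wg_self (x : K) : T.wg x x = 0 := by simp only [wg]; ring
theorem wg_wg (x y z : K) : T.wg x (T.wg y z) = T.tr (x * z) * y - T.tr (x * y) * z := by
  simp only [tr, wg, map_sub, map_mul, T.cube]; ring

/-- Cramer's rule -/
theorem cramer (x y a c : K) : T.tr (y * T.wg a c) * x =
    T.tr (x * T.wg a c) * y + T.tr (y * T.wg x c) * a + T.tr (y * T.wg a x) * c := by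
  simp only [tr, wg, map_sub, map_mul, T.cube]; ring

theorem σ_ne {x : K} (h : T.σ x ≠ x) : T.σ (T.σ x) ≠ T.σ x ∧ T.σ (T.σ x) ≠ x :=
  ⟨fun e => h (T.inj e), fun e => h (by simpa [T.cube] using (congrArg T.σ e).symm)⟩

/-- independence of `1, σ, σ²` -/
theorem ded {a b c : K} (h : ∀ v, a * v + b * T.σ v + c * T.σ (T.σ v) = 0) : a = 0 ∧ b = 0 ∧ c = 0 := by
  have h0 := h 1
  have h1 := h T.ω
  have h2 := h (T.ω * T.ω)
  simp only [map_one, map_mul] at h0 h2
  obtain ⟨n1, n2⟩ := T.σ_ne T.ne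
  have m0 := sub_ne_zero.2 T.ne
  have m1 := sub_ne_zero.2 n1
  have m2 := sub_ne_zero.2 n2
  refine ⟨mul_right_cancel₀ (mul_ne_zero m0 m2) ?_, mul_right_cancel₀ (mul_ne_zero m0 m1) ?_,
    mul_right_cancel₀ (mul_ne_zero m1 m2) ?_⟩
  · linear_combination h2 - (T.σ T.ω + T.σ (T.σ T.ω)) * h1 + T.σ T.ω * T.σ (T.σ T.ω) * h0
  · linear_combination -h2 + (T.ω + T.σ (T.σ T.ω)) * h1 - T.ω * T.σ (T.σ T.ω) * h0
  · linear_combination h2 - (T.ω + T.σ T.ω) * h1 + T.ω * T.σ T.ω * h0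

/-- the trace form is nondegenerate -/
theorem tr_nd {a : K} (h : ∀ v, T.tr (a * v) = 0) : a = 0 :=
  (T.ded (b := T.σ a) (c := T.σ (T.σ a)) fun v => by simpa [tr] using h v).1

theorem exists_tr {a : K} (h : a ≠ 0) (l : T.k) : ∃ v, T.tr (a * v) = l := by
  obtain ⟨v, hv⟩ := not_forall.1 (mt T.tr_nd h)
  refine ⟨l / T.tr (a * v) * v, ?_⟩
  rw [mul_left_comm, T.tr_fix (by simp), div_mul_cancel₀ _ hv]

theorem fix_of_sq {x : K} (h : T.σ x ^ 2 = x ^ 2) : T.σ x = x := by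
  rcases sq_eq_sq_iff_eq_or_eq_neg.1 h with e | e
  · exact e
  · have := T.cube x
    rw [e, map_neg, e, neg_neg, e] at this
    rw [e, this]

theorem wg_eq_zero {x y : K} (hx : x ≠ 0) (h : T.wg x y = 0) : ∃ l : T.k, y = l * x := by
  have : T.σ x ≠ 0 := (map_ne_zero _).2 hx
  have : T.σ (T.σ x) ≠ 0 := (map_ne_zero _).2 this
  refine ⟨⟨y / x, T.inj ?_⟩, (div_mul_cancel₀ y hx).symm⟩
  simp only [map_div₀]
  field_simp
  simp only [wg] at h
  linear_combination h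

theorem wg_ne {x y : K} (hx : x ≠ 0) (h : ∀ l : T.k, y ≠ l * x) : T.wg x y ≠ 0 := fun e =>
  (T.wg_eq_zero hx e).elim h

theorem cr_eq_zero {x y : K} (hx : x ≠ 0) (h : T.cr x y = 0) :
    ((2 : K) ≠ 0 → y = 0) ∧ ∃ l : T.k, y = l * x := by
  have k : (2 : K) ≠ 0 → y = 0 := fun h2 => by
    have h1 := congrArg T.σ h
    have h3 := congrArg T.σ h1
    simp only [cr, map_add, map_mul, map_zero, T.cube] at h h1 h3
    refine mul_left_cancel₀ (mul_ne_zero h2 (T.sh_eq_zero.not.2 hx)) ?_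
    rw [sh]; linear_combination T.σ x * h1 + T.σ (T.σ x) * h3 - x * h
  refine ⟨k, ?_⟩
  by_cases h2 : (2 : K) = 0
  · exact T.wg_eq_zero hx ((T.wg_eq_cr h2 x y).trans h)
  · exact ⟨0, by simp [k h2]⟩

/-- a vector orthogonal to `wg a c` is a combination of `a` and `c` -/
theorem span2 {a c x : K} (h : T.wg a c ≠ 0) (hx : T.tr (x * T.wg a c) = 0) :
    ∃ l m : T.k, x = l * a + m * c := by
  obtain ⟨y, hy⟩ := T.exists_tr h 1
  rw [mul_comm] at hy
  have := T.cramer x y a c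
  rw [hy, hx] at this
  exact ⟨T.trk _, T.trk _, by simpa using this⟩

theorem span3 {a c y : K} (h : T.tr (y * T.wg a c) ≠ 0) (x : K) : ∃ l m n : T.k, x = l * y + m * a + n * c :=
  ⟨T.trk (x * T.wg a c) / T.trk (y * T.wg a c), T.trk (y * T.wg x c) / T.trk (y * T.wg a c),
    T.trk (y * T.wg a x) / T.trk (y * T.wg a c), by
    have := T.cramer x y a c
    push_cast [coe_trk]
    generalize T.tr (y * T.wg a c) = D at h this ⊢
    field_simp; linear_combination this⟩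

theorem wg_ω {x : K} (h : x ≠ 0) : T.wg x (T.ω * x) ≠ 0 :=
  T.wg_ne h fun l e => T.ne (by rw [mul_right_cancel₀ h e, σ_k])

theorem exists_tr2 {x y : K} (h : T.wg x y ≠ 0) (l m : T.k) : ∃ v, T.tr (x * v) = l ∧ T.tr (y * v) = m := by
  obtain ⟨z, hz⟩ := T.exists_tr h 1
  rw [mul_comm] at hz
  refine ⟨l * T.wg y z + m * T.wg z x, ?_, ?_⟩ <;>
    rw [mul_add, tr_add, mul_left_comm, tr_k, mul_left_comm, tr_k]
  · rw [tr_wg', ← T.tr_wg_rot z, hz]; simp
  · rw [tr_wg, ← T.tr_wg_rot x, ← T.tr_wg_rot z, hz]; simp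

/-- two independent vectors orthogonal to `a` -/
theorem exists_perp2 (a : K) : ∃ v w, T.tr (a * v) = 0 ∧ T.tr (a * w) = 0 ∧ T.wg v w ≠ 0 := by
  by_cases h : a = 0
  · exact ⟨1, T.ω * 1, by simp [h], by simp [h], T.wg_ω one_ne_zero⟩
  obtain ⟨z, hz⟩ := T.exists_tr (T.wg_ω h) 1
  refine ⟨T.wg a z, T.wg a (T.ω * a), T.tr_wg _ _, T.tr_wg _ _, ?_⟩
  have e : T.tr (T.wg a z * (T.ω * a)) = -T.tr (T.wg a (T.ω * a) * z) := by
    simp only [tr, wg, map_sub, map_mul, T.cube]; ring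
  rw [wg_wg, e, hz, mul_comm (T.wg a z), tr_wg]
  simpa using h

theorem exists_perp (a : K) : ∃ v, v ≠ 0 ∧ T.tr (a * v) = 0 := by
  obtain ⟨v, w, -, h, k⟩ := T.exists_perp2 a
  exact ⟨w, fun e => k (by simp [e]), h⟩

theorem wg_sur {x d : K} (hx : x ≠ 0) (h : T.tr (x * d) = 0) : ∃ y, T.wg x y = d := by
  obtain ⟨z, hz⟩ := T.exists_tr hx 1
  exact ⟨T.wg d z, by simp [wg_wg, hz, h]⟩

theorem cr_sur (h2 : (2 : K) ≠ 0) {x : K} (hx : x ≠ 0) (d : K) : ∃ y, T.cr x y = d := by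
  have : T.σ x ≠ 0 := (map_ne_zero _).2 hx
  have : T.σ (T.σ x) ≠ 0 := (map_ne_zero _).2 this
  have e : T.σ 2 = 2 := map_ofNat _ 2
  refine ⟨(T.tr (x * d) - 2 * (x * d)) / (2 * T.sh x), ?_⟩
  simp only [cr, tr, sh, map_div₀, map_mul, map_sub, map_add, e, T.cube]
  field_simp
  ring

theorem exists_cr_add (v : K) : ∃ t r t' r', v = T.cr t r + T.cr t' r' := by
  by_cases h2 : (2 : K) = 0
  · obtain ⟨w, h1, h3⟩ := T.exists_tr2 (T.wg_ω one_ne_zero) (T.trk v) 0
    obtain ⟨r, hr⟩ := T.wg_sur (x := 1) (d := v - w) one_ne_zero (by simpa [tr_sub, sub_eq_zero] using h1.symm)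
    obtain ⟨r', hr'⟩ := T.wg_sur (x := T.ω * 1) (d := w) (fun e => T.ne (by simp_all)) h3
    exact ⟨1, r, T.ω * 1, r', by rw [← T.wg_eq_cr h2, ← T.wg_eq_cr h2, hr, hr', sub_add_cancel]⟩
  · obtain ⟨r, hr⟩ := T.cr_sur h2 one_ne_zero v
    exact ⟨1, r, 0, 0, by simp [hr]⟩

theorem det_ω : T.tr (1 * T.wg T.ω (T.ω ^ 2)) ≠ 0 := by
  obtain ⟨n1, n2⟩ := T.σ_ne T.ne
  have := mul_ne_zero (mul_ne_zero (sub_ne_zero.2 T.ne) (sub_ne_zero.2 n1)) (sub_ne_zero.2 n2)
  convert this using 1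
  simp only [tr, wg, map_sub, map_mul, map_pow, map_one, T.cube]; ring

theorem exists_basis (t : K) : ∃ x y z : T.k, t = x + y * T.ω + z * T.ω ^ 2 := by
  simpa using T.span3 T.det_ω t

theorem basis_zero {x y z : K} (hx : T.σ x = x) (hy : T.σ y = y) (hz : T.σ z = z)
    (h : x + y * T.ω + z * T.ω ^ 2 = 0) : x = 0 ∧ y = 0 ∧ z = 0 := by
  have h1 := congrArg T.σ h
  have h2 := congrArg T.σ h1
  simp only [map_add, map_mul, map_pow, map_zero, hx, hy, hz] at h1 h2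
  obtain ⟨n1, n2⟩ := T.σ_ne T.ne
  have e1 : y + z * (T.σ T.ω + T.ω) = 0 :=
    mul_left_cancel₀ (sub_ne_zero.2 T.ne) (by linear_combination h1 - h)
  have e2 : y + z * (T.σ (T.σ T.ω) + T.ω) = 0 := mul_left_cancel₀ (sub_ne_zero.2 n2) (by linear_combination h2 - h)
  have e3 : z = 0 := mul_left_cancel₀ (sub_ne_zero.2 n1) (by linear_combination e2 - e1)
  have e4 : y = 0 := by simpa [e3] using e1
  exact ⟨by simpa [e3, e4] using h, e4, e3⟩

theorem card_K : Nat.card K = Nat.card T.k ^ 3 := by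
  rw [← Nat.card_eq_of_bijective (fun x : T.k × T.k × T.k => (x.1 + x.2.1 * T.ω + x.2.2 * T.ω ^ 2 : K))
    ⟨fun x y e => ?_, fun t => (T.exists_basis t).elim fun x ⟨y, z, e⟩ => ⟨(x, y, z), e.symm⟩⟩]
  · simp [pow_succ, mul_assoc]
  obtain ⟨h1, h2, h3⟩ := T.basis_zero (x := x.1 - y.1) (y := x.2.1 - y.2.1) (z := x.2.2 - y.2.2) (by simp)
    (by simp) (by simp) (by linear_combination e)
  exact Prod.ext (Subtype.ext (sub_eq_zero.1 h1))
    (Prod.ext (Subtype.ext (sub_eq_zero.1 h2)) (Subtype.ext (sub_eq_zero.1 h3)))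

theorem card_k : Nat.card T.k = T.q := Nat.pow_left_injective three_ne_zero (T.card_K.symm.trans T.card)

/-- a map that is linear over the fixed field -/
theorem exists_lin (f : K → K) (ha : ∀ x y, f (x + y) = f x + f y) (hl : ∀ (l : T.k) x, f (l * x) = l * f x) :
    ∃ a b c, ∀ t, f t = a * t + b * T.σ t + c * T.σ (T.σ t) := by
  have d := T.det_ω
  obtain ⟨D, hD⟩ : ∃ D, D = T.tr (1 * T.wg T.ω (T.ω ^ 2)) := ⟨_, rfl⟩
  rw [← hD] at d
  let v := fun t => (T.tr (t * T.wg T.ω (T.ω ^ 2)) * f 1 + T.tr (1 * T.wg t (T.ω ^ 2)) * f T.ω +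
    T.tr (1 * T.wg T.ω t) * f (T.ω ^ 2)) / D
  have k : ∀ t, f t = v t := fun t => by
    have := congrArg f (T.cramer t 1 T.ω (T.ω ^ 2))
    have hl' : ∀ y x, f (T.tr y * x) = T.tr y * f x := fun y => hl (T.trk y)
    rw [ha, ha, hl', hl', hl', hl'] at this
    simp only [v]
    rw [eq_div_iff d, hD]
    linear_combination this
  refine ⟨(T.wg T.ω (T.ω ^ 2) * f 1 + T.wg (T.ω ^ 2) 1 * f T.ω + T.wg 1 T.ω * f (T.ω ^ 2)) / D,
    (T.σ (T.wg T.ω (T.ω ^ 2)) * f 1 + T.σ (T.wg (T.ω ^ 2) 1) * f T.ω + T.σ (T.wg 1 T.ω) * f (T.ω ^ 2)) / D,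
    (T.σ (T.σ (T.wg T.ω (T.ω ^ 2))) * f 1 + T.σ (T.σ (T.wg (T.ω ^ 2) 1)) * f T.ω +
      T.σ (T.σ (T.wg 1 T.ω)) * f (T.ω ^ 2)) / D, fun t => (k t).trans ?_⟩
  simp only [v]
  field_simp
  simp only [tr, wg, map_sub, map_mul, map_pow, map_one, T.cube]; ring

/-- the linear functionals -/
theorem exists_dual (f : K → K) (ha : ∀ x y, f (x + y) = f x + f y) (hl : ∀ (l : T.k) x, f (l * x) = l * f x)
    (hk : ∀ x, T.σ (f x) = f x) : ∃ v, ∀ t, f t = T.tr (v * t) := by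
  obtain ⟨a, b, c, h⟩ := T.exists_lin f ha hl
  obtain ⟨-, h2, h3⟩ := T.ded (a := T.σ c - a) (b := T.σ a - b) (c := T.σ b - c) fun v => by
    have := hk v
    simp only [h, map_add, map_mul, T.cube] at this
    linear_combination this
  exact ⟨a, fun t => by rw [h, tr, ← sub_eq_zero.1 h3, ← sub_eq_zero.1 h2]; simp⟩

theorem gal_pt (φ : RingAut K) (h : ∀ l : T.k, φ l = l) (t : K) :
    φ t = t ∨ φ t = T.σ t ∨ φ t = T.σ (T.σ t) := by
  have e : ∀ x, (x - t) * (x - T.σ t) * (x - T.σ (T.σ t)) = x ^ 3 - T.tr t * x ^ 2 + T.tr (T.sh t) * x - T.nm t :=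
    fun x => by simp only [tr, sh, nm, map_mul, T.cube]; ring
  have := congrArg φ (e t)
  rw [sub_self, zero_mul, zero_mul, map_zero, map_sub, map_add, map_sub, map_mul, map_mul, map_pow, map_pow,
    show φ (T.tr t) = T.tr t from h (T.trk _), show φ (T.tr (T.sh t)) = T.tr (T.sh t) from h (T.trk _),
    show φ (T.nm t) = T.nm t from h (T.nmk _)] at this
  simpa [sub_eq_zero, or_assoc] using (e (φ t)).trans this.symm

/-- the Galois group -/
theorem gal (φ : RingAut K) (h : ∀ l : T.k, φ l = l) :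
    (∀ t, φ t = t) ∨ (∀ t, φ t = T.σ t) ∨ ∀ t, φ t = T.σ (T.σ t) := by
  refine (T.gal_pt φ h T.ω).imp (fun e t => ?_) (Or.imp (fun e t => ?_) fun e t => ?_) <;>
    obtain ⟨x, y, z, rfl⟩ := T.exists_basis t <;> simp [h, e]

theorem gal_two (φ : RingAut K) (h : ∀ l : T.k, φ l = l) (h2 : ∀ t, φ (φ t) = t) (t : K) : φ t = t := by
  rcases T.gal φ h with e | e | e
  · exact e t
  · exact absurd ((e _).symm.trans ((congrArg φ (e T.ω).symm).trans (h2 T.ω))) (T.σ_ne T.ne).2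
  · have := h2 T.ω
    rw [e, e, T.cube] at this
    exact absurd this T.ne

theorem exists_nm_one : ∃ c, T.nm c = 1 ∧ T.σ c ≠ c := by
  have k : ∀ x, x ≠ 0 → T.nm (T.σ x / x) = 1 := fun x hx => by
    have := T.nm_eq_zero.not.2 hx
    rw [div_eq_mul_inv, nm_mul, nm_inv, show T.nm (T.σ x) = T.nm x by simp only [nm, T.cube]; ring,
      mul_inv_cancel₀ this]
  have h0 : T.ω ≠ 0 := fun e => T.ne (by simp [e])
  have h1 : T.ω + 1 ≠ 0 := fun e => T.ne (by simp [eq_neg_of_add_eq_zero_left e])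
  by_contra h
  push Not at h
  have e0 := h _ (k _ h0)
  have e1 := h _ (k _ h1)
  have m0 : T.σ T.ω ≠ 0 := (map_ne_zero _).2 h0
  have m1 : T.σ T.ω + 1 ≠ 0 := by simpa using (map_ne_zero T.σ).2 h1
  simp only [map_div₀, map_add, map_one] at e0 e1
  field_simp at e0 e1
  have e2 : T.σ (T.σ T.ω) + T.ω = 2 * T.σ T.ω := by linear_combination e1 - e0
  exact T.ne (sub_eq_zero.1 (pow_eq_zero_iff two_ne_zero |>.1
    (by linear_combination -e0 + T.ω * e2 : (T.σ T.ω - T.ω) ^ 2 = 0)))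

/-- the norm is onto -/
theorem exists_nm [Finite K] (l : T.k) : ∃ x, T.nm x = l := by
  by_cases hl : (l : K) = 0
  · exact ⟨0, by simp [hl]⟩
  obtain ⟨g, hg⟩ := IsCyclic.exists_monoid_generator (α := Kˣ)
  obtain ⟨m, hm⟩ := hg (Units.mk0 _ hl)
  have o : orderOf g = T.q ^ 3 - 1 := by
    rw [orderOf_eq_card_of_forall_mem_powers hg, Nat.card_units, T.card]
  obtain ⟨r, hr⟩ : ∃ r, T.q = r + 1 + 1 := ⟨T.q - 2, by have := T.pp.two_le; omega⟩
  have e : (g ^ m) ^ (r + 1) = 1 := by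
    have : (l : K) ^ (r + 1) * l = 1 * l := by rw [← pow_succ, ← hr, ← T.pw, σ_k, one_mul]
    exact Units.ext (by simpa [show g ^ m = _ from hm] using mul_right_cancel₀ hl this)
  rw [← pow_mul, ← orderOf_dvd_iff_pow_eq_one, o, show T.q ^ 3 - 1 = (1 + T.q + T.q * T.q) * (r + 1) by
    rw [hr]; exact Nat.sub_eq_of_eq_add (by ring)] at e
  obtain ⟨j, rfl⟩ := Nat.dvd_of_mul_dvd_mul_right r.succ_pos e
  refine ⟨g ^ j, ?_⟩
  rw [← show ((g ^ ((1 + T.q + T.q * T.q) * j) : Kˣ) : K) = l from congrArg Units.val hm, nm, T.pw, T.pw]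
  push_cast; ring

/-- the field automorphisms on the fixed field -/
def φk (φ : RingAut K) (l : T.k) : T.k := ⟨φ l, by rw [mem_k, ← T.comm, σ_k]⟩
@[simp] theorem coe_φk (φ : RingAut K) (l : T.k) : (T.φk φ l : K) = φ l := rfl

end CF

end H90.D3
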