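/- D3 tower (row S5261): basic lemmas. -/
import Cfsg.Agent.H90.D3Fld
import Cfsg.Agent.Rz.H90_D3_zA_eq_4
import Cfsg.Agent.Rz.H90_D3_z0_eq_7

set_option autoImplicit false
set_option linter.unusedSectionVars false
set_option linter.unusedSimpArgs false

open Subgroup H90.RF

namespace H90.D3

section Gen
variable {P : Type*} [Group P] {E M : Subgroup P} {z : ℕ → Subgroup P} {i p : ℕ} {β : P → P} {u : P}

theorem Bw.b3' (h : Bw p z i E M β u) {s : P} (hs : s ∈ normalizer (E : Set P)) (hs' : s ∉ E)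
    {ι κ : Type*} [Finite ι] [Finite κ] (f : ι → P) (g : κ → P)
    (df : ∀ x y, ∃ n ∈ normalizer (E : Set P), (cm n (β u))⁻¹ * ((f x)⁻¹ * f y) ∈ z i)
    (inj : ∀ x y, (f x)⁻¹ * f y ∈ z i → x = y) (hf : ∀ x, f x ∈ M)
    (cov : ∀ m ∈ M, ∃ k, (g k)⁻¹ * cm s m ∈ z i) : Nat.card ι ≤ Nat.card κ :=
  h.b3 s hs hs' _ _ (f ∘ (Finite.equivFin ι).symm) (g ∘ (Finite.equivFin κ).symm)
    (fun _ _ => ⟨df _ _, fun e => (Finite.equivFin ι).symm.injective (inj _ _ e)⟩) (fun _ => hf _) fun m hm =>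
      (cov m hm).elim fun k hk => ⟨Finite.equivFin κ k, by simpa using hk⟩

/-- `q²` commutators against `q` -/
theorem Bw.no3 (h : Bw p z i E M β u) {s : P} (hs : s ∈ normalizer (E : Set P)) (hs' : s ∉ E)
    {κ : Type*} [Finite κ] [Nontrivial κ] (f : κ → κ → P) (g : κ → P)
    (df : ∀ x y x' y', ∃ n ∈ normalizer (E : Set P), (cm n (β u))⁻¹ * ((f x y)⁻¹ * f x' y') ∈ z i)
    (inj : ∀ x y x' y', (f x y)⁻¹ * f x' y' ∈ z i → x = x' ∧ y = y') (hf : ∀ x y, f x y ∈ M)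
    (cov : ∀ m ∈ M, ∃ k, (g k)⁻¹ * cm s m ∈ z i) : False := by
  have := h.b3' hs hs' (fun x : κ × κ => f x.1 x.2) g (fun _ _ => df _ _ _ _)
    (fun _ _ e => Prod.ext (inj _ _ _ _ e).1 (inj _ _ _ _ e).2) (fun _ => hf _ _) cov
  have h2 := Finite.one_lt_card (α := κ)
  rw [Nat.card_prod] at this
  nlinarith

theorem mem_nor [Finite P] {s : P} (h : ∀ x ∈ E, cm s x ∈ E) : s ∈ normalizer (E : Set P) :=
  mem_normalizer_fintype fun x hx => by rw [conj_eq_cm]; exact mul_mem hx (h x hx)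

theorem cm_swap (s m : P) : cm m s = s⁻¹ * m * (cm s m)⁻¹ * (s⁻¹ * m)⁻¹ := by simp only [cm]; group

end Gen

variable {K : Type*} [Field K] {T : CF K}

@[simp] theorem cm_a (s m : Co T) : (cm s m).a = 0 := by simp [cm]
@[simp] theorem cm_b (s m : Co T) : (cm s m).b = 0 := by simp [cm]
theorem cm_c (s m : Co T) : (cm s m).c = m.a * s.b - m.b * s.a := by simp [cm]; ring
theorem cm_d (s m : Co T) : (cm s m).d = T.cr m.a s.c - T.cr s.a m.c + T.sh m.a * s.b -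
    s.b * T.cr m.a s.a + m.b * T.sh s.a := by
  simp [cm, CF.cr, CF.sh]; ring
theorem cm_e (s m : Co T) : (cm s m).e = T.tr (m.a * s.d) - T.tr (s.a * m.d) + T.tr (T.sh m.a * s.c) -
    T.tr (s.c * T.cr m.a s.a) + T.tr (T.sh s.a * m.c) +
    s.b * (T.nm m.a - T.tr (T.sh m.a * s.a) + T.tr (m.a * T.sh s.a)) - m.b * T.nm s.a := by
  simp [cm, CF.cr, CF.sh, CF.tr, CF.nm, T.cube]; ring
theorem cm_g (s m : Co T) : (cm s m).g = s.b * m.e - m.b * s.e + T.tr (m.c * s.d) - T.tr (s.c * m.d) +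
    (s.b - m.b) * (T.tr (m.a * s.d) + T.tr (T.sh m.a * s.c)) - s.b * T.tr (m.a * m.d) + m.b * T.tr (s.a * m.d) +
    T.tr (m.a * T.cr m.c s.c) - T.tr (m.a * T.sh s.c) - T.tr (s.a * T.sh m.c) + s.b * T.tr (T.sh m.a * m.c) -
    s.b * T.tr (m.c * T.cr m.a s.a) + m.b * T.tr (T.sh s.a * m.c) + T.nm m.a * s.b * (2 * s.b - m.b) -
    s.b ^ 2 * T.tr (T.sh m.a * s.a) + m.b * s.b * T.tr (m.a * T.sh s.a) - m.b ^ 2 * T.nm s.a := by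
  simp [cm, CF.cr, CF.sh, CF.tr, CF.nm, T.cube]; ring
/-- the symplectic form on `Q₁ / Z` -/
theorem cm_g1 {s m : Co T} (hs : s.a = 0) (hm : m.a = 0) :
    (cm s m).g = s.b * m.e - m.b * s.e + T.tr (m.c * s.d) - T.tr (s.c * m.d) := by
  simp [cm_g, hs, hm]
theorem cm_g2 {s m : Co T} (hs : s.b = 0) (hm : m.b = 0) : (cm s m).g = T.tr (m.c * s.d) - T.tr (s.c * m.d) +
    T.tr (m.a * T.cr m.c s.c) - T.tr (m.a * T.sh s.c) - T.tr (s.a * T.sh m.c) := by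
  simp [cm_g, hs, hm]
theorem cm_e3 (s : Co T) {m : Co T} (hm : m ∈ sZ3 T) : (cm s m).e = -T.tr (s.a * m.d) := by
  simp [cm_e, hm.1, hm.2.1, hm.2.2]
theorem cm_g3 (s : Co T) {m : Co T} (hm : m ∈ sZ3 T) : (cm s m).g = s.b * m.e - T.tr (s.c * m.d) := by
  simp [cm_g, hm.1, hm.2.1, hm.2.2]
theorem cm_e3' {s : Co T} (hs : s ∈ sZ3 T) (m : Co T) : (cm s m).e = T.tr (m.a * s.d) := by
  simp [cm_e, hs.1, hs.2.1, hs.2.2]
theorem cm_g3' {s : Co T} (hs : s ∈ sZ3 T) (m : Co T) :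
    (cm s m).g = T.tr (m.c * s.d) - m.b * (s.e + T.tr (m.a * s.d)) := by
  simp [cm_g, hs.1, hs.2.1, hs.2.2]; ring

theorem cm_Z4 (s m : Co T) : cm s m ∈ sZ4 T := ⟨cm_a s m, cm_b s m⟩
theorem cm_Z3 (s : Co T) {m : Co T} (hm : m ∈ sZ4 T) : cm s m ∈ sZ3 T :=
  ⟨cm_a s m, cm_b s m, by simp [cm_c, hm.1, hm.2]⟩
theorem cm_Z3' {s : Co T} (hs : s ∈ sZ4 T) (m : Co T) : cm s m ∈ sZ3 T :=
  ⟨cm_a s m, cm_b s m, by simp [cm_c, hs.1, hs.2]⟩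
theorem cm_W (s : Co T) {m : Co T} (hm : m ∈ sZ3 T) : cm s m ∈ sW T :=
  ⟨cm_a s m, cm_b s m, by simp [cm_c, hm.1, hm.2.1], by simp [cm_d, hm.1, hm.2.1, hm.2.2]⟩
theorem cm_W' {s : Co T} (hs : s ∈ sZ3 T) (m : Co T) : cm s m ∈ sW T :=
  ⟨cm_a s m, cm_b s m, by simp [cm_c, hs.1, hs.2.1], by simp [cm_d, hs.1, hs.2.1, hs.2.2]⟩
theorem cm_Z (s : Co T) {m : Co T} (hm : m ∈ sW T) : cm s m ∈ sZ T :=
  ⟨cm_a s m, cm_b s m, by simp [cm_c, hm.1, hm.2.1], by simp [cm_d, hm.1, hm.2.1, hm.2.2.1],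
    by simp [cm_e, hm.1, hm.2.1, hm.2.2.1, hm.2.2.2]⟩
theorem cm_one (s : Co T) {m : Co T} (hm : m ∈ sZ T) : cm s m = 1 := by
  obtain ⟨h1, h2, h3, h4, h5⟩ := hm
  ext <;> simp [cm_c, cm_d, cm_e, cm_g, *]
theorem cm_one' {s : Co T} (hs : s ∈ sZ T) (m : Co T) : cm s m = 1 :=
  cm_eq_one.2 (cm_eq_one.1 (cm_one m hs)).symm
theorem cm_Q1 {s m : Co T} (hs : s ∈ sQ1 T) (hm : m ∈ sQ1 T) : cm s m ∈ sZ T := by
  rw [mem_sQ1] at hs hm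
  exact ⟨cm_a s m, cm_b s m, by simp [cm_c, hs, hm], by simp [cm_d, hs, hm], by simp [cm_e, hs, hm]⟩
theorem cm_Q2 {s m : Co T} (hs : s ∈ sQ2 T) (hm : m ∈ sQ2 T) : cm s m ∈ sZ3 T := by
  rw [mem_sQ2] at hs hm
  exact ⟨cm_a s m, cm_b s m, by simp [cm_c, hs, hm]⟩
theorem cm_Q2_W {s m : Co T} (hs : s ∈ sQ2 T) (hm : m ∈ sW T) : cm s m = 1 := by
  rw [mem_sQ2] at hs
  obtain ⟨h1, h2, h3, h4⟩ := hm
  ext <;> simp [cm_c, cm_d, cm_e, cm_g, *]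
theorem cm_Z3_Z3 {s m : Co T} (hs : s ∈ sZ3 T) (hm : m ∈ sZ3 T) : cm s m = 1 := by
  obtain ⟨h1, h2, h3⟩ := hm
  obtain ⟨h4, h5, h6⟩ := hs
  ext <;> simp [cm_c, cm_d, cm_e, cm_g, *]

/-- `C(Z₃) = Z₃` -/
theorem cen_Z3 {s : Co T} (h : ∀ c ∈ sZ3 T, s * c = c * s) : s ∈ sZ3 T := by
  have k := fun c hc => cm_eq_one.2 (h c hc)
  refine ⟨T.tr_nd fun v => ?_, ?_, T.tr_nd fun v => ?_⟩
  · simpa [cm_e, xd] using congrArg Co.e (k (xd T v) ⟨rfl, rfl, rfl⟩)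
  · simpa [cm_g, xe] using congrArg Co.g (k (xe T 1) ⟨rfl, rfl, rfl⟩)
  · simpa [cm_g, xd] using congrArg Co.g (k (xd T v) ⟨rfl, rfl, rfl⟩)

/-- the action on `Q₁ / Z` -/
theorem cj_Q1 (s : Co T) {u : Co T} (hu : u ∈ sQ1 T) : (s⁻¹ * u * s).b = u.b ∧
    (s⁻¹ * u * s).c = u.c + s.a * u.b ∧ (s⁻¹ * u * s).d = u.d + T.cr s.a u.c + T.sh s.a * u.b ∧
    (s⁻¹ * u * s).e = u.e + T.tr (s.a * u.d) + T.tr (T.sh s.a * u.c) + T.nm s.a * u.b := by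
  rw [mem_sQ1] at hu
  refine ⟨by simp, ?_, ?_, ?_⟩ <;> simp [hu, CF.cr, CF.sh, CF.tr, CF.nm, T.cube] <;> ring

/-- the action on `Q₂ / Z₃` -/
theorem cj_Q2 (s : Co T) {u : Co T} (hu : u ∈ sQ2 T) :
    (s * u * s⁻¹).a = u.a ∧ (s * u * s⁻¹).c = u.c + s.b * u.a := by
  rw [mem_sQ2] at hu
  exact ⟨by simp, by simp [hu]; ring⟩

theorem eq_of_Z {u w : Co T} (hu : u ∈ sZ T) (hw : w ∈ sZ T) (h : u.g = w.g) : u = w := by
  obtain ⟨h1, h2, h3, h4, h5⟩ := hu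
  obtain ⟨k1, k2, k3, k4, k5⟩ := hw
  ext <;> simp [*]

theorem eq_xg {u : Co T} (hu : u ∈ sZ T) : u = xg T u.gk := eq_of_Z hu ⟨rfl, rfl, rfl, rfl, rfl⟩ rfl

/-- the normal form -/
theorem nf (u : Co T) : u = xa T u.a * xb T u.bk * xc T u.c * xd T u.d * xe T u.ek * xg T u.gk := by
  ext <;> simp [xa, xb, xc, xd, xe, xg]

theorem xa_add (s t : K) : xa T (s + t) = xa T s * xa T t := by ext <;> simp [xa]
theorem xb_add (s t : T.k) : xb T (s + t) = xb T s * xb T t := by ext <;> simp [xb]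
theorem xc_add (s t : K) : xc T (s + t) = xc T s * xc T t := by ext <;> simp [xc]
theorem xd_add (s t : K) : xd T (s + t) = xd T s * xd T t := by ext <;> simp [xd]
theorem xe_add (s t : T.k) : xe T (s + t) = xe T s * xe T t := by ext <;> simp [xe]
theorem xg_add (s t : T.k) : xg T (s + t) = xg T s * xg T t := by ext <;> simp [xg]

theorem w1_mem (b : T.k) (c d : K) (e : T.k) : w1 T b c d e ∈ sQ1 T := rfl
theorem w2_mem (a c d : K) : w2 T a c d ∈ sQ2 T := rfl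
theorem sm_mem (l : T.k) (u : Co T) : u.sm l ∈ sQ1 T := rfl
@[simp] theorem sm_b (l : T.k) (u : Co T) : (u.sm l).b = l * u.b := rfl
@[simp] theorem sm_c (l : T.k) (u : Co T) : (u.sm l).c = l * u.c := rfl
@[simp] theorem sm_d (l : T.k) (u : Co T) : (u.sm l).d = l * u.d := rfl
@[simp] theorem sm_e (l : T.k) (u : Co T) : (u.sm l).e = l * u.e := rfl

/-- congruence modulo `Z` in `Q₁` -/
theorem Q1_mod {u w : Co T} (hu : u ∈ sQ1 T) (hw : w ∈ sQ1 T) :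
    u⁻¹ * w ∈ sZ T ↔ w.b = u.b ∧ w.c = u.c ∧ w.d = u.d ∧ w.e = u.e := by
  rw [mem_sQ1] at hu hw
  simp [mem_sZ, hu, hw, neg_add_eq_zero, eq_comm]

/-- congruence modulo `Z₃` in `Q₂` -/
theorem Q2_mod {u w : Co T} (hu : u ∈ sQ2 T) (hw : w ∈ sQ2 T) : u⁻¹ * w ∈ sZ3 T ↔ w.a = u.a ∧ w.c = u.c := by
  rw [mem_sQ2] at hu hw
  simp [mem_sZ3, hu, hw, neg_add_eq_zero, eq_comm]

/-! ### Normal subgroups -/

theorem Z_le : sZ T ≤ sW T := fun _ h => ⟨h.1, h.2.1, h.2.2.1, h.2.2.2.1⟩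
theorem W_le : sW T ≤ sZ3 T := fun _ h => ⟨h.1, h.2.1, h.2.2.1⟩
theorem Z3_le : sZ3 T ≤ sZ4 T := fun _ h => ⟨h.1, h.2.1⟩
theorem Z4_le : sZ4 T ≤ sQ1 T := fun _ h => h.1
theorem Z4_le' : sZ4 T ≤ sQ2 T := fun _ h => h.2
theorem W_le_Q1 : sW T ≤ sQ1 T := fun _ h => h.1
theorem W_le_Q2 : sW T ≤ sQ2 T := fun _ h => h.2.1

instance nZ : (sZ T).Normal := U5.normal_of_cm fun s _ h => by rw [cm_one s h]; exact one_mem _
instance nW : (sW T).Normal := U5.normal_of_cm fun s _ h => Z_le (cm_Z s h)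
instance nZ3 : (sZ3 T).Normal := U5.normal_of_cm fun s _ h => W_le (cm_W s h)
instance nZ4 : (sZ4 T).Normal := U5.normal_of_cm fun s m _ => cm_Z4 s m
instance nQ1 : (sQ1 T).Normal := U5.normal_of_cm fun s m _ => cm_a s m
instance nQ2 : (sQ2 T).Normal := U5.normal_of_cm fun s m _ => cm_b s m
instance nz0 (j : ℕ) : (z0 T j).Normal := by unfold z0; split <;> infer_instance
instance nzA (j : ℕ) : (zA T j).Normal := by unfold zA; split <;> infer_instance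

theorem z0_mono (i : ℕ) : z0 T i ≤ z0 T (i + 1) := by
  rcases i with _ | _ | _ | _ | _ | _ | i
  exacts [bot_le, Z_le, W_le, Z3_le, Z4_le, le_top, le_rfl]

/-- `S` acts trivially on the factors of `z0` -/
theorem z0_cm : ∀ i < 6, ∀ u ∈ z0 T (i + 1), ∀ s, cm s u ∈ z0 T i := by
  intro i hi u hu s
  interval_cases i
  exacts [cm_one s hu, cm_Z s hu, cm_W s hu, cm_Z3 s hu, cm_Z4 s u, cm_a s u]

theorem pow_a (u : Co T) (n : ℕ) : (u ^ n).a = n * u.a := by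
  induction n with
  | zero => simp
  | succ n ih => rw [pow_succ, Co.mul_a, ih]; push_cast; ring

theorem pow_Q1 {u : Co T} (h : u.a = 0) (n : ℕ) :
    (u ^ n).b = n * u.b ∧ (u ^ n).c = n * u.c ∧ (u ^ n).d = n * u.d ∧ (u ^ n).e = n * u.e := by
  induction n with
  | zero => simp
  | succ n ih => simp [pow_succ, ih, h, add_mul]

theorem pow_Z3 {u : Co T} (h : u ∈ sZ3 T) (n : ℕ) : (u ^ n).g = n * u.g := by
  induction n with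
  | zero => simp
  | succ n ih => simp [pow_succ, ih, h.1, h.2.1, h.2.2, add_mul]

theorem pow_p_Z3 (p : ℕ) [CharP K p] {u : Co T} (h : u ∈ sZ3 T) : u ^ p = 1 := by
  ext <;> simp [pow_a, pow_Q1 h.1, pow_Z3 h]

theorem pow_p_Q1 (p : ℕ) [CharP K p] {u : Co T} (h : u ∈ sQ1 T) : u ^ p ∈ sZ T := by
  simp [mem_sZ, pow_a, pow_Q1 h]

theorem z0_pow (p : ℕ) [CharP K p] : ∀ i < 6, ∀ u ∈ z0 T (i + 1), u ^ p ∈ z0 T i := by
  intro i hi u hu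
  interval_cases i
  · exact pow_p_Z3 p (W_le (Z_le hu))
  · exact pow_p_Q1 p hu.1
  · exact Z_le (pow_p_Q1 p hu.1)
  · exact W_le (Z_le (pow_p_Q1 p hu.1))
  · exact Z3_le (W_le (Z_le (pow_p_Q1 p hu)))
  · exact (mem_sQ1 T).2 (by simp [pow_a])

theorem pgroup_Co (p : ℕ) [CharP K p] : IsPGroup p (Co T) := fun u => ⟨3, by
  have := pow_p_Z3 p (W_le (Z_le (pow_p_Q1 p (z0_pow (T := T) p 5 (by omega) u trivial))))
  simp only [← pow_mul] at this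
  rwa [show p ^ 3 = p * p * p by ring]⟩

/-! ### Automorphisms of `Q₁` modulo `Z` -/

theorem Z_cm {u : Co T} (hu : u ∈ sZ T) : u = cm (xb T 1) (xe T u.gk) :=
  eq_of_Z hu (cm_Q1 rfl rfl) (by simp [cm_g1, xb, xe])

theorem pr_Z1 {β : Co T → Co T} (a : Au (sQ1 T) β) : Pr β (sZ T) := fun u hu => by
  rw [Z_cm hu, a.cm rfl rfl]
  exact cm_Q1 (a.mem _ rfl) (a.mem _ rfl)

theorem EqV.rfl' (u : Co T) : EqV u u := ⟨rfl, rfl, rfl, rfl⟩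
theorem EqV.symm {u w : Co T} (h : EqV u w) : EqV w u := ⟨h.1.symm, h.2.1.symm, h.2.2.1.symm, h.2.2.2.symm⟩
theorem EqV.trans {u w x : Co T} (h : EqV u w) (k : EqV w x) : EqV u x :=
  ⟨h.1.trans k.1, h.2.1.trans k.2.1, h.2.2.1.trans k.2.2.1, h.2.2.2.trans k.2.2.2⟩

theorem EqV.map {β : Co T → Co T} (a : Au (sQ1 T) β) {u w : Co T} (hu : u ∈ sQ1 T) (hw : w ∈ sQ1 T)
    (h : EqV u w) : EqV (β u) (β w) := by
  have := pr_Z1 a _ ((Q1_mod hw hu).2 h)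
  rw [a.mul _ (inv_mem hw) _ hu, a.inv hw] at this
  exact (Q1_mod (a.mem w hw) (a.mem u hu)).1 this

theorem EqV.cm {u w u' w' : Co T} (hu : u ∈ sQ1 T) (hw : w ∈ sQ1 T) (hu' : u' ∈ sQ1 T) (hw' : w' ∈ sQ1 T)
    (h : EqV u u') (k : EqV w w') : cm u w = cm u' w' :=
  eq_of_Z (cm_Q1 hu hw) (cm_Q1 hu' hw') (by
    rw [cm_g1 hu hw, cm_g1 hu' hw', h.1, h.2.1, h.2.2.1, h.2.2.2, k.1, k.2.1, k.2.2.1, k.2.2.2])

/-- the form on `Q₁ / Z` is nondegenerate -/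
theorem mem_Z_of {u : Co T} (hu : u ∈ sQ1 T) (h : ∀ w ∈ sQ1 T, cm u w = 1) : u ∈ sZ T := by
  have k := fun w hw => (cm_g1 hu hw).symm.trans (congrArg Co.g (h w hw))
  exact ⟨hu, by simpa [xe] using k (xe T 1) rfl, T.tr_nd fun v => by simpa [xd] using k (xd T v) rfl,
    T.tr_nd fun v => by simpa [xc, mul_comm] using k (xc T v) rfl, by simpa [xb] using k (xb T 1) rfl⟩

/-! ### The standard automorphisms -/

theorem nu1_nu1 {u : Co T} (hu : u ∈ sQ1 T) : u.nu1.nu1 = dg T 1 (-1) u := by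
  rw [mem_sQ1] at hu
  ext <;> simp [Co.nu1, dg, hu, CF.tr] <;> ring

theorem nu2_nu2 {u : Co T} (hu : u ∈ sQ2 T) : u.nu2.nu2 = dg T (-1) 1 u := by
  rw [mem_sQ2] at hu
  ext <;> simp [Co.nu2, dg, hu, CF.tr, CF.sh, CF.cr, CF.nm, T.cube] <;> ring

theorem dg_mul (x : K) (y : T.k) (u w : Co T) : dg T x y (u * w) = dg T x y u * dg T x y w := by
  ext <;> simp [dg, CF.tr, CF.sh, CF.cr, CF.nm, T.cube] <;> ring

theorem dg_dg (x x' : K) (y y' : T.k) (u : Co T) : dg T x y (dg T x' y' u) = dg T (x * x') (y * y') u := by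
  ext <;> simp [dg, T.sh_mul, T.nm_mul] <;> ring

theorem dg_one (u : Co T) : dg T 1 1 u = u := by ext <;> simp [dg]

theorem fa_mul (φ : RingAut K) (u w : Co T) : fa T φ (u * w) = fa T φ u * fa T φ w := by
  ext <;> simp [fa, T.map_tr, T.map_sh, T.map_cr, T.map_nm]

theorem fa_dg (φ : RingAut K) (x : K) (y : T.k) (u : Co T) :
    fa T φ (dg T x y u) = dg T (φ x) (T.φk φ y) (fa T φ u) := by
  ext <;> simp [fa, dg, T.map_sh, T.map_nm]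

theorem Pm.ext' {δ δ' : Pm T} (h1 : δ.x = δ'.x) (h2 : (δ.y : K) = δ'.y) (h3 : δ.φ = δ'.φ) : δ = δ' := by
  cases δ; cases δ'; cases h1; cases Subtype.ext h2; cases h3; rfl

instance instMulPm : Mul (Pm T) := ⟨fun δ ε => ⟨δ.x * δ.φ ε.x, δ.y * T.φk δ.φ ε.y, δ.φ * ε.φ,
  by simp [δ.hx, ε.hx], by simp [δ.hy, ε.hy]⟩⟩
instance instOnePm : One (Pm T) := ⟨⟨1, 1, 1, one_ne_zero, by simp⟩⟩
instance instInvPm : Inv (Pm T) := ⟨fun δ => ⟨δ.φ⁻¹ δ.x⁻¹, T.φk δ.φ⁻¹ δ.y⁻¹, δ.φ⁻¹,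
  by simp [δ.hx], by simp [δ.hy]⟩⟩
theorem Pm.mul_x (δ ε : Pm T) : (δ * ε).x = δ.x * δ.φ ε.x := rfl
theorem Pm.mul_y (δ ε : Pm T) : ((δ * ε).y : K) = δ.y * δ.φ ε.y := rfl
theorem Pm.mul_φ (δ ε : Pm T) : (δ * ε).φ = δ.φ * ε.φ := rfl

instance instGroupPm : Group (Pm T) := Group.ofLeftAxioms
  (fun a b c => Pm.ext' (by simp [Pm.mul_x, Pm.mul_φ, mul_assoc]) (by simp [Pm.mul_y, Pm.mul_φ, mul_assoc]) rfl)
  (fun a => Pm.ext' (one_mul _) (one_mul _) rfl)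
  (fun a => Pm.ext' (show a.φ⁻¹ a.x⁻¹ * a.φ⁻¹ a.x = 1 by rw [← map_mul, inv_mul_cancel₀ a.hx, map_one])
    (show a.φ⁻¹ (a.y : K)⁻¹ * a.φ⁻¹ a.y = 1 by rw [← map_mul, inv_mul_cancel₀ a.hy, map_one])
    (inv_mul_cancel a.φ))

/-- a diagonal parameter -/
def Pm.dia (x : K) (y : T.k) (hx : x ≠ 0) (hy : (y : K) ≠ 0) : Pm T := ⟨x, y, 1, hx, hy⟩
theorem sd_dia (x : K) (y : T.k) (hx : x ≠ 0) (hy : (y : K) ≠ 0) (u : Co T) :
    sd (Pm.dia x y hx hy) u = dg T x y u := rfl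

theorem sd_mul (δ : Pm T) (u w : Co T) : sd δ (u * w) = sd δ u * sd δ w := by rw [sd, sd, sd, fa_mul, dg_mul]
theorem sd_sd (δ ε : Pm T) (u : Co T) : sd δ (sd ε u) = sd (δ * ε) u := by
  rw [sd, sd, fa_dg, dg_dg]; rfl
theorem sd_one (u : Co T) : sd 1 u = u := dg_one u

/-- the standard automorphisms as a homomorphism -/
def sdH : Pm T →* MulAut (Co T) :=
  MonoidHom.mk' (fun δ => ⟨⟨sd δ, sd δ⁻¹, fun u => by rw [sd_sd, inv_mul_cancel, sd_one],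
    fun u => by rw [sd_sd, mul_inv_cancel, sd_one]⟩, sd_mul δ⟩) fun δ ε => MulEquiv.ext fun u => (sd_sd δ ε u).symm

theorem sdH_apply (δ : Pm T) (u : Co T) : sdH δ u = sd δ u := rfl
theorem au_sd (δ : Pm T) : Au ⊤ (sd δ) := au_aut (sdH δ)
theorem au_dg {x : K} {y : T.k} (hx : x ≠ 0) (hy : (y : K) ≠ 0) : Au ⊤ (dg T x y) := au_sd (Pm.dia x y hx hy)

theorem sd_a (δ : Pm T) (u : Co T) : (sd δ u).a = δ.x * δ.φ u.a := rfl
theorem sd_b (δ : Pm T) (u : Co T) : (sd δ u).b = δ.y * δ.φ u.b := rfl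
theorem sd_c (δ : Pm T) (u : Co T) : (sd δ u).c = δ.x * δ.y * δ.φ u.c := rfl
theorem sd_d (δ : Pm T) (u : Co T) : (sd δ u).d = T.sh δ.x * δ.y * δ.φ u.d := rfl
theorem sd_e (δ : Pm T) (u : Co T) : (sd δ u).e = T.nm δ.x * δ.y * δ.φ u.e := rfl
theorem sd_g (δ : Pm T) (u : Co T) : (sd δ u).g = T.nm δ.x * δ.y ^ 2 * δ.φ u.g := rfl

theorem pr_sd_z0 (δ : Pm T) (i : ℕ) : Pr (sd δ) (z0 T i) := fun u hu => by
  rcases i with _ | _ | _ | _ | _ | _ | i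
  · rw [mem_bot.1 hu, (au_sd δ).one]; exact one_mem _
  · simp [z0, mem_sZ, sd_a, sd_b, sd_c, sd_d, sd_e, hu.1, hu.2.1, hu.2.2.1, hu.2.2.2.1, hu.2.2.2.2]
  · simp [z0, mem_sW, sd_a, sd_b, sd_c, sd_d, hu.1, hu.2.1, hu.2.2.1, hu.2.2.2]
  · simp [z0, mem_sZ3, sd_a, sd_b, sd_c, hu.1, hu.2.1, hu.2.2]
  · simp [z0, mem_sZ4, sd_a, sd_b, hu.1, hu.2]
  · simp [z0, mem_sQ1, sd_a, (mem_sQ1 T).1 hu]
  · trivial

theorem pr_sd_Q2 (δ : Pm T) : Pr (sd δ) (sQ2 T) := fun u hu => by simp [mem_sQ2, sd_b, (mem_sQ2 T).1 hu]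

theorem mod5 {x y : Co T} : x⁻¹ * y ∈ sQ1 T ↔ y.a = x.a := by simp [mem_sQ1, neg_add_eq_zero, eq_comm]
theorem mod4 {x y : Co T} (h : x ∈ sQ1 T) : x⁻¹ * y ∈ sZ4 T ↔ y ∈ sQ1 T ∧ y.b = x.b := by
  simp [mem_sQ1, mem_sZ4, (mem_sQ1 T).1 h, neg_add_eq_zero, eq_comm]
theorem mod3 {x y : Co T} (h : x ∈ sZ4 T) : x⁻¹ * y ∈ sZ3 T ↔ y ∈ sZ4 T ∧ y.c = x.c := by
  simp [mem_sZ3, mem_sZ4, h.1, h.2, neg_add_eq_zero, eq_comm, and_assoc]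
theorem mod2 {x y : Co T} (h : x ∈ sZ3 T) : x⁻¹ * y ∈ sW T ↔ y ∈ sZ3 T ∧ y.d = x.d := by
  simp [mem_sZ3, mem_sW, h.1, h.2.1, h.2.2, neg_add_eq_zero, eq_comm, and_assoc]
theorem mod1 {x y : Co T} (h : x ∈ sW T) : x⁻¹ * y ∈ sZ T ↔ y ∈ sW T ∧ y.e = x.e := by
  simp [mem_sZ, mem_sW, h.1, h.2.1, h.2.2.1, h.2.2.2, neg_add_eq_zero, eq_comm, and_assoc]

/-- congruence along `z0` in coordinates -/
theorem Cg_co {θ η : Co T → Co T} (h : ∀ i, Pr η (z0 T i)) (c : Cg (z0 T) 6 θ η) :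
    (∀ u, (θ u).a = (η u).a) ∧ (∀ u ∈ sQ1 T, (θ u).b = (η u).b) ∧
    (∀ u ∈ sZ4 T, (θ u).c = (η u).c) ∧ (∀ u ∈ sZ3 T, (θ u).d = (η u).d) ∧
    (∀ u ∈ sW T, (θ u).e = (η u).e) ∧ ∀ u ∈ sZ T, θ u = η u :=
  ⟨fun u => mod5.1 (c 5 (by omega) u trivial), fun u hu => ((mod4 (h 5 u hu)).1 (c 4 (by omega) u hu)).2,
    fun u hu => ((mod3 (h 4 u hu)).1 (c 3 (by omega) u hu)).2,
    fun u hu => ((mod2 (h 3 u hu)).1 (c 2 (by omega) u hu)).2,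
    fun u hu => ((mod1 (h 2 u hu)).1 (c 1 (by omega) u hu)).2,
    fun u hu => (inv_mul_eq_one.1 (c 0 (by omega) u hu)).symm⟩

theorem Cg_of {θ η : Co T → Co T} (h : ∀ i, Pr η (z0 T i)) (k : ∀ i, Pr θ (z0 T i))
    (c5 : ∀ u, (θ u).a = (η u).a) (c4 : ∀ u ∈ sQ1 T, (θ u).b = (η u).b)
    (c3 : ∀ u ∈ sZ4 T, (θ u).c = (η u).c) (c2 : ∀ u ∈ sZ3 T, (θ u).d = (η u).d)
    (c1 : ∀ u ∈ sW T, (θ u).e = (η u).e) (c0 : ∀ u ∈ sZ T, (θ u).g = (η u).g) : Cg (z0 T) 6 θ η := by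
  intro i hi u hu
  interval_cases i
  exacts [inv_mul_eq_one.2 (eq_of_Z (h 1 u hu) (k 1 u hu) (c0 u hu).symm),
    (mod1 (h 2 u hu)).2 ⟨k 2 u hu, c1 u hu⟩, (mod2 (h 3 u hu)).2 ⟨k 3 u hu, c2 u hu⟩,
    (mod3 (h 4 u hu)).2 ⟨k 4 u hu, c3 u hu⟩, (mod4 (h 5 u hu)).2 ⟨k 5 u hu, c4 u hu⟩, mod5.2 (c5 u)]

/-- the coordinates of a map congruent to a standard automorphism -/
theorem Cg_sd {θ : Co T → Co T} {δ : Pm T} (h : Cg (z0 T) 6 θ (sd δ)) :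
    (∀ u, (θ u).a = δ.x * δ.φ u.a) ∧ (∀ u ∈ sQ1 T, (θ u).b = δ.y * δ.φ u.b) ∧
    (∀ u ∈ sZ4 T, (θ u).c = δ.x * δ.y * δ.φ u.c) ∧ (∀ u ∈ sZ3 T, (θ u).d = T.sh δ.x * δ.y * δ.φ u.d) ∧
    (∀ u ∈ sW T, (θ u).e = T.nm δ.x * δ.y * δ.φ u.e) ∧
    ∀ u ∈ sZ T, (θ u).g = T.nm δ.x * δ.y ^ 2 * δ.φ u.g := by
  obtain ⟨h1, h2, h3, h4, h5, h6⟩ := Cg_co (pr_sd_z0 δ) h
  exact ⟨h1, h2, h3, h4, h5, fun u hu => by rw [h6 u hu, sd_g]⟩

variable [Finite K]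

theorem au_nu1 : Au (sQ1 T) Co.nu1 :=
  Au.of_inj (fun _ _ => rfl) (fun u hu w hw => by
    rw [mem_sQ1] at hu hw
    ext <;> simp [Co.nu1, hu, hw, CF.tr] <;> ring) fun u hu w hw e =>
    (au_dg (T := T) (y := -1) one_ne_zero (by simp)).eq trivial trivial (by rw [← nu1_nu1 hu, e, nu1_nu1 hw])

theorem au_nu2 : Au (sQ2 T) Co.nu2 :=
  Au.of_inj (fun _ _ => rfl) (fun u hu w hw => by
    rw [mem_sQ2] at hu hw
    ext <;> simp [Co.nu2, hu, hw, CF.tr, CF.sh, CF.cr, CF.nm, T.cube] <;> ring) fun u hu w hw e =>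
    (au_dg (T := T) (x := -1) (y := 1) (by simp) (by simp)).eq trivial trivial
      (by rw [← nu2_nu2 hu, e, nu2_nu2 hw])

instance instFinitePm : Finite (Pm T) :=
  Finite.of_injective (fun δ : Pm T => (δ.x, (δ.y : K), (δ.φ : K → K))) fun _ _ h =>
    Pm.ext' (congrArg (·.1) h) (congrArg (·.2.1) h) (DFunLike.coe_injective (congrArg (·.2.2) h))

theorem eqns : True := by
  have := @zA.eq_1.{0}
  have := @zA.eq_2.{0}
  have := @zA.eq_3.{0}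
  have := @zA.eq_4.{0}
  have := @zA.eq_def.{0}
  have := @z0.eq_1.{0}
  have := @z0.eq_2.{0}
  have := @z0.eq_7.{0}
  have := @z0.eq_def.{0}
  have := @w1.eq_1.{0}
  have := @w2.eq_1.{0}
  have := @Co.sm.eq_1.{0}
  have := @sd.eq_1.{0}
  have := @Co.bk.eq_1.{0}
  have := @Co.ek.eq_1.{0}
  have := @Co.gk.eq_1.{0}
  have := @CF.trk.eq_1.{0}
  have := @CF.nmk.eq_1.{0}
  have := @CF.φk.eq_1.{0}
  have := @CF.wg.eq_1.{0}
  have := @Pm.dia.eq_1.{0}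
  have := @EqV.eq_1.{0}
  have := @Eq1.eq_1.{0}
  have := @SL.eq_1.{0}
  have := @HT.eq_1.{0}
  have := @Om.eq_1.{0}
  have := @Opp.eq_1.{0}
  have := @G0.eq_1.{0}
  have := @G1.eq_1.{0}
  have := @G2.eq_1.{0}
  have := @N1.eq_1.{0}
  have := @N2.eq_1.{0}
  have := @H2.eq_1.{0}
  have := @HA.eq_1.{0}
  have := @Std.eq_1.{0}
  have := @Sp.eq_1.{0}
  have := @CH.eq_1.{0}
  have := @A1.eq_1.{0}
  have := @A2.eq_1.{0}
  trivial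

end H90.D3
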