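/- RF tower (row S5262): basic lemmas in coordinates. -/
import Cfsg.Agent.H90.RFKit
import Mathlib.FieldTheory.Finite.Extension

set_option autoImplicit false
set_option linter.unusedSectionVars false
set_option linter.unusedSimpArgs false

open Subgroup H63.Oc H19.ParTY

namespace H90.RF

variable {K : Type*} [Field K] [CharP K 2] {T : TF K}

/-! ### Normal subgroups -/

instance nZ : (sZ T).Normal := ⟨fun c hc s => by
  rw [H14.Oc.eq_x4 hc, H14.Oc.x4_comm, mul_inv_cancel_right]; exact H14.Oc.x4_mem _⟩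
instance nW : (sW T).Normal := ⟨fun _ hc s => nrm_W s hc⟩
instance nA : (sA T).Normal := ⟨fun _ hc s => nrm_A s hc⟩
instance nV : (sV T).Normal := ⟨fun _ hc s => H14.Oc.cjV hc s⟩
instance nR : (sR T).Normal := ⟨fun _ hc s => H14.Oc.cjR hc s⟩
instance nQ : (sQ T).Normal := ⟨fun _ hc s => nrm_Q s hc⟩
instance nQ1 : (sQ1 T).Normal := ⟨fun _ hc s => nrm_Q1 s hc⟩
instance nV0 : (sV0 T).Normal := ⟨fun c ⟨h1, h2, h3, h4, h5, h6, h7, h8⟩ s => by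
  refine ⟨?_, ?_, ?_, ?_, ?_, ?_, ?_, ?_⟩ <;> simp [T.sq, *] <;> grind⟩
instance nA7 : (sA7 T).Normal := ⟨fun c ⟨h1, h2, h3, h4, h5, h6, h7⟩ s => by
  refine ⟨?_, ?_, ?_, ?_, ?_, ?_, ?_⟩ <;> simp [T.sq, *] <;> grind⟩
instance nZ5 : (sZ5 T).Normal := ⟨fun c ⟨h1, h2, h3, h4, h5, h6⟩ s => by
  refine ⟨?_, ?_, ?_, ?_, ?_, ?_⟩ <;> simp [T.sq, *] <;> grind⟩
instance nF0 : (sF0 T).Normal := ⟨fun c ⟨h1, h2, h3, h4, h5⟩ s => by
  refine ⟨?_, ?_, ?_, ?_, ?_⟩ <;> simp [T.sq, *] <;> grind⟩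
instance nZ6 : (sZ6 T).Normal := ⟨fun c ⟨h1, h2, h3, h4⟩ s => by
  refine ⟨?_, ?_, ?_, ?_⟩ <;> simp [T.sq, *] <;> grind⟩
instance nD : (sD T).Normal := ⟨fun c ⟨h1, h2, h3⟩ s => by
  refine ⟨?_, ?_, ?_⟩ <;> simp [T.sq, *] <;> grind⟩
instance nZ7 : (sZ7 T).Normal := ⟨fun c ⟨h1, h2⟩ s => by
  refine ⟨?_, ?_⟩ <;> simp [T.sq, *] <;> grind⟩
instance nQ8 : (sQ8 T).Normal := ⟨fun c h s => by
  rw [mem_sQ8] at h ⊢; simp [h]; grind⟩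

instance nzA (j : ℕ) : (zA T j).Normal := by unfold zA; split <;> infer_instance
instance nz0 (j : ℕ) : (z0 T j).Normal := by unfold z0; split <;> infer_instance
instance nz8 (j : ℕ) : (z8 T j).Normal := by unfold z8; split <;> infer_instance
instance nz1 (j : ℕ) : (z1 T j).Normal := by unfold z1; split <;> infer_instance

/-! ### Field automorphisms -/

/-- a ring endomorphism of a finite field of characteristic two is a power of the squaring map -/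
theorem exists_pow [Finite K] (φ : K →+* K) : ∃ i : ℕ, ∀ x, φ x = x ^ 2 ^ i := by
  letI := ZMod.algebra K 2
  haveI : Fact (Nat.Prime 2) := ⟨Nat.prime_two⟩
  obtain ⟨i, hi⟩ := FiniteField.exists_forall_apply_eq_pow (ZMod 2) 2 K
    (AlgEquiv.ofRingEquiv (f := RingEquiv.ofBijective φ (Finite.injective_iff_bijective.1 φ.injective))
      fun x => congrFun (congrArg DFunLike.coe (RingHom.ext_zmod (φ.comp (algebraMap _ K)) (algebraMap _ K))) x)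
  rw [Nat.card_zmod] at hi
  exact ⟨i, hi⟩

theorem comm_σ [Finite K] (φ : RingAut K) (x : K) : φ (T.σ x) = T.σ (φ x) := by
  obtain ⟨i, hi⟩ := exists_pow T.σ
  rw [hi, hi, map_pow]

theorem aut_comm [Finite K] (φ ψ : RingAut K) : φ * ψ = ψ * φ := by
  obtain ⟨i, hi⟩ := exists_pow φ.toRingHom
  ext x
  exact (hi _).trans ((map_pow ψ x _).symm.trans (congrArg ψ (hi x).symm))

include T in
/-- the automorphism group of the field has odd order -/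
theorem odd_aut [Finite K] : Odd (Nat.card (RingAut K)) := by
  haveI : Finite (RingAut K) := Finite.of_injective (fun φ : RingAut K => (φ : K → K)) DFunLike.coe_injective
  haveI : Fact (Nat.Prime 2) := ⟨Nat.prime_two⟩
  rw [← Nat.not_even_iff_odd, even_iff_two_dvd]
  intro h
  obtain ⟨φ, hφ⟩ := exists_prime_orderOf_dvd_card' 2 h
  let s : RingAut K := RingEquiv.ofBijective T.σ (Finite.injective_iff_bijective.1 T.σ.injective)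
  have pw : ∀ (i : ℕ) (x : K), (s ^ (2 * i)) x = x ^ 2 ^ i := fun i => by
    induction i with
    | zero => simp
    | succ i ih =>
      intro x
      rw [mul_add, pow_add, mul_one, sq, RingAut.mul_apply, RingAut.mul_apply, ih, pow_succ', pow_mul]
      exact congrArg (· ^ 2 ^ i) (T.sq x)
  obtain ⟨i, hi⟩ := exists_pow T.σ
  obtain ⟨j, hj⟩ := exists_pow φ.toRingHom
  have e1 : s ^ (2 * i) = s ^ 1 := by ext x; rw [pw, pow_one]; exact (hi x).symm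
  have e2 : φ = s ^ (2 * j) := by ext x; rw [pw]; exact hj x
  have d : 2 ∣ orderOf s := by rw [← hφ, e2]; exact orderOf_pow_dvd _
  have := (pow_eq_pow_iff_modEq.1 e1).of_dvd d
  unfold Nat.ModEq at this
  omega

theorem fa_mul [Finite K] (φ : RingAut K) (c d : Co T) : fa T φ (c * d) = fa T φ c * fa T φ d := by
  ext <;> simp [fa, comm_σ]

theorem fa_fa (φ ψ : RingAut K) (c : Co T) : fa T φ (fa T ψ c) = fa T (φ * ψ) c := rfl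

theorem fa_one (c : Co T) : fa T 1 c = c := rfl

theorem fa_dg [Finite K] (φ : RingAut K) (a b : K) (c : Co T) :
    fa T φ (dg T a b c) = dg T (φ a) (φ b) (fa T φ c) := by
  ext <;> simp [fa, dg, comm_σ]

theorem fa_nu8 [Finite K] (φ : RingAut K) (c : Co T) : fa T φ c.nu8 = (fa T φ c).nu8 := by
  ext <;> simp [fa, Co.nu8, comm_σ]

theorem fa_nu1 [Finite K] (φ : RingAut K) (c : Co T) : fa T φ c.nu1 = (fa T φ c).nu1 := by
  ext <;> simp [fa, Co.nu1, comm_σ]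

/-- the action of a field automorphism on the torus -/
def ap (φ : RingAut K) (p : Kˣ × Kˣ) : Kˣ × Kˣ := (Units.map (φ : K →* K) p.1, Units.map (φ : K →* K) p.2)

@[simp] theorem ap_fst (φ : RingAut K) (p : Kˣ × Kˣ) : ((ap φ p).1 : K) = φ p.1 := rfl
@[simp] theorem ap_snd (φ : RingAut K) (p : Kˣ × Kˣ) : ((ap φ p).2 : K) = φ p.2 := rfl

theorem sd_one (p : Kˣ × Kˣ) (c : Co T) : sd T p 1 c = dg T p.1 p.2 c := rfl

theorem sd_one_one (c : Co T) : sd T 1 1 c = c := dg_one c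

theorem sd_mul [Finite K] (p : Kˣ × Kˣ) (φ : RingAut K) (c d : Co T) :
    sd T p φ (c * d) = sd T p φ c * sd T p φ d := by
  rw [sd, fa_mul, dg_mul]; rfl

theorem sd_sd [Finite K] (p p' : Kˣ × Kˣ) (φ ψ : RingAut K) (c : Co T) :
    sd T p φ (sd T p' ψ c) = sd T (p * ap φ p') (φ * ψ) c := by
  rw [sd, sd, fa_dg, dg_dg, fa_fa]; rfl

theorem sd_inv [Finite K] (p : Kˣ × Kˣ) (φ : RingAut K) (c : Co T) :
    sd T (ap φ⁻¹ p⁻¹) φ⁻¹ (sd T p φ c) = c := by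
  rw [sd_sd, inv_mul_cancel, show ap φ⁻¹ p⁻¹ * ap φ⁻¹ p = 1 by ext <;> simp, sd_one_one]

theorem sd_inv' [Finite K] (p : Kˣ × Kˣ) (φ : RingAut K) (c : Co T) :
    sd T p φ (sd T (ap φ⁻¹ p⁻¹) φ⁻¹ c) = c := by
  rw [sd_sd, mul_inv_cancel, show p * ap φ (ap φ⁻¹ p⁻¹) = 1 by
    ext <;> simp [show ∀ x, φ (φ⁻¹ x) = x from φ.apply_symm_apply], sd_one_one]

theorem au_sd [Finite K] (p : Kˣ × Kˣ) (φ : RingAut K) : Au ⊤ (sd T p φ) :=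
  Au.of_inj (fun _ _ => trivial) (fun c _ d _ => sd_mul p φ c d) fun c _ d _ e => by
    rw [← sd_inv p φ c, e, sd_inv]

theorem au_dg [Finite K] (p : Kˣ × Kˣ) : Au ⊤ (dg T p.1 p.2) := au_sd p 1

/-- the standard automorphisms preserve every coordinate subgroup -/
theorem sd_zero (p : Kˣ × Kˣ) (φ : RingAut K) (c : Co T) :
    ((sd T p φ c).a1 = 0 ↔ c.a1 = 0) ∧ ((sd T p φ c).b2 = 0 ↔ c.b2 = 0) ∧ ((sd T p φ c).a2 = 0 ↔ c.a2 = 0) ∧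
    ((sd T p φ c).a3 = 0 ↔ c.a3 = 0) ∧ ((sd T p φ c).b4 = 0 ↔ c.b4 = 0) ∧ ((sd T p φ c).a4 = 0 ↔ c.a4 = 0) ∧
    ((sd T p φ c).a5 = 0 ↔ c.a5 = 0) ∧ ((sd T p φ c).b6 = 0 ↔ c.b6 = 0) ∧ ((sd T p φ c).a6 = 0 ↔ c.a6 = 0) ∧
    ((sd T p φ c).a7 = 0 ↔ c.a7 = 0) ∧ ((sd T p φ c).b8 = 0 ↔ c.b8 = 0) ∧ ((sd T p φ c).a8 = 0 ↔ c.a8 = 0) := by
  simp [sd, dg, fa]

theorem pr_sd (p : Kˣ × Kˣ) (φ : RingAut K) : ∀ X ∈ [sZ T, sW T, sA T, sV0 T, sV T, sR T, sA7 T, sZ5 T, sF0 T,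
    sF1 T, sZ6 T, sD T, sZ7 T, sQ T, sQ8 T, sQ1 T, sU8 T], Pr (sd T p φ) X := by
  simp only [List.forall_mem_cons, List.not_mem_nil, false_imp_iff, implies_true, and_true, Pr, mem_sZ, mem_sW,
    mem_sA, mem_sV0, mem_sV, mem_sR, mem_sA7, mem_sZ5, mem_sF0, mem_sF1, mem_sZ6, mem_sD, mem_sZ7, mem_sQ,
    mem_sQ8, mem_sQ1, mem_sU8, sd_zero, imp_self, and_self]

theorem sd_id_one (p : Kˣ × Kˣ) (φ : RingAut K) : sd T p φ 1 = 1 := by ext <;> simp [sd, dg, fa]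

theorem pr_sd_z0 (p : Kˣ × Kˣ) (φ : RingAut K) (i : ℕ) : Pr (sd T p φ) (z0 T i) := by
  have h := pr_sd (T := T) p φ
  unfold z0
  split
  · intro c hc; rw [mem_bot.1 hc, sd_id_one]; exact one_mem _
  rotate_left 8
  · exact (h _ (by simp)).inf (h _ (by simp))
  rotate_left 2
  · exact fun _ _ => trivial
  all_goals exact h _ (by simp)

theorem pr_sd_z8 (p : Kˣ × Kˣ) (φ : RingAut K) (i : ℕ) : Pr (sd T p φ) (z8 T i) := by
  have h := pr_sd (T := T) p φ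
  unfold z8
  split
  · intro c hc; rw [mem_bot.1 hc, sd_id_one]; exact one_mem _
  all_goals exact h _ (by simp)

theorem pr_sd_z1 (p : Kˣ × Kˣ) (φ : RingAut K) (i : ℕ) : Pr (sd T p φ) (z1 T i) := by
  have h := pr_sd (T := T) p φ
  unfold z1
  split
  · intro c hc; rw [mem_bot.1 hc, sd_id_one]; exact one_mem _
  all_goals exact h _ (by simp)

theorem au_nu8 : Au (sQ T) Co.nu8 :=
  ⟨fun _ _ => ⟨rfl, rfl⟩, fun _ hc _ hd => nu8_mul hc hd, fun c hc e => by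
    rw [← nu8_nu8 hc, e]; ext <;> simp [Co.nu8], fun c hc => ⟨c.nu8, ⟨rfl, rfl⟩, nu8_nu8 hc⟩⟩

theorem au_nu1 : Au (sQ1 T) Co.nu1 :=
  ⟨fun _ _ => rfl, fun _ hc _ hd => nu1_mul hc hd, fun c hc e => by
    rw [← nu1_nu1 hc, e]; ext <;> simp [Co.nu1], fun c hc => ⟨c.nu1, rfl, nu1_nu1 hc⟩⟩

theorem nu8_F0 {c : Co T} (h : c ∈ sF0 T) : c.nu8 ∈ sF1 T := ⟨h.2.2.1, h.2.1, h.1, rfl, rfl⟩

theorem nu8_F1 {c : Co T} (h : c ∈ sF1 T) : c.nu8 ∈ sF0 T := ⟨h.2.2.1, h.2.1, h.1, rfl, rfl⟩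

/-! ### Involutions -/

theorem inv_b8 {c : Co T} (hs : c * c = 1) : c.b8 = 0 :=
  nm_zero (T := T) (by have := congrArg Co.a8 hs; simp at this; grind)

/-- an involution has `a1 = 0` or `a8 = 0` -/
theorem inv_a8 {c : Co T} (hs : c * c = 1) (h1 : c.a1 ≠ 0) : c.a8 = 0 := by
  have := congrArg Co.b6 hs
  simp [inv_b8 hs] at this
  grind

/-- an involution of `Q₁` lies in `D` -/
theorem inv_D {c : Co T} (hs : c * c = 1) (h1 : c.a1 = 0) : c ∈ sD T :=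
  ⟨h1, nm_zero (T := T) (by have := congrArg Co.a2 hs; simp [h1, inv_b8 hs] at this; grind), inv_b8 hs⟩

theorem inv_VA {c : Co T} (hs : c * c = 1) (h1 : c.a1 = 0) (h8 : c.a8 = 0) : c ∈ sV T ∨ c ∈ sA7 T := by
  have hD := inv_D hs h1
  obtain ⟨a1, b2, a2, a3, b4, a4, a5, b6, a6, a7, b8, a8⟩ := c
  obtain ⟨rfl, rfl, rfl⟩ := hD
  obtain rfl : a8 = 0 := h8
  have e5 : b6 * b4 = 0 := by have := congrArg Co.a5 hs; simp at this; grind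
  have e6 : a7 * b4 + b6 * T.σ b6 = 0 := by have := congrArg Co.a6 hs; simp at this; grind
  obtain rfl : b6 = 0 := by
    rcases mul_eq_zero.1 e5 with h | rfl
    · exact h
    · exact nm_zero (T := T) (by simpa using e6)
  have e4 : a7 * a2 + b4 * T.σ b4 = 0 := by have := congrArg Co.a4 hs; simp at this; grind
  by_cases h7 : a7 = 0
  · subst h7
    obtain rfl : b4 = 0 := nm_zero (T := T) (by simpa using e4)
    exact Or.inl (by simp [mem_sV])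
  · obtain rfl : b4 = 0 := by simpa [h7] using e6
    obtain rfl : a2 = 0 := by simpa [h7] using e4
    exact Or.inr (by simp [mem_sA7])

/-- conjugacy under a subgroup -/
def Sj (X : Subgroup (Co T)) (c d : Co T) : Prop := ∃ s ∈ X, s * c * s⁻¹ = d

theorem Sj.step {X : Subgroup (Co T)} {c d e : Co T} (s : Co T) (hs : s ∈ X) (h : s * c * s⁻¹ = d)
    (k : Sj X d e) : Sj X c e := by
  obtain ⟨t, ht, rfl⟩ := k
  exact ⟨t * s, mul_mem ht hs, by rw [← h]; group⟩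

theorem sq_conj {c : Co T} (hs : c * c = 1) (s : Co T) : s * c * s⁻¹ * (s * c * s⁻¹) = 1 := by
  rw [conj_mul, hs, mul_one, mul_inv_cancel]

variable [Finite K]

/-- the elements of `A₇ ∖ V₀` -/
theorem inv_x7 {c : Co T} (hc : c ∈ sA7 T) (h7 : c.a7 ≠ 0) : ∃ s ∈ sQ T, s * c * s⁻¹ = x7 T c.a7 := by
  obtain ⟨a1, b2, a2, a3, b4, a4, a5, b6, a6, a7, b8, a8⟩ := c
  obtain ⟨rfl, rfl, rfl, rfl, rfl, rfl, rfl⟩ := hc
  simp only at h7 ⊢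
  change Sj _ _ _
  obtain ⟨t, ht⟩ := sg_surj (T := T) (a3 / a7)
  obtain rfl : a3 = T.σ t * a7 := by rw [ht]; field_simp
  obtain ⟨r, w, z, e1⟩ : ∃ r w z, x1 T t * ⟨0, 0, 0, T.σ t * a7, 0, a4, a5, 0, a6, a7, 0, 0⟩ * (x1 T t)⁻¹ =
      ⟨0, 0, 0, 0, 0, r, w, 0, z, a7, 0, 0⟩ := by
    refine ⟨_, _, _, Co.ext ?_ ?_ ?_ ?_ ?_ rfl rfl ?_ rfl ?_ ?_ ?_⟩ <;> simp [x1, T.sq] <;> grind
  refine Sj.step _ ⟨rfl, rfl⟩ e1 ?_
  obtain ⟨t, ht⟩ := sg_surj (T := T) (w / a7)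
  obtain rfl : w = T.σ t * a7 := by rw [ht]; field_simp
  obtain ⟨r', z', e2⟩ : ∃ r' z', y2 T t * ⟨0, 0, 0, 0, 0, r, T.σ t * a7, 0, z, a7, 0, 0⟩ * (y2 T t)⁻¹ =
      ⟨0, 0, 0, 0, 0, r', 0, 0, z', a7, 0, 0⟩ := by
    refine ⟨_, _, Co.ext ?_ ?_ ?_ ?_ ?_ rfl ?_ ?_ rfl ?_ ?_ ?_⟩ <;> simp [y2, T.sq] <;> grind
  refine Sj.step _ ⟨rfl, rfl⟩ e2 ?_
  obtain ⟨z, rfl⟩ : ∃ z, z' = z * a7 := ⟨z' / a7, by field_simp⟩
  obtain ⟨r, e3⟩ : ∃ r, y4 T z * ⟨0, 0, 0, 0, 0, r', 0, 0, z * a7, a7, 0, 0⟩ * (y4 T z)⁻¹ =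
      ⟨0, 0, 0, 0, 0, r, 0, 0, 0, a7, 0, 0⟩ := by
    refine ⟨_, Co.ext ?_ ?_ ?_ ?_ ?_ rfl ?_ ?_ ?_ ?_ ?_ ?_⟩ <;> simp [y4, T.sq] <;> grind
  refine Sj.step _ ⟨rfl, rfl⟩ e3 ?_
  obtain ⟨r, rfl⟩ : ∃ r', r = r' * a7 := ⟨r / a7, by field_simp⟩
  exact ⟨x2 T r, ⟨rfl, rfl⟩, by ext <;> simp [x2, x7, T.sq] <;> grind⟩

/-- an involution outside `Q₁` is conjugate into `F₁` under `U₈` -/
theorem inv_F1 {c : Co T} (hs : c * c = 1) (h1 : c.a1 ≠ 0) :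
    ∃ u ∈ sU8 T, u * c * u⁻¹ ∈ sF1 T ∧ (u * c * u⁻¹).b4 = 0 ∧ (u * c * u⁻¹).a6 = 0 := by
  have hc : c ∈ sQ T := ⟨inv_b8 hs, inv_a8 hs h1⟩
  obtain ⟨b, hb⟩ : ∃ b, c.b2 = b * c.a1 := ⟨c.b2 / c.a1, by field_simp⟩
  obtain ⟨a, ha⟩ : ∃ a, (y8 T b * c * (y8 T b)⁻¹).b6 = a * c.a1 :=
    ⟨(y8 T b * c * (y8 T b)⁻¹).b6 / c.a1, by field_simp⟩
  refine ⟨x8 T a * y8 T b, mul_mem (by simp [mem_sU8, x8]) (by simp [mem_sU8, y8]), ?_⟩
  have q := nrm_Q (x8 T a * y8 T b) hc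
  have k := sq_conj hs (x8 T a * y8 T b)
  have g1 := H14.Oc.cj_a1 (x8 T a * y8 T b) c
  have g2 : (x8 T a * y8 T b * c * (x8 T a * y8 T b)⁻¹).b2 = 0 := by
    rw [H14.Oc.cj_b2, hb, hc.1]; simp [x8, y8]; grind
  have g3 : (x8 T a * y8 T b * c * (x8 T a * y8 T b)⁻¹).b6 = 0 := by
    rw [show x8 T a * y8 T b * c * (x8 T a * y8 T b)⁻¹ = x8 T a * (y8 T b * c * (y8 T b)⁻¹) * (x8 T a)⁻¹ by group]
    have := H14.Oc.cj_a1 (y8 T b) c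
    generalize y8 T b * c * (y8 T b)⁻¹ = d at ha this
    simp [x8, ha, this]; grind
  generalize x8 T a * y8 T b * c * (x8 T a * y8 T b)⁻¹ = e at q k g1 g2 g3
  rw [← g1] at h1
  have h7 : e.a7 = 0 := by
    have := congrArg Co.a3 k
    simpa [q.1, q.2, g2, g3, ← two_mul, CharTwo.two_eq_zero, h1] using this
  have h4 : e.b4 = 0 := by
    have := congrArg Co.a2 k
    simpa [q.1, q.2, g2, g3, ← two_mul, CharTwo.two_eq_zero, h1] using this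
  have h6 : e.a6 = 0 := by
    have := congrArg Co.a4 k
    simpa [q.1, q.2, g2, g3, h7, h4, ← two_mul, CharTwo.two_eq_zero, h1] using this
  exact ⟨⟨g2, g3, h7, q.1, q.2⟩, h4, h6⟩

theorem inv_x1 {c : Co T} (hs : c * c = 1) (h1 : c.a1 ≠ 0) : ∃ s, s * c * s⁻¹ = x1 T c.a1 := by
  obtain ⟨u, -, ⟨f2, f6, f7, f8, f9⟩, f4, g6⟩ := inv_F1 hs h1
  have g1 := H14.Oc.cj_a1 u c
  have e : ∀ s, s * (u * c * u⁻¹) * s⁻¹ = s * u * c * (s * u)⁻¹ := fun s => by group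
  generalize u * c * u⁻¹ = d at *
  have hd : d ∈ sQ T := ⟨f8, f9⟩
  obtain ⟨s, hs', e'⟩ := inv_x7 (c := d.nu8) (by simp [mem_sA7, Co.nu8, *]) (by simpa [Co.nu8, g1] using h1)
  refine ⟨s.nu8 * u, ?_⟩
  have := congrArg Co.nu8 e'
  rw [au_nu8.conj hs' ⟨rfl, rfl⟩, nu8_nu8 hd] at this
  rw [← e, this]
  ext <;> simp [Co.nu8, x7, x1, g1]

theorem inv_x8 {c : Co T} (hs : c * c = 1) (h8 : c.a8 ≠ 0) :
    ∃ s v, s * c * s⁻¹ = x4 T v * x8 T c.a8 := by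
  have hD := inv_D hs (by_contra fun h => h8 (inv_a8 hs h))
  suffices ∃ v, Sj ⊤ c (x4 T v * x8 T c.a8) from this.elim fun v ⟨s, _, e⟩ => ⟨s, v, e⟩
  obtain ⟨a1, b2, a2, a3, b4, a4, a5, b6, a6, a7, b8, a8⟩ := c
  obtain ⟨rfl, rfl, rfl⟩ := hD
  simp only at h8 ⊢
  obtain ⟨t, rfl⟩ : ∃ t, b6 = t * a8 := ⟨b6 / a8, by field_simp⟩
  obtain ⟨a2', a3', b4', a4', a5', a6', a7', e1⟩ : ∃ a2' a3' b4' a4' a5' a6' a7',
      x1 T t * ⟨0, 0, a2, a3, b4, a4, a5, t * a8, a6, a7, 0, a8⟩ * (x1 T t)⁻¹ =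
      ⟨0, 0, a2', a3', b4', a4', a5', 0, a6', a7', 0, a8⟩ := by
    refine ⟨_, _, _, _, _, _, _, Co.ext ?_ ?_ rfl rfl rfl rfl rfl ?_ rfl rfl ?_ ?_⟩ <;> simp [x1, T.sq] <;> grind
  have s1 := e1 ▸ sq_conj hs (x1 T t)
  obtain ⟨t', rfl⟩ : ∃ t, a7' = t * a8 := ⟨a7' / a8, by field_simp⟩
  obtain ⟨c2, c3, c4, d4, c5, c6, e2⟩ : ∃ a2 a3 b4 a4 a5 a6,
      y2 T t' * ⟨0, 0, a2', a3', b4', a4', a5', 0, a6', t' * a8, 0, a8⟩ * (y2 T t')⁻¹ =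
      ⟨0, 0, a2, a3, b4, a4, a5, 0, a6, 0, 0, a8⟩ := by
    refine ⟨_, _, _, _, _, _, Co.ext ?_ ?_ rfl rfl rfl rfl rfl ?_ rfl ?_ ?_ ?_⟩ <;> simp [y2, T.sq] <;> grind
  have s2 := e2 ▸ sq_conj s1 (y2 T t')
  obtain rfl : c2 = 0 := by have := congrArg Co.a5 s2; simp at this; grind
  obtain rfl : c3 = 0 := by have := congrArg Co.a6 s2; simp at this; grind
  obtain rfl : c4 = 0 := nm_zero (T := T) (by have := congrArg Co.a4 s2; simp at this; grind)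
  obtain ⟨r, rfl⟩ : ∃ t, c5 = t * a8 := ⟨c5 / a8, by field_simp⟩
  obtain ⟨v, z, e3⟩ : ∃ v z, x2 T r * ⟨0, 0, 0, 0, 0, d4, r * a8, 0, c6, 0, 0, a8⟩ * (x2 T r)⁻¹ =
      ⟨0, 0, 0, 0, 0, v, 0, 0, z, 0, 0, a8⟩ := by
    refine ⟨_, _, Co.ext ?_ ?_ ?_ ?_ ?_ rfl ?_ ?_ rfl ?_ ?_ ?_⟩ <;> simp [x2, T.sq] <;> grind
  obtain ⟨z, rfl⟩ : ∃ z', z = z' * a8 := ⟨z / a8, by field_simp⟩
  exact ⟨v, Sj.step _ trivial e1 (Sj.step _ trivial e2 (Sj.step _ trivial e3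
    ⟨x3 T z, trivial, by ext <;> simp [x3, x4, x8, T.sq] <;> grind⟩))⟩

/-- a subgroup contained in the union of two subgroups -/
theorem le_or_le {P : Type*} [Group P] {M X Y : Subgroup P} (h : ∀ m ∈ M, m ∈ X ∨ m ∈ Y) : M ≤ X ∨ M ≤ Y := by
  by_contra k
  obtain ⟨⟨a, ha, ha'⟩, b, hb, hb'⟩ : (∃ a ∈ M, a ∉ X) ∧ ∃ b ∈ M, b ∉ Y := by
    simpa [SetLike.le_def] using k
  rcases h _ (mul_mem ha hb) with e | e
  · exact ha' ((X.mul_mem_cancel_right ((h b hb).resolve_right hb')).1 e)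
  · exact hb' ((Y.mul_mem_cancel_left ((h a ha).resolve_left ha')).1 e)

end H90.RF
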