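/- RF tower (row S5262): the assembly. -/
import Cfsg.Agent.H90.RFKit2
import Cfsg.Agent.H54.ParModel
import Cfsg.Agent.H9.R2Cand
import Cfsg.Agent.H94.Tr4

set_option autoImplicit false
set_option linter.unusedSectionVars false
set_option linter.unusedSimpArgs false

open Subgroup H63.Oc H92 Cfsg

universe u v

namespace H90.RF

/-- all the slots -/
structure Jobs : Prop where
  SE : JobSE.{v}
  D : JobD.{v}
  L0a : JobL0a.{v}
  L0b : JobL0b.{v}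
  L1a : JobL1a.{v}
  L1b : JobL1b.{v}
  L2 : JobL2.{v}
  L3 : JobL3.{v}
  A8 : JobA8.{v}
  B8 : JobB8.{v}
  A1 : JobA1.{v}
  AS : JobAS.{v}
  Tri : JobTri.{v}
  Cj : JobCj.{v}
  G8 : JobG8.{v}
  G1 : JobG1.{v}
  Hall : JobHall.{v}
  N8 : JobN8.{v}
  N1 : JobN1.{v}
  Qa : JobQa.{v}
  Qb : JobQb.{v}
  Real : JobReal.{v}

section Gen
variable {P : Type*} [Group P] {G : Type*} [Group G] {E : FusionSystem (⊤ : Subgroup P)} {ι : P →* G}

theorem real_iff (hE : E.IsRealizedBy (ι.comp (⊤ : Subgroup P).subtype)) (hι : Function.Injective ι)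
    {X : Subgroup P} {f : P → P} : Mor E X f ↔ ∃ g, ∀ c ∈ X, ι (f c) = g * ι c * g⁻¹ := by
  constructor
  · rintro ⟨φ, hφ, e⟩
    obtain ⟨g, hg⟩ := (hE.2 X le_top φ fun _ => trivial).1 hφ
    exact ⟨g, fun c hc => by rw [← e ⟨c, hc⟩]; exact hg ⟨c, hc⟩⟩
  · rintro ⟨g, hg⟩
    have m : MulOn X f := fun c hc d hd => hι (by
      rw [map_mul, hg c hc, hg d hd, hg _ (mul_mem hc hd), map_mul]; group)
    exact ⟨m.hom, (hE.2 X le_top m.hom fun _ => trivial).2 ⟨g, fun c => hg c c.2⟩, fun _ => rfl⟩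

theorem exists_aY [Finite P] {X : Subgroup P} {f : P → P} (h : Mor E X f) (e : Pr f X) :
    ∃ y ∈ aY E X, ∀ c ∈ X, y c = f c := by
  obtain ⟨α, hα, k⟩ := h.exists_aut' e
  exact ⟨_, ⟨α, hα, rfl⟩, k⟩

theorem mor_aY {X : Subgroup P} {y : Equiv.Perm P} (h : y ∈ aY E X) : Mor E X y := by
  obtain ⟨α, hα, rfl⟩ := h
  exact mor_af le_top hα

theorem aut_le {F : FusionSystem (⊤ : Subgroup P)} {X : Subgroup P} {θ : MulAut P}
    (h : cjY θ (aY F X) ≤ cjY θ (aY E X)) : F.autGroup X ≤ E.autGroup X := fun α hα => by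
  obtain ⟨y, hy, e⟩ := exists_cjY θ (Y := aY F X) ⟨α, hα, rfl⟩
  obtain ⟨_, ⟨β, hβ, rfl⟩, e'⟩ := mem_cjY.1 (h hy)
  rwa [show α = β from aut_ext fun c _ => by rw [← θ.apply_symm_apply c, e, e']]

/-- an automizer all of whose elements extend -/
theorem not_ess [Finite P] (hP : IsPGroup 2 (⊤ : Subgroup P)) (hE : E.IsSaturated 2) {X : Subgroup P}
    (h : ∀ α ∈ aY E X, ∃ y ∈ aY E ⊤, ∀ c ∈ X, α c = y c) : ¬ E.IsEssential 2 X := fun k => by
  obtain ⟨h1, -, h3⟩ := (isEssential_iff hP hE).1 k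
  refine h3 fun α hα => ?_
  obtain ⟨y, hy, e⟩ := h _ ⟨α, hα, rfl⟩
  exact mem_extSub_of_ext h1 (mor_aY hy) fun c hc => (e c hc).symm

end Gen

section Co
variable {K : Type v} [Field K] [Finite K] [CharP K 2] {T : TF K}
variable {Y0 Y8 Y1 Y8' Y1' : Subgroup (Equiv.Perm (Co T))}

theorem Lg.mem_of {X : Subgroup (Co T)} {Y Y' : Subgroup (Equiv.Perm (Co T))} (h : Lg X Y) (h' : Lg X Y')
    {y y' : Equiv.Perm (Co T)} (hy : y ∈ Y) (hy' : y' ∈ Y') (e : ∀ c ∈ X, y c = y' c) : y ∈ Y' := by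
  rwa [show y = y' from Equiv.ext fun c => by
    by_cases hc : c ∈ X
    · exact e c hc
    · rw [h.out y hy c hc, h'.out y' hy' c hc]]

theorem det8 (a : A8 T) (t : Tri T Y0 Y8 Y1) (t' : Tri T Y0 Y8' Y1') (n : N8 T Y8) (n' : N8 T Y8') :
    Y8 ≤ Y8' := by
  have k : ∀ α ∈ Y8, Pr α (sF0 T) → α ∈ Y8' := fun α hα p => by
    obtain ⟨y, hy, e⟩ := t.ext8 α hα p
    obtain ⟨β, hβ, e'⟩ := t'.res8 y hy
    exact t.l8.mem_of t'.l8 hα hβ fun c hc => (e c hc).trans (e' c hc).symm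
  intro α hα
  rcases (a α (t.l8.au α hα)).2.1 with p | ⟨u, -, p⟩
  · exact k α hα p
  obtain ⟨ν, hν, e⟩ := n
  obtain ⟨ν', hν', e'⟩ := n'
  obtain ⟨y, hy, f⟩ := t.inn u⁻¹
  obtain ⟨γ, hγ, f'⟩ := t.res8 y hy
  have hQ : sF0 T ≤ sQ T := fun c hc => ⟨hc.2.2.2.1, hc.2.2.2.2⟩
  have h1 := k γ hγ fun c hc => by rw [f' c (hQ hc), f]; exact nF0.conj_mem c hc _
  have h2 := t.l8.mem_of t'.l8 hν hν' fun c hc => (e c hc).trans (e' c hc).symm
  have h3 := k _ (mul_mem hν (mul_mem hγ hα)) fun c hc => by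
    have q := (t.l8.au α hα).mem c (hQ hc)
    rw [Equiv.Perm.mul_apply, Equiv.Perm.mul_apply, f' _ q, f, e _ (nQ.conj_mem _ q _), inv_inv]
    exact nu8_F1 (p c hc)
  exact (Y8'.mul_mem_cancel_left h1).1 ((Y8'.mul_mem_cancel_left h2).1 h3)

theorem det1 (a : A1 T) (t : Tri T Y0 Y8 Y1) (t' : Tri T Y0 Y8' Y1') (n : N1 T Y1) (n' : N1 T Y1') :
    Y1 ≤ Y1' := by
  have k : ∀ α ∈ Y1, Pr α (sZ T) → α ∈ Y1' := fun α hα p => by
    obtain ⟨y, hy, e⟩ := t.ext1 α hα p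
    obtain ⟨β, hβ, e'⟩ := t'.res1 y hy
    exact t.l1.mem_of t'.l1 hα hβ fun c hc => (e c hc).trans (e' c hc).symm
  intro α hα
  obtain ⟨-, -, φ, a', b, c', d, h⟩ := a α (t.l1.au α hα)
  have w : ∀ c ∈ sZ T, α c = ww T (b * φ c.a4) (d * φ c.a4) := fun c hc => by
    rw [H14.Oc.eq_x4 hc, show x4 T c.a4 = ww T 0 c.a4 from rfl, h]; simp [ww]
  by_cases hb : b = 0
  · exact k α hα fun c hc => by rw [w c hc]; simp [mem_sZ, ww, hb]
  obtain ⟨ν, hν, e⟩ := n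
  obtain ⟨ν', hν', e'⟩ := n'
  obtain ⟨y, hy, f⟩ := t.inn (x1 T (d / b))
  obtain ⟨γ, hγ, f'⟩ := t.res1 y hy
  have h1 := k γ hγ fun c hc => by rw [f' c hc.1, f]; exact nZ.conj_mem c hc _
  have h2 := t.l1.mem_of t'.l1 hν hν' fun c hc => (e c hc).trans (e' c hc).symm
  have h3 := k _ (mul_mem hν (mul_mem hγ hα)) fun c hc => by
    have q := (t.l1.au α hα).mem c hc.1
    rw [Equiv.Perm.mul_apply, Equiv.Perm.mul_apply, f' _ q, f, e _ (nQ1.conj_mem _ q _), w c hc]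
    simp [mem_sZ, ww, x1, Co.nu1]
    field_simp
    grind
  exact (Y1'.mul_mem_cancel_left h1).1 ((Y1'.mul_mem_cancel_left h2).1 h3)

theorem moves {θ : MulAut (Co T)} {X : Subgroup (Co T)} {Y : Subgroup (Equiv.Perm (Co T))} (p : Pr θ X)
    (h : ∃ α ∈ Y, ¬ Pr α X) : ∃ α ∈ cjY θ Y, ¬ Pr α X := by
  obtain ⟨α, hα, h⟩ := h
  obtain ⟨y, hy, e⟩ := exists_cjY θ hα
  refine ⟨y, hy, fun k => h fun c hc => ?_⟩
  obtain ⟨d, hd, rfl⟩ := (au_aut θ).sur_of le_top p c hc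
  rw [e]; exact p _ (k d hd)

/-- over the field with two elements the automizer of `S` is inner -/
theorem st0_two (h2 : ∀ a : K, a = 0 ∨ a = 1) (a : AS T) (t : Tri T Y0 Y8 Y1) : St0 T ⊥ Y0 := by
  have o : ∀ p φ c, sd T p φ c = c := fun p φ c => by
    obtain rfl : p = 1 := Prod.ext (Units.ext ((h2 _).resolve_left p.1.ne_zero))
      (Units.ext ((h2 _).resolve_left p.2.ne_zero))
    obtain rfl : φ = 1 := RingEquiv.ext fun x => by rcases h2 x with rfl | rfl <;> simp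
    exact sd_one_one c
  refine fun y => ⟨fun hy => ?_, fun ⟨s, p, φ, _, e⟩ => ?_⟩
  · obtain ⟨-, -, p, φ, h⟩ := a y (t.l0.au y hy)
    obtain ⟨s, e⟩ := t.rad0 y hy (by rwa [show sd T p φ = id from funext (o p φ)] at h)
    exact ⟨s, 1, 1, one_mem _, fun c => by rw [o, e]⟩
  · obtain ⟨y', hy', e'⟩ := t.inn s
    rwa [show y = y' from Equiv.ext fun c => by rw [e, e', o]]

theorem cen_Z5 (s : Co T) (h : ∀ c ∈ sZ5 T, s * c = c * s) : s ∈ sZ5 T := by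
  have h6 := congrArg Co.a4 (h (x6 T 1) (by simp [mem_sZ5, x6]))
  have h1 : s.a1 = 0 := by simp [x6] at h6; grind
  have h5 := h (x5 T 1) (by simp [mem_sZ5, x5])
  have h2 : s.b2 = 0 := by have := congrArg Co.a4 h5; simp [x5, h1] at this; grind
  have h8 : s.b8 = 0 := by have := congrArg Co.a6 h5; simp [x5, h1] at this; grind
  have h3 := h (x3 T 1) (by simp [mem_sZ5, x3])
  have h9 : s.a8 = 0 := by have := congrArg Co.a6 h3; simp [x3, h1, h2, h8] at this; grind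
  have h6 : s.b6 = 0 := by have := congrArg Co.a4 h3; simp [x3, h1, h2, h8, h9] at this; grind
  have h7 := congrArg Co.a6 (h (x7 T 1) (by simp [mem_sZ5, x7]))
  exact ⟨h1, h2, by simp [x7, h1, h2, h8, h9] at h7; grind, h6, h8, h9⟩

theorem zA_central : ∀ i < 5, ∀ c ∈ zA T (i + 1), c * c ∈ zA T i ∧ ∀ s, cm s c ∈ zA T i := by
  have k : ∀ {X : Subgroup (Co T)} {c : Co T}, H55.Oc.Cm ⊤ X c → ∀ s, cm s c ∈ X := fun {X c} h s => by
    obtain ⟨x, hx, e⟩ := h s⁻¹ trivial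
    rw [cm, mul_assoc s, e]; simpa [mul_assoc] using hx
  intro i hi c hc
  interval_cases i
  · exact ⟨by obtain ⟨_, _, _, _, _, _, _, _, _, _, _⟩ := hc; ext <;> simp [*] <;> grind,
      k ((H55.Oc.Z_iff c).1 hc)⟩
  · exact ⟨by obtain ⟨_, _, _, _, _, _, _, _, _, _⟩ := hc; show _ ∈ sZ T; simp [mem_sZ, *]; grind,
      k ((H55.Oc.W_iff c).1 hc)⟩
  · exact ⟨by obtain ⟨_, _, _, _, _, _, _, _, _⟩ := hc; show _ ∈ sW T; simp [mem_sW, *]; grind,
      k ((H55.Oc.A_iff c).1 hc)⟩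
  · exact ⟨by obtain ⟨_, _, _, _, _, _, _, _⟩ := hc; show _ ∈ sA T; simp [mem_sA, *]; grind,
      k ((H55.Oc.V0_iff c).1 hc)⟩
  · obtain ⟨_, _, _, _, _, _⟩ := hc
    refine ⟨by show _ ∈ sV0 T; simp [mem_sV0, *]; grind, fun s => ?_⟩
    refine ⟨?_, ?_, ?_, ?_, ?_, ?_, ?_, ?_⟩ <;> simp [cm, T.sq, *] <;> grind

theorem zA_mono (i : ℕ) : zA T i ≤ zA T (i + 1) := by
  rcases i with _ | _ | _ | _ | _ | i
  · exact bot_le
  · exact H55.Oc.Z_le_W
  · exact H55.Oc.W_le_A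
  · exact fun c ⟨_, _, _, _, _, _, _, _, _⟩ => by show _ ∈ sV0 T; simp [mem_sV0, *]
  · exact fun c ⟨_, _, _, _, _, _, _, _⟩ => by show _ ∈ sZ5 T; simp [mem_sZ5, *]
  · exact le_rfl

theorem ess (J : Jobs.{v}) {F : FusionSystem (⊤ : Subgroup (Co T))} (hF : F.IsSaturated 2) {E : Subgroup (Co T)}
    (hE : F.IsEssential 2 E) : E = sQ T ∨ E = sQ1 T := by
  obtain ⟨i, hi, M, h⟩ := J.D J.SE (Co T) H55.Oc.pgroup_Co F hF E hE (zA T) 5 rfl zA_mono zA_central cen_Z5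
  interval_cases i
  · exact Or.inr (J.L0b K T E M h (J.L0a K T E M h))
  · exact Or.inl (J.L1b K T E M h (J.L1a K T E M h))
  · exact Or.inl (J.L2 K T E M h)
  · exact Or.inr ((J.L3 K T).1 E M h)
  · exact absurd h ((J.L3 K T).2 E M)

/-- the standard form of the automizers -/
theorem std (J : Jobs.{v}) {G : Type v} [Group G] (D : CS T G) (t : Tri T Y0 Y8 Y1)
    (m8 : ∃ α ∈ Y8, ¬ Pr α (sF0 T)) (m1 : ∃ α ∈ Y1, ¬ Pr α (sZ T)) :
    ∃ θ Φ, St0 T Φ (cjY θ Y0) ∧ N8 T (cjY θ Y8) ∧ N1 T (cjY θ Y1) := by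
  have a8 := J.A8 K T
  have b8 := J.B8 K T a8
  have a1 := J.A1 K T
  have aS := J.AS K T a8 b8
  have g8 := J.G8 K T a8 b8 G D _ _ _ t m8
  by_cases h2 : ∀ a : K, a = 0 ∨ a = 1
  · obtain ⟨θ, n⟩ := J.Qa K T h2 a8 _ _ _ t g8
    have t' := J.Cj K T aS θ _ _ _ t
    obtain ⟨η, n8, n1⟩ := J.Qb K T h2 a1 _ _ _ t'
      (J.G1 K T a1 _ _ _ t' (moves ((aS θ (au_aut θ)).1 1) m1)) n
    rw [cjY_cjY] at n8 n1
    exact ⟨θ * η, ⊥, st0_two h2 aS (J.Cj K T aS _ _ _ _ t), n8, n1⟩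
  · have h2' : ∃ a : K, a ≠ 0 ∧ a ≠ 1 := by simpa [not_or] using h2
    obtain ⟨θ, Φ, s⟩ := J.Hall K T aS _ _ _ t g8 (J.G1 K T a1 _ _ _ t m1)
    have t' := J.Cj K T aS θ _ _ _ t
    exact ⟨θ, Φ, s, J.N8 K T h2' a8 Φ _ _ _ t'
      (J.G8 K T a8 b8 G D _ _ _ t' (moves ((aS θ (au_aut θ)).1 7) m8)) s,
      J.N1 K T h2' a1 Φ _ _ _ t' (J.G1 K T a1 _ _ _ t' (moves ((aS θ (au_aut θ)).1 1) m1)) s⟩

section Real
variable {Φ : Subgroup (RingAut K)} {G : Type*} [Group G] [Finite G] {ι : Co T →* G} {θ : MulAut (Co T)}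
  {E : FusionSystem (⊤ : Subgroup (Co T))}

theorem real_mem (r : Rl T Φ ι)
    (hE : E.IsRealizedBy ((ι.comp θ.symm.toMonoidHom).comp (⊤ : Subgroup (Co T)).subtype))
    {X : Subgroup (Co T)} (p : Pr θ X) {f : Co T → Co T} (pf : Pr f X) (g : G)
    (h : ∀ c ∈ X, g * ι c * g⁻¹ = ι (f c)) : ∃ y ∈ cjY θ (aY E X), ∀ c ∈ X, y c = f c := by
  have p' : ∀ c ∈ X, θ.symm c ∈ X := fun c hc => (au_aut θ).mem_of le_top p trivial (by simpa using hc)
  obtain ⟨α, hα, e⟩ := exists_aY (E := E) (X := X) (f := fun c => θ (f (θ.symm c)))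
    ((real_iff hE (r.inj.comp θ.symm.injective)).2 ⟨g, fun c hc => by simp [h _ (p' c hc)]⟩)
    fun c hc => p _ (pf _ (p' c hc))
  obtain ⟨y, hy, e'⟩ := exists_cjY θ hα
  exact ⟨y, hy, fun c hc => θ.injective (by rw [← e', e _ (p c hc), θ.symm_apply_apply])⟩

theorem real_st0 (r : Rl T Φ ι)
    (hE : E.IsRealizedBy ((ι.comp θ.symm.toMonoidHom).comp (⊤ : Subgroup (Co T)).subtype)) :
    St0 T Φ (cjY θ (aY E ⊤)) := by
  refine fun y => ⟨fun hy => ?_, fun ⟨s, p, φ, hφ, e⟩ => ?_⟩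
  · obtain ⟨α, hα, e⟩ := mem_cjY.1 hy
    obtain ⟨g, hg⟩ := (real_iff hE (r.inj.comp θ.symm.injective)).1 (mor_aY hα)
    have k : ∀ c, ι (y c) = g * ι c * g⁻¹ := fun c => by simpa [e] using hg (θ c) trivial
    obtain ⟨s, p, φ, hφ, h⟩ := r.nor g (mem_normalizer_fintype fun _ ⟨c, hc⟩ => ⟨y c, by rw [k, hc]⟩)
    exact ⟨s, p, φ, hφ, fun c => r.inj (by rw [k, h])⟩
  · obtain ⟨g, hg⟩ := r.std p φ hφ
    obtain ⟨y', hy', e'⟩ := real_mem r hE (X := ⊤) (fun _ _ => trivial) (f := y) (fun _ _ => trivial) (ι s * g)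
      fun c _ => by rw [e, map_mul, map_mul, map_inv, ← hg]; group
    rwa [show y = y' from Equiv.ext fun c => (e' c trivial).symm]

end Real

theorem cen_Q : FusionSystem.centralizerIn ⊤ (sQ T) ≤ sQ T := fun s hs => by
  have h := mem_centralizer_iff.1 hs.2 (x1 T 1) ⟨rfl, rfl⟩
  have h8 : s.b8 = 0 := by have := congrArg Co.b2 h; simp [x1] at this; grind
  exact ⟨h8, by have := congrArg Co.b6 h; simp [x1, h8] at this; grind⟩

theorem cen_Q1 : FusionSystem.centralizerIn ⊤ (sQ1 T) ≤ sQ1 T := fun s hs => by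
  have := congrArg Co.a4 (mem_centralizer_iff.1 hs.2 (x6 T 1) rfl)
  rw [mem_sQ1]; simp [x6] at this; grind

theorem core (J : Jobs.{v}) {G : Type v} [Group G] [Finite G] (A : AD T G) (hb : A.Braid) (h0 : A.G0 = ⊤)
    (hs : ∀ P : Subgroup G, IsPGroup 2 P → ∃ g, ∀ x ∈ P, g * x * g⁻¹ ∈ A.S)
    (F : FusionSystem (⊤ : Subgroup (Co T))) (hF : F.IsSaturated 2) : F.IsRealizable 2 := by
  haveI : Fact (Nat.Prime 2) := ⟨Nat.prime_two⟩
  have hP : IsPGroup 2 (⊤ : Subgroup (Co T)) := H55.Oc.pgroup_Co.to_subgroup _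
  have a8 := J.A8 K T
  have b8 := J.B8 K T a8
  have a1 := J.A1 K T
  have aS := J.AS K T a8 b8
  have t := J.Tri K T aS a8 b8 a1 F hF
  have nrm : ∀ X : Subgroup (Co T), (∀ θ, Au ⊤ θ → Pr θ X) → (∀ E, F.IsEssential 2 E → E = X) → F.IsNormal X :=
    fun X hX hE => isNormal_of_essential hP hF fun P h => by
      rcases h with rfl | h
      · exact ⟨le_top, fun α _ => hX _ (au_af α)⟩
      · obtain rfl := hE P h
        exact ⟨le_rfl, fun α _ _ => af_mem α⟩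
  by_cases m8 : ∀ α ∈ aY F (sQ T), Pr α (sF0 T)
  · exact H9.isRealizable_of_isNormal hP hF (nrm _ (fun θ h => (aS θ h).1 11) fun E h =>
      (ess J hF h).resolve_left fun e => not_ess hP hF (fun α hα => t.ext8 α hα (m8 α hα)) (e ▸ h)) cen_Q1
  by_cases m1 : ∀ α ∈ aY F (sQ1 T), Pr α (sZ T)
  · exact H9.isRealizable_of_isNormal hP hF (nrm _ (fun θ h => (aS θ h).2.1 _ (by simp)) fun E h =>
      (ess J hF h).resolve_right fun e => not_ess hP hF (fun α hα => t.ext1 α hα (m1 α hα)) (e ▸ h)) cen_Q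
  push Not at m8 m1
  obtain ⟨θ, Φ, s0, n8, n1⟩ := std J A.toCS t m8 m1
  obtain ⟨G', _, _, ι, r⟩ := J.Real K T G A hb h0 hs Φ
  obtain ⟨S, hS⟩ := r.syl
  have hS' : (S : Subgroup G') =
      ((ι.comp θ.symm.toMonoidHom).comp (⊤ : Subgroup (Co T)).subtype).range := by
    rw [hS]
    exact le_antisymm (fun _ ⟨c, e⟩ => ⟨⟨θ c, trivial⟩, by simpa using e⟩) fun _ ⟨c, e⟩ => ⟨_, e⟩
  obtain ⟨E, hE, re⟩ := H9.exists_pull
    ((r.inj.comp θ.symm.injective).comp (subtype_injective _)) S hS'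
  have t1 := J.Cj K T aS θ _ _ _ t
  have t2 := J.Cj K T aS θ _ _ _ (J.Tri K T aS a8 b8 a1 E hE)
  have e0 : cjY θ (aY E ⊤) = cjY θ (aY F ⊤) := Subgroup.ext fun y => (real_st0 r re y).trans (s0 y).symm
  rw [e0] at t2
  have n8' : N8 T (cjY θ (aY E (sQ T))) := r.n8.elim fun g =>
    real_mem r re ((aS θ (au_aut θ)).2.1 _ (by simp)) au_nu8.mem g
  have n1' : N1 T (cjY θ (aY E (sQ1 T))) := r.n1.elim fun g =>
    real_mem r re ((aS θ (au_aut θ)).1 11) au_nu1.mem g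
  have l1 : F ≤ E := le_of_essential hP hF fun P h => by
    rcases h with rfl | h
    · exact aut_le e0.ge
    · rcases ess J hF h with rfl | rfl
      exacts [aut_le (det8 a8 t1 t2 n8 n8'), aut_le (det1 a1 t1 t2 n1 n1')]
  have l2 : E ≤ F := le_of_essential hP hE fun P h => by
    rcases h with rfl | h
    · exact aut_le e0.le
    · rcases ess J hE h with rfl | rfl
      exacts [aut_le (det8 a8 t2 t1 n8' n8), aut_le (det1 a1 t2 t1 n1' n1)]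
  exact H9.isRealizable_of ⟨re.1, fun P h φ k => (Iff.intro (l1 P ·) (l2 P ·)).trans (re.2 P h φ k)⟩ S hS'

end Co

theorem main (J : Jobs.{v}) {Ω : Type u} [Group Ω] {S : Subgroup Ω} (F : FusionSystem S)
    (hF : F.IsSaturated 2) {K : Type v} [Field K] [Fintype K] (m : ℕ) (hK : Fintype.card K = 2 ^ (2 * m + 1))
    (S0 : Sylow 2 (Lie.twistedF4 K (2 ^ m))) (e : S ≃* (S0 : Subgroup (Lie.twistedF4 K (2 ^ m)))) :
    F.IsRealizable 2 := by
  haveI : Fact (Nat.Prime 2) := ⟨Nat.prime_two⟩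
  haveI : CharP K 2 := charP_of_card_eq_prime_pow hK
  obtain ⟨T, A, hb, h0, hs⟩ := H54.Par.jobModel K m hK
  obtain ⟨g, hg⟩ := hs _ S0.isPGroup'
  let ψ : S →* Co T := (MonoidHom.ofInjective A.inj).symm.toMonoidHom.comp
    ((((MulAut.conj g).toMonoidHom.comp (S0 : Subgroup _).subtype).comp e.toMonoidHom).codRestrict A.ι.range
      fun x => hg _ (e x).2)
  have hψ : ∀ x, A.ι (ψ x) = g * e x * g⁻¹ := fun x => MonoidHom.apply_ofInjective_symm A.inj _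
  have inj : Function.Injective ψ := fun x y h => e.injective (Subtype.ext (by
    have := hψ x
    rw [h, hψ] at this
    simpa using this.symm))
  have sur : ψ.range = ⊤ := eq_top_iff.2 fun c _ => by
    have := S0.is_maximal' (((H55.Oc.pgroup_Co.to_subgroup ⊤).map A.ι).comap_of_injective
      (MulAut.conj g).toMonoidHom (MulAut.conj g).injective) fun x hx => by
        obtain ⟨d, hd⟩ := hg x hx
        exact ⟨d, trivial, hd⟩
    have hc : g⁻¹ * A.ι c * g ∈ (S0 : Subgroup _) := this ▸ ⟨c, trivial, by simp [mul_assoc]⟩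
    exact ⟨e.symm ⟨_, hc⟩, A.inj (by rw [hψ]; simp [mul_assoc])⟩
  obtain ⟨b, hi⟩ := H94.exists_pIso (mulOn_ext1 ψ) fun x hx y hy h => by
    rw [ext1_of_mem ψ hx, ext1_of_mem ψ hy] at h
    exact congrArg Subtype.val (inj h)
  rw [← range_eq_img ψ fun x => (ext1_coe ψ x).symm, sur] at hi
  obtain ⟨E, tr⟩ := hi.exists_tr F
  exact tr.symm.isRealizable' (core J A hb h0 hs E (tr.isSaturated hF))

end H90.RF
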