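/- U5 tower (row S5258): the assembly. -/
import Cfsg.Agent.H90.U5Kit
import Cfsg.Agent.H90.RFAsm

set_option autoImplicit false
set_option linter.unusedSectionVars false
set_option linter.unusedSimpArgs false

open Subgroup H92 Cfsg H90.RF

universe u v

namespace H90.U5

/-- all the slots -/
structure Jobs : Prop where
  Q : JobQ.{v}
  D : JobD.{v}
  L0 : JobL0.{v}
  L1 : JobL1.{v}
  A1 : JobA1.{v}
  A2 : JobA2.{v}
  AS : JobAS.{v}
  Tri : JobTri.{v}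
  Oa : JobOa.{v}
  Ob : JobOb.{v}
  Oc : JobOc.{v}
  G1 : JobG1.{v}
  G2 : JobG2.{v}
  Hall : JobHall.{v}
  N1 : JobN1.{v}
  N2 : JobN2.{v}
  Real : JobReal.{v}
  Model : JobModel.{v}

section Gen
variable {P : Type*} [Group P] [Finite P] {E : FusionSystem (⊤ : Subgroup P)} {p : ℕ}

theorem lg_aY (X : Subgroup P) : Lg X (aY E X) :=
  ⟨fun _ ⟨α, _, e⟩ => e ▸ au_af α, fun _ ⟨α, _, e⟩ _ hc => e ▸ af_of_not_mem α hc⟩

theorem lg_mem {X : Subgroup P} {Y Y' : Subgroup (Equiv.Perm P)} (h : Lg X Y) (h' : Lg X Y')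
    {y y' : Equiv.Perm P} (hy : y ∈ Y) (hy' : y' ∈ Y') (e : ∀ c ∈ X, y c = y' c) : y ∈ Y' := by
  rwa [show y = y' from Equiv.ext fun c => by
    by_cases hc : c ∈ X
    · exact e c hc
    · rw [h.out y hy c hc, h'.out y' hy' c hc]]

theorem tr_le {F F' : FusionSystem (⊤ : Subgroup P)} {θ : MulAut P} (h : H94.Tr θ θ.symm F' F)
    {X : Subgroup P} (p : Pr θ X) : aY F' X ≤ cjY θ (aY F X) := fun y hy => by
  have p' : ∀ c, θ c ∈ X → c ∈ X := fun c => (au_aut θ).mem_of le_top p trivial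
  have e : img X θ = X := le_antisymm (img_le_iff.2 p) fun c hc => by
    simpa using mem_img_of_mem θ (p' (θ.symm c) (by simpa using hc))
  have m := h.fwd _ _ (mor_aY hy)
  rw [e] at m
  obtain ⟨α, hα, k⟩ := exists_aY m fun c hc =>
    p _ (((lg_aY X).au y hy).mem _ (p' _ (by simpa using hc)))
  refine mem_cjY.2 ⟨α, hα, fun c => ?_⟩
  by_cases hc : c ∈ X
  · rw [k _ (p c hc), θ.symm_apply_apply]
  · rw [(lg_aY X).out α hα _ fun k => hc (p' c k), (lg_aY X).out y hy c hc]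

/-- transport along an automorphism -/
theorem exists_cj (F : FusionSystem (⊤ : Subgroup P)) (θ : MulAut P) :
    ∃ F' : FusionSystem (⊤ : Subgroup P), H94.Tr θ θ.symm F' F ∧
      ∀ X, Pr θ X → aY F' X = cjY θ (aY F X) := by
  obtain ⟨F', h⟩ := H94.PIso.exists_tr (a := θ.symm) (b := θ) (S := ⊤) (S' := ⊤)
    ⟨fun _ _ => trivial, fun _ _ => trivial, fun x _ => θ.apply_symm_apply x,
      fun x _ => θ.symm_apply_apply x, fun x _ y _ => map_mul θ.symm x y⟩ F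
  refine ⟨F', h.symm, fun X p => le_antisymm (tr_le h.symm p) fun y hy => ?_⟩
  obtain ⟨α, hα, e⟩ := mem_cjY.1 hy
  obtain ⟨β, hβ, e'⟩ := mem_cjY.1 (tr_le (θ := θ.symm) h
    (fun c hc => (au_aut θ).mem_of le_top p trivial (by simpa using hc)) hα)
  rwa [show y = β from Equiv.ext fun c => by
    rw [← θ.symm_apply_apply c, e', e, θ.symm_apply_apply, θ.symm_apply_apply]]

theorem aut_le' {F : FusionSystem (⊤ : Subgroup P)} {X : Subgroup P} (h : aY F X ≤ aY E X) :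
    F.autGroup X ≤ E.autGroup X := fun α hα => by
  obtain ⟨β, hβ, e⟩ := h ⟨α, hα, rfl⟩
  rwa [show α = β from aut_ext fun c _ => by rw [e]]

/-- an automizer all of whose elements extend -/
theorem not_ess [Fact p.Prime] (hP : IsPGroup p (⊤ : Subgroup P)) (hE : E.IsSaturated p) {X : Subgroup P}
    (h : ∀ α ∈ aY E X, ∃ y ∈ aY E ⊤, ∀ c ∈ X, α c = y c) : ¬ E.IsEssential p X := fun k => by
  obtain ⟨h1, -, h3⟩ := (isEssential_iff hP hE).1 k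
  refine h3 fun α hα => ?_
  obtain ⟨y, hy, e⟩ := h _ ⟨α, hα, rfl⟩
  exact mem_extSub_of_ext h1 (mor_aY hy) fun c hc => (e c hc).symm

theorem moves {θ : MulAut P} {X : Subgroup P} {Y : Subgroup (Equiv.Perm P)} (p : Pr θ X)
    (h : ∃ α ∈ Y, ¬ Pr α X) : ∃ α ∈ cjY θ Y, ¬ Pr α X := by
  obtain ⟨α, hα, h⟩ := h
  obtain ⟨y, hy, e⟩ := exists_cjY θ hα
  refine ⟨y, hy, fun k => h fun c hc => ?_⟩
  obtain ⟨d, hd, rfl⟩ := (au_aut θ).sur_of le_top p c hc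
  rw [e]; exact p _ (k d hd)

end Gen

section Co
variable {K : Type v} [Field K] [Finite K] {T : BF K} {p : ℕ}
variable {Y0 Y1 Y2 Y1' Y2' : Subgroup (Equiv.Perm (Co T))} {Γ : Subgroup (DD K)}

theorem det1 (o : Om T 0 0 0 Y1) (t : Tri T p Y0 Y1 Y2) (t' : Tri T p Y0 Y1' Y2') (n : N1 T Y1)
    (n' : N1 T Y1') : Y1 ≤ Y1' := by
  have k : ∀ α ∈ Y1, Pr α (sZ2 T) → α ∈ Y1' := fun α hα p => by
    obtain ⟨y, hy, e⟩ := t.ext1 α hα p
    obtain ⟨β, hβ, e'⟩ := t'.res1 y hy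
    exact lg_mem t.l1 t'.l1 hα hβ fun c hc => (e c hc).trans (e' c hc).symm
  intro α hα
  rcases o α hα with p | ⟨u, p⟩
  · exact k α hα p
  obtain ⟨ν, hν, e⟩ := n
  obtain ⟨ν', hν', e'⟩ := n'
  obtain ⟨y, hy, f⟩ := t.inn u⁻¹
  obtain ⟨γ, hγ, f'⟩ := t.res1 y hy
  have h1 := k γ hγ fun c hc => by rw [f' c (Z2_le_Q1 hc), f]; exact nZ2.conj_mem c hc _
  have h2 := lg_mem t.l1 t'.l1 hν hν' fun c hc => (e c hc).trans (e' c hc).symm
  have h3 := k _ (mul_mem hν (mul_mem hγ hα)) fun c hc => by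
    have q := (t.l1.au α hα).mem c (Z2_le_Q1 hc)
    rw [Equiv.Perm.mul_apply, Equiv.Perm.mul_apply, f' _ q, f, e _ (nQ1.conj_mem _ q _), inv_inv]
    exact ⟨(p c hc).2.trans (by simp), rfl,
      neg_eq_zero.2 (by simpa only [zero_mul] using (p c hc).1), rfl⟩
  exact (Y1'.mul_mem_cancel_left h1).1 ((Y1'.mul_mem_cancel_left h2).1 h3)

theorem det2 (a : A2 T) (t : Tri T p Y0 Y1 Y2) (t' : Tri T p Y0 Y1' Y2') (n : N2 T Y2) (n' : N2 T Y2') :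
    Y2 ≤ Y2' := by
  have k : ∀ α ∈ Y2, Pr α (sZ3 T) → α ∈ Y2' := fun α hα p => by
    obtain ⟨y, hy, e⟩ := t.ext2 α hα p
    obtain ⟨β, hβ, e'⟩ := t'.res2 y hy
    exact lg_mem t.l2 t'.l2 hα hβ fun c hc => (e c hc).trans (e' c hc).symm
  intro α hα
  obtain ⟨φ, m, n0, r, s, h⟩ := a α (t.l2.au α hα)
  by_cases hr : r = 0
  · exact k α hα fun c hc => ⟨(t.l2.au α hα).mem c hc.1, by simp [(h c hc.1).2, hr, hc.2]⟩
  obtain ⟨ν, hν, e⟩ := n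
  obtain ⟨ν', hν', e'⟩ := n'
  obtain ⟨y, hy, f⟩ := t.inn (xa T (-m / r))
  obtain ⟨γ, hγ, f'⟩ := t.res2 y hy
  have h1 := k γ hγ fun c hc => by rw [f' c hc.1, f]; exact nZ3.conj_mem c hc _
  have h2 := lg_mem t.l2 t'.l2 hν hν' fun c hc => (e c hc).trans (e' c hc).symm
  have h3 := k _ (mul_mem hν (mul_mem hγ hα)) fun c hc => by
    have q := (t.l2.au α hα).mem c hc.1
    rw [Equiv.Perm.mul_apply, Equiv.Perm.mul_apply, f' _ q, f, e _ (nQ2.conj_mem _ q _)]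
    refine ⟨rfl, (cj_Q2 _ q).1.trans ?_⟩
    simp only [h c hc.1, hc.2, map_zero, xa]
    field_simp
    ring
  exact (Y2'.mul_mem_cancel_left h1).1 ((Y2'.mul_mem_cancel_left h2).1 h3)

theorem eq_inl {δ : DD K} {x : Kˣ × Kˣ} {k l : K} (hl : l ≠ 0) (h : ∀ t, k * δ.right t = l * t)
    (h1 : (δ.left.1 : K) = x.1) (h2 : (δ.left.2 : K) = x.2) : δ = SemidirectProduct.inl x := by
  have e : k = l := by simpa using h 1
  exact SemidirectProduct.ext (Prod.ext (Units.ext h1) (Units.ext h2))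
    (RingEquiv.ext fun t => mul_left_cancel₀ hl (e ▸ h t))

theorem wt1 (a : AS T) (t : Tri T p Y0 Y1 Y2) (g : G1 T Y1) (s : Kˣ) :
    ∃ y ∈ Y0, Cg (z0 T) 6 y (sd T (SemidirectProduct.inl (t1 T s))) := by
  obtain ⟨α, hα, h⟩ := g.2 s
  obtain ⟨y, hy, e⟩ := t.ext1 α hα fun c hc => by
    have q := (t.l1.au α hα).mem c (Z2_le_Q1 hc)
    obtain ⟨h1, h2, -⟩ := h c (Z2_le_Q1 hc)
    exact ⟨by simp [h1, dg, hc.1], q.1, by simp [h2, dg, hc.2.2.1], q.2⟩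
  obtain ⟨-, -, δ, hδ⟩ := a y (t.l0.au y hy)
  obtain ⟨c1, -, c3⟩ := Cg_sd hδ
  have k : ∀ x, δ.left.1 * δ.right x = (t1 T s).1 * x := fun x =>
    (c1 (xa T x)).symm.trans (by rw [← e _ ⟨rfl, rfl⟩, (h _ ⟨rfl, rfl⟩).1]; rfl)
  have k1 : (δ.left.1 : K) = (t1 T s).1 := by simpa using k 1
  have k2 := c3 (xc T 1) ⟨rfl, rfl⟩
  rw [← e _ ⟨rfl, rfl⟩, (h _ ⟨rfl, rfl⟩).2.1, k1] at k2
  exact ⟨y, hy, eq_inl (Units.ne_zero _) k k1 (by simpa [dg, xc] using k2.symm) ▸ hδ⟩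

theorem wt2 (a : AS T) (t : Tri T p Y0 Y1 Y2) (g : G2 T Y2) (s : Kˣ) :
    ∃ y ∈ Y0, Cg (z0 T) 6 y (sd T (SemidirectProduct.inl (t2 s))) := by
  obtain ⟨α, hα, h⟩ := g.2 s
  obtain ⟨y, hy, e⟩ := t.ext2 α hα fun c hc =>
    ⟨(t.l2.au α hα).mem c hc.1, by simp [(h c hc.1).2, hc.2]⟩
  obtain ⟨-, -, δ, hδ⟩ := a y (t.l0.au y hy)
  obtain ⟨-, c2, c3⟩ := Cg_sd hδ
  have k : ∀ x, δ.left.2 * δ.right x = (s : K)⁻¹ * x := fun x =>
    (c2 (xb T x) rfl).symm.trans (by rw [← e _ rfl, (h _ rfl).2]; rfl)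
  have k2 : (δ.left.2 : K) = (s : K)⁻¹ := by simpa using k 1
  have k1 := c3 (xc T 1) ⟨rfl, rfl⟩
  rw [← e _ rfl, (h _ rfl).1, k2] at k1
  refine ⟨y, hy, eq_inl (x := t2 s) (inv_ne_zero s.ne_zero) k ?_ (by simpa [t2] using k2) ▸ hδ⟩
  simp only [xc, map_one, mul_one] at k1
  simp only [t2, Units.val_pow_eq_pow_val]
  rw [eq_mul_inv_iff_mul_eq₀ s.ne_zero] at k1
  rw [← k1, sq]

theorem St0.ht (h : St0 T Γ Y0) {x : Kˣ × Kˣ} (hx : SemidirectProduct.inl x ∈ Γ) : HT T Y0 x :=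
  ⟨(sdH T (SemidirectProduct.inl x)).toEquiv, (h _).2 ⟨1, _, hx, fun u => by simp [sdH_apply]⟩, fun _ => rfl⟩

theorem cen_Q1 : FusionSystem.centralizerIn ⊤ (sQ1 T) ≤ sQ1 T := fun s hs => by
  have h := cm_eq_one.2 (mem_centralizer_iff.1 hs.2 (xa T 1) ⟨rfl, rfl⟩).symm
  have hb : s.b = 0 := by simpa [cm_c, xa] using congrArg Co.c h
  exact ⟨hb, by simpa [cm_d, xa, hb] using congrArg Co.d h⟩

theorem a_of_cen {s : Co T} (h : s * xe T T.ω = xe T T.ω * s) : s.a = 0 := by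
  have := congrArg Co.d (cm_eq_one.2 h)
  simp only [cm_d, xe, map_zero, mul_zero, zero_mul, sub_zero, add_zero, Co.one_d] at this
  exact (mul_eq_zero.1 this).resolve_right T.ε_ne

theorem cen_Q2 : FusionSystem.centralizerIn ⊤ (sQ2 T) ≤ sQ2 T := fun _ hs =>
  a_of_cen (mem_centralizer_iff.1 hs.2 _ rfl).symm

variable [Fact p.Prime] [CharP K p]

theorem ess (J : Jobs.{v}) {F : FusionSystem (⊤ : Subgroup (Co T))} (hF : F.IsSaturated p)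
    {E : Subgroup (Co T)} (hE : F.IsEssential p E) : E = sQ1 T ∨ E = sQ2 T := by
  obtain ⟨i, hi, M, h⟩ := J.D J.Q p (Co T) (pgroup_Co p) F hF E hE (zA T) 3 rfl
    (fun i => by
      rcases i with _ | _ | _ | i
      exacts [bot_le, Z_le, Z2_le_V.trans V_le, le_rfl])
    (fun i hi c hc => by
      interval_cases i
      · exact ⟨z0_pow p 0 (by omega) c hc, z0_cm 0 (by omega) c hc⟩
      · exact ⟨z0_pow p 1 (by omega) c hc, z0_cm 1 (by omega) c hc⟩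
      · have hp := pow_mem hc p
        exact ⟨⟨hp.1, hp.2, by simp [pow_Q2 hc.1], by simp [pow_Z3 hc]⟩, fun s => cm_Z2 s hc⟩)
    fun s h => ⟨a_of_cen (h _ ⟨rfl, rfl⟩), by
      simpa [cm_d, xc] using congrArg Co.d (cm_eq_one.2 (h (xc T 1) ⟨rfl, rfl⟩))⟩
  interval_cases i
  · exact Or.inr (J.L0 p K T E M h)
  · exact Or.inl ((J.L1 p K T).1 E M h)
  · exact absurd h ((J.L1 p K T).2 E M)

variable (T p) in
/-- a saturated system in which both automizers move the flag -/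
structure Mv (F : FusionSystem (⊤ : Subgroup (Co T))) : Prop where
  sat : F.IsSaturated p
  m1 : ∃ α ∈ aY F (sQ1 T), ¬ Pr α (sZ2 T)
  m2 : ∃ α ∈ aY F (sQ2 T), ¬ Pr α (sZ3 T)

variable {F : FusionSystem (⊤ : Subgroup (Co T))}

theorem Mv.cj (a : AS T) (h : Mv T p F) (θ : MulAut (Co T)) :
    ∃ F', Mv T p F' ∧ (F'.IsRealizable p → F.IsRealizable p) ∧ aY F' ⊤ = cjY θ (aY F ⊤) ∧
      aY F' (sQ1 T) = cjY θ (aY F (sQ1 T)) := by
  obtain ⟨F', tr, e⟩ := exists_cj F θ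
  obtain ⟨a1, a2, -⟩ := a θ (au_aut θ)
  exact ⟨F', ⟨tr.symm.isSaturated h.sat, e _ a2 ▸ moves (a1 2) h.m1, e _ (a1 5) ▸ moves (a1 4) h.m2⟩,
    tr.isRealizable', e _ fun _ _ => trivial, e _ a2⟩

theorem Jobs.tri (J : Jobs.{v}) (h : F.IsSaturated p) : U5.Tri T p (aY F ⊤) (aY F (sQ1 T)) (aY F (sQ2 T)) :=
  J.Tri p K T (J.AS p K T (J.A2 p K T)) F h

theorem Jobs.om (J : Jobs.{v}) (h : F.IsSaturated p) :
    (((2 : K) ≠ 0 ∨ ∀ x, T.σ x = x ^ 2) → ∃ θ, Om T 0 0 0 (cjY θ (aY F (sQ1 T)))) ∧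
    ((2 : K) = 0 → (∃ x, T.σ x ≠ x ^ 2) → (∀ s, HT T (aY F ⊤) (t2 s)) → Om T 0 0 0 (aY F (sQ1 T))) ∧
    ((∀ s, HT T (aY F ⊤) (t1 T s)) → Om T 0 0 0 (aY F (sQ1 T))) := by
  have o := J.Oa p K T (J.A1 p K T) _ _ _ (J.tri h)
  obtain ⟨β, γ, δ, h1, h2⟩ := J.Ob p K T (J.A1 p K T) _ _ _ (J.tri h) o
  exact J.Oc p K T _ _ _ (J.tri h) o β γ δ h1 h2

theorem Jobs.g1 (J : Jobs.{v}) (h : Mv T p F) (o : Om T 0 0 0 (aY F (sQ1 T))) : U5.G1 T (aY F (sQ1 T)) :=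
  J.G1 p K T _ _ _ (J.tri h.sat) (J.Oa p K T (J.A1 p K T) _ _ _ (J.tri h.sat)) o h.m1

theorem Jobs.g2 (J : Jobs.{v}) (h : Mv T p F) : U5.G2 T (aY F (sQ2 T)) :=
  J.G2 p K T (J.A2 p K T) _ _ _ (J.tri h.sat) h.m2

theorem stepB (J : Jobs.{v}) (h : Mv T p F) :
    ∃ F', Mv T p F' ∧ (F'.IsRealizable p → F.IsRealizable p) ∧ Om T 0 0 0 (aY F' (sQ1 T)) := by
  have aS := J.AS p K T (J.A2 p K T)
  by_cases h2 : (2 : K) ≠ 0 ∨ ∀ x, T.σ x = x ^ 2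
  · obtain ⟨θ, o⟩ := (J.om h.sat).1 h2
    obtain ⟨F', m, r, -, e⟩ := h.cj aS θ
    exact ⟨F', m, r, e ▸ o⟩
  push Not at h2
  obtain ⟨θ, Γ, -, s, hΓ⟩ := J.Hall p K T aS _ _ _ (J.tri h.sat)
  obtain ⟨F', m, r, e, -⟩ := h.cj aS θ
  exact ⟨F', m, r, (J.om m.sat).2.1 h2.1 h2.2 fun x =>
    e ▸ s.ht (hΓ _ (wt2 aS (J.tri h.sat) (J.g2 h) x))⟩

theorem stepC (J : Jobs.{v}) (h : Mv T p F) (o : Om T 0 0 0 (aY F (sQ1 T))) :
    ∃ (F' : _) (Γ : Subgroup (DD K)), Mv T p F' ∧ (F'.IsRealizable p → F.IsRealizable p) ∧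
      (Nat.card Γ).Coprime p ∧ St0 T Γ (aY F' ⊤) ∧ (∀ s, SemidirectProduct.inl (t1 T s) ∈ Γ) ∧
      ∀ s, SemidirectProduct.inl (t2 s) ∈ Γ := by
  have aS := J.AS p K T (J.A2 p K T)
  obtain ⟨θ, Γ, c, s, hΓ⟩ := J.Hall p K T aS _ _ _ (J.tri h.sat)
  obtain ⟨F', m, r, e, -⟩ := h.cj aS θ
  exact ⟨F', Γ, m, r, c, e ▸ s, fun x => hΓ _ (wt1 aS (J.tri h.sat) (J.g1 h o) x),
    fun x => hΓ _ (wt2 aS (J.tri h.sat) (J.g2 h) x)⟩

section Real
variable {G : Type*} [Group G] [Finite G] {ι : Co T →* G} {E : FusionSystem (⊤ : Subgroup (Co T))}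

theorem real_mem (r : Rl T p Γ ι) (hE : E.IsRealizedBy (ι.comp (⊤ : Subgroup (Co T)).subtype))
    {X : Subgroup (Co T)} {f : Co T → Co T} (pf : Pr f X) (g : G)
    (h : ∀ c ∈ X, g * ι c * g⁻¹ = ι (f c)) : ∃ y ∈ aY E X, ∀ c ∈ X, y c = f c :=
  exists_aY ((real_iff hE r.inj).2 ⟨g, fun c hc => (h c hc).symm⟩) pf

theorem real_st0 (r : Rl T p Γ ι) (hE : E.IsRealizedBy (ι.comp (⊤ : Subgroup (Co T)).subtype)) :
    St0 T Γ (aY E ⊤) := by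
  refine fun y => ⟨fun hy => ?_, fun ⟨s, δ, hδ, e⟩ => ?_⟩
  · obtain ⟨g, hg⟩ := (real_iff hE r.inj).1 (mor_aY hy)
    obtain ⟨s, δ, hδ, h⟩ := r.nor g (mem_normalizer_fintype fun _ ⟨c, hc⟩ => ⟨y c, by rw [hg c trivial, hc]⟩)
    exact ⟨s, δ, hδ, fun c => r.inj (by rw [hg c trivial, h])⟩
  · obtain ⟨g, hg⟩ := r.std δ hδ
    obtain ⟨y', hy', e'⟩ := real_mem r hE (X := ⊤) (f := y) (fun _ _ => trivial) (ι s * g)
      fun c _ => by rw [e, map_mul, map_mul, map_inv, ← hg]; group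
    rwa [show y = y' from Equiv.ext fun c => (e' c trivial).symm]

end Real

theorem stepD (J : Jobs.{v}) (h : Mv T p F) (c : (Nat.card Γ).Coprime p) (s0 : St0 T Γ (aY F ⊤))
    (h1 : ∀ s, SemidirectProduct.inl (t1 T s) ∈ Γ) (h2 : ∀ s, SemidirectProduct.inl (t2 s) ∈ Γ) :
    F.IsRealizable p := by
  have hP : IsPGroup p (⊤ : Subgroup (Co T)) := (pgroup_Co p).to_subgroup _
  have t := J.tri h.sat
  have o := (J.om h.sat).2.2 fun s => s0.ht (h1 s)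
  have n1 := J.N1 p K T _ _ _ t (J.g1 h o) (fun s => s0.ht (h1 s)) fun s => s0.ht (h2 s)
  have n2 := J.N2 p K T _ _ _ t (J.g2 h) (fun s => s0.ht (h1 s)) fun s => s0.ht (h2 s)
  obtain ⟨G, _, _, ι, r⟩ := J.Real p K T Γ c h1 h2
  obtain ⟨S, hS⟩ := r.syl
  have hS' : (S : Subgroup G) = (ι.comp (⊤ : Subgroup (Co T)).subtype).range := by
    rw [hS]
    exact le_antisymm (fun _ ⟨c, e⟩ => ⟨⟨c, trivial⟩, e⟩) fun _ ⟨c, e⟩ => ⟨_, e⟩
  obtain ⟨E, hE, re⟩ := H9.exists_pull (r.inj.comp (subtype_injective _)) S hS'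
  have s1 := real_st0 r re
  have e0 : aY E ⊤ = aY F ⊤ := Subgroup.ext fun y => (s1 y).trans (s0 y).symm
  have t' := J.tri hE
  have o' := (J.om hE).2.2 fun s => s1.ht (h1 s)
  rw [e0] at t'
  have n1' : N1 T (aY E (sQ1 T)) := r.n1.elim fun g => real_mem r re au_nu1.mem g
  have n2' : N2 T (aY E (sQ2 T)) := r.n2.elim fun g => real_mem r re au_nu2.mem g
  have l1 : F ≤ E := le_of_essential hP h.sat fun P k => by
    rcases k with rfl | k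
    · exact aut_le' e0.ge
    · rcases ess J h.sat k with rfl | rfl
      exacts [aut_le' (det1 o t t' n1 n1'), aut_le' (det2 (J.A2 p K T) t t' n2 n2')]
  have l2 : E ≤ F := le_of_essential hP hE fun P k => by
    rcases k with rfl | k
    · exact aut_le' e0.le
    · rcases ess J hE k with rfl | rfl
      exacts [aut_le' (det1 o' t' t n1' n1), aut_le' (det2 (J.A2 p K T) t' t n2' n2)]
  exact H9.isRealizable_of ⟨re.1, fun P h φ k => (Iff.intro (l1 P ·) (l2 P ·)).trans (re.2 P h φ k)⟩ S hS'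

theorem core (J : Jobs.{v}) (hF : F.IsSaturated p) : F.IsRealizable p := by
  have hP : IsPGroup p (⊤ : Subgroup (Co T)) := (pgroup_Co p).to_subgroup _
  have aS := J.AS p K T (J.A2 p K T)
  have t := J.tri hF
  have nrm : ∀ X : Subgroup (Co T), (∀ θ, Au ⊤ θ → Pr θ X) → (∀ E, F.IsEssential p E → E = X) → F.IsNormal X :=
    fun X hX hE => isNormal_of_essential hP hF fun P h => by
      rcases h with rfl | h
      · exact ⟨le_top, fun α _ => hX _ (au_af α)⟩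
      · obtain rfl := hE P h
        exact ⟨le_rfl, fun α _ _ => af_mem α⟩
  by_cases m1 : ∀ α ∈ aY F (sQ1 T), Pr α (sZ2 T)
  · exact H9.isRealizable_of_isNormal hP hF (nrm _ (fun θ h => (aS θ h).1 5) fun E h =>
      (ess J hF h).resolve_left fun e => not_ess hP hF (fun α hα => t.ext1 α hα (m1 α hα)) (e ▸ h)) cen_Q2
  by_cases m2 : ∀ α ∈ aY F (sQ2 T), Pr α (sZ3 T)
  · exact H9.isRealizable_of_isNormal hP hF (nrm _ (fun θ h => (aS θ h).2.1) fun E h =>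
      (ess J hF h).resolve_right fun e => not_ess hP hF (fun α hα => t.ext2 α hα (m2 α hα)) (e ▸ h)) cen_Q1
  push Not at m1 m2
  obtain ⟨F1, h1, r1, o⟩ := stepB J ⟨hF, m1, m2⟩
  obtain ⟨F2, Γ, h2, r2, c, s, g1, g2⟩ := stepC J h1 o
  exact r1 (r2 (stepD J h2 c s g1 g2))

end Co

theorem main (J : Jobs.{v}) {Ω : Type u} [Group Ω] {S : Subgroup Ω} (p : ℕ) [Fact p.Prime]
    (F : FusionSystem S) (hF : F.IsSaturated p) {K : Type v} [Field K] [Fintype K] [CharP K p] (n : ℕ)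
    (hn : 1 ≤ n) (hK : Fintype.card K = (p ^ n) ^ 2) (S0 : Sylow p (PSU 5 K (p ^ n)))
    (e : S ≃* (S0 : Subgroup (PSU 5 K (p ^ n)))) : F.IsRealizable p := by
  obtain ⟨T, ⟨e'⟩⟩ := J.Model p K n hn hK S0
  let ψ : S →* Co T := (e.trans e').toMonoidHom
  obtain ⟨b, hi⟩ := H94.exists_pIso (mulOn_ext1 ψ) fun x hx y hy h => by
    rw [ext1_of_mem ψ hx, ext1_of_mem ψ hy] at h
    exact congrArg Subtype.val ((e.trans e').injective h)
  rw [← range_eq_img ψ fun x => (ext1_coe ψ x).symm, MonoidHom.range_eq_top.2 (e.trans e').surjective] at hi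
  obtain ⟨E, tr⟩ := hi.exists_tr F
  exact tr.symm.isRealizable' (core J (tr.isSaturated hF))

end H90.U5
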