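/- U5 tower: the bound for quadratic subgroups. -/
import Cfsg.Agent.H90.U5Asm

set_option autoImplicit false
set_option linter.unusedSectionVars false

open Subgroup

universe v

namespace H90.U5

theorem quad_pow {V : Type*} [Group V] {α : MulAut V} {w : V} (h : α (w⁻¹ * α w) = w⁻¹ * α w) (n : ℕ) :
    (α ^ n) w = w * (w⁻¹ * α w) ^ n := by
  induction n with
  | zero => simp
  | succ n ih => rw [pow_succ', MulAut.mul_apply, ih, map_mul, map_pow, h, pow_succ', ← mul_assoc]; simp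

theorem quad_p {V : Type*} [Group V] [Finite V] {p : ℕ} [Fact p.Prime] (hV : IsPGroup p V) {α : MulAut V}
    (h : ∀ w, α (w⁻¹ * α w) = w⁻¹ * α w) : ∃ k : ℕ, α ^ p ^ k = 1 := by
  obtain ⟨k, hk⟩ := hV.exists_card_eq
  exact ⟨k, MulEquiv.ext fun w => by rw [quad_pow (h w), ← hk, pow_card_eq_one', mul_one]; rfl⟩

section
variable {V : Type*} [CommGroup V]

/-- `w ↦ [w, α]` -/
def dl (α : MulAut V) : V →* V := MonoidHom.mk' (fun w => w⁻¹ * α w) fun a b => by
  rw [map_mul, mul_inv, mul_mul_mul_comm]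

theorem dl_apply (α : MulAut V) (w : V) : dl α w = w⁻¹ * α w := rfl

theorem mem_dl_ker {α : MulAut V} {w : V} : w ∈ (dl α).ker ↔ α w = w := by
  rw [MonoidHom.mem_ker, dl_apply, inv_mul_eq_one, eq_comm]

variable {X : Type*} [Group X]

/-- the fixed points of a subgroup -/
def fx (ρ : X →* MulAut V) (L : Subgroup X) : Subgroup V where
  carrier := {w | ∀ g ∈ L, ρ g w = w}
  one_mem' := fun _ _ => map_one _
  mul_mem' := fun ha hb g hg => by rw [map_mul, ha g hg, hb g hg]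
  inv_mem' := fun ha g hg => by rw [map_inv, ha g hg]

/-- the stabilizer of a vector -/
def sb (ρ : X →* MulAut V) (w : V) : Subgroup X where
  carrier := {g | ρ g w = w}
  one_mem' := by simp
  mul_mem' := fun {a b} ha hb => by
    change ρ (a * b) w = w
    rw [map_mul, MulAut.mul_apply, hb, ha]
  inv_mem' := fun {a} ha => by
    change ρ a⁻¹ w = w
    rw [map_inv, MulAut.inv_apply, MulEquiv.symm_apply_eq]; exact Eq.symm ha

theorem exists_quot (ρ : X →* MulAut V) (L : Subgroup X) (U : Subgroup V) (h : ∀ g ∈ L, ∀ u ∈ U, ρ g u ∈ U) :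
    ∃ ρ' : L →* MulAut (V ⧸ U), ∀ (g : L) (w : V), ρ' g w = (ρ g w : V) := by
  let r : L → V ⧸ U →* V ⧸ U := fun g => QuotientGroup.map U U (ρ g).toMonoidHom (h g g.2)
  have hr : ∀ (g : L) (w : V), r g w = (ρ g w : V) := fun _ _ => rfl
  have k : ∀ (g g' : L) w, r g (r g' w) = r (g * g') w := fun g g' w => by
    induction w using QuotientGroup.induction_on with
    | H w => simp [hr]
  have o : ∀ w, r 1 w = w := fun w => by
    induction w using QuotientGroup.induction_on with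
    | H w => simp [hr]
  exact ⟨MonoidHom.mk' (fun g => ⟨⟨r g, r g⁻¹, fun w => by rw [k, inv_mul_cancel, o],
    fun w => by rw [k, mul_inv_cancel, o]⟩, map_mul (r g)⟩) fun g g' => MulEquiv.ext fun w => (k g g' w).symm, hr⟩

end

theorem jobQ_min (p : ℕ) [Fact p.Prime] (X : Type v) [Group X] [Finite X] (H A : Subgroup X) (hH : H ≠ ⊤)
    (hA : A ≤ H) (mn : ∀ L, A ≤ L → ¬ L ≤ H → L = ⊤) (n : ℕ) :
    ∀ (V : Type v) [CommGroup V] [Finite V] (ρ : X →* MulAut V), Nat.card V = n → IsPGroup p V → ρ.ker ≤ H →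
    (∀ g, g ∉ H → ∀ a ∈ A, g * a * g⁻¹ ∈ H → ρ a = 1) →
    (∀ a ∈ A, ∀ b ∈ A, ∀ w : V, ρ a (w⁻¹ * ρ b w) = w⁻¹ * ρ b w) →
    ∀ s ∈ A, ρ s ≠ 1 → Nat.card (A.map ρ) ≤ (Set.range fun w : V => w⁻¹ * ρ s w).ncard := by
  induction n using Nat.strong_induction_on with
  | _ n ih =>
  intro V _ _ ρ hn hV hk ti qu s hs hs'
  obtain ⟨x, hx⟩ : ∃ x, x ∉ H := by simpa [eq_top_iff'] using hH
  by_cases h0 : fx ρ ⊤ = ⊥
  · have g : ∀ y, y ∉ H → ∀ a ∈ A, ρ a ≠ 1 → ∀ w ∈ fx ρ A, ρ (y * a * y⁻¹) w = w → w = 1 :=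
      fun y hy a ha ha' w hw e => by
        have := mn (sb ρ w) hw fun k => ha' (ti y hy a ha (k e))
        exact mem_bot.1 (h0 ▸ fun g _ => (this ▸ mem_top g : g ∈ sb ρ w))
    have c1 : Nat.card (fx ρ A) ≤ Nat.card (dl (ρ s)).range :=
      Nat.card_le_card_of_injective (fun w => ⟨dl (ρ s) (ρ x⁻¹ w), _, rfl⟩) fun w w' e => by
        have e' : dl (ρ s) (ρ x⁻¹ w) = dl (ρ s) (ρ x⁻¹ w') := congrArg Subtype.val e
        have k : ρ s (ρ x⁻¹ ((w : V)⁻¹ * w')) = ρ x⁻¹ ((w : V)⁻¹ * w') := mem_dl_ker.1 (by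
          rw [MonoidHom.mem_ker, map_mul, map_mul, map_inv (ρ x⁻¹), map_inv (dl (ρ s)), e', inv_mul_cancel])
        have := g x hx s hs hs' _ (mul_mem (inv_mem w.2) w'.2) (by
          rw [ρ.map_mul, ρ.map_mul, MulAut.mul_apply, MulAut.mul_apply, k, ← MulAut.mul_apply, ← ρ.map_mul,
            mul_inv_cancel, map_one, MulAut.one_apply])
        exact Subtype.ext (inv_mul_eq_one.1 this)
    obtain ⟨w, hw⟩ : ∃ w, ρ s w ≠ w := by_contra fun k => hs' (MulEquiv.ext fun w => by simpa using not_exists.1 k w)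
    have hd : w⁻¹ * ρ s w ∈ fx ρ A := fun a ha => qu a ha s hs w
    set d := w⁻¹ * ρ s w
    have c2 : Nat.card (A.map ρ) ≤ Nat.card (fx ρ A) :=
      Nat.card_le_card_of_injective (fun α => ⟨(ρ x d)⁻¹ * α.1 (ρ x d), by
        obtain ⟨_, b, hb, rfl⟩ := α
        exact fun a ha => qu a ha b hb _⟩) (by
        rintro ⟨_, a, ha, rfl⟩ ⟨_, b, hb, rfl⟩ e
        have e' : ρ a (ρ x d) = ρ b (ρ x d) := mul_left_cancel (congrArg Subtype.val e)
        refine Subtype.ext (by_contra fun k => hw (inv_mul_eq_one.1 (g x⁻¹ (by simpa using hx) (a⁻¹ * b)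
          (mul_mem (inv_mem ha) hb) (by rwa [map_mul, map_inv, Ne, inv_mul_eq_one]) d hd ?_)).symm)
        simp [← e'])
    exact c2.trans c1
  obtain ⟨ρ0, h'⟩ := exists_quot ρ ⊤ (fx ρ ⊤) fun g hg u hu => by rwa [hu g hg]
  let ρ' : X →* MulAut (V ⧸ fx ρ ⊤) := ρ0.comp topEquiv.symm.toMonoidHom
  have hρ : ∀ g (w : V), ρ' g w = (ρ g w : V) := fun g w => h' ⟨g, trivial⟩ w
  have kq : ∀ g, ρ g = 1 → ρ' g = 1 := fun g e => MulEquiv.ext fun w => by
    induction w using QuotientGroup.induction_on with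
    | H w => rw [hρ, e]; rfl
  by_cases hK : ρ'.ker ≤ H
  · have kk : ∀ a ∈ A, ρ' a = 1 → ρ a = 1 := fun a ha e =>
      ti x hx a ha (hK ((MonoidHom.normal_ker ρ').conj_mem a e x))
    have lt : Nat.card (V ⧸ fx ρ ⊤) < n := by
      rw [← hn, card_eq_card_quotient_mul_card_subgroup (fx ρ ⊤)]
      exact lt_mul_of_one_lt_right Nat.card_pos ((one_lt_card_iff_ne_bot _).2 h0)
    have := ih _ lt _ ρ' rfl (hV.to_quotient _) hK (fun g hg a ha e => kq a (ti g hg a ha e))
      (fun a ha b hb w => by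
        induction w using QuotientGroup.induction_on with
        | H w => rw [hρ, ← QuotientGroup.mk_inv, ← QuotientGroup.mk_mul, hρ, qu a ha b hb])
      s hs fun e => hs' (kk s hs e)
    refine le_trans ?_ (this.trans ?_)
    · refine Nat.card_le_card_of_injective (fun α => ⟨ρ' α.2.choose, _, α.2.choose_spec.1, rfl⟩) fun α β e => ?_
      have e' : ρ' α.2.choose = ρ' β.2.choose := congrArg Subtype.val e
      have := kk _ (mul_mem (inv_mem α.2.choose_spec.1) β.2.choose_spec.1)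
        (by rw [map_mul, map_inv, e', inv_mul_cancel])
      rw [map_mul, map_inv, α.2.choose_spec.2, β.2.choose_spec.2, inv_mul_eq_one] at this
      exact Subtype.ext this
    · refine le_trans (Set.ncard_le_ncard ?_ (Set.toFinite _))
        (Set.ncard_image_le (f := QuotientGroup.mk) (Set.toFinite _))
      rintro _ ⟨w, rfl⟩
      induction w using QuotientGroup.induction_on with
      | H w => exact ⟨_, ⟨w, rfl⟩, by simp [hρ]⟩
  exfalso
  have top := mn (A ⊔ ρ'.ker) le_sup_left fun k => hK (le_sup_right.trans k)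
  have pg : ∀ L : Subgroup X, (∀ g ∈ L, ∀ w, ρ g (w⁻¹ * ρ g w) = w⁻¹ * ρ g w) →
      IsPGroup p (L.map ρ.rangeRestrict) := fun L h => by
    rintro ⟨_, g, hg, rfl⟩
    exact (quad_p hV (h g hg)).imp fun k e => Subtype.ext (Subtype.ext e)
  haveI : (ρ'.ker.map ρ.rangeRestrict).Normal := Normal.map inferInstance _ ρ.rangeRestrict_surjective
  have p1 := (pg A fun a ha => qu a ha a ha).to_sup_of_normal_right (pg ρ'.ker fun g hg w => by
    have := hρ g w
    rw [MonoidHom.mem_ker.1 hg] at this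
    exact (QuotientGroup.eq.1 this) g trivial)
  rw [← Subgroup.map_sup, top, map_top_of_surjective _ ρ.rangeRestrict_surjective] at p1
  haveI : Finite ρ.range := Finite.of_surjective _ ρ.rangeRestrict_surjective
  haveI := (p1.of_equiv topEquiv).isNilpotent
  have bk : ∀ g, ρ.rangeRestrict g ∈ H.map ρ.rangeRestrict → g ∈ H := fun g ⟨h, hh, e⟩ => by
    simpa using mul_mem hh (hk (show ρ (h⁻¹ * g) = 1 by
      rw [map_mul, map_inv, show ρ h = ρ g from congrArg Subtype.val e, inv_mul_cancel]))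
  obtain ⟨y, hy, hy'⟩ := SetLike.exists_of_lt (Group.normalizerCondition_of_isNilpotent (H.map ρ.rangeRestrict)
    (lt_top_iff_ne_top.2 fun e => hx (bk x (e ▸ mem_top _))))
  obtain ⟨g, rfl⟩ := ρ.rangeRestrict_surjective y
  exact hs' (ti g (fun k => hy' ⟨g, k, rfl⟩) s hs (bk _ (by
    simpa using (mem_normalizer_iff.1 hy (ρ.rangeRestrict s)).1 ⟨s, hA hs, rfl⟩)))

theorem jobQ : JobQ.{v} := by
  intro p _ X V _ _ _ _ H A ρ hV hH hA hk ti qu s hs hs'
  obtain ⟨L, ⟨h1, h2⟩, mn⟩ := WellFounded.has_min (wellFounded_lt (α := Subgroup X))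
    {L | A ≤ L ∧ ¬ L ≤ H} ⟨⊤, le_top, fun k => hH (top_le_iff.1 k)⟩
  have := jobQ_min p L (H.subgroupOf L) (A.subgroupOf L) (fun e => h2 (subgroupOf_eq_top.1 e))
    (fun _ h => hA h) (fun L' a b => by
      have k : A ≤ L'.map L.subtype := fun x hx => ⟨⟨x, h1 hx⟩, a hx, rfl⟩
      have := (map_subtype_le L').lt_or_eq.resolve_left
        (mn _ ⟨k, fun e => b fun x hx => e ⟨x, hx, rfl⟩⟩)
      exact eq_top_iff.2 fun x _ => by
        obtain ⟨y, hy, e⟩ : (x : X) ∈ L'.map L.subtype := this.symm ▸ x.2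
        exact Subtype.ext e ▸ hy)
    _ V (ρ.comp L.subtype) rfl hV (fun _ h => hk h) (fun g hg a ha e => ti g hg a ha e)
    (fun a ha b hb => qu a ha b hb) ⟨s, h1 hs⟩ hs hs'
  rwa [← Subgroup.map_map, subgroupOf_map_subtype, inf_eq_left.2 h1] at this

end H90.U5
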