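/- U5 and RF towers: the dichotomy along a central series. -/
import Cfsg.Agent.H90.U5Q

set_option autoImplicit false
set_option linter.unusedSectionVars false

open Subgroup H92 Cfsg Cfsg.FusionSystem H90.RF

universe v

namespace H90.U5

variable {P : Type v} [Group P] [Finite P] {p : ℕ} [Fact p.Prime] {E : Subgroup P}
  {Y H N : Subgroup (MulAut E)}

/-- a minimal overgroup of `Aut_P(E)` that is not contained in `H` -/
structure Dt (p : ℕ) (E : Subgroup P) (Y H : Subgroup (MulAut E)) : Prop where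
  hP : IsPGroup p P
  ne : E ≠ ⊤
  cen : centralizerIn ⊤ E ≤ E
  syl : SylIn p (autInducedBy ⊤ E) Y
  le : autInducedBy ⊤ E ≤ H
  nle : ¬ Y ≤ H
  se : RelSE Y (Inn E) (autInducedBy ⊤ E) H
  ti : ∀ g ∈ Y, g ∉ H → ∀ a ∈ autInducedBy ⊤ E, g * a * g⁻¹ ∈ H → a ∈ Inn E
  mn : ∀ L, autInducedBy ⊤ E ≤ L → L ≤ Y → ¬ L ≤ H → L = Y

theorem exists_dt (hP : IsPGroup p P) {F : FusionSystem (⊤ : Subgroup P)} (hF : F.IsSaturated p)
    (hE : F.IsEssential p E) : ∃ Y H, Dt p E Y H := by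
  have hS : IsPGroup p (⊤ : Subgroup P) := hP.to_subgroup _
  obtain ⟨h1, h2, h3⟩ := (isEssential_iff hS hF).1 hE
  have sy := sylIn_of_fn hS hF h2
  have se := relSE_extSub hS hF (fc_of_fn hS hF h2)
  have le := autInducedBy_le_extSub F h1
  obtain ⟨Y, ⟨a, b, c⟩, mn⟩ := WellFounded.has_min (wellFounded_lt (α := Subgroup (MulAut E)))
    {L | autInducedBy ⊤ E ≤ L ∧ L ≤ F.autGroup E ∧ ¬ L ≤ extSub F E} ⟨_, sy.le, le_rfl, h3⟩
  refine ⟨Y, extSub F E, hP, h1.ne, centralizerIn_le_of_centric hE.1, sy.mono a b, le, c,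
    fun R r1 r2 x hx => se R r1 r2 ⟨b hx.1, hx.2⟩, fun g hg hg' s hs e => by_contra fun k => hg' ?_,
    fun L l1 l2 l3 => l2.lt_or_eq.resolve_left (mn L ⟨l1, l2.trans b, l3⟩)⟩
  obtain ⟨h, hh, e'⟩ := (sy.mono le (extSub_le F E)).exists_conj (C := zpowers (g * s * g⁻¹))
    ((((sy.isPGroup.to_le (zpowers_le.2 hs)).map (MulAut.conj g).toMonoidHom)).to_le
      (zpowers_le.2 ⟨s, mem_zpowers s, rfl⟩)) (zpowers_le.2 e)
  have := se.mem sy (Inn_le_autInducedBy le_top) (fun _ _ _ hn => conj_mem_Inn hn)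
    (mul_mem (extSub_le F E hh) (b hg)) hs k (by simpa [mul_assoc] using e' _ (mem_zpowers _))
  exact (mul_mem_cancel_left hh).1 this

/-- the elements of `Y` that act trivially on `X` modulo `U` -/
def stb (Y : Subgroup (MulAut E)) (U X : Subgroup P) (hX : ∀ y ∈ Y, Pr (af y) X) : Subgroup (MulAut E) where
  carrier := {y | y ∈ Y ∧ ∀ x ∈ X, x⁻¹ * af y x ∈ U}
  one_mem' := ⟨one_mem _, fun x _ => by simp⟩
  mul_mem' := fun {a b} ha hb => ⟨mul_mem ha.1 hb.1, fun x hx => by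
    simpa [mul_assoc] using mul_mem (hb.2 x hx) (ha.2 _ (hX b hb.1 x hx))⟩
  inv_mem' := fun {a} ha => ⟨inv_mem ha.1, fun x hx => by
    simpa [af_af_inv] using inv_mem (ha.2 _ (hX _ (inv_mem ha.1) x hx))⟩

theorem stb_nm {U X : Subgroup P} (hX : ∀ y ∈ Y, Pr (af y) X) (hU : ∀ y ∈ Y, Pr (af y) U) (hE : X ≤ E) :
    ∀ y ∈ Y, ∀ n ∈ stb Y U X hX, y * n * y⁻¹ ∈ stb Y U X hX := fun y hy n hn =>
  ⟨mul_mem (mul_mem hy hn.1) (inv_mem hy), fun x hx => by
    have h := hX _ (inv_mem hy) x hx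
    have := hU y hy _ (hn.2 _ h)
    rwa [(au_af y).mul _ (inv_mem (hE h)) _ (af_mem n (hE h)), (au_af y).inv (hE h), af_af_inv,
      ← af_mul_apply, ← af_mul_apply] at this⟩

namespace Dt
variable (D : Dt p E Y H)
include D

theorem inn_of_le (hN : ∀ y ∈ Y, ∀ n ∈ N, y * n * y⁻¹ ∈ N) (h : N ≤ H) {a : MulAut E} (ha : a ∈ N)
    (ha' : a ∈ autInducedBy ⊤ E) : a ∈ Inn E := by
  obtain ⟨g, hg, hg'⟩ := SetLike.not_le_iff_exists.1 D.nle
  exact D.ti g hg hg' a ha' (h (hN g hg a ha))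

theorem pn (hY : N ≤ Y) (hN : ∀ y ∈ Y, ∀ n ∈ N, y * n * y⁻¹ ∈ N) (h : IsPGroup p N) : N ≤ Inn E := by
  have := D.syl.2.2 _ le_sup_left (sup_le D.syl.le hY) (D.syl.isPGroup.to_sup_of_normal_right' h
    fun y hy => mem_normalizer_fintype fun n hn => hN y (D.syl.le hy) n hn)
  have k : N ≤ autInducedBy ⊤ E := this ▸ le_sup_right
  exact fun a ha => D.inn_of_le hN (k.trans D.le) ha (k ha)

theorem mem_E {s : P} (hs : s ∈ normalizer (E : Set P)) (h : cAut E s hs ∈ Inn E) : s ∈ E :=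
  (cAut_mem_Inn_iff D.cen le_top ⟨trivial, hs⟩).1 h

theorem cY {s : P} (hs : s ∈ normalizer (E : Set P)) : cAut E s hs ∈ Y := D.syl.le (cAut_mem hs trivial)

/-- a normal subgroup that is a `p`-group modulo `C` -/
theorem le_of_pow {C : Subgroup (MulAut E)} (hC : ∀ y ∈ Y, ∀ n ∈ C, y * n * y⁻¹ ∈ C) (hH : C ≤ H)
    (hI : Inn E ≤ C) (hY : N ≤ Y) (hN : ∀ y ∈ Y, ∀ n ∈ N, y * n * y⁻¹ ∈ N)
    (h : ∀ y ∈ N, ∃ k : ℕ, y ^ p ^ k ∈ C) : N ≤ C := by
  have sy := D.syl.inf_normal hN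
  rw [inf_eq_right.2 hY] at sy
  have k := fun y (hy : y ∈ N) => sy.mem_mul_of_normal (fun b hb => hC b (hY hb)) h hy
  have l : N ≤ H := fun y hy => by
    obtain ⟨a, ha, c, hc, rfl⟩ := k y hy
    exact mul_mem (D.le ha.1) (hH hc)
  intro y hy
  obtain ⟨a, ha, c, hc, rfl⟩ := k y hy
  exact mul_mem (hI (D.inn_of_le hN l ha.2 ha.1)) hc

end Dt

theorem cm_inv_mem {U : Subgroup P} [h : U.Normal] {c x : P} (k : cm x⁻¹ c ∈ U) : cm c x ∈ U := by
  simpa [cm, mul_assoc] using h.conj_mem _ k c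

theorem cm_mul_right (x m m' : P) : cm x (m * m') = m'⁻¹ * cm x m * m' * cm x m' := by simp only [cm]; group

theorem cm_mul_left (x y m : P) : cm (x * y) m = cm x m * (x * cm y m * x⁻¹) := by simp only [cm]; group

theorem cm_inv_right (x m : P) : cm x m⁻¹ = m * (cm x m)⁻¹ * m⁻¹ := by simp only [cm]; group

theorem cm_inv_left (x m : P) : cm x⁻¹ m = x⁻¹ * (cm x m)⁻¹ * x := by simp only [cm]; group

/-- the elements that centralize `M` modulo `U` -/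
def cmS (U : Subgroup P) [h : U.Normal] (M : Set P) : Subgroup P where
  carrier := {s | ∀ m ∈ M, cm s m ∈ U}
  one_mem' := fun m _ => by simp [cm]
  mul_mem' := fun {a b} ha hb m hm => by rw [cm_mul_left]; exact mul_mem (ha m hm) (h.conj_mem _ (hb m hm) a)
  inv_mem' := fun {a} ha m hm => by rw [cm_inv_left]; exact h.conj_mem' _ (inv_mem (ha m hm)) a

theorem exists_level (D : Dt p E Y H) (z : ℕ → Subgroup P) (n : ℕ) (h0 : z 0 = ⊥)
    (hz : ∀ i < n, ∀ c ∈ z (i + 1), ∀ s, cm s c ∈ z i) (mono : ∀ i, z i ≤ z (i + 1))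
    (hc : ∀ s, (∀ c ∈ z n, s * c = c * s) → s ∈ z n) :
    ∃ i < n, (z i).Normal ∧ z (i + 1) ≤ E ∧ (∀ y ∈ Y, ∀ j ≤ i, Pr (af y) (z j)) ∧
      ¬ ∀ y ∈ Y, ∀ u ∈ z (i + 1), u⁻¹ * af y u ∈ z i := by
  have nm : ∀ i ≤ n, (z i).Normal := fun i hi => by
    rcases i with _ | i
    · rw [h0]; infer_instance
    · exact normal_of_cm fun s m hm => mono i (hz i hi m hm s)
  have hE : IsPGroup p E := D.hP.to_subgroup E
  by_contra k
  push Not at k
  have fx : ∀ i, (∀ j < i, ∀ y ∈ Y, ∀ u ∈ z (j + 1), u⁻¹ * af y u ∈ z j) → ∀ y ∈ Y, (orderOf y).Coprime p →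
      ∀ x ∈ E, x ∈ z i → af y x = x := fun i h y hy co =>
    fix_of_chain hE co z i (fun x _ hx => by rw [h0] at hx; rw [mem_bot.1 hx, (au_af y).one])
      fun j hj x _ hx => h j hj y hy x hx
  have pr : ∀ i, (∀ j < i, ∀ y ∈ Y, ∀ u ∈ z (j + 1), u⁻¹ * af y u ∈ z j) → ∀ y ∈ Y, ∀ j ≤ i,
      Pr (af y) (z j) := fun i h y hy j hj u hu => by
    rcases j with _ | j
    · rw [h0] at hu ⊢; rw [mem_bot.1 hu, (au_af y).one]; exact one_mem _
    · simpa using mul_mem hu (mono j (h j hj y hy u hu))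
  have main : ∀ i ≤ n, z i ≤ E ∧ ∀ j < i, ∀ y ∈ Y, ∀ u ∈ z (j + 1), u⁻¹ * af y u ∈ z j := fun i hi => by
    induction i with
    | zero => exact ⟨h0 ▸ bot_le, fun _ h => absurd h (Nat.not_lt_zero _)⟩
    | succ i ih =>
      obtain ⟨-, h⟩ := ih (by omega)
      haveI := nm i (by omega)
      have l : z (i + 1) ≤ E := le_of_normalizerIn_le (D.hP.to_subgroup ⊤) le_top le_top
        (fun y _ q hq => (nm _ hi).conj_mem q hq y) fun c hc => D.mem_E hc.2
          (D.pn (N := stb Y (z i) E fun y _ _ => af_mem y) (fun _ h => h.1)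
            (stb_nm _ (fun y hy => pr i h y hy i le_rfl) le_rfl)
            (isPGroup_of_forall_coprime fun y hy co => aut_ext fun x hx => by
              rw [af_fix_of_coprime hE co hx (fx i h y hy.1 co _ (mul_mem (inv_mem hx) (af_mem y hx))
                (hy.2 x hx)), map_one]; rfl)
            ⟨D.cY hc.2, fun x hx => by rw [af_cAut _ hx]; exact cm_inv_mem (hz i hi c hc.1 _)⟩)
      refine ⟨l, fun j hj => ?_⟩
      rcases (Nat.lt_succ_iff.1 hj).lt_or_eq with hj | rfl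
      exacts [h j hj, k j hi (nm j (by omega)) l (pr j h)]
  obtain ⟨l, h⟩ := main n le_rfl
  refine D.nle ((D.syl.eq_of_isPGroup (isPGroup_of_forall_coprime fun y hy co => aut_ext fun x hx => ?_)).ge.trans
    D.le)
  have m : x⁻¹ * af y x ∈ z n := hc _ fun c hc => by
    have h1 := (nm n le_rfl).conj_mem c hc x
    have := fx n h y hy co _ (l h1) h1
    rw [(au_af y).conj hx (l hc), fx n h y hy co c (l hc) hc] at this
    calc x⁻¹ * af y x * c = x⁻¹ * (af y x * c * (af y x)⁻¹) * af y x := by group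
      _ = _ := by rw [this]; group
  rw [af_fix_of_coprime hE co hx (fx n h y hy co _ (l m) m), map_one]; rfl

/-- the action on the section `M / U` -/
structure Sec {V : Type v} [CommGroup V] (Y : Subgroup (MulAut E)) (U M : Subgroup P) (π : P → V)
    (ρ : Y →* MulAut V) : Prop where
  sur : ∀ w, ∃ m ∈ M, π m = w
  mul : ∀ m ∈ M, ∀ m' ∈ M, π (m * m') = π m * π m'
  eq : ∀ m ∈ M, ∀ m' ∈ M, (π m = π m' ↔ m⁻¹ * m' ∈ U)
  act : ∀ y : Y, ∀ m ∈ M, ρ y (π m) = π (af y.1 m)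

theorem exists_sec {U M : Subgroup P} [U.Normal] (hE : M ≤ E) (hM : ∀ y ∈ Y, Pr (af y) M)
    (hU : ∀ y ∈ Y, Pr (af y) U) (ab : ∀ s ∈ M, ∀ m ∈ M, cm s m ∈ U) :
    ∃ (V : Type v) (_ : CommGroup V) (_ : Finite V) (π : P → V) (ρ : Y →* MulAut V), Sec Y U M π ρ := by
  classical
  letI : CommGroup (M ⧸ U.subgroupOf M) := { (inferInstance : Group (M ⧸ U.subgroupOf M)) with
    mul_comm := fun a b => by
      induction a using QuotientGroup.induction_on with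
      | H a =>
        induction b using QuotientGroup.induction_on with
        | H b => exact QuotientGroup.eq.2 (by simpa [cm, mem_subgroupOf, mul_assoc] using ab _ (inv_mem a.2) _ b.2) }
  let r : Y → M ⧸ U.subgroupOf M →* M ⧸ U.subgroupOf M := fun y => QuotientGroup.map _ _
    (MonoidHom.mk' (fun m => ⟨af y.1 m, hM y y.2 m m.2⟩) fun a b =>
      Subtype.ext ((au_af y.1).mul _ (hE a.2) _ (hE b.2))) fun m hm => hU y y.2 m hm
  have hr : ∀ (y : Y) (m : M), r y m = ((⟨af y.1 m, hM y y.2 m m.2⟩ : M) : M ⧸ U.subgroupOf M) := fun _ _ => rfl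
  have k : ∀ (g g' : Y) w, r g (r g' w) = r (g * g') w := fun g g' w => by
    induction w using QuotientGroup.induction_on with
    | H w => simp [hr]
  have o : ∀ w, r 1 w = w := fun w => by
    induction w using QuotientGroup.induction_on with
    | H w => simp [hr]
  refine ⟨M ⧸ U.subgroupOf M, inferInstance, inferInstance,
    fun x => if h : x ∈ M then ((⟨x, h⟩ : M) : M ⧸ U.subgroupOf M) else 1,
    MonoidHom.mk' (fun g => ⟨⟨r g, r g⁻¹, fun w => by rw [k, inv_mul_cancel, o],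
      fun w => by rw [k, mul_inv_cancel, o]⟩, map_mul (r g)⟩) fun g g' => MulEquiv.ext fun w => (k g g' w).symm,
    fun w => ?_, fun m hm m' hm' => ?_, fun m hm m' hm' => ?_, fun y m hm => ?_⟩
  · induction w using QuotientGroup.induction_on with
    | H w => exact ⟨w, w.2, dif_pos w.2⟩
  · simp only [dif_pos hm, dif_pos hm', dif_pos (mul_mem hm hm')]; rfl
  · simp only [dif_pos hm, dif_pos hm']; exact QuotientGroup.eq
  · simp only [dif_pos hm, dif_pos (hM y y.2 m hm)]; rfl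

namespace Sec
variable {V : Type v} [CommGroup V] {U M : Subgroup P} {π : P → V} {ρ : Y →* MulAut V} (S : Sec Y U M π ρ)
include S

theorem div {m m' : P} (hm : m ∈ M) (hm' : m' ∈ M) : (π m)⁻¹ * π m' = π (m⁻¹ * m') := by
  rw [inv_mul_eq_iff_eq_mul, ← S.mul _ hm _ (mul_mem (inv_mem hm) hm'), mul_inv_cancel_left]

theorem one : π 1 = 1 := by simpa using (S.div (one_mem _) (one_mem _)).symm

theorem pow {m : P} (hm : m ∈ M) (k : ℕ) : π (m ^ k) = π m ^ k := by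
  induction k with
  | zero => simp [S.one]
  | succ k ih => rw [pow_succ, S.mul _ (pow_mem hm k) _ hm, ih, pow_succ]

theorem ker (hM : ∀ y ∈ Y, Pr (af y) M) (y : Y) : ρ y = 1 ↔ y.1 ∈ stb Y U M hM := by
  refine ⟨fun h => ⟨y.2, fun m hm => (S.eq _ hm _ (hM y y.2 m hm)).1 (by rw [← S.act y m hm, h]; rfl)⟩,
    fun h => MulEquiv.ext fun w => ?_⟩
  obtain ⟨m, hm, rfl⟩ := S.sur w
  rw [S.act y m hm]
  exact ((S.eq _ hm _ (hM y y.2 m hm)).2 (h.2 m hm)).symm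

theorem card_le (hU : U ≤ M) {b : ℕ} (g : Fin b → P) {A : Set V}
    (h : ∀ w ∈ A, ∃ m ∈ M, π m = w ∧ ∃ k, (g k)⁻¹ * m ∈ U) : A.ncard ≤ b := by
  refine (Set.ncard_le_ncard (t := (π ∘ g) '' Set.univ) (fun w hw => ?_) (Set.toFinite _)).trans
    ((Set.ncard_image_le (Set.toFinite _)).trans (by simp))
  obtain ⟨m, hm, rfl, k, hk⟩ := h w hw
  exact ⟨k, trivial, (S.eq _ (by simpa using mul_mem hm (inv_mem (hU hk))) _ hm).2 hk⟩

end Sec

theorem core_D (D : Dt p E Y H) (z : ℕ → Subgroup P) (n : ℕ) (h0 : z 0 = ⊥) (mono : ∀ i, z i ≤ z (i + 1))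
    (hz : ∀ i < n, ∀ c ∈ z (i + 1), c ^ p ∈ z i ∧ ∀ s, cm s c ∈ z i)
    (hc : ∀ s, (∀ c ∈ z n, s * c = c * s) → s ∈ z n) :
    ∃ i < n, ∃ M, Bq p z i E M ∧ ∃ (V : Type v) (_ : CommGroup V) (_ : Finite V) (π : P → V)
      (ρ : Y →* MulAut V), Sec Y (z i) M π ρ ∧ (∀ y ∈ Y, Pr (af y) M) ∧ (∀ w : V, w ^ p = 1) ∧
      (∀ y : Y, y.1 ∈ Inn E → ρ y = 1) ∧ (∀ y : Y, y.1 ∈ autInducedBy ⊤ E → ρ y = 1 → y.1 ∈ Inn E) ∧
      ∀ N : Subgroup Y, N.Normal → (∀ y ∈ N, ∃ k : ℕ, ρ y ^ p ^ k = 1) → ∀ y ∈ N, ρ y = 1 := by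
  obtain ⟨i, hi, nU, hE, pr, nt⟩ := exists_level D z n h0 (fun i hi c hc => (hz i hi c hc).2) mono hc
  have pU : ∀ y ∈ Y, Pr (af y) (z i) := fun y hy => pr y hy i le_rfl
  set M := closure {m | ∃ y ∈ Y, ∃ u ∈ z (i + 1), m = af y u}
  have ME : M ≤ E := (closure_le _).2 fun _ ⟨y, _, u, hu, e⟩ => e ▸ af_mem y (hE hu)
  have zM : z (i + 1) ≤ M := fun u hu => subset_closure ⟨1, one_mem _, u, hu, by simp⟩
  have pM : ∀ y ∈ Y, Pr (af y) M := fun y hy => Pr.closure (au_af y) ME fun _ ⟨y', hy', u, hu, e⟩ =>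
    subset_closure ⟨y * y', mul_mem hy hy', u, hu, by rw [e, af_mul_apply]⟩
  have EM : ∀ x ∈ E, ∀ m ∈ M, cm x m ∈ z i := fun x hx m hm => by
    induction hm using closure_induction with
    | mem m hm =>
      obtain ⟨y, hy, u, hu, rfl⟩ := hm
      rw [← af_af_inv y x, ← (au_af y).cm (af_mem _ hx) (hE hu)]
      exact pU y hy _ ((hz i hi u hu).2 _)
    | one => simp [cm]
    | mul a b _ _ ia ib => rw [cm_mul_right]; exact mul_mem (nU.conj_mem' _ ia b) ib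
    | inv a _ ia => rw [cm_inv_right]; exact nU.conj_mem _ (inv_mem ia) a
  obtain ⟨V, _, _, π, ρ, S⟩ := exists_sec ME pM pU fun s hs => EM s (ME hs)
  have pw : ∀ m ∈ M, π m ^ p = 1 := fun m hm => by
    induction hm using closure_induction with
    | mem m hm =>
      obtain ⟨y, hy, u, hu, rfl⟩ := hm
      rw [← S.act ⟨y, hy⟩ u (zM hu), ← map_pow, ← S.pow (zM hu),
        ← (S.eq _ (one_mem _) _ (pow_mem (zM hu) p)).2 (by simpa using (hz i hi u hu).1), S.one, map_one]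
    | one => rw [S.one, one_pow]
    | mul a b ha hb ia ib => rw [S.mul a ha b hb, mul_pow, ia, ib, one_mul]
    | inv a ha ia =>
      have := S.div ha (one_mem _)
      rw [S.one, mul_one, mul_one] at this
      rw [← this, inv_pow, ia, inv_one]
  have pV : ∀ w : V, w ^ p = 1 := fun w => by obtain ⟨m, hm, rfl⟩ := S.sur w; exact pw m hm
  have hV : IsPGroup p V := fun w => ⟨1, by rw [pow_one, pV]⟩
  have nC := stb_nm pM pU ME
  have CH : stb Y (z i) M pM ≤ H := by_contra fun k => nt fun y hy u hu => by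
    have e := D.mn (autInducedBy ⊤ E ⊔ stb Y (z i) M pM) le_sup_left (sup_le D.syl.le fun _ h => h.1)
      fun h => k (le_sup_right.trans h)
    have : autInducedBy ⊤ E ⊔ stb Y (z i) M pM ≤ (sb ρ (π u)).map Y.subtype := sup_le (fun a ha => by
      obtain ⟨s, -, h⟩ := mem_autInducedBy.1 ha
      refine ⟨⟨a, D.syl.le ha⟩, (S.act _ u (zM hu)).trans
        ((S.eq _ (zM hu) _ (pM a (D.syl.le ha) u (zM hu))).2 ?_).symm, rfl⟩
      rw [h u (hE hu)]; exact (hz i hi u hu).2 s) fun a ha =>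
      ⟨⟨a, ha.1⟩, show ρ _ _ = _ by rw [(S.ker pM ⟨a, ha.1⟩).2 ha]; rfl, rfl⟩
    obtain ⟨y', h, rfl⟩ := this (e.symm ▸ hy)
    exact (S.eq _ (zM hu) _ (pM _ hy u (zM hu))).1 (((S.act _ u (zM hu)).symm.trans h).symm)
  have IC : Inn E ≤ stb Y (z i) M pM := fun a ha => ⟨D.syl.le (Inn_le_autInducedBy le_top ha), fun m hm => by
    obtain ⟨s, hs, h⟩ := mem_Inn.1 ha
    rw [h m (ME hm)]; exact EM s hs m hm⟩
  have cen' : ∀ s (hs : s ∈ normalizer (E : Set P)), cAut E s hs ∈ stb Y (z i) M pM → s ∈ E := fun s hs h =>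
    D.mem_E hs (D.inn_of_le nC CH h (cAut_mem hs trivial))
  have cen : ∀ s, s ∈ E ↔ ∀ m ∈ M, cm s m ∈ z i := fun s => ⟨EM s, fun h => by_contra fun k => by
    obtain ⟨t, ht, ht'⟩ := SetLike.exists_of_lt (lt_normalizerIn' (D.hP.to_subgroup ⊤) le_top
      (lt_of_le_of_ne (show E ≤ cmS (z i) M from EM) fun e => k (e ▸ h)))
    exact ht' (cen' t ht.2 ⟨D.cY _, fun m hm => by rw [af_cAut _ (ME hm)]; exact ht.1 m hm⟩)⟩
  have ok : ∀ y ∈ Y, Ok z i E (af y) := fun y hy => ⟨au_af y, pr y hy⟩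
  have cj : ∀ s (hs : s ∈ normalizer (E : Set P)), ∀ m ∈ M,
      (π m)⁻¹ * ρ ⟨_, D.cY hs⟩ (π m) = π (cm s m) ∧ cm s m ∈ M := fun s hs m hm => by
    have := pM _ (D.cY hs) m hm
    rw [S.act _ m hm, S.div hm this, af_cAut _ (ME hm)]
    rw [af_cAut _ (ME hm)] at this
    exact ⟨rfl, mul_mem (inv_mem hm) this⟩
  refine ⟨i, hi, M, ⟨D.ne, zM, ME, cen, fun m hm => ?_, closure_mono fun m ⟨y, hy, u, hu, e⟩ =>
    ⟨subset_closure ⟨y, hy, u, hu, e⟩, _, ok y hy, u, hu, e⟩, fun X hU hX hp s hs k1 k2 => ?_,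
    fun B hB qu s hs hs' a b f g hf inj cov => ?_⟩, V, _, ‹_›, π, ρ, S, pM, pV,
    fun y hy => (S.ker pM y).2 (IC hy), fun y hy e => D.inn_of_le nC CH ((S.ker pM y).1 e) hy,
    fun N hN h y hy => (S.ker pM y).2 (D.le_of_pow nC CH IC (map_subtype_le N) ?_ ?_ ⟨y, hy, rfl⟩)⟩
  · simpa using (S.eq _ (one_mem _) _ (pow_mem hm p)).1 (by rw [S.pow hm, pw m hm, S.one])
  · have pX : ∀ y ∈ Y, Pr (af y) X := fun y hy => hp _ (ok y hy)
    have pMX : ∀ y ∈ Y, Pr (af y) (M ⊓ X) := fun y hy => (pM y hy).inf (pX y hy)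
    refine cen' s hs (D.le_of_pow (N := stb Y X M pM ⊓ stb Y (z i) (M ⊓ X) pMX) nC CH IC (fun _ h => h.1.1)
      (fun y hy n hn => ⟨stb_nm pM pX ME y hy n hn.1, stb_nm pMX pU (inf_le_left.trans ME) y hy n hn.2⟩)
      (fun y hy => ?_) ⟨⟨D.cY hs, fun m hm => ?_⟩, D.cY hs, fun m hm => ?_⟩)
    · refine (quad_p (α := ρ ⟨y, hy.1.1⟩) hV fun w => ?_).imp fun k e =>
        (S.ker pM (⟨y, hy.1.1⟩ ^ p ^ k)).1 (by rwa [map_pow])
      obtain ⟨m, hm, rfl⟩ := S.sur w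
      have h1 := pM y hy.1.1 m hm
      have h2 := mul_mem (inv_mem hm) h1
      rw [S.act _ m hm, S.div hm h1, S.act _ _ h2]
      exact ((S.eq _ h2 _ (pM y hy.1.1 _ h2)).2 (hy.2.2 _ ⟨h2, hy.1.2 m hm⟩)).symm
    · rw [af_cAut _ (ME hm)]; exact k1 m hm
    · rw [af_cAut _ (ME hm.1)]; exact k2 m hm.1 hm.2
  · have ex : ∀ y : Y, y.1 ∈ autInducedBy B E → ∃ x, ∃ hx : x ∈ B, y = ⟨_, D.cY (hB hx)⟩ := fun y hy => by
      obtain ⟨x, hx, h⟩ := mem_autInducedBy.1 hy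
      exact ⟨x, hx, Subtype.ext (aut_ext fun c hc => by rw [h c hc, af_cAut _ hc])⟩
    have := jobQ p Y V (H.subgroupOf Y) ((autInducedBy B E).subgroupOf Y) ρ hV
      (fun e => D.nle (subgroupOf_eq_top.1 e)) (fun y hy => D.le (autInducedBy_mono le_top E hy))
      (fun y hy => CH ((S.ker pM y).1 hy))
      (fun g hg a ha e => (S.ker pM a).2 (IC (D.ti g g.2 hg a (autInducedBy_mono le_top E ha) e)))
      (fun x hx y hy w => by
        obtain ⟨x, hx', rfl⟩ := ex x hx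
        obtain ⟨y, hy', rfl⟩ := ex y hy
        obtain ⟨m, hm, rfl⟩ := S.sur w
        obtain ⟨e, h⟩ := cj y (hB hy') m hm
        obtain ⟨e', h'⟩ := cj x (hB hx') _ h
        rw [e, eq_comm, ← inv_mul_eq_one, e', ← S.one, eq_comm, S.eq _ (one_mem _) _ h']
        simpa using qu x hx' y hy' m hm)
      ⟨_, D.cY (hB hs)⟩ (cAut_mem (hB hs) hs) fun e => hs' (cen' s _ ((S.ker pM _).1 e))
    refine le_trans ?_ (this.trans (S.card_le (mono i |>.trans zM) g ?_))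
    · simpa using Nat.card_le_card_of_injective (fun x : Fin a => (⟨ρ ⟨_, D.cY (hB (hf x))⟩, _,
        cAut_mem (hB (hf x)) (hf x), rfl⟩ : ((autInducedBy B E).subgroupOf Y).map ρ)) fun x y e =>
        inj x y ((cen _).2 fun m hm => by
          have e' : ρ ⟨_, D.cY (hB (hf x))⟩ = ρ ⟨_, D.cY (hB (hf y))⟩ := congrArg Subtype.val e
          have h1 := cj _ (hB (hf x)) m hm
          have h2 := cj _ (hB (hf y)) m hm
          have := (S.eq _ h1.2 _ h2.2).1 (by rw [← h1.1, ← h2.1, e'])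
          rw [cm_mul_left, cm_inv_left]
          simpa [mul_assoc] using nU.conj_mem' _ this (f x))
    · rintro _ ⟨w, rfl⟩
      obtain ⟨m, hm, rfl⟩ := S.sur w
      exact ⟨_, (cj s (hB hs) m hm).2, (cj s (hB hs) m hm).1.symm, cov m hm⟩
  · rintro y hy _ ⟨n, hn, rfl⟩
    exact ⟨_, hN.conj_mem n hn ⟨y, hy⟩, rfl⟩
  · rintro _ ⟨y, hy, rfl⟩
    exact (h y hy).imp fun k e => (S.ker pM (y ^ p ^ k)).1 (by rwa [map_pow])

theorem jobD : JobD.{v} := fun _ p _ P _ _ hP F hF E hE z n h0 mono hz hc => by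
  obtain ⟨Y, H, D⟩ := exists_dt hP hF hE
  obtain ⟨i, hi, M, h, -⟩ := core_D D z n h0 mono hz hc
  exact ⟨i, hi, M, h⟩

end H90.U5
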