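/- U5 tower: the three automizers. -/
import Cfsg.Agent.H90.U5D

set_option autoImplicit false
set_option linter.unusedSectionVars false
set_option linter.unusedSimpArgs false

open Subgroup H92 Cfsg Cfsg.FusionSystem H90.RF

universe v

namespace H90.U5

section Gen
variable {P : Type*} [Group P] [Finite P] {p : ℕ} [Fact p.Prime] {F : FusionSystem (⊤ : Subgroup P)}
  {X : Subgroup P} [hX : X.Normal] {α : Equiv.Perm P}

theorem fn_X (F : FusionSystem (⊤ : Subgroup P)) : F.IsFullyNormalized X :=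
  fullyNormalized_of_normal F le_top fun s _ x hx => hX.conj_mem x hx s

theorem conj_aY (F : FusionSystem (⊤ : Subgroup P)) (s : P) : ∃ y ∈ aY F X, ∀ c ∈ X, y c = s * c * s⁻¹ :=
  exists_aY (mor_conj F le_top (mem_top s)) fun c hc => hX.conj_mem c hc s

theorem res_aY {y : Equiv.Perm P} (hy : y ∈ aY F ⊤) (h : Pr y X) : ∃ α ∈ aY F X, ∀ c ∈ X, α c = y c :=
  exists_aY ((mor_aY hy).mono le_top) h

variable (hP : IsPGroup p P) (hF : F.IsSaturated p)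
include hP hF

theorem inn_of_cg (z : ℕ → Subgroup P) (n : ℕ) (h0 : z 0 = ⊥) (hn : X ≤ z n) (hz : ∀ i ≤ n, z i ≤ X)
    (nm : ∀ i, (z i).Normal) (mono : ∀ i < n, z i ≤ z (i + 1)) (hα : α ∈ aY F X) (h : Cg z n α id) :
    ∃ s, ∀ c ∈ X, α c = s * c * s⁻¹ := by
  obtain ⟨α, hα, rfl⟩ := hα
  let A : Subgroup (MulAut X) :=
    { carrier := {β | β ∈ F.autGroup X ∧ ∀ i ≤ n, Pr (af β) (z i)}
      one_mem' := ⟨one_mem _, fun i _ c hc => by simpa using hc⟩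
      mul_mem' := fun {a b} ha hb => ⟨mul_mem ha.1 hb.1, fun i hi c hc => by
        rw [af_mul_apply]; exact ha.2 i hi _ (hb.2 i hi c hc)⟩
      inv_mem' := fun {a} ha => ⟨inv_mem ha.1, fun i hi c hc => (au_af a).mem_of (hz i hi) (ha.2 i hi)
        (af_mem _ (hz i hi hc)) (by rwa [af_af_inv])⟩ }
  have sy := sylIn_of_fn (hP.to_subgroup ⊤) hF (fn_X (X := X) F)
  have pr : ∀ i ≤ n, Pr (af α) (z i) := fun i hi c hc => by
    rcases i with _ | i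
    · rw [h0] at hc ⊢; rw [mem_bot.1 hc, (au_af α).one]; exact one_mem _
    · simpa using mul_mem hc (mono i hi (h i hi c hc))
  obtain ⟨s, -, e⟩ := mem_autInducedBy.1 ((sy.mono (C := A) (fun a ha => ⟨sy.le ha, fun i hi c hc => by
    obtain ⟨s, -, e⟩ := mem_autInducedBy.1 ha
    rw [e c (hz i hi hc)]; exact (nm i).conj_mem c hc s⟩) fun _ h => h.1).pCoreOf_le
    (mem_pCoreOf_of_chain (hP.to_subgroup X) A z n hn (fun a ha i hi x _ hx => ha.2 i hi x hx)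
      (fun a _ _ x _ hx => by rw [h0] at hx; rw [mem_bot.1 hx, (au_af a).one]) (β := α) ⟨hα, pr⟩
      fun i hi x _ hx => h i hi x hx))
  exact ⟨s, e⟩

theorem ext_of (hα : α ∈ aY F X) (h : ∀ s, ∃ t, ∀ c ∈ X, α (s * c * s⁻¹) = t * α c * t⁻¹) :
    ∃ y ∈ aY F ⊤, ∀ c ∈ X, α c = y c := by
  obtain ⟨α, hα, rfl⟩ := hα
  obtain ⟨g, hg, e⟩ := exists_ext_aut (hP.to_subgroup ⊤) hF (fc_of_fn (hP.to_subgroup ⊤) hF (fn_X F)) hα
  obtain ⟨y, hy, k⟩ := exists_aY (X := ⊤) (hg.mono fun s _ => mem_Nx.2 ⟨⟨trivial, by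
    rw [normalizer_eq_top]; trivial⟩, (h s).imp fun t ht => ⟨trivial, ht⟩⟩) fun _ _ => trivial
  exact ⟨y, hy, fun c hc => by rw [k c trivial, e c hc]⟩

theorem pel_of (hα : α ∈ aY F X) (h : ∀ s, ∃ t, ∀ c ∈ X, α (s * c * s⁻¹) = t * α c * t⁻¹)
    (hp : ∃ k : ℕ, α ^ p ^ k = 1) : ∃ s, ∀ c ∈ X, α c = s * c * s⁻¹ := by
  obtain ⟨α, hα, rfl⟩ := hα
  have sy := sylIn_of_fn (hP.to_subgroup ⊤) hF (fn_X (X := X) F)
  obtain ⟨k, hk⟩ := hp
  have h1 : α ^ p ^ k = 1 := aut_ext fun c _ => by rw [map_pow, hk, map_one]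
  have h2 : IsPGroup p (zpowers α) := by
    rintro ⟨_, j, rfl⟩
    exact ⟨k, Subtype.ext (by
      change (α ^ j) ^ p ^ k = 1
      rw [← zpow_natCast, ← zpow_mul, mul_comm, zpow_mul, zpow_natCast, h1, one_zpow])⟩
  have := sy.2.2 _ le_sup_right (sup_le (zpowers_le.2 hα) sy.le) (h2.to_sup_of_normal_right' sy.isPGroup
    (zpowers_le.2 (mem_normalizer_fintype fun a ha => by
      obtain ⟨s, -, e⟩ := mem_autInducedBy.1 ha
      obtain ⟨t, ht⟩ := h s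
      exact mem_autInducedBy.2 ⟨t, trivial, fun c hc => by
        rw [af_mul_apply, af_mul_apply, e _ (af_mem _ hc), ht _ (af_mem _ hc), af_af_inv]⟩)))
  obtain ⟨s, -, e⟩ := mem_autInducedBy.1 (this ▸ mem_sup_left (mem_zpowers α) : α ∈ autInducedBy ⊤ X)
  exact ⟨s, e⟩

theorem nor_of_cg (z : ℕ → Subgroup P) (n : ℕ) (h0 : z 0 = ⊥) (hn : X ≤ z n) (hz : ∀ i ≤ n, z i ≤ X)
    (nm : ∀ i, (z i).Normal) (mono : ∀ i < n, z i ≤ z (i + 1)) (hα : α ∈ aY F X) (pr : ∀ i ≤ n, Pr α (z i))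
    (s t : P) (h : Cg z n (fun c => α (s * c * s⁻¹)) fun c => t * α c * t⁻¹) :
    ∃ t, ∀ c ∈ X, α (s * c * s⁻¹) = t * α c * t⁻¹ := by
  have a := (lg_aY X).au α hα
  obtain ⟨σ, hσ, e⟩ := conj_aY (X := X) F s
  obtain ⟨τ, hτ, e'⟩ := conj_aY (X := X) F t⁻¹
  have k : ∀ c ∈ X, (τ * α * σ * α⁻¹) (α c) = t⁻¹ * α (s * c * s⁻¹) * t := fun c hc => by
    simp [e c hc, e' _ (a.mem _ (hX.conj_mem c hc s))]
  obtain ⟨r, hr⟩ := inn_of_cg hP hF z n h0 hn hz nm mono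
    (mul_mem (mul_mem (mul_mem hτ hα) hσ) (inv_mem hα)) fun i hi c hc => by
      obtain ⟨d, hd, rfl⟩ := a.sur_of (hz _ hi) (pr _ hi) c hc
      rw [k d (hz _ hi hd)]
      simpa [mul_assoc] using (nm i).conj_mem' _ (h i hi d hd) t
  exact ⟨t * r, fun c hc => by
    have := hr _ (a.mem c hc)
    rw [k c hc] at this
    calc α (s * c * s⁻¹) = t * (t⁻¹ * α (s * c * s⁻¹) * t) * t⁻¹ := by group
      _ = _ := by rw [this]; group⟩

theorem nor_of_cm (z : ℕ → Subgroup P) (n : ℕ) (h0 : z 0 = ⊥) (hn : X ≤ z n) (hz : ∀ i ≤ n, z i ≤ X)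
    (mono : ∀ i, z i ≤ z (i + 1)) (nm : ∀ i, (z i).Normal) (c : ∀ i < n, ∀ u ∈ z (i + 1), ∀ s, cm s u ∈ z i)
    (hα : α ∈ aY F X) (pr : ∀ i ≤ n, Pr α (z i)) (s : P) : ∃ t, ∀ c ∈ X, α (s * c * s⁻¹) = t * α c * t⁻¹ :=
  nor_of_cg hP hF z n h0 hn hz nm (fun i _ => mono i) hα pr s 1 fun i hi d hd => by
    have a := (lg_aY X).au α hα
    have := pr i hi.le _ (c i hi d hd s)
    rw [cm, a.mul _ (inv_mem (hz _ hi hd)) _ (hX.conj_mem _ (hz _ hi hd) s), a.inv (hz _ hi hd)] at this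
    simpa using this

end Gen

variable {K : Type v} [Field K] [Finite K] {T : BF K}

variable (T) in
/-- a series of `Q₁` -/
def y1 : ℕ → Subgroup (Co T)
  | 0 => ⊥ | 1 => sZ T | 2 => sZ2 T | 3 => sB T | _ => sQ1 T

variable (T) in
/-- a series of `Q₂` -/
def y2 : ℕ → Subgroup (Co T)
  | 0 => ⊥ | 1 => sZ T | 2 => sZ2 T | 3 => sV T | 4 => sZ3 T | _ => sQ2 T

instance ny1 (j : ℕ) : (y1 T j).Normal := by unfold y1; split <;> infer_instance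
instance ny2 (j : ℕ) : (y2 T j).Normal := by unfold y2; split <;> infer_instance

theorem y1_mono (i : ℕ) : y1 T i ≤ y1 T (i + 1) := by
  rcases i with _ | _ | _ | _ | i
  exacts [bot_le, Z_le, Z2_le_B, B_le, le_rfl]

theorem y2_mono (i : ℕ) : y2 T i ≤ y2 T (i + 1) := by
  rcases i with _ | _ | _ | _ | _ | i
  exacts [bot_le, Z_le, Z2_le_V, V_le, Z3_le, le_rfl]

theorem y1_le (i : ℕ) : y1 T i ≤ sQ1 T := by
  rcases i with _ | _ | _ | _ | i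
  exacts [bot_le, Z_le.trans Z2_le_Q1, Z2_le_Q1, B_le, le_rfl]

theorem y2_le (i : ℕ) : y2 T i ≤ sQ2 T := by
  rcases i with _ | _ | _ | _ | _ | i
  exacts [bot_le, fun _ h => h.1, fun _ h => h.1, fun _ h => h.1, Z3_le, le_rfl]

theorem y1_cm : ∀ i < 4, ∀ u ∈ y1 T (i + 1), ∀ s, cm s u ∈ y1 T i := by
  intro i hi u hu s
  interval_cases i
  exacts [cm_one s hu, cm_Z s hu, cm_Z2 s ⟨hu.1, hu.2.1⟩, ⟨cm_a s u, cm_b s u, by simp [cm_e, hu.1]⟩]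

theorem y2_cm : ∀ i < 5, ∀ u ∈ y2 T (i + 1), ∀ s, cm s u ∈ y2 T i := by
  intro i hi u hu s
  interval_cases i
  exacts [cm_one s hu, cm_Z s hu, cm_Z2 s (V_le hu), Z2_le_V (cm_Z2 s hu), cm_Z3 s u]

/-- every element of `Z` is a commutator of elements of `B` -/
theorem Z_cm {u : Co T} (hu : u ∈ sZ T) : ∃ t, u = cm (xc T 1) (xc T t) := by
  obtain ⟨t, ht⟩ := T.exists_sub (Z_tr hu)
  exact ⟨t, eq_of_Z hu (cm_Q1 ⟨rfl, rfl⟩ ⟨rfl, rfl⟩) (by rw [ht, cm_g2 rfl rfl]; simp [xc])⟩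

theorem mem_Z_of {u : Co T} (hu : u ∈ sQ1 T) (h : ∀ w ∈ sQ1 T, cm u w = 1) : u ∈ sZ T := by
  have k := fun w hw => (cm_g1 hu hw).symm.trans (congrArg Co.g (h w hw))
  refine ⟨?_, hu.1, ?_, hu.2, ?_⟩
  · exact (T.lin_zero (x := -T.σ u.a) (y := u.a) fun t => by
      have := k (xd T t) ⟨rfl, rfl⟩; simp [xd] at this; linear_combination this).2
  · exact neg_eq_zero.1 (T.lin_zero (x := T.σ u.c) (y := -u.c) fun t => by
      have := k (xc T t) ⟨rfl, rfl⟩; simp [xc] at this; linear_combination this).2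
  · exact (T.lin_zero (x := -T.σ u.d) (y := u.d) fun t => by
      have := k (xa T t) ⟨rfl, rfl⟩; simp [xa] at this; linear_combination this).2

theorem a_of_Z2 {u : Co T} (h : ∀ w ∈ sZ2 T, cm u w = 1) : u.a = 0 :=
  (T.lin_zero (x := -T.σ u.a) (y := u.a) fun t => by
    have := (cm_gZ u (m := xd T t) ⟨rfl, rfl, rfl, rfl⟩).symm.trans (congrArg Co.g (h _ ⟨rfl, rfl, rfl, rfl⟩))
    simp [xd] at this; linear_combination this).2

theorem cm_Q2_Z2 {u w : Co T} (hu : u.a = 0) (hw : w ∈ sZ2 T) : cm u w = 1 := cm_V hu (Z2_le_V hw)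

theorem mem_V_of {u : Co T} (hu : u ∈ sQ2 T) (h : ∀ w ∈ sQ2 T, cm u w = 1) : u ∈ sV T := by
  have hb : u.b = 0 := by simpa [cm_d, xc, (mem_sQ2 T).1 hu] using congrArg Co.d (h (xc T 1) rfl)
  exact ⟨hu, hb, by simpa [cm_d, xb, (mem_sQ2 T).1 hu, hb] using congrArg Co.d (h (xb T 1) rfl)⟩

theorem cm_V' {s m : Co T} (hs : s ∈ sV T) (hm : m ∈ sQ2 T) : cm s m = 1 :=
  cm_eq_one.2 (cm_eq_one.1 (cm_V hm hs)).symm

theorem cm_one' {s : Co T} (hs : s ∈ sZ T) (m : Co T) : cm s m = 1 :=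
  cm_eq_one.2 (cm_eq_one.1 (cm_one m hs)).symm

theorem pr_Z1 {β : Co T → Co T} (a : Au (sQ1 T) β) : Pr β (sZ T) := fun u hu => by
  obtain ⟨t, rfl⟩ := Z_cm hu
  rw [a.cm ⟨rfl, rfl⟩ ⟨rfl, rfl⟩]
  exact cm_Q1 (a.mem _ ⟨rfl, rfl⟩) (a.mem _ ⟨rfl, rfl⟩)

theorem pr_bot {P : Type*} [Group P] {X : Subgroup P} {β : P → P} (a : Au X β) : Pr β ⊥ := fun u hu => by
  rw [mem_bot.1 hu, a.one]; exact one_mem _

theorem pr_y1 {β : Co T → Co T} (a : Au (sQ1 T) β) (h : Pr β (sZ2 T)) (i : ℕ) : Pr β (y1 T i) := by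
  rcases i with _ | _ | _ | _ | i
  · exact pr_bot a
  · exact pr_Z1 a
  · exact h
  · exact fun u hu => ⟨a_of_Z2 (a.cm_mem Z2_le_Q1 h (pr_bot a) (B_le hu) fun w hw => cm_Q2_Z2 hu.1 hw),
      a.mem u (B_le hu)⟩
  · exact a.mem

theorem pr_V {β : Co T → Co T} (a : Au (sQ2 T) β) : Pr β (sV T) := fun u hu =>
  mem_V_of (a.mem u hu.1) (a.cm_mem le_rfl a.mem (pr_bot a) hu.1 fun _ hw => cm_V' hu hw)

theorem cm_cb (c b : K) : cm (xc T c) (xb T b) = xd T (c * T.σ b) := by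
  ext <;> simp [cm_c, cm_e, cm_d, cm_g2, xc, xb, xd]

theorem cm_bb (b b' : K) : cm (xb T b) (xb T b') =
    ⟨0, 0, 0, b * T.σ b' - b' * T.σ b, 0, 0, by simp [T.sq]; ring, by simp⟩ := by
  ext <;> simp [cm_c, cm_e, cm_d, cm_g2, xb]

theorem Z2_eq {u : Co T} (hu : u ∈ sZ2 T) : ∃ z ∈ sZ T, u = cm (xc T u.d) (xb T 1) * z :=
  ⟨(cm (xc T u.d) (xb T 1))⁻¹ * u, by simp [cm_cb, mem_sZ, xd, hu.1, hu.2.1, hu.2.2.1, hu.2.2.2], by simp⟩

theorem V_eq {u : Co T} (hu : u ∈ sV T) : ∃ t, ∃ z ∈ sZ2 T, u = cm (xb T t) (xb T 1) * z := by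
  obtain ⟨t, ht⟩ := T.exists_sub (R_tr hu.2.1)
  exact ⟨t, (cm (xb T t) (xb T 1))⁻¹ * u, by simp [cm_bb, mem_sZ2, hu.1, hu.2.1, hu.2.2, ht, T.sq], by simp⟩

theorem pr_y2 {β : Co T → Co T} (a : Au (sQ2 T) β) (h : Pr β (sZ3 T)) (i : ℕ) : Pr β (y2 T i) := by
  have hZ : Pr β (sZ T) := fun u hu => by
    obtain ⟨t, rfl⟩ := Z_cm hu
    rw [a.cm rfl rfl]
    have h1 := h (xc T 1) ⟨rfl, rfl⟩
    have h2 := h (xc T t) ⟨rfl, rfl⟩
    exact ⟨cm_a _ _, cm_b _ _, by simp [cm_c, h1.1, h2.1], by simp [cm_e, h1.2, h2.2],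
      by simp [cm_d, h1.1, h1.2, h2.1, h2.2]⟩
  rcases i with _ | _ | _ | _ | _ | i
  · exact pr_bot a
  · exact hZ
  · intro u hu
    obtain ⟨z, hz, e⟩ := Z2_eq hu
    rw [e, a.mul _ (cm_a _ _) _ hz.1, a.cm rfl rfl]
    exact mul_mem (cm_Z2' (h _ ⟨rfl, rfl⟩) _) (Z_le (hZ z hz))
  · exact pr_V a
  · exact h
  · exact a.mem

theorem cm_congr_V {u w u' w' : Co T} (hu : u ∈ sQ2 T) (hw : w ∈ sQ2 T) (hu' : u' ∈ sQ2 T) (hw' : w' ∈ sQ2 T)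
    (h1 : u'.c = u.c ∧ u'.b = u.b) (h2 : w'.c = w.c ∧ w'.b = w.b) : cm u' w' = cm u w := by
  rw [mem_sQ2] at *
  ext <;> simp [cm_c, cm_e, cm_d, cm_g2, *]

theorem cm_congr_Z {u w u' w' : Co T} (hu : u ∈ sQ1 T) (hw : w ∈ sQ1 T) (hu' : u' ∈ sQ1 T) (hw' : w' ∈ sQ1 T)
    (h1 : u'.a = u.a ∧ u'.c = u.c ∧ u'.d = u.d) (h2 : w'.a = w.a ∧ w'.c = w.c ∧ w'.d = w.d) :
    cm u' w' = cm u w :=
  eq_of_Z (cm_Q1 hu' hw') (cm_Q1 hu hw) (by simp [cm_g1, *])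

/-- an automorphism of `Q₁` that is trivial modulo `Z` fixes `Z` -/
theorem fix_Z {β : Co T → Co T} (a : Au (sQ1 T) β) (h : ∀ u ∈ sQ1 T, u⁻¹ * β u ∈ sZ T) :
    ∀ u ∈ sZ T, β u = u := fun u hu => by
  obtain ⟨t, rfl⟩ := Z_cm hu
  have k := fun w (hw : w ∈ sQ1 T) => (Q1_mod hw (a.mem w hw)).1 (h w hw)
  rw [a.cm ⟨rfl, rfl⟩ ⟨rfl, rfl⟩]
  exact cm_congr_Z ⟨rfl, rfl⟩ ⟨rfl, rfl⟩ (a.mem _ ⟨rfl, rfl⟩) (a.mem _ ⟨rfl, rfl⟩) (k _ ⟨rfl, rfl⟩) (k _ ⟨rfl, rfl⟩)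

/-- an automorphism of `Q₂` that is trivial modulo `V` fixes `V` -/
theorem fix_V {β : Co T → Co T} (a : Au (sQ2 T) β) (h : ∀ u ∈ sQ2 T, u⁻¹ * β u ∈ sV T) :
    ∀ u ∈ sV T, β u = u := by
  have k : ∀ u ∈ sQ2 T, ∀ w ∈ sQ2 T, β (cm u w) = cm u w := fun u hu w hw => by
    rw [a.cm hu hw]
    exact cm_congr_V hu hw (a.mem u hu) (a.mem w hw) ((Q2_mod hu (a.mem u hu)).1 (h u hu))
      ((Q2_mod hw (a.mem w hw)).1 (h w hw))
  intro u hu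
  obtain ⟨t, z, hz, rfl⟩ := V_eq hu
  obtain ⟨z', hz', e⟩ := Z2_eq hz
  obtain ⟨t', rfl⟩ := Z_cm hz'
  rw [e, a.mul _ (cm_a _ _) _ (e ▸ hz.1), a.mul _ (cm_a _ _) _ (cm_a _ _), k _ rfl _ rfl, k _ rfl _ rfl,
    k _ rfl _ rfl]

theorem jobTri : JobTri.{v} := fun p _ K _ _ _ T aS F hF => by
  have hP := pgroup_Co (T := T) p
  have n1 := fun α hα h => nor_of_cm hP hF (y1 T) 4 rfl le_rfl (fun i _ => y1_le i) y1_mono ny1 y1_cm (α := α) hα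
    fun i _ => pr_y1 ((lg_aY _).au α hα) h i
  have n2 := fun α hα h => nor_of_cm hP hF (y2 T) 5 rfl le_rfl (fun i _ => y2_le i) y2_mono ny2 y2_cm (α := α) hα
    fun i _ => pr_y2 ((lg_aY _).au α hα) h i
  refine ⟨lg_aY _, lg_aY _, lg_aY _, fun s => (conj_aY F s).imp fun _ h => ⟨h.1, fun u => h.2 u trivial⟩,
    fun y hy h => (pel_of hP hF hy (fun s => ⟨y s, fun c _ => ((lg_aY _).au y hy).conj trivial trivial⟩) h).imp
      fun _ h u => h u trivial,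
    fun y hy h => (inn_of_cg hP hF (z0 T) 6 rfl le_rfl (fun _ _ => le_top) nz0 (fun i _ => z0_mono i) hy h).imp
      fun _ h u => h u trivial,
    fun y hy => res_aY hy (aS y ((lg_aY _).au y hy)).2.1, fun α hα h => ext_of hP hF hα (n1 α hα h),
    fun α hα h => pel_of hP hF hα (n1 α hα h), fun α hα h => ?_,
    fun y hy => res_aY hy ((aS y ((lg_aY _).au y hy)).1 5), fun α hα h => ext_of hP hF hα (n2 α hα h),
    fun α hα h => ?_⟩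
  · obtain ⟨s, e⟩ := inn_of_cg hP hF (y1 T) 4 rfl le_rfl (fun i _ => y1_le i) ny1 (fun i _ => y1_mono i) hα
      fun i hi u hu => by
        have := h u (y1_le _ hu)
        interval_cases i
        · rw [fix_Z ((lg_aY _).au α hα) h u hu]; exact inv_mul_cancel u
        exacts [this, Z_le this, Z2_le_B (Z_le this)]
    have := h (xa T 1) ⟨rfl, rfl⟩
    rw [e _ ⟨rfl, rfl⟩] at this
    have hb : s.b = 0 := by simpa [cm_c, xa] using (show (cm s (xa T 1)).c = 0 from this.2.2.1)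
    exact ⟨s, ⟨hb, by simpa [cm_d, xa, hb] using (show (cm s (xa T 1)).d = 0 from this.2.2.2.2)⟩, e⟩
  · obtain ⟨s, e⟩ := inn_of_cg hP hF (y2 T) 5 rfl le_rfl (fun i _ => y2_le i) ny2 (fun i _ => y2_mono i) hα
      fun i hi u hu => by
        have := h u (y2_le _ hu)
        have k := fun hu => show (id u)⁻¹ * α u ∈ y2 T i by
          rw [fix_V ((lg_aY _).au α hα) h u hu]; simp
        interval_cases i
        exacts [k (Z2_le_V (Z_le hu)), k (Z2_le_V hu), k hu, this, V_le this]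
    have := h (xb T 1) rfl
    rw [e _ rfl] at this
    exact ⟨s, by simpa [cm_c, xb, mem_sQ2] using (show (cm s (xb T 1)).c = 0 from this.2.2), e⟩

end H90.U5
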