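/- U5 tower: the standard form of the automizer of `S`. -/
import Cfsg.Agent.H90.U5Tri
import Cfsg.Agent.H1.Glauberman

set_option autoImplicit false
set_option linter.unusedSectionVars false
set_option linter.unusedSimpArgs false

open Subgroup H92 Cfsg H90.RF
open scoped Pointwise

universe v

namespace H90.U5

theorem coprime_of_pow {D : Type*} [Group D] [Finite D] {p : ℕ} [hp : Fact p.Prime] {Γ : Subgroup D}
    (h : ∀ δ ∈ Γ, δ ^ p = 1 → δ = 1) : (Nat.card Γ).Coprime p :=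
  (hp.out.coprime_iff_not_dvd.2 fun k => by
    obtain ⟨x, hx⟩ := exists_prime_orderOf_dvd_card' p k
    have := h x x.2 (congrArg Subtype.val (hx ▸ pow_orderOf_eq_one x))
    rw [show x = 1 from Subtype.ext this, orderOf_one] at hx
    exact hp.out.one_lt.ne hx).symm

theorem hall_abs {G D : Type*} [Group G] [Finite G] [Group D] {p : ℕ} [Fact p.Prime] (f : G →* D) (σ : D →* G)
    (h : ∀ δ, f (σ δ) = δ) (hp : IsPGroup p f.ker) (Y : Subgroup G) (co : (Nat.card (Y.map f)).Coprime p) :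
    ∃ θ ∈ f.ker, ∀ δ ∈ Y.map f, θ * σ δ * θ⁻¹ ∈ Y := by
  set L := (Y.map f).comap f
  set N := f.ker.subgroupOf L
  have pN : IsPGroup p N := hp.comap_subtype
  have mL : ∀ δ ∈ Y.map f, σ δ ∈ L := fun δ hδ => mem_comap.2 (by rwa [h])
  have cK : N.IsComplement' (((Y.map f).map σ).subgroupOf L) :=
    isComplement'_of_disjoint_and_mul_eq_univ (disjoint_def.2 fun {x} hx ⟨δ, _, e⟩ => Subtype.ext (by
      have : f x = 1 := hx
      rw [show (x : G) = σ δ from e.symm] at this ⊢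
      rw [h] at this
      rw [this, map_one]; rfl)) (Set.eq_univ_of_forall fun x =>
      ⟨x * (⟨σ (f x), mL _ x.2⟩ : L)⁻¹, show f _ = 1 by simp [h], ⟨σ (f x), mL _ x.2⟩, ⟨f x, x.2, rfl⟩, by simp⟩)
  have ix : N.index.Coprime p := by
    rw [cK.symm.index_eq_card]
    refine co.coprime_dvd_left ?_
    rw [← card_map_of_injective L.subtype_injective, subgroupOf_map_subtype]
    exact (card_dvd_of_le inf_le_left).trans (card_dvd_of_surjective _
      (σ.subgroupMap_surjective _))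
  obtain ⟨k, hk⟩ := pN.exists_card_eq
  have c1 : (Nat.card N).Coprime N.index := hk ▸ (ix.symm.pow_left k)
  have hY : Y ≤ L := le_comap_map f Y
  obtain ⟨k', hk'⟩ := (pN.comap_subtype (K := Y.subgroupOf L)).exists_card_eq
  obtain ⟨H, cH⟩ := exists_right_complement'_of_coprime (N := N.subgroupOf (Y.subgroupOf L))
    (hk' ▸ ((ix.coprime_dvd_left (relIndex_dvd_index_of_normal N _)).symm.pow_left k'))
  have cH' : N.IsComplement' (H.map (Y.subgroupOf L).subtype) :=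
    isComplement'_of_disjoint_and_mul_eq_univ (disjoint_def.2 fun {x} hx ⟨y, hy, e⟩ => by
      subst e
      rw [disjoint_def.1 cH.disjoint hx hy]; rfl) (Set.eq_univ_of_forall fun x => by
      obtain ⟨y, hy, e⟩ := x.2
      obtain ⟨⟨n, a⟩, e', -⟩ := cH.existsUnique ⟨⟨y, hY hy⟩, hy⟩
      have e2 : (n.1.1.1 : G) * a.1.1.1 = y := congrArg (fun t : Y.subgroupOf L => t.1.1) e'
      have e3 : f n.1.1.1 = 1 := n.2
      exact ⟨x * a.1.1⁻¹, show f _ = 1 by simp [← e, ← e2, e3], a.1.1, ⟨a.1, a.2, rfl⟩, by simp⟩)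
  haveI := pN.isNilpotent
  obtain ⟨g, hg, e⟩ := H1.sz_conj N c1 (Or.inl inferInstance) _ _ cK cH'
  refine ⟨g, hg, fun δ hδ => ?_⟩
  obtain ⟨y, -, e'⟩ : MulAut.conj g • (⟨σ δ, mL δ hδ⟩ : L) ∈ H.map (Y.subgroupOf L).subtype :=
    e ▸ smul_mem_pointwise_smul _ _ _ ⟨δ, hδ, rfl⟩
  have e2 : (y.1 : G) = g * σ δ * (g : G)⁻¹ := congrArg Subtype.val e'
  exact e2 ▸ y.2

theorem hall_gen {P D : Type*} [Group P] [Finite P] [Group D] {p : ℕ} [Fact p.Prime] (hP : IsPGroup p P)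
    (z : ℕ → Subgroup P) (n : ℕ) (h0 : z 0 = ⊥) (hn : z n = ⊤) (σ : D →* MulAut P)
    (a : ∀ θ : MulAut P, (∀ i, Pr θ (z i)) ∧ ∃ δ, Cg z n θ (σ δ)) (u : ∀ δ, Cg z n (σ δ) id → δ = 1)
    (c : ∀ i < n, ∀ u ∈ z (i + 1), ∀ s, cm s u ∈ z i) {Y0 : Subgroup (Equiv.Perm P)} (l : Lg ⊤ Y0)
    (inn : ∀ s, ∃ y ∈ Y0, ∀ u, y u = s * u * s⁻¹)
    (rad : ∀ y ∈ Y0, Cg z n y id → ∃ s, ∀ u, y u = s * u * s⁻¹) :
    ∃ Γ : Subgroup D, (∀ δ, δ ∈ Γ ↔ ∃ y ∈ Y0, Cg z n y (σ δ)) ∧ ((Nat.card Γ).Coprime p →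
      ∃ θ : MulAut P, ∀ y : Equiv.Perm P, y ∈ cjY θ Y0 ↔ ∃ s, ∃ δ ∈ Γ, ∀ u, y u = s * σ δ u * s⁻¹) := by
  choose pr f hf using a
  have cl : ∀ (θ : MulAut P) {β γ : P → P}, Cg z n β γ → Cg z n (fun x => θ (β x)) fun x => θ (γ x) :=
    fun θ β γ h => h.comp_left (au_aut θ) (pr θ) (fun _ _ => le_top) (fun _ _ => trivial) fun _ _ => trivial
  have un : ∀ (θ : MulAut P) δ, Cg z n θ (σ δ) → f θ = δ := fun θ δ h =>
    (inv_mul_eq_one.1 (u _ (by
      simpa [Function.comp_def, Function.id_def] using cl (σ δ)⁻¹ ((hf θ).symm.trans h)))).symm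
  let F : MulAut P →* D := MonoidHom.mk' f fun θ η => un _ _ (by
    simpa [Function.comp_def] using (cl θ (hf η)).trans ((hf θ).comp_right (pr (σ (f η)))))
  have hk : ∀ θ, θ ∈ F.ker ↔ Cg z n θ id := fun θ =>
    ⟨fun h => by simpa [show f θ = 1 from h] using hf θ, fun h => un θ 1 (by simpa using h)⟩
  let Y : Subgroup (MulAut P) := Y0.comap (MulAut.toPerm P)
  have ex : ∀ y ∈ Y0, ∃ θ ∈ Y, θ.toEquiv = y := fun y hy =>
    have e : MulAut.toPerm P (l.au y hy).toTop = y := Equiv.ext fun _ => rfl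
    ⟨(l.au y hy).toTop, mem_comap.2 (e.symm ▸ hy), e⟩
  have ci : ∀ s, MulAut.conj s ∈ Y := fun s => by
    obtain ⟨y, hy, e⟩ := inn s
    exact show _ ∈ Y0 from (Equiv.ext e : y = MulAut.toPerm P (MulAut.conj s)) ▸ hy
  refine ⟨Y.map F, fun δ => ⟨fun ⟨θ, hθ, e⟩ => ⟨_, hθ, e ▸ hf θ⟩, fun ⟨y, hy, h⟩ => ?_⟩, fun co => ?_⟩
  · obtain ⟨θ, hθ, rfl⟩ := ex y hy
    exact ⟨θ, hθ, un θ δ h⟩
  obtain ⟨θ, hθ, h⟩ := hall_abs F σ (fun δ => un _ _ (Cg.refl _ _ _)) (isPGroup_of_forall_coprime fun α hα co => by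
    have e : ∀ x, af (MulAut.congr topEquiv.symm α) x = α x := fun x => af_of_mem _ (mem_top x)
    exact MulEquiv.ext fun x => (e x).symm.trans (fix_of_chain (hP.to_subgroup ⊤)
      (by rwa [MulEquiv.orderOf_eq]) z n (fun x _ hx => by rw [h0] at hx; rw [mem_bot.1 hx, e, map_one])
      (fun i hi x _ hx => by rw [e]; exact (hk α).1 hα i hi x hx) x trivial (hn ▸ trivial))) Y co
  refine ⟨θ, fun y => mem_cjY.trans ⟨fun ⟨α, hα, e⟩ => ?_, fun ⟨s, δ, hδ, e⟩ =>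
    ⟨_, mem_comap.1 (mul_mem (ci (θ s)) (h δ hδ)), fun x => by
      change θ s * θ (σ δ (θ.symm (θ x))) * (θ s)⁻¹ = _
      simp [e]⟩⟩⟩
  obtain ⟨η, hη, rfl⟩ := ex α hα
  have m := h _ ⟨η, hη, rfl⟩
  obtain ⟨s, hs⟩ := rad _ (mem_comap.1 (mul_mem hη (inv_mem m))) ((hk (η * (θ * σ (F η) * θ⁻¹)⁻¹)).1 (by
    simp [MonoidHom.mem_ker, MonoidHom.mem_ker.1 hθ, show F (σ (F η)) = F η from un _ _ (Cg.refl _ _ _)]))
  refine ⟨θ.symm s, _, ⟨η, hη, rfl⟩, fun x => θ.injective ?_⟩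
  have := hs (θ (σ (F η) x))
  simp only [map_mul θ, map_inv θ, MulEquiv.apply_symm_apply, ← e, ← this]
  change η (θ x) = (η * (θ * σ (F η) * θ⁻¹)⁻¹) _
  simp

theorem jobHall : JobHall.{v} := fun p hp K _ _ _ T aS Y0 Y1 Y2 t => by
  haveI : Finite (RingAut K) := Finite.of_injective (fun φ : RingAut K => (φ : K → K)) DFunLike.coe_injective
  haveI : Finite (DD K) := Finite.of_equiv _ SemidirectProduct.equivProd.symm
  have u : ∀ δ, Cg (z0 T) 6 (sdH T δ) id → δ = 1 := fun δ h => by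
    obtain ⟨h1, h2, -⟩ := Cg_sd (θ := id) h.symm
    exact (eq_inl (x := 1) one_ne_zero (fun t => by simpa [xa] using (h1 (xa T t)).symm)
      (by simpa [xa] using (h1 (xa T 1)).symm) (by simpa [xb] using (h2 (xb T 1) rfl).symm)).trans (map_one _)
  obtain ⟨Γ, hΓ, h⟩ := hall_gen (pgroup_Co p) (z0 T) 6 rfl rfl (sdH T)
    (fun θ => ⟨(aS θ (au_aut θ)).1, (aS θ (au_aut θ)).2.2⟩) u z0_cm t.l0 t.inn t.rad0
  have co : (Nat.card Γ).Coprime p := coprime_of_pow fun δ hδ e => by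
    obtain ⟨y, hy, k⟩ := (hΓ δ).1 hδ
    have pw : ∀ j : ℕ, Cg (z0 T) 6 (y ^ j : Equiv.Perm _) (sdH T (δ ^ j)) := fun j => by
      induction j with
      | zero => simpa using Cg.refl _ _ _
      | succ j ih =>
        have a := t.l0.au y hy
        simpa [pow_succ', Function.comp_def] using (ih.comp_left a (aS y a).1 (fun _ _ => le_top) (fun _ _ => trivial)
          fun _ _ => trivial).trans (k.comp_right (pr_sd_z0 (δ ^ j)))
    obtain ⟨j, m, hm, hj⟩ := Nat.exists_eq_pow_mul_and_not_dvd (orderOf_pos y).ne' p hp.out.ne_one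
    obtain ⟨s, hs⟩ := t.pel0 _ (pow_mem hy m) ⟨j, by rw [← pow_mul, mul_comm, ← hj, pow_orderOf_eq_one]⟩
    have := u _ ((pw m).symm.trans fun i hi c hc => by rw [hs]; exact z0_cm i hi c hc s)
    exact orderOf_eq_one_iff.1 (Nat.eq_one_of_dvd_coprimes (hp.out.coprime_iff_not_dvd.2 hm)
      (orderOf_dvd_of_pow_eq_one e) (orderOf_dvd_of_pow_eq_one this))
  obtain ⟨θ, hθ⟩ := h co
  exact ⟨θ, Γ, co, hθ, fun δ hδ => (hΓ δ).2 hδ⟩

end H90.U5
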