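import Cfsg.Agent.H90.D8K
import Cfsg.Agent.H73.D8Red
import Cfsg.Agent.H9.RtE
import Cfsg.Agent.H71.He
import Cfsg.Agent.H77.Simple
import Cfsg.Agent.S0243
import Cfsg.Agent.S0245
import Cfsg.Agent.S0280

/-! D8: orders of the target groups and identification of the component. -/

set_option autoImplicit false
set_option linter.unusedSectionVars false

namespace H90.D8

open Subgroup Cfsg H98 H1.Gold H85.FZ H49.D8

universe u

section
variable {X : Type*} [Group X]

theorem card_sp44 (h : Sp44 X) : Nat.card X ∣ 979200 := by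
  obtain ⟨F, _, _, c, ⟨e⟩⟩ := h
  rw [Nat.card_congr e.toEquiv]
  refine (card_quotient_dvd_card _).trans ?_
  rw [Cfsg.Agent.S0245.result c 2]
  decide

theorem card_l52 (h : L52 X) : Nat.card X = 9999360 := by
  obtain ⟨F, _, _, c, ⟨e⟩⟩ := h
  have := Cfsg.Agent.S0243.result c 5 (by norm_num)
  rw [Nat.card_congr e.toEquiv]
  simpa [Fin.prod_univ_five] using this

theorem card_u52 (h : U52 X) : Nat.card X = 13685760 := by
  obtain ⟨F, _, _, c, ⟨e⟩⟩ := h
  have := Cfsg.Agent.S0280.result (q := 2) c 5 (by norm_num)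
  rw [Nat.card_congr e.toEquiv]
  have e : 2 ^ (5 * (5 - 1) / 2) * ∏ i ∈ Finset.range 5,
    (if Even i then 2 ^ (i + 1) + 1 else 2 ^ (i + 1) - 1) = 3 * 13685760 := by decide
  rw [e, show Nat.gcd 5 (2 + 1) = 1 by decide] at this
  omega

theorem card_he (h : Spor.IsoHe X) : Nat.card X = 4030387200 :=
  (Nat.card_congr h.some.toEquiv).trans H71.He.card

theorem card_hs (h : Spor.IsoHS X) : Nat.card X = 44352000 :=
  (Nat.card_congr h.some.toEquiv).trans H77.card_HS

end

variable {G : Type u} [Group G] [Finite G] {X A K : Subgroup G} {t : G}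

/-- `G / X` embeds in `Out X`. -/
theorem index_dvd_out [X.Normal] (hc : cen X = ⊥) {Y : Type*} [Group Y] (e : X ≃* Y) :
    X.index ∣ Nat.card (Cfsg.Out Y) := by
  let φ : G →* MulAut Y := (MulAut.congr e).toMonoidHom.comp MulAut.conjNormal
  have inj : Function.Injective φ := (MulAut.congr e).injective.comp <|
    (injective_iff_map_eq_one _).2 fun g hg => hc.le (x := g) fun x hx => by
      have := congrArg Subtype.val (DFunLike.congr_fun hg ⟨x, hx⟩)
      exact (mul_inv_eq_iff_eq_mul.1 this).symm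
  have k : ∀ x : X, φ x = MulAut.conj (e x) := fun x => by
    ext y
    obtain ⟨y, rfl⟩ := e.surjective y
    have : MulAut.conjNormal (x : G) y = x * y * x⁻¹ := Subtype.ext rfl
    simp [φ, MulAut.congr, this]
  have : ((QuotientGroup.mk' (Inn Y)).comp φ).ker = X := by
    ext g
    rw [MonoidHom.mem_ker, MonoidHom.comp_apply, QuotientGroup.mk'_apply, QuotientGroup.eq_one_iff]
    constructor
    · rintro ⟨y, hy⟩
      obtain ⟨x, rfl⟩ := e.surjective y
      exact inj ((k x).trans hy) ▸ x.2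
    · exact fun hg => ⟨_, (k ⟨g, hg⟩).symm⟩
  rw [← this, index_ker]
  exact card_subgroup_dvd_card _

theorem card_AS (h : AS X t) (o : orderOf t = 2) : Nat.card G ∣ 2 * Nat.card X := by
  have := h.normal
  have := H12.card_sup_mul_card_inf (A := zpowers t) (B := X) le_normalizer_of_normal
  rw [sup_comm, h.sup, card_top, Nat.card_zpowers, o] at this
  exact ⟨_, this.symm⟩

theorem seven_dvd (h : TyQ A K 7) : 7 ∣ Nat.card A := by
  obtain ⟨f, s, -⟩ := h
  refine Dvd.dvd.trans ?_ (card_dvd_of_surjective f s)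
  rw [nat_card_alternatingGroup]
  simp [Nat.factorial]

/-- The type of the component in each of the target groups. -/
theorem ident (h0 : JobI0.{u}) (hL : JobIL.{u}) (hH : JobIH) (hE : JobIHe.{u}) (hX : AS X t)
    (c : Ct t A K) (b : Big t A K) (o : H49.D8.Out X t) : SectionalPRankLE 2 4 X ∨
      (t ∈ X ∧ Spor.IsoHS X ∧ TyQ A K 6) ∨ (t ∉ X ∧ (Sp44 X ∨ L52 X ∨ U52 X) ∧ TyQ A K 6) ∨
      (t ∉ X ∧ Spor.IsoHe X ∧ TyQ A K 7 ∧ A ⊓ K ≠ ⊥) := by
  have d := card_AS hX c.o
  have i := h0 G t A K c b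
  have d7 : TyQ A K 7 → 7 ∣ 2 * Nat.card X := fun r =>
    (seven_dvd r).trans (A.card_subgroup_dvd_card.trans d)
  rcases o with o | ⟨n, o | o | o | o⟩ | ⟨m, o⟩
  · exact Or.inl o
  · have k := Nat.mul_dvd_mul_left 2 (card_sp44 o)
    exact Or.inr (Or.inr (Or.inl ⟨n, Or.inl o, (i (d.trans (k.trans (by decide)))).resolve_right
      fun r => absurd ((d7 r).trans k) (by decide)⟩))
  · exact Or.inr (Or.inr (Or.inl ⟨n, Or.inr (Or.inl o),
      (i (d.trans (by rw [card_l52 o]; decide))).resolve_right fun r =>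
        hL G X t hX c.o n o ((seven_dvd r).trans (card_dvd_of_le c.AN))⟩))
  · exact Or.inr (Or.inr (Or.inl ⟨n, Or.inr (Or.inr o),
      (i (d.trans (by rw [card_u52 o]; decide))).resolve_right fun r =>
        absurd (d7 r) (by rw [card_u52 o]; decide)⟩))
  · have k := hE G X t A K hX c b n o
    have r := (i (d.trans (by rw [card_he o]; decide))).resolve_left k.1
    exact Or.inr (Or.inr (Or.inr ⟨n, o, r, k.2 r⟩))
  · refine Or.inr (Or.inl ⟨m, o, (i (d.trans (by rw [card_hs o]; decide))).resolve_right fun r => ?_⟩)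
    have : Fact (Nat.Prime 7) := ⟨by norm_num⟩
    obtain ⟨x, hx⟩ := exists_prime_orderOf_dvd_card' 7 (seven_dvd r)
    have top : X = ⊤ := by rw [← hX.sup, sup_eq_left.2 (zpowers_le.2 m)]
    have cm : Commute (x : G) t := mem_centralizer_singleton_iff.1 (c.AN x.2)
    refine hH.1 (o.some ⟨x * t, top ▸ mem_top _⟩) ?_
    rw [MulEquiv.orderOf_eq, ← orderOf_coe, Subgroup.coe_mk,
      cm.orderOf_mul_eq_mul_orderOf_of_coprime (by rw [orderOf_coe, hx, c.o]; decide),
      orderOf_coe, hx, c.o]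

/-- The Sylow `2`-subgroups of `C(t)` have order at most `64`. -/
theorem not_128 (hF : JobLF.{u}) (c : Ct t A K) : ¬ 128 ∣ Nat.card (cen1 t) := by
  intro r
  obtain ⟨T, hT⟩ := exists_isSyl 2 (cen1 t)
  obtain ⟨v, s, z, f⟩ := hF G _ A K c.toSc T hT
  have h : H73.D8R.Fd t A K T v s z := ⟨c, f⟩
  have c0 : 128 ≤ Nat.card T := by
    rw [hT.card_eq]
    exact Nat.pow_le_pow_right (n := 2) (i := 7) (by norm_num)
      ((Nat.prime_two.pow_dvd_iff_le_factorization Nat.card_pos.ne').1 r)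
  have c1 : Nat.card (cl [z, t]) ≤ 4 := by
    rw [← SetLike.coe_sort_coe, Nat.card_coe_set_eq]
    refine (Set.ncard_le_ncard (t := {1, z, t, t * z}) fun x hx => h.mem_zt hx).trans ?_
    exact (Set.ncard_insert_le _ _).trans (Nat.succ_le_succ ((Set.ncard_insert_le _ _).trans
      (Nat.succ_le_succ ((Set.ncard_insert_le _ _).trans (by simp)))))
  have c2 := H9.RtE.two_cover (H := T ⊓ cen (cl [v, s])) (K := cl [z, t]) fun x hx y hy a b =>
    h.of_in (mul_mem (inv_mem hx) hy).1 (((f.idx _ (inv_mem hx) y hy).resolve_left fun r =>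
      a (inv_mem_iff.1 (h.of_in (inv_mem hx).1 r))).resolve_left fun r => b (h.of_in hy.1 r))
  have c3 := H9.RtE.two_cover (H := T) (K := T ⊓ H73.D8R.PP v s) fun x hx y hy a b =>
    mem_inf.2 ⟨mul_mem (inv_mem hx) hy, H73.D8R.mulP f.toDH (h.nD (inv_mem hx)) (h.nD hy)
      (fun r => a (mem_inf.2 ⟨hx, inv_mem_iff.1 r⟩)) fun r => b ⟨hy, r⟩⟩
  have c4 : Nat.card ↥(T ⊓ H73.D8R.PP v s) ≤ Nat.card ↥((T ⊓ cen (cl [v, s])) ⊔ cl [v, s]) :=
    card_le_of_le fun x hx => by
      obtain ⟨d, a, c, b, rfl⟩ := h.dec hx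
      exact mul_mem (mem_sup_right a) (mem_sup_left b)
  have c5 := H12.card_sup_mul_card_inf (A := T ⊓ cen (cl [v, s])) (B := cl [v, s])
    (inf_le_right.trans (centralizer_le_normalizer _))
  have c6 : 2 ≤ Nat.card ↥((T ⊓ cen (cl [v, s])) ⊓ cl [v, s]) := by
    have := card_le_of_le (zpowers_le.2 (mem_inf.2 ⟨mem_inf.2 ⟨h.zT, f.toDH.z_cen⟩, f.toDH.z_mem⟩))
    rwa [Nat.card_zpowers, H14.orderOf_two_of_mul_self f.zz f.z1] at this
  rw [f.toDH.card] at c5
  nlinarith

end H90.D8
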