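import Cfsg.Agent.H49.D8Spec

/-! Lifting the frame modulo `K` (job D8-Lift). -/

set_option autoImplicit false
set_option linter.unusedSectionVars false

namespace H90.D8

open Subgroup Cfsg H98 H1.Gold H85.FZ H49.D8

universe u

theorem map_cl {G M : Type*} [Group G] [Group M] (f : G →* M) (l : List G) :
    (cl l).map f = cl (l.map f) := by
  unfold cl
  rw [MonoidHom.map_closure]
  congr 1
  ext y
  simp

theorem ty_iso {X Y : Type*} [Group X] [Group Y] (h : Ty X) (e : Y ≃* X) : Ty Y := by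
  rcases h with ⟨F, a, b, c, ⟨d⟩⟩ | ⟨⟨d⟩⟩
  · exact Or.inl ⟨F, a, b, c, ⟨e.trans d⟩⟩
  · exact Or.inr ⟨e.trans d⟩

theorem z_mem {G : Type*} [Group G] {v s z : G} (h : DH v s z) : z ∈ cl [v, s] := by
  have e : z = v⁻¹ * (s⁻¹ * (v * s)) := by rw [h.vs]; group
  have a : v ∈ cl [v, s] := mem_cl (by simp)
  have b : s ∈ cl [v, s] := mem_cl (by simp)
  rw [e]
  exact mul_mem (inv_mem a) (mul_mem (inv_mem b) (mul_mem a b))

section
variable {G M : Type*} [Group G] [Finite G] [Group M] {A K T : Subgroup G} [hA : A.Normal]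
  [hK : K.Normal] {π : G →* M} (ker : ∀ x, π x = 1 ↔ x ∈ K) (odd : Odd (Nat.card ↥(A ⊓ K)))
  (hT : IsSyl 2 T ⊤)
include ker odd hT

theorem eq_of {x y : G} (hx : x ∈ T) (hy : y ∈ T) (h : x⁻¹ * y ∈ A) (e : π x = π y) : x = y := by
  have h1 : x⁻¹ * y ∈ A ⊓ K := ⟨h, (ker _).1 (by simp [e])⟩
  obtain ⟨k, hk⟩ := isPGroup_iff_forall.1 hT.isPGroup _ (mul_mem (inv_mem hx) hy)
  have h2 := orderOf_dvd_of_pow_eq_one hk
  have h3 := Subgroup.orderOf_dvd_natCard _ h1
  have := Nat.eq_one_of_dvd_coprimes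
    (Nat.Coprime.pow_left k ((Nat.coprime_two_left).2 odd)) h2 h3
  exact inv_mul_eq_one.1 (orderOf_eq_one_iff.1 this)

theorem eq_of' {x y : G} (hx : x ∈ T ⊓ A) (hy : y ∈ T ⊓ A) (e : π x = π y) : x = y :=
  eq_of ker odd hT hx.1 hy.1 (mul_mem (inv_mem hx.2) hy.2) e

theorem lift_tri {v z w : G} (hv : v ∈ T ⊓ A) (hz : z ∈ T ⊓ A) (hw : w ∈ T) {σ' : M}
    (h1 : σ' ∈ A.map π) (h2 : Tri σ' (π z) (π v)) (h3 : σ' * π w = π w * σ') :
    ∃ σ ∈ A, Tri σ z v ∧ σ * w = w * σ := by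
  obtain ⟨σ, a, rfl⟩ := h1
  have hE : cl [v, z, w] ≤ T := cl_le.2 (by
    simp only [List.mem_cons, List.not_mem_nil, or_false]
    rintro _ (rfl | rfl | rfl)
    exacts [hv.1, hz.1, hw])
  have k : ∀ x ∈ T, ∀ y : G, x⁻¹ * y ∈ A → π x = π y → y ∈ T ⊔ (A ⊓ K) := fun x b y c d => by
    have := mul_mem (mem_sup_left (T := A ⊓ K) b)
      (mem_sup_right (S := T) (show x⁻¹ * y ∈ A ⊓ K from ⟨c, (ker _).1 (by simp [d])⟩))
    simpa using this
  have cw : ∀ τ ∈ A, w⁻¹ * (τ * w * τ⁻¹) ∈ A := fun τ b => by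
    have := mul_mem (hA.conj_mem' τ b w) (inv_mem b)
    simpa only [mul_assoc] using this
  have l : cj σ (cl [v, z, w]) ≤ T ⊔ (A ⊓ K) := by
    rw [cj_le_iff, cl_le]
    intro y hy
    rw [mem_cj, inv_inv]
    simp only [List.mem_cons, List.not_mem_nil, or_false] at hy
    rcases hy with rfl | rfl | rfl
    · exact k _ (mul_mem hv.1 hz.1) _ (mul_mem (inv_mem (mul_mem hv.2 hz.2))
        (mul_mem (mul_mem a hv.2) (inv_mem a))) (by simpa using h2.2.symm)
    · exact k _ hv.1 _ (mul_mem (inv_mem hv.2) (mul_mem (mul_mem a hz.2) (inv_mem a)))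
        (by simpa using h2.1.symm)
    · exact k _ hw _ (cw σ a) (by simp [h3])
  obtain ⟨g, g1, g2⟩ := (hT.of_le le_sup_left le_top).exists_cj_le
    (isPGroup_cj σ (hT.isPGroup.to_le hE)) l
  obtain ⟨t, t1, o, o1, rfl⟩ := (mem_sup_left_norm le_normalizer_of_normal).1 g1
  have m : ∀ y ∈ cl [v, z, w], o * σ * y * (o * σ)⁻¹ ∈ T := fun y hy => by
    have := mul_mem (mul_mem (inv_mem t1) (g2 (conj_mem_cj (conj_mem_cj hy)))) t1
    convert this using 1
    group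
  have b : o * σ ∈ A := mul_mem o1.1 a
  have e : π (o * σ) = π σ := by simp [(ker o).2 o1.2]
  refine ⟨o * σ, b, ⟨?_, ?_⟩, ?_⟩
  · exact eq_of' ker odd hT ⟨m z (mem_cl (by simp)), hA.conj_mem z hz.2 _⟩ hv
      (by rw [map_mul, map_mul, map_inv, e]; exact h2.1)
  · exact eq_of' ker odd hT ⟨m v (mem_cl (by simp)), hA.conj_mem v hv.2 _⟩
      (mul_mem hv hz) (by rw [map_mul, map_mul, map_inv, e, map_mul]; exact h2.2)
  · have := eq_of ker odd hT hw (m w (mem_cl (by simp))) (cw _ b)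
      (by rw [map_mul, map_mul, map_inv, e, h3]; simp)
    exact mul_inv_eq_iff_eq_mul.1 this.symm

theorem lift_fr {v' s' z' : M} (h : Fr ⊤ (A.map π) ⊥ (T.map π) v' s' z') :
    ∃ v s z, Fr ⊤ A K T v s z := by
  have e0 : T.map π ⊓ A.map π = (T ⊓ A).map π :=
    ((hT.inf_of_le_normalizer le_top le_normalizer_of_normal).map π).eq_of_le
      (h.syl.isPGroup.to_le inf_le_left) (map_inf_le _ _ _) inf_le_right
  have e1 : (T ⊓ A).map π = cl [v', s'] := e0 ▸ h.D
  obtain ⟨v, hv, rfl⟩ : v' ∈ (T ⊓ A).map π := e1 ▸ mem_cl (by simp)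
  obtain ⟨s, hs, rfl⟩ : s' ∈ (T ⊓ A).map π := e1 ▸ mem_cl (by simp)
  obtain ⟨z, hz, rfl⟩ : z' ∈ (T ⊓ A).map π := e1 ▸ z_mem h.toDH
  have q := @eq_of' G M _ _ _ A K T _ _ π ker odd hT
  have hD : cl [v, s] ≤ T ⊓ A := cl_le.2 (by
    simp only [List.mem_cons, List.not_mem_nil, or_false]
    rintro _ (rfl | rfl) <;> assumption)
  have hV : cl [v, z] ≤ T ⊓ A := cl_le.2 (by
    simp only [List.mem_cons, List.not_mem_nil, or_false]
    rintro _ (rfl | rfl) <;> assumption)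
  have hc : ∀ c ∈ T ⊓ cen (cl [v, s]), π c ∈ T.map π ⊓ cen (cl [π v, π s]) := fun c a =>
    ⟨mem_map_of_mem π a.1, by
      have := map_le_centralizer_map π (H := cen (cl [v, s])) le_rfl (mem_map_of_mem π a.2)
      rwa [map_cl] at this⟩
  have hi : ∀ c, In ⊥ (π z) (π c) ↔ In K z c := fun c => by
    simp only [In, mem_bot, ← map_mul, ker]
  refine ⟨v, s, z, ⟨⟨q (mul_mem hv hv) (one_mem _) (by simpa using h.vv),
    q (mul_mem hs hs) (one_mem _) (by simpa using h.ss),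
    q (mul_mem hz hz) (one_mem _) (by simpa using h.zz), fun r => h.z1 (by simp [r]),
    q (mul_mem hv hs) (mul_mem hs (mul_mem hv hz)) (by simpa using h.vs),
    q (mul_mem hv hz) (mul_mem hz hv) (by simpa using h.vz),
    q (mul_mem hs hz) (mul_mem hz hs) (by simpa using h.sz)⟩, hT, le_antisymm (fun x hx => ?_) hD,
    ?_, ?_, fun c a c' a' => ?_, fun c a n => ?_, fun x a n c b n' => ?_⟩⟩
  · have : π x ∈ (cl [v, s]).map π := by
      rw [map_cl]; exact e1 ▸ mem_map_of_mem π hx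
    obtain ⟨y, a, e⟩ := this
    exact q (hD a) hx e ▸ a
  · obtain ⟨σ, a, b⟩ := h.triA
    obtain ⟨σ, c, d, -⟩ := lift_tri ker odd hT hv hz (one_mem _) a b (by simp)
    exact ⟨σ, c, d⟩
  · obtain ⟨σ, a, b⟩ := h.triB
    obtain ⟨σ, c, d, -⟩ := lift_tri ker odd hT hs hz (one_mem _) a b (by simp)
    exact ⟨σ, c, d⟩
  · have := h.idx _ (hc c a) _ (hc c' a')
    rwa [← map_mul, hi, hi, hi] at this
  · obtain ⟨k1, w', k2, ⟨σ, k3, k4, k5⟩, ρ, k6, k7, k8⟩ := h.out _ (hc c a) fun r => n ((hi c).1 r)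
    obtain ⟨w, w1, rfl⟩ : ∃ w, (w = c ∨ w = c * z) ∧ π w = w' := by
      rcases k2 with rfl | rfl
      · exact ⟨c, Or.inl rfl, rfl⟩
      · exact ⟨c * z, Or.inr rfl, map_mul _ _ _⟩
    have w2 : w ∈ T := by
      rcases w1 with rfl | rfl
      · exact a.1
      · exact mul_mem a.1 hz.1
    exact ⟨(ker _).1 (by simpa using k1), w, w1, lift_tri ker odd hT hv hz w2 k3 k4 k5,
      lift_tri ker odd hT hs hz (mul_mem w2 hz.1) k6 k7 (by simpa using k8)⟩
  · have := h.mv _ (mem_map_of_mem π a) (fun r => n (by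
      have : π (x * v * x⁻¹) ∈ (cl [v, z]).map π := by
        rw [map_cl]; simpa using r
      obtain ⟨y, c, e⟩ := this
      exact q (hV c) ⟨T.mul_mem (T.mul_mem a hv.1) (T.inv_mem a), hA.conj_mem v hv.2 x⟩ e ▸ c))
      _ (hc c b) fun r => n' ((hi c).1 r)
    exact (ker _).1 (by simpa using this)

end

theorem fr_up {G : Type*} [Group G] {N A K T : Subgroup G} (hA : A ≤ N) (hT : IsSyl 2 T N)
    {v s z : N} (h : Fr ⊤ (A.subgroupOf N) (K.subgroupOf N) (T.subgroupOf N) v s z) :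
    Fr N A K T (v : G) s z := by
  have hc : ∀ c (a : c ∈ T ⊓ cen (cl [(v : G), s])),
      (⟨c, hT.le a.1⟩ : N) ∈ T.subgroupOf N ⊓ cen (cl [v, s]) := fun c a =>
    ⟨a.1, fun y hy => Subtype.ext (a.2 (y : G) (by
      have := mem_map_of_mem N.subtype hy
      rwa [map_cl] at this))⟩
  have tr : ∀ {σ x y : N}, Tri σ x y → Tri (σ : G) x y := fun r =>
    ⟨congrArg Subtype.val r.1, congrArg Subtype.val r.2⟩
  refine ⟨⟨congrArg Subtype.val h.vv, congrArg Subtype.val h.ss, congrArg Subtype.val h.zz,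
    fun r => h.z1 (Subtype.ext r), congrArg Subtype.val h.vs, congrArg Subtype.val h.vz,
    congrArg Subtype.val h.sz⟩, hT, ?_, ?_, ?_, fun c a c' a' => h.idx _ (hc c a) _ (hc c' a'),
    fun c a n => ?_, fun x a n c b n' => h.mv ⟨x, hT.le a⟩ a (fun r => n (by
      have := mem_map_of_mem N.subtype r
      rwa [map_cl] at this)) _ (hc c b) n'⟩
  · have := congrArg (Subgroup.map N.subtype) h.D
    rwa [map_cl, map_inf _ _ _ N.subtype_injective, map_subgroupOf_eq_of_le hT.le,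
      map_subgroupOf_eq_of_le hA] at this
  · obtain ⟨σ, a, b⟩ := h.triA
    exact ⟨σ, a, tr b⟩
  · obtain ⟨σ, a, b⟩ := h.triB
    exact ⟨σ, a, tr b⟩
  · obtain ⟨k1, w, k2, ⟨σ, k3, k4, k5⟩, ρ, k6, k7, k8⟩ := h.out _ (hc c a) n
    exact ⟨k1, w, k2.imp (congrArg Subtype.val) (congrArg Subtype.val),
      ⟨σ, k3, tr k4, congrArg Subtype.val k5⟩, ρ, k6, tr k7, congrArg Subtype.val k8⟩

theorem jobLift : JobLift.{u} := by
  intro hK hF G _ _ N A K h T hT
  haveI nA : (A.subgroupOf N).Normal := normal_subgroupOf_of_le_normalizer h.nA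
  haveI nK : (K.subgroupOf N).Normal := normal_subgroupOf_of_le_normalizer h.nK
  let π := QuotientGroup.mk' (K.subgroupOf N)
  have sj : Function.Surjective π := QuotientGroup.mk'_surjective _
  have ker : ∀ x, π x = 1 ↔ x ∈ K.subgroupOf N := fun x => QuotientGroup.eq_one_iff x
  have odd : Odd (Nat.card ↥(A.subgroupOf N ⊓ K.subgroupOf N)) := by
    have : A.subgroupOf N ⊓ K.subgroupOf N = (A ⊓ K).subgroupOf N := rfl
    rw [this, Nat.card_congr (subgroupOfEquivOfLe (inf_le_left.trans h.AN)).toEquiv]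
    exact h.odd
  obtain ⟨X, _, f, ty, fs, fk⟩ := h.ty
  let f1 : A.subgroupOf N →* X := f.comp (subgroupOfEquivOfLe h.AN).toMonoidHom
  have s1 : Function.Surjective f1 := fs.comp (subgroupOfEquivOfLe h.AN).surjective
  let f2 := π.subgroupMap (A.subgroupOf N)
  have s2 : Function.Surjective f2 := π.subgroupMap_surjective _
  have e : f2.ker = f1.ker := by
    ext a
    rw [MonoidHom.mem_ker, MonoidHom.mem_ker, ← Subtype.val_inj]
    exact (ker _).trans (fk (subgroupOfEquivOfLe h.AN a)).symm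
  have kx := hK _ (ty_iso ty ((QuotientGroup.quotientKerEquivOfSurjective f2 s2).symm.trans
    ((QuotientGroup.quotientMulEquivOfEq e).trans
      (QuotientGroup.quotientKerEquivOfSurjective f1 s1))))
  have hc : cen ((A.subgroupOf N).map π) = ⊥ := by
    rw [eq_bot_iff]
    intro x hx
    obtain ⟨x, rfl⟩ := sj x
    refine (ker x).2 (h.cen x x.2 fun a ha => ?_)
    have := hx _ (mem_map_of_mem π (show (⟨a, h.AN ha⟩ : N) ∈ A.subgroupOf N from ha))
    refine (ker (x * ⟨a, h.AN ha⟩ * x⁻¹ * (⟨a, h.AN ha⟩ : N)⁻¹)).1 ?_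
    rw [map_mul, map_mul, map_mul, ← this]
    simp
  have t1 := hT.subgroupOf_top
  have t2 : IsSyl 2 ((T.subgroupOf N).map π) ⊤ := by
    have := t1.map π
    rwa [map_top_of_surjective π sj] at this
  obtain ⟨v', s', z', fr⟩ := hF _ _ (nA.map π sj) hc kx _ t2
  obtain ⟨v, s, z, fr⟩ := lift_fr ker odd t1 fr
  exact ⟨v, s, z, fr_up h.AN hT fr⟩

end H90.D8
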