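import Cfsg.Agent.H90.D8Fr
import Cfsg.Agent.H88.ASBase

/-! A conjugate of the centralizer meets the standard subgroup in an involution (job D8-R4A). -/

set_option autoImplicit false
set_option linter.unusedSectionVars false

namespace H90.D8

open Subgroup Cfsg H98 H14 H1.Gold H85.FZ H49.D8 H88.AS H48.ASG

universe u

variable {G : Type u} [Group G] [Finite G] {A W : Subgroup G} {g x : G} (w : Wd A)
include w

theorem nK : nor A = nor (cen A) := w.std.2.2.2

theorem no_K (hg : g ∉ nor A) (h1 : W ≤ cj g (cen A)) (h2 : IsPGroup 2 W) (hx : x ∈ W)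
    (k : x ∈ cen A) : x = 1 := by
  have : W ⊓ cen A = ⊥ := by
    by_contra e
    obtain ⟨y, hy, oy⟩ := H88.exists_involution_of_isPGroup (h2.to_le inf_le_left) e
    exact hg (nK w ▸ te_mem_normalizer w.std.2.1 oy hy.2 (h1 hy.1))
  exact mem_bot.1 (this ▸ mem_inf.2 ⟨hx, k⟩)

theorem four_le {R : Subgroup G} (h : IsSyl 2 R (cen A)) : 4 ≤ Nat.card R := by
  rw [h.card_eq]
  exact Nat.pow_le_pow_right (n := 2) (i := 2) (by norm_num)
    ((Nat.prime_two.pow_dvd_iff_le_factorization Nat.card_pos.ne').1 w.four)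

theorem exists_even' : ∃ g ∉ nor A, Even (Nat.card ↥(cj g (cen A) ⊓ nor A)) := by
  by_contra h
  push Not at h
  rw [nK w] at h
  have := w.simple
  have nb : cen A ≠ ⊥ := fun e => by
    have := w.four
    rw [e, card_bot] at this
    omega
  rcases Cfsg.Agent.S1911.result _ w.std.2.1 (fun g hg => Nat.not_even_iff_odd.1 (h g hg))
    with k | k
  · rcases k.eq_bot_or_eq_top with e | e
    · exact nb e
    · exact quasi_sub_commutator_ne_bot w.std.1
        (commutator_eq_bot_iff_le_centralizer.2 (le_top.trans e.ge))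
  have hL : normalClosure (cen A : Set G) = ⊤ :=
    (normalClosure_normal.eq_bot_or_eq_top).resolve_left fun e =>
      nb (le_bot_iff.1 (e ▸ le_normalClosure))
  obtain ⟨T, hT⟩ := exists_isSyl 2 (nor A)
  obtain ⟨v, s, z, f⟩ := w.fr T hT
  have m : ∀ y : G, y ∈ normalClosure (cen A : Set G) := fun y => hL ▸ mem_top y
  have hs : Group.IsSolvable _ := H99.se_isSolvable H82.hub k
    ⟨⟨v, m v⟩, ⟨z, m z⟩, fun e => nc f.toDH (by rw [show v = 1 from congrArg Subtype.val e]; simp),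
      fun e => f.z1 (congrArg Subtype.val e),
      fun e => nc f.toDH (by rw [show v = z from congrArg Subtype.val e, f.sz]),
      Subtype.ext f.vv, Subtype.ext f.zz, Subtype.ext f.vz⟩
  refine quasi_not_le_solvable w.std.1 (H := ((nor (cen A)).subgroupOf
    (normalClosure (cen A : Set G))).map (normalClosure (cen A : Set G)).subtype)
    (Group.isSolvable_of_surjective (MonoidHom.subgroupMap_surjective _ _)) fun x hx =>
      ⟨⟨x, m x⟩, (nK w).le (le_normalizer hx), rfl⟩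

variable (nk : ∀ x ∈ A, ¬ KI (cen A) x)
include nk

theorem a1 (hg : g ∉ nor A) (h1 : W ≤ cj g (cen A) ⊓ nor A) (h2 : IsPGroup 2 W) :
    Nat.card W ≤ 2 := by
  by_contra h4
  push Not at h4
  obtain ⟨T, hT, WT⟩ := exists_isSyl_le h2 (h1.trans inf_le_right)
  obtain ⟨v, s, z, f⟩ := w.fr T hT
  have ne : W ⊓ Nr T v s ≠ ⊥ := fun e => by
    have := Fintype.ofFinite W
    obtain ⟨⟨x, hx⟩, ⟨a, ha⟩, ⟨b, hb⟩, xa, xb, ab⟩ := Fintype.two_lt_card_iff.1
      (show 2 < Fintype.card W by rwa [← Nat.card_eq_fintype_card])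
    have ha' := mul_mem (inv_mem ha) hx
    have hb' := mul_mem (inv_mem hx) hb
    have k : ∀ y ∈ W, y ∈ Nr T v s → y = 1 := fun y a b => mem_bot.1 (e ▸ mem_inf.2 ⟨a, b⟩)
    rcases nr_or_sw f (WT ha') with r | r
    · exact xa (Subtype.ext (inv_mul_eq_one.1 (k _ ha' r)).symm)
    rcases nr_or_sw f (WT hb') with r' | r'
    · exact xb (Subtype.ext (inv_mul_eq_one.1 (k _ hb' r')))
    have := k _ (mul_mem ha' hb') (r.mul f (WT ha') (WT hb') r')
    exact ab (Subtype.ext (inv_mul_eq_one.1 (by simpa [mul_assoc] using this)))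
  obtain ⟨y, hy, oy⟩ := H88.exists_involution_of_isPGroup (h2.to_le inf_le_left) ne
  obtain ⟨a, ha, hc⟩ := n1 f w.odd hy.2 (mul_self_of_two oy)
  have aN : a ∈ nor A := le_normalizer ha
  have hg' : a * g ∉ nor A := fun r => hg ((mul_mem_cancel_left aN).1 r)
  have te := te_cj w.std.2.1 (a * g)
  have DL : cl [v, s] ≤ nor (cj (a * g) (cen A)) := fun d hd =>
    te_centralizer_le te (y := a * y * a⁻¹) (by rw [orderOf_conj', oy])
      (by rw [← cj_cj]; exact conj_mem_cj (h1 hy.1).1) (mc1.2 (hc.2 d hd))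
  have DN : cl [v, s] ≤ nor A := (DA f).trans le_normalizer
  set L := cj (a * g) (cen A) ⊓ nor A with hL
  have nL : L ⊔ cl [v, s] ≤ nor L :=
    sup_le le_normalizer (le_normalizer_inf DL (le_normalizer_of_le DN))
  obtain ⟨S, hS, DS⟩ := exists_isSyl_le (f.syl.isPGroup.to_le (DT f))
    (le_sup_right : cl [v, s] ≤ L ⊔ cl [v, s])
  have h5 := hS.inf_of_le_normalizer le_sup_left (hS.le.trans nL)
  have c5 : Nat.card (cj a W) ≤ Nat.card ↥(S ⊓ L) := h5.card_le (isPGroup_cj a h2) (le_inf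
    (by rw [← cj_cj]; exact cj_mono a (h1.trans inf_le_left))
    (cj_le_of_le_of_mem (h1.trans inf_le_right) aN))
  rw [card_cj] at c5
  obtain ⟨T2, hT2, ST⟩ := exists_isSyl_le hS.isPGroup (hS.le.trans (sup_le inf_le_right DN))
  obtain ⟨v2, s2, z2, f2⟩ := w.fr T2 hT2
  have eD : cl [v2, s2] = cl [v, s] := by
    rw [← f2.D]
    exact (f.D ▸ hT.inf_of_le_normalizer le_normalizer hT.le : IsSyl 2 (cl [v, s]) A).eq_of_le
      (hT2.isPGroup.to_le inf_le_left) (le_inf (DS.trans ST) (DA f)) inf_le_right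
  have WA : S ⊓ L ⊓ A = ⊥ := by
    by_contra e
    obtain ⟨y, hy, oy⟩ := H88.exists_involution_of_isPGroup (h5.isPGroup.to_le inf_le_left) e
    exact nk y hy.2 ⟨oy, _, hy.1.2.1⟩
  have := four f2 te (W := S ⊓ L) (le_inf (inf_le_left.trans ST) fun y hy d hd => by
      rw [eD] at hd
      have : d * y * d⁻¹ * y⁻¹ ∈ S ⊓ L ⊓ A := ⟨Subgroup.mul_mem _ (conj_mem_of_mem_normalizer
        (le_normalizer_inf (DS.trans le_normalizer) (le_sup_right.trans nL) hd) hy)
        (Subgroup.inv_mem _ hy), by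
          rw [show d * y * d⁻¹ * y⁻¹ = d * (y * d⁻¹ * y⁻¹) by group]
          exact A.mul_mem (DA f hd) (conj_mem_of_mem_normalizer hy.2.2 (A.inv_mem (DA f hd)))⟩
      rwa [WA, mem_bot, mul_inv_eq_one, mul_inv_eq_iff_eq_mul] at this)
    (inf_le_right.trans inf_le_left)
    (fun y hy => no_K w hg' (inf_le_right.trans inf_le_left) h5.isPGroup hy) (by omega)
  obtain ⟨σ, -, t⟩ := f2.triA
  exact nk _ (DA f2 (mul_mem (v_mem f2.toDH) (z_mem f2.toDH))) ⟨by
    rw [← t.2, orderOf_conj', ← t.1, orderOf_conj', orderOf_two_of_mul_self f2.zz f2.z1], _, this⟩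

theorem a2 (hg : g ∉ nor A) (h1 : x ∈ cj g (cen A)) (ox : orderOf x = 2) : x ∉ cen A ⊔ A := by
  intro h
  obtain ⟨k, hk, a, ha, rfl⟩ := (mem_sup_right_norm (le_normalizer.trans (nK w).le)).1 h
  have c : Commute k a := (hk a ha).symm
  have e1 : k * k * (a * a) = 1 := by
    rw [← pow_two, ← pow_two, ← c.mul_pow, pow_two, mul_self_of_two ox]
  have ho : Odd (orderOf (k * k)) := H99.Wr.odd_of_mem w.odd (mem_inf.2 ⟨by
    rw [eq_inv_of_mul_eq_one_left e1]; exact A.inv_mem (A.mul_mem ha ha), mul_mem hk hk⟩)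
  have e2 : k ^ orderOf (k * k) * a ^ orderOf (k * k) = k * a := by
    obtain ⟨j, hj⟩ := ho
    rw [← c.mul_pow, hj, pow_succ, pow_mul, pow_two, mul_self_of_two ox, one_pow, one_mul]
  have e3 : k ^ orderOf (k * k) * k ^ orderOf (k * k) = 1 := by
    rw [← (Commute.refl k).mul_pow, pow_orderOf_eq_one]
  have hk' := pow_mem hk (orderOf (k * k))
  have ha' := pow_mem ha (orderOf (k * k))
  rw [← e2] at h1 ox
  generalize k ^ orderOf (k * k) = k' at *
  generalize a ^ orderOf (k * k) = a' at *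
  by_cases k1 : k' = 1
  · rw [k1, one_mul] at h1 ox
    exact nk _ ha' ⟨ox, _, h1⟩
  have ok := orderOf_two_of_mul_self e3 k1
  obtain ⟨R, hR, kR⟩ := exists_isSyl_le (H99.Wr.el_zpowers e3).two (zpowers_le.2 hk')
  have c4 := four_le w hR
  have lt := lt_inf_normalizer hR.isPGroup (lt_of_le_of_ne kR fun e => by
    rw [← e, Nat.card_zpowers, ok] at c4; omega)
  obtain ⟨T0, t1, t2, t3⟩ := symm' w.std.2.1 (a := g) (b := 1) (T := R ⊓ nor (zpowers k'))
    (fun e => hg (by rw [nK w, ← cj_eq_self_iff, ← e, cj_one]))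
    (le_inf (by rw [cj_one]; exact inf_le_left.trans hR.le) fun r hr =>
      te_centralizer_le (te_cj w.std.2.1 g) ox h1 (mc1.2 (by
        have := ((mem_zpowers_two ok).1
          (conj_mem_of_mem_normalizer hr.2 (mem_zpowers k'))).resolve_left (by simpa using k1)
        rw [← mul_assoc, mul_inv_eq_iff_eq_mul.1 this, mul_assoc, ← hR.le hr.1 a' ha', mul_assoc])))
    (hR.isPGroup.to_le inf_le_left)
  rw [cj_one, ← nK w] at t1
  have := a1 w nk hg t1 t2
  exact lt.ne (eq_of_le_of_card_ge lt.le (by rw [Nat.card_zpowers, ok]; exact t3.trans this))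

theorem a4 : False := by
  obtain ⟨g, hg, he⟩ := exists_even' w
  obtain ⟨T, hT⟩ := exists_isSyl 2 (cj g (cen A) ⊓ nor A)
  have h1 : T ≠ ⊥ := fun e => hT.eq_bot_iff.1 e (even_iff_two_dvd.1 he)
  obtain ⟨s, hs, os⟩ := H88.exists_involution_of_isPGroup hT.isPGroup h1
  have sK := (hT.le hs).1
  have sN := (hT.le hs).2
  have c2 := a1 w nk hg hT.le hT.isPGroup
  obtain ⟨R, T0, h⟩ := exists_ts0 w.std.2.1 (nK w ▸ hg) (nK w ▸ hT) h1
  have ss := mul_self_of_two os
  have uq : ∀ y ∈ cj g (cen A), y ∈ nor A → orderOf y = 2 → s * y = y * s → y = s :=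
    fun y h1 h2 ow c => by
      by_contra e
      obtain ⟨e1, e2⟩ := ea_four os ow c (Ne.symm e)
      have := hT.card_le (H99.Wr.El.two fun a ha => by rw [← pow_two]; exact e1.2 a ha)
        ((closure_le _).2 (by
          rintro _ (rfl | rfl)
          exacts [hT.le hs, ⟨h1, h2⟩]))
      omega
  have c0 : Nat.card T0 ≤ 2 := h.card ▸ c2
  obtain ⟨t, ht, ot⟩ := H88.exists_involution_of_isPGroup h.two (fun e => h1 (by
    have := h.card
    rw [e, card_bot] at this
    exact card_eq_one.1 this.symm))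
  have e0 : zpowers t = T0 := eq_of_le_of_card_ge (zpowers_le.2 ht)
    (by rw [Nat.card_zpowers, ot]; exact c0)
  have tK : t ∈ cen A := (h.sub ht).1
  have tt := mul_self_of_two ot
  have hne : ¬ R ≤ T0 := fun e => by
    have := card_le_of_le e
    have := four_le w h.syl
    omega
  have cR : ∀ r ∈ R, r * s = s * r → r ∈ T0 := fun r hr e => by
    have h0 := h.syl0 w.std.2.1 (nK w ▸ hg) (nK w ▸ hT)
    have : R ⊓ cen1 s = T0 := h0.eq_of_le (h.syl.isPGroup.to_le inf_le_left)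
      (le_inf h.le fun t ht => mc1.2 (h.c s hs t ht).symm)
      (inf_le_inf h.syl.le (te_centralizer_le (te_cj w.std.2.1 g) os sK))
    exact this ▸ ⟨hr, mc1.2 e⟩
  have T0n : T ≤ nor T0 := fun a ha => centralizer_le_normalizer _
    fun c hc => (h.c a ha c hc).symm
  have inK : ∀ e ∈ T0 ⊔ T, e ∈ cen A → e ∈ T0 := fun e he hk => by
    obtain ⟨a, ha, c, hc, rfl⟩ := (mem_sup_right_norm T0n).1 he
    have : c ∈ T ⊓ cen A := ⟨hc, by
      simpa using Subgroup.mul_mem _ (Subgroup.inv_mem _ (h.sub ha).1) hk⟩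
    rw [h.dis, mem_bot] at this
    rwa [this, mul_one]
  obtain ⟨r, hr, er⟩ : ∃ r ∈ R, r * s * r⁻¹ = t * s := by
    have lt := lt_inf_normalizer (h.syl.isPGroup.to_sup_of_normal_left' hT.isPGroup h.nR)
      (show T0 ⊔ T < R ⊔ T from lt_of_le_of_ne (sup_le_sup_right h.le _) fun e =>
        hne fun r hr => inK r (e ▸ mem_sup_left hr) (h.syl.le hr))
    obtain ⟨y, hw, hw'⟩ := SetLike.exists_of_lt lt
    obtain ⟨r, hr, c, hc, rfl⟩ := (mem_sup_right_norm h.nR).1 hw.1
    have rn : r ∈ nor (T0 ⊔ T) := by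
      simpa using Subgroup.mul_mem _ hw.2
        (Subgroup.inv_mem _ (le_normalizer (mem_sup_right hc : c ∈ T0 ⊔ T)))
    have := inK _ (mul_mem (conj_mem_of_mem_normalizer rn (mem_sup_right hs))
      (inv_mem (mem_sup_right hs))) (by
        rw [show r * s * r⁻¹ * s⁻¹ = r * (s * r⁻¹ * s⁻¹) by group]
        exact h.syl.le (mul_mem hr (conj_mem_of_mem_normalizer (h.nR hs) (inv_mem hr))))
    rcases (mem_zpowers_two ot).1 (e0 ▸ this) with e | e
    · rw [mul_inv_eq_one, mul_inv_eq_iff_eq_mul] at e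
      exact absurd (mul_mem (mem_sup_left (cR r hr e)) (mem_sup_right hc)) hw'
    · exact ⟨r, hr, by rw [← e]; group⟩
  obtain ⟨T1, hT1, sT⟩ := exists_isSyl_le (H99.Wr.el_zpowers ss).two (zpowers_le.2 sN)
  obtain ⟨v1, s1, z1, f1⟩ := w.fr T1 hT1
  obtain ⟨a, ha, v, vA, ov, eu⟩ := f2 f1 w.odd (sT (mem_zpowers s)) ss (a2 w nk hg sK os)
  have ou : orderOf (v * s) = 2 := by rw [← eu, orderOf_conj', os]
  have vs : s * v = v * s := by
    rw [← inv_eq_of_two ou, mul_inv_rev, inv_eq_of_two os, inv_eq_of_two ov]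
  have tv : v * t = t * v := tK v vA
  have st : s * t = t * s := h.c s hs t ht
  have eu' : r * a * s * (r * a)⁻¹ = t * v * s := by
    calc _ = r * (a * s * a⁻¹) * r⁻¹ := by group
      _ = r * v * r⁻¹ * (r * s * r⁻¹) := by rw [eu]; group
      _ = _ := by rw [er, ← h.syl.le hr v vA, mul_inv_cancel_right, ← mul_assoc, tv]
  have nN : ∀ y : G, s * y = y * s → g⁻¹ * y * g ∈ nor A := fun y e => by
    rw [nK w, ← mem_cj, cj_normalizer]
    exact te_centralizer_le (te_cj w.std.2.1 g) os sK (mc1.2 e.symm)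
  have og : ∀ y : G, orderOf (g⁻¹ * y * g) = orderOf y := fun y => by
    rw [← orderOf_conj' g⁻¹ y, inv_inv]
  have out : ∀ c y : G, y ∈ cj c (cen A) → y ∉ cj g (cen A) → orderOf y = 2 →
      g⁻¹ * y * g ∉ cen A ⊔ A := fun c y h1 h2 ow =>
    a2 w nk (g := g⁻¹ * c) (fun e => h2 (by
      rw [nK w] at e
      rwa [← cj_eq_self e, cj_cj, mul_inv_cancel_left]))
      (by rw [← cj_cj, mem_cj]; simpa [mul_assoc] using h1) (by rw [og, ow])
  have outs : ∀ c ∈ nor A, ∀ y : G, y ≠ 1 → s * y = y * s → c * s * c⁻¹ = y * s →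
      g⁻¹ * (y * s) * g ∉ cen A ⊔ A := fun c hcN y y1 ys e => by
    have o : orderOf (y * s) = 2 := by rw [← e, orderOf_conj', os]
    refine out (c * g) _ (by rw [← cj_cj, ← e]; exact conj_mem_cj sK) (fun hm => y1 ?_) o
    simpa using uq _ hm (e ▸ mul_mem (mul_mem hcN sN) (inv_mem hcN)) o (by rw [← mul_assoc, ys])
  have pp := mul_self_of_two ((og t).trans ot)
  have qq := mul_self_of_two ((og _).trans ou)
  have pq : g⁻¹ * t * g * (g⁻¹ * (v * s) * g) = g⁻¹ * (v * s) * g * (g⁻¹ * t * g) := by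
    calc _ = g⁻¹ * (t * v * s) * g := by group
      _ = g⁻¹ * (v * (s * t)) * g := by rw [← tv, st, mul_assoc v]
      _ = _ := by group
  have pN := nN t st
  have qN := nN (v * s) (by rw [← mul_assoc, vs])
  obtain ⟨T2, hT2, pT⟩ := exists_isSyl_le ((H99.Wr.el_zpowers pp).two.to_sup_of_normal_left'
    (H99.Wr.el_zpowers qq).two (zpowers_le.2 (centralizer_le_normalizer _ (by
      rw [zpowers_eq_closure, centralizer_closure, mem_centralizer_singleton_iff]
      exact pq.symm)))) (sup_le (zpowers_le.2 pN) (zpowers_le.2 qN))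
  obtain ⟨v2, s2, z2, f'⟩ := w.fr T2 hT2
  have aN : a ∈ nor A := le_normalizer ha
  rcases f3 f' w.odd (pT (mem_sup_left (mem_zpowers _))) (pT (mem_sup_right (mem_zpowers _)))
    pp qq pq with k | k | k
  · exact out 1 t (by rwa [cj_one]) (fun e => ne_one_of_two ot (no_K w hg (zpowers_le.2 e)
      (H99.Wr.el_zpowers tt).two (mem_zpowers t) tK)) ot k
  · exact outs _ aN v (ne_one_of_two ov) vs eu k
  · refine outs _ (mul_mem (centralizer_le_normalizer _ (h.syl.le hr)) aN) (t * v) (fun e => ?_)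
      (by rw [← mul_assoc, st, mul_assoc, vs, mul_assoc]) eu' (by convert k using 1; group)
    exact nk t (by rw [eq_inv_of_mul_eq_one_left e]; exact A.inv_mem vA) ⟨ot, 1, by rwa [cj_one]⟩

omit w nk in
theorem jobR4A : JobR4A.{u} := fun _ _ _ _ w => by
  by_contra h
  push Not at h
  exact a4 w h

end H90.D8
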