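/- HR, job LK: the linear space of case S (blueprints/HR.md). -/
import Cfsg.Agent.H82.HRKit
import Cfsg.Agent.H11.SL2Act
import Cfsg.Agent.H2.CoreFree

set_option autoImplicit false
set_option linter.unusedSectionVars false

namespace H90.HR

open MulAction Cfsg Subgroup H89.K H98 H82.HR

universe u v

theorem ncard_part {α β : Type*} [Finite α] [Finite β] (s : Set α) (t : Set β) (r : α → β → Prop)
    {n : ℕ} (hm : ∀ a ∈ s, ∃! b, b ∈ t ∧ r a b) (hn : ∀ b ∈ t, {a | a ∈ s ∧ r a b}.ncard = n) :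
    s.ncard = t.ncard * n := by
  classical
  rw [Set.ncard_eq_toFinset_card s, Set.ncard_eq_toFinset_card t, ← mul_one (Finset.card _)]
  refine Finset.card_mul_eq_card_mul r (fun a ha => ?_) fun b hb => ?_
  · obtain ⟨b, hb, e⟩ := hm a (by simpa using ha)
    refine Finset.card_eq_one.2 ⟨b, Finset.ext fun c => ?_⟩
    simp only [Finset.mem_bipartiteAbove, Set.Finite.mem_toFinset, Finset.mem_singleton]
    exact ⟨e c, fun k => k ▸ hb⟩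
  · rw [← hn b (by simpa using hb), Set.ncard_eq_toFinset_card]
    congr 1
    ext a
    simp

variable {G : Type u} {Ω : Type v} [Group G] [MulAction G Ω] {N : Ω → Subgroup G} {q : ℕ}
  {a b c d e : Ω} {g x y z : G} {U U' : Subgroup G}

theorem smul_mem_Fx : g • c ∈ Fx Ω (cj g U) ↔ c ∈ Fx Ω U :=
  ⟨fun h x hx => conj_smul_eq.1 (h _ (conj_mem_cj hx)), by
    rintro h _ ⟨x, hx, rfl⟩
    exact conj_smul_eq.2 (h x hx)⟩

theorem Fx_cj (g : G) (U : Subgroup G) : Fx Ω (cj g U) = (fun c => g • c) '' Fx Ω U := by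
  ext c
  constructor
  · intro h
    exact ⟨g⁻¹ • c, smul_mem_Fx.1 (by rwa [smul_inv_smul]), smul_inv_smul g c⟩
  · rintro ⟨c, h, rfl⟩
    exact smul_mem_Fx.2 h

theorem stab_Fx (hg : g ∈ nor U) (hc : c ∈ Fx Ω U) : g • c ∈ Fx Ω U := by
  rw [← cj_eq_self hg]
  exact smul_mem_Fx.2 hc

variable [Finite G]

theorem exists_cen (hU : IsPGroup 2 U) (h1 : U ≠ ⊥) (hy : IsPGroup 2 (zpowers y)) (hn : y ∈ nor U) :
    ∃ x ∈ U, x ≠ 1 ∧ y * x = x * y := by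
  haveI : Fact (Nat.Prime 2) := Nat.fact_prime_two
  have k := H2.card_modEq_card_inf_centralizer hy (zpowers_le.2 hn)
  by_contra! e
  have : U ⊓ centralizer (zpowers y : Set G) = ⊥ := eq_bot_iff.2 fun x hx => by_contra fun x1 =>
    e x hx.1 x1 (mem_centralizer_iff.1 hx.2 y (mem_zpowers y))
  rw [this, card_bot] at k
  rcases hU.card_eq_or_dvd with h | h
  · exact h1 (card_eq_one.1 h)
  · unfold Nat.ModEq at k
    omega

variable (H : Hy N q)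
include H

theorem Ln.cj (h : Ln N U) (g : G) : Ln N (cj g U) :=
  let ⟨c, hc⟩ := h
  ⟨g • c, H.equi g c ▸ hc.cj g⟩

theorem fx_of_syl (h : IsSyl 2 U (N c)) : c ∈ Fx Ω U := fun _ hx => H.le c (h.le hx)

theorem ex_ne (h : IsSyl 2 U (N c)) : ∃ x ∈ U, x ≠ 1 := by
  obtain ⟨V, b⟩ := H.frame h
  obtain ⟨y, hy, -, -, y1, -⟩ := b.two
  exact ⟨y, ZZ_le hy, y1⟩

theorem eq_of_syl (h : IsSyl 2 U (N c)) (h' : IsSyl 2 U' (N c)) (hx : x ∈ U) (x1 : x ≠ 1)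
    (hn : x ∈ nor U') : U' = U :=
  let ⟨_, b⟩ := H.frame h
  b.eq_of_mem h' hx x1 hn

theorem le_nor_of (h : IsSyl 2 U (N c)) (hd : d ∈ Fx Ω U) (hcd : c ≠ d) :
    N c ⊓ stabilizer G d ≤ nor U :=
  let ⟨_, b⟩ := H.frame h
  b.le_nor inf_le_left (le_inf h.le hd) fun e => H.not_le hcd (inf_eq_left.1 e)

variable (L : LN N)
include L

theorem key (h : IsSyl 2 U (N a)) (hx : x ∈ U) (x1 : x ≠ 1) (he : x • e = e) : IsSyl 2 U (N e) := by
  by_cases hae : a = e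
  · exact hae ▸ h
  obtain ⟨U₁, h1, h2⟩ := L a e hae
  rwa [eq_of_syl H h h1 hx x1 (le_nor_of H h1 (fx_of_syl H h2) hae ⟨h.le hx, he⟩)] at h2

theorem syl (h : Ln N U) (c : Ω) : IsSyl 2 U (N c) ↔ c ∈ Fx Ω U := by
  obtain ⟨a, ha⟩ := h
  obtain ⟨x, hx, x1⟩ := ex_ne H ha
  exact ⟨fx_of_syl H, fun k => key H L ha hx x1 (k x hx)⟩

theorem fix (h : Ln N U) (hx : x ∈ U) (x1 : x ≠ 1) (e : x • c = c) : c ∈ Fx Ω U :=
  let ⟨_, ha⟩ := h
  fx_of_syl H (key H L ha hx x1 e)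

theorem eq_of_common (h : Ln N U) (h' : Ln N U') (hc : c ∈ Fx Ω U) (hc' : c ∈ Fx Ω U') (hx : x ∈ U)
    (x1 : x ≠ 1) (hn : x ∈ nor U') : U' = U :=
  eq_of_syl H ((syl H L h c).2 hc) ((syl H L h' c).2 hc') hx x1 hn

theorem ti (h : Ln N U) (h' : Ln N U') (ne : U ≠ U') : U ⊓ U' = ⊥ :=
  eq_bot_iff.2 fun x hx => by_contra fun x1 => by
    obtain ⟨c, hc⟩ := id h'
    have k := fx_of_syl H hc
    exact ne (eq_of_common H L h h' (fix H L h hx.1 x1 (k x hx.2)) k hx.1 x1 (le_normalizer hx.2)).symm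

theorem line_eq (h : Ln N U) (h' : Ln N U') (hcd : c ≠ d) (h1 : c ∈ Fx Ω U) (h2 : d ∈ Fx Ω U)
    (h3 : c ∈ Fx Ω U') (h4 : d ∈ Fx Ω U') : U' = U := by
  have s := (syl H L h c).2 h1
  obtain ⟨x, hx, x1⟩ := ex_ne H s
  exact eq_of_common H L h h' h1 h3 hx x1
    (le_nor_of H ((syl H L h' c).2 h3) h4 hcd ⟨s.le hx, h2 x hx⟩)

theorem line (hcd : c ≠ d) : ∃! U, Ln N U ∧ c ∈ Fx Ω U ∧ d ∈ Fx Ω U := by
  obtain ⟨U, h1, h2⟩ := L c d hcd
  exact ⟨U, ⟨⟨c, h1⟩, fx_of_syl H h1, fx_of_syl H h2⟩, fun U' k =>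
    line_eq H L ⟨c, h1⟩ k.1 hcd (fx_of_syl H h1) (fx_of_syl H h2) k.2.1 k.2.2⟩

omit L in
theorem ncard_Fx (h : Ln N U) (h' : Ln N U') : (Fx Ω U').ncard = (Fx Ω U).ncard := by
  haveI : Fact (Nat.Prime 2) := Nat.fact_prime_two
  obtain ⟨a, ha⟩ := h
  obtain ⟨c, hc⟩ := h'
  obtain ⟨g, rfl⟩ := H.t2.trans a c
  obtain ⟨k, -, rfl⟩ := (H.equi g a ▸ ha.cj g : IsSyl 2 _ (N (g • a))).exists_cj_eq hc
  rw [cj_cj, Fx_cj, Set.ncard_image_of_injective _ (MulAction.injective _)]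

theorem nor2 (h : Ln N U) (hc : c ∈ Fx Ω U) (hd : d ∈ Fx Ω U) (hcd : c ≠ d) (h1 : g • c ∈ Fx Ω U)
    (h2 : g • d ∈ Fx Ω U) : g ∈ nor U :=
  cj_eq_self_iff.1 (line_eq H L h (Ln.cj H h g) (mt (smul_left_cancel g) hcd) h1 h2
    (smul_mem_Fx.2 hc) (smul_mem_Fx.2 hd))

theorem two_pts (h : Ln N U) : ∃ c ∈ Fx Ω U, ∃ d ∈ Fx Ω U, c ≠ d := by
  haveI := H.t2.finite
  obtain ⟨a, b, -, hab, -⟩ := H.t2.big
  obtain ⟨U', k, -⟩ := line H L hab
  refine (Set.one_lt_ncard (Set.toFinite _)).1 ?_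
  rw [ncard_Fx H k.1 h]
  exact (Set.one_lt_ncard (Set.toFinite _)).2 ⟨a, k.2.1, b, k.2.2, hab⟩

theorem nor_of_comm (h : Ln N U) (hx : x ∈ U) (x1 : x ≠ 1) (e : y * x = x * y) : y ∈ nor U := by
  obtain ⟨c, hc, d, hd, hcd⟩ := two_pts H L h
  exact nor2 H L h hc hd hcd (fix H L h hx x1 (fix_of_comm e (hc x hx)))
    (fix H L h hx x1 (fix_of_comm e (hd x hx)))

theorem disj (h : Ln N U) (h' : Ln N U') (ne : U ≠ U') (hx : x ∈ U) (x1 : x ≠ 1) (hn : x ∈ nor U') :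
    Disjoint (Fx Ω U) (Fx Ω U') :=
  Set.disjoint_left.2 fun _ h1 h2 => ne (eq_of_common H L h h' h1 h2 hx x1 hn).symm

omit H L in
theorem jobLK : JobLK.{u, v} := by
  intro G Ω _ _ _ N q H L
  haveI := H.t2.finite
  haveI : Fact (Nat.Prime 2) := Nat.fact_prime_two
  obtain ⟨a, b, -, hab, -⟩ := H.t2.big
  obtain ⟨U₀, ha, hb⟩ := L a b hab
  have l0 : Ln N U₀ := ⟨a, ha⟩
  obtain ⟨f, hf⟩ : ∃ f, (Fx Ω U₀).ncard = f := ⟨_, rfl⟩
  obtain ⟨m, hm⟩ : ∃ m, Nat.card U₀ = m := ⟨_, rfl⟩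
  have cF : ∀ U, Ln N U → (Fx Ω U).ncard = f := fun U h => hf ▸ ncard_Fx H l0 h
  have two : 2 ≤ f := hf ▸ (Set.one_lt_ncard (Set.toFinite _)).2 (two_pts H L l0)
  have card : Nat.card Ω = f + (f - 1) * m := by
    have k := ncard_part (Set.univ \ {a}) {W | IsSyl 2 W (N a)} (fun c W => c ∈ Fx Ω W) (n := f - 1)
      (fun c hc => by
        obtain ⟨W, k, e⟩ := line H L (Ne.symm hc.2)
        exact ⟨W, ⟨(syl H L k.1 a).2 k.2.1, k.2.2⟩, fun W' k' =>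
          e W' ⟨⟨a, k'.1⟩, fx_of_syl H k'.1, k'.2⟩⟩)
      fun W hW => by
        rw [← cF W ⟨a, hW⟩, ← Set.ncard_sdiff_singleton_of_mem (fx_of_syl H hW)]
        congr 1
        ext c
        simp [and_comm]
    obtain ⟨V, bf⟩ := H.frame ha
    rw [bf.card_syl, hm, Set.ncard_sdiff_singleton_of_mem (Set.mem_univ a), Set.ncard_univ] at k
    have := H.t2.two_lt
    rw [add_mul, mul_comm m] at k
    omega
  have par : ∀ U, Ln N U → ∀ z ∈ ZZ U, z ≠ 1 →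
      f * {U' | Ln N U' ∧ U' ≠ U ∧ z ∈ nor U'}.ncard = (f - 1) * m := fun U h z hz z1 => by
    have k := ncard_part (Set.univ \ Fx Ω U) {U' | Ln N U' ∧ U' ≠ U ∧ z ∈ nor U'}
      (fun c W => c ∈ Fx Ω W) (n := f)
      (fun c hc => by
        have ne : c ≠ z • c := fun e => hc.2 (fix H L h hz.1 z1 e.symm)
        obtain ⟨W, k, e⟩ := line H L ne
        exact ⟨W, ⟨⟨k.1, fun e => hc.2 (e ▸ k.2.1), nor2 H L k.1 k.2.1 k.2.2 ne k.2.2
          (by rw [smul_smul, hz.2.1, one_smul]; exact k.2.1)⟩, k.2.1⟩, fun W' k' =>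
          e W' ⟨k'.1.1, k'.2, stab_Fx k'.1.2.2 k'.2⟩⟩)
      fun W hW => by
        rw [← cF W hW.1]
        congr 1
        ext c
        exact ⟨fun k => k.2, fun k => ⟨⟨trivial, fun k' =>
          Set.disjoint_left.1 (disj H L h hW.1 hW.2.1.symm hz.1 z1 hW.2.2) k' k⟩, k⟩⟩
    rw [Set.ncard_sdiff (Set.subset_univ _), Set.ncard_univ, card, cF U h] at k
    rw [mul_comm, ← k]
    omega
  refine ⟨f, m, fun U h => syl H L h, fun U h x hx x1 c => fix H L h hx x1,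
    fun U U' => ti H L, fun c d => line H L, fun U ⟨c, hc⟩ => hm ▸ H.card_U ha hc, cF, two, card, ?_,
    fun U _ g hg c => stab_Fx hg, fun U h g c hc d hd => nor2 H L h hc hd, ?_, ?_, par⟩
  · obtain ⟨V, bf⟩ := H.frame ha
    obtain ⟨y, hy, -, -, y1, -⟩ := bf.two
    refine Nat.Coprime.dvd_of_dvd_mul_left (m := f - 1) ?_ ⟨_, (par U₀ l0 y hy y1).symm⟩
    obtain ⟨f, rfl⟩ : ∃ n, f = n + 1 := ⟨f - 1, by omega⟩
    simp
  · intro U h a ha g hg k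
    refine H.t2.faith g fun c => ?_
    by_cases hc : a = c
    · exact k c (hc ▸ ha)
    obtain ⟨W, k', -⟩ := line H L hc
    obtain ⟨x, hx, rfl⟩ := ((syl H L h a).2 ha).exists_cj_eq ((syl H L k'.1 a).2 k'.2.1)
    obtain ⟨c, hc', rfl⟩ : c ∈ (fun c => x • c) '' Fx Ω U := Fx_cj (Ω := Ω) x U ▸ k'.2.2
    exact fix_of_comm (mem_centralizer_iff.1 hg x hx) (k c hc')
  · intro U U' h h' ne k
    obtain ⟨⟨y, hy, hn⟩, y1⟩ := ne_bot_iff_exists_ne_one.1 k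
    replace y1 : y ≠ 1 := fun e => y1 (Subtype.ext e)
    have dj := disj H L h h' ne hy y1 hn
    obtain ⟨c, hc⟩ := id h
    obtain ⟨c', hc'⟩ := id h'
    refine ⟨dj, ?_, ?_, fun x hx x1 w hw => ⟨nor_of_comm H L h' hx.1 x1, fun hn => ?_⟩⟩
    · obtain ⟨x', hx', x1'⟩ := ex_ne H hc'
      obtain ⟨x, hx, x1, e⟩ := exists_cen hc'.isPGroup (fun e => x1' (mem_bot.1 (e ▸ hx')))
        (hc.isPGroup.to_le (zpowers_le.2 hy)) hn
      exact fun k => x1 (mem_bot.1 (k ▸ (⟨hx, nor_of_comm H L h hy y1 e.symm⟩ : x ∈ U' ⊓ nor U)))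
    · rw [← cF U' h']
      exact H11.card_dvd_ncard_of_free _ (fun g c hc => stab_Fx g.2.2 hc) fun g c hc e =>
        Subtype.ext (by_contra fun g1 => Set.disjoint_left.1 dj (fix H L h g.2.1 g1 e) hc)
    · have : w * x * w⁻¹ * x⁻¹ ∈ U ⊓ U' := ⟨by
        rw [mul_assoc, mul_assoc, ← mul_assoc x]
        exact mul_mem hw (conj_mem_of_mem_normalizer hx.2 (inv_mem hw)),
        U'.mul_mem (conj_mem_of_mem_normalizer hn hx.1) (U'.inv_mem hx.1)⟩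
      rwa [ti H L h h' ne, mem_bot, mul_inv_eq_one, mul_inv_eq_iff_eq_mul] at this

end H90.HR
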