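import Cfsg.Agent.H63.KgvSpec

/-! # Tower KGV: the induction step for a character induced from a normal subgroup of prime index -/

set_option autoImplicit false

namespace H90.KgvI1

open H63.Kgv Finset

universe u

theorem job : H63.Kgv.JI1.{u} := by
  intro ti vl gl p hp M K _ _ θ a Hf hs E _ _ hE H _ r d x χ φ hid hd hr hχ hg
  classical
  have hd0 : d ≠ 0 := by
    rintro rfl
    exact hs.pos.ne' (Nat.eq_zero_of_zero_dvd hd)
  have hrp : r ≠ p := by
    rintro rfl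
    have h1 : r ∣ r ^ d := dvd_pow_self r hd0
    have h2 : 1 ≤ r ^ d := Nat.one_le_pow _ _ hp.out.pos
    have h3 : r ∣ r ^ d - (r ^ d - 1) := Nat.dvd_sub h1 hr
    rw [Nat.sub_sub_self h2] at h3
    exact hp.out.one_lt.ne' (Nat.dvd_one.1 h3)
  have hK : r ∣ Nat.card Kˣ := by
    rw [Nat.card_units, Nat.card_eq_fintype_card, hs.card]
    exact hr.trans (Nat.pow_sub_one_dvd_pow_sub_one p hd)
  have : Fact r.Prime := ⟨hid.pr⟩
  obtain ⟨ω, hω⟩ := exists_prime_orderOf_dvd_card' r hK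
  obtain ⟨n, -, hv⟩ := vl p M K θ a Hf hs E hE H r d x χ φ ω hid hd hr hω hχ
  obtain ⟨m, hm⟩ := hs.cong r d ω hid.pr hd hr hω
  have hpow : ∀ y : E, y ^ r ∈ H := fun y => hid.idx ▸ H.pow_index_mem y
  let Γ : ZMod p → E → ℂ := fun t y =>
    if h : y ∈ H then ∏ j ∈ range r, gam θ Hf d φ t (MulAut.conjNormal (x ^ j) ⟨y, h⟩)
    else gam θ Hf d φ (r * t) ⟨y ^ r, hpow y⟩
  have hΓ : Good p E Γ := by
    refine ti p E H r x (gam θ Hf d φ) Γ hid.pr hrp hid.idx hid.out hg (fun t h => ?_)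
      fun t y h hy e => ?_
    · simp only [Γ, dif_pos h.2]
    · simp only [Γ, dif_neg hy]
      congr 1
      exact Subtype.ext e.symm
  refine gl p E H r n m Γ (gam θ Hf d χ) hid.idx hΓ fun t ht => ⟨fun y hy => ?_, fun y hy => ?_⟩
  · simp only [Γ, dif_pos hy]
    exact (hv t ht).1 ⟨y, hy⟩
  · simp only [Γ, dif_neg hy]
    rw [← hm t ht]
    exact (hv t ht).2 y ⟨y ^ r, hpow y⟩ hy rfl

end H90.KgvI1
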