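/- Tower HKS, jobs ON and AffNR: semiregularity of abelian normal subgroups, affine groups. -/
import Cfsg.Agent.H7.HKSSpec
import Cfsg.Agent.H89.ONanModel
import Cfsg.Agent.H20.CN
import Cfsg.Agent.H27.Zsigmondy
import Cfsg.Agent.H4.NilpCoprime
import Cfsg.Agent.H11.SL2Act

set_option autoImplicit false

namespace H90.HKS

open MulAction Cfsg Subgroup H89.K H7.HKS

universe u

variable {G Ω : Type u} [Group G] [MulAction G Ω] {U : Ω → Subgroup G} {a b : Ω}

/-- A central element of `U a` fixing a second point is trivial. -/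
theorem cen_fix (h : Sp U) {z : G} (hz : z ∈ U a) (hc : ∀ u ∈ U a, Commute u z) {c : Ω}
    (hca : c ≠ a) (e : z • c = c) : z = 1 := by
  refine h.t2.faith z fun x => ?_
  by_cases hx : x = a
  · rw [hx, h.fix a z hz]
  · obtain ⟨u, hu, rfl⟩ := h.tr hca hx
    exact fix_of_comm (hc u hu).eq e

theorem jobON : JobON.{u} := by
  intro G Ω _ _ _ U a b A h hA hn hc hb x hx e
  by_contra x1
  haveI := h.t2.faithful
  obtain ⟨p, M, o, hM⟩ := H89.onan h.t2.mult a A (fun g hg => h.fix a g (hA hg))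
    (fun g hg n hn' => (mem_normalizer_iff.1 (hn hg) n).1 hn') hc ⟨x, hx, x1, b, hb, e⟩
  have MU : M a ≤ U a := hM.trans hA
  haveI := h.nil a
  have k := H2.inf_inf_centralizer_ne_bot (N := M a) (K := U a) (fun g hg =>
    mem_normalizer_iff.2 fun n => ⟨fun k => by simpa [h.fix a g hg] using o.conj g k, fun k => by
      simpa [h.fix a _ (inv_mem hg), mul_assoc] using o.conj g⁻¹ k⟩) (by
      obtain ⟨t, ht, t1⟩ := o.exists_A hb.symm
      exact fun e => t1 (mem_bot.1 (e ▸ (mem_inf.2 ⟨ht.1, MU ht.1⟩))))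
  obtain ⟨⟨z, ⟨hz, hzU⟩, hzc⟩, z1⟩ := ne_bot_iff_exists_ne_one.1 k
  obtain ⟨w, hw⟩ := o.exists_notMem_L hb.symm
  have bw : b ≠ w := (H89.ONan.ne_right_of_notMem hw).symm
  obtain ⟨v, hv, ev⟩ := o.exists_fixed_mem_L hz bw
  refine z1 (Subtype.ext (cen_fix h hzU (fun u hu => mem_centralizer_iff.1 hzc u hu)
    (c := v) ?_ ev))
  rintro rfl
  exact o.notMem_swap hb (o.L_comm hb.symm ▸ hw) hv

theorem card_U [Finite G] (h : Sp U) (hab : a ≠ b) :
    (Nat.card Ω - 1) * Nat.card (U a ⊓ stabilizer G b : Subgroup G) = Nat.card (U a) := by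
  haveI := h.t2.finite
  rw [← H89.ncard_orbit_mul_card (U a) b]
  congr 1
  have : orbit (U a) b = Set.univ \ {a} := by
    ext c
    simp only [Set.mem_sdiff, Set.mem_univ, true_and, Set.mem_singleton_iff]
    constructor
    · rintro ⟨u, rfl⟩ e
      exact hab ((smul_left_cancel_iff (u : G)).1 ((h.fix a u u.2).trans e.symm))
    · intro hc
      obtain ⟨u, hu, e⟩ := h.tr hab.symm hc
      exact ⟨⟨u, hu⟩, e⟩
  rw [this, Set.ncard_sdiff_singleton_of_mem (Set.mem_univ a), Set.ncard_univ]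

/-- Every prime divisor of `|U a|` divides the number of other fixed points. -/
theorem dvd_fix [Finite G] (h : Sp U) {l : ℕ} (hl : l.Prime) (hd : l ∣ Nat.card (U a)) {u : G}
    (hu : u ∈ U a) : l ∣ (fixedBy Ω u).ncard - 1 := by
  haveI := h.t2.finite
  haveI := Fact.mk hl
  obtain ⟨z, hz, o, hc⟩ := H20.exists_center_prime_of_nil (h.nil a) hd
  have k : ∀ g ∈ zpowers z, g ∈ U a ∧ ∀ w ∈ U a, Commute w g := by
    rintro _ ⟨k, rfl⟩
    exact ⟨zpow_mem hz k, fun w hw => (hc w hw).zpow_right k⟩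
  have := H11.card_dvd_ncard_of_free (H := zpowers z) (fixedBy Ω u \ {a}) (fun g x hx =>
    ⟨fix_of_comm ((k g g.2).2 u hu).eq.symm hx.1, fun e => hx.2
      ((smul_left_cancel_iff (g : G)).1 (e.trans (h.fix a g (k g g.2).1).symm))⟩)
    fun g x hx e => Subtype.ext (cen_fix h (k g g.2).1 (k g g.2).2 hx.2 e)
  rwa [Nat.card_zpowers, o, Set.ncard_sdiff_singleton_of_mem (show a ∈ fixedBy Ω u from h.fix a u hu)] at this

section Reg

variable {V : Subgroup G} [V.Normal] (hr : ∀ x : Ω, ∀ n ∈ V, n • x = x → n = 1)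
include hr

theorem fix_iff {g v : G} (hg : g • a = a) (hv : v ∈ V) : g • v • a = v • a ↔ v * g = g * v := by
  constructor
  · intro e
    have := hr a (v⁻¹ * (g * v * g⁻¹)) (mul_mem (inv_mem hv) (Normal.conj_mem ‹_› v hv g)) (by
      rw [mul_smul, mul_smul, mul_smul, inv_smul_eq_iff.2 hg.symm, e, inv_smul_smul])
    rw [inv_mul_eq_one, eq_mul_inv_iff_mul_eq] at this
    exact this
  · intro e
    rw [← mul_smul, ← e, mul_smul, hg]

theorem fixedBy_eq (ht : ∀ x y : Ω, ∃ n ∈ V, n • x = y) {g : G} (hg : g • a = a) :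
    fixedBy Ω g = (fun v : G => v • a) '' (V ⊓ centralizer {g} : Subgroup G) := by
  ext c
  obtain ⟨v, hv, rfl⟩ := ht a c
  rw [mem_fixedBy, fix_iff hr hg hv]
  constructor
  · exact fun e => ⟨v, ⟨hv, mem_centralizer_singleton_iff.2 e⟩, rfl⟩
  · rintro ⟨w, ⟨hw, k⟩, e⟩
    rw [← fix_iff hr hg hv, ← show w • a = v • a from e, fix_iff hr hg hw]
    exact mem_centralizer_singleton_iff.1 k

theorem ncard_image {W : Subgroup G} (hW : W ≤ V) :
    ((fun v : G => v • a) '' (W : Set G)).ncard = Nat.card W := by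
  rw [Set.InjOn.ncard_image]
  · rfl
  · intro v hv w hw e
    exact inv_mul_eq_one.1 (hr a (v⁻¹ * w) (mul_mem (inv_mem (hW hv)) (hW hw))
      (by rw [mul_smul, ← show v • a = w • a from e, inv_smul_smul]))

end Reg

theorem jobAffNR : JobAffNR.{u} := by
  classical
  intro G Ω _ _ _ U a b h ⟨V, hV, ht, hr⟩ hab
  haveI := h.t2.finite
  rw [or_iff_not_imp_left]
  intro nr
  obtain ⟨y, hy, hyb, y1⟩ : ∃ y ∈ U a, y • b = b ∧ y ≠ 1 := by
    by_contra! k
    refine nr fun a' b' hb u hu e => ?_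
    obtain ⟨g, rfl, rfl⟩ := h.t2.two hb.symm hab
    have := k _ (h.conj g a' u hu) (conj_smul_eq.2 e)
    simpa [mul_inv_eq_iff_eq_mul] using this
  obtain ⟨-, cV, p, d, hp, hpV, cΩ⟩ := h.t2.elem_of_regular ht hr
  obtain ⟨v, hv, rfl⟩ := ht a b
  have v1 : v ≠ 1 := fun e => hab (by rw [e, one_smul])
  haveI := Fact.mk hp
  have ov : orderOf v = p := orderOf_eq_prime (hpV v hv) v1
  have cU := card_U h hab
  set X := U a ⊓ stabilizer G (v • a) with hX
  -- the fixed points of a non-trivial element of `X`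
  have fx : ∀ u ∈ X, u ≠ 1 → d = 2 ∧ (∃ m, p + 1 = 2 ^ m) ∧
      fixedBy Ω u = (fun w : G => w • a) '' (zpowers v : Subgroup G) := by
    intro u hu u1
    have ua := h.fix a u hu.1
    have e := fixedBy_eq hr ht ua
    have zv : zpowers v ≤ V ⊓ centralizer {u} :=
      zpowers_le.2 ⟨hv, mem_centralizer_singleton_iff.2 ((fix_iff hr ua hv).1 hu.2)⟩
    obtain ⟨j, jd, hj⟩ := (Nat.dvd_prime_pow hp).1
      (cΩ ▸ cV ▸ card_dvd_of_le (inf_le_left : V ⊓ centralizer {u} ≤ V))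
    have j0 : 0 < j := Nat.pos_of_ne_zero fun e => by
      have := card_dvd_of_le zv
      rw [Nat.card_zpowers, ov, hj, e, pow_zero, Nat.dvd_one] at this
      exact hp.one_lt.ne' this
    have jd' : j < d := lt_of_le_of_ne jd fun e => u1 (h.t2.faith u fun c => by
      obtain ⟨w, hw, rfl⟩ := ht a c
      have : V ⊓ centralizer {u} = V := eq_of_le_of_card_ge inf_le_left (by rw [hj, cV, cΩ, e])
      exact (fix_iff hr ua hw).2 (mem_centralizer_singleton_iff.1 (this.ge hw).2))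
    have k : ∀ l : ℕ, l.Prime → l ∣ p ^ d - 1 → l ∣ p ^ j - 1 := fun l hl hd => by
      have := dvd_fix h hl (hd.trans (Dvd.intro _ (cΩ ▸ cU))) hu.1
      rwa [e, ncard_image hr inf_le_left, hj] at this
    have h2 : d = 2 ∧ ∃ m, p + 1 = 2 ^ m := by
      by_contra h2
      by_cases h6 : p = 2 ∧ d = 6
      · obtain ⟨rfl, rfl⟩ := h6
        have k3 := k 3 Nat.prime_three (by norm_num)
        have k7 := k 7 (by norm_num) (by norm_num)
        interval_cases j <;> omega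
      · obtain ⟨r, hr, r1, r2⟩ := H27.zsigmondy p d hp.one_lt (by omega) h6 h2
        exact r2 j j0 jd' (k r hr r1)
    refine ⟨h2.1, h2.2, ?_⟩
    obtain rfl : j = 1 := by omega
    rw [e, ← eq_of_le_of_card_ge zv (by rw [hj, Nat.card_zpowers, ov, pow_one])]
  have hyX : y ∈ X := ⟨hy, hyb⟩
  obtain ⟨rfl, ⟨m, hm⟩, -⟩ := fx y hyX y1
  have nF : ((fun w : G => w • a) '' (zpowers v : Subgroup G)).ncard = p := by
    rw [ncard_image hr (zpowers_le.2 hv), Nat.card_zpowers, ov]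
  obtain ⟨m, rfl⟩ : ∃ n, m = n + 2 := by
    have := hp.two_le
    rcases m with _ | _ | m
    · omega
    · omega
    · exact ⟨m, rfl⟩
  obtain ⟨n, hn⟩ : ∃ n, p = 4 * n + 3 := ⟨2 ^ m - 1, by
    have : 0 < 2 ^ m := by positivity
    rw [pow_add] at hm
    omega⟩
  have d2 : 2 ^ (m + 3) ∣ p ^ 2 - 1 := by
    rw [pow_succ, ← hm, hn]
    exact ⟨2 * n + 1, by rw [Nat.sub_eq_iff_eq_add (Nat.one_le_pow _ _ (by omega))]; ring⟩
  haveI : Fact (Nat.Prime 2) := ⟨Nat.prime_two⟩
  haveI := h.nil a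
  -- `X` is a 2-group
  have X2 : ∀ l : ℕ, l.Prime → l ∣ Nat.card X → l = 2 := by
    intro l hl hd
    by_contra l2
    haveI := Fact.mk hl
    obtain ⟨u, ou⟩ := exists_prime_orderOf_dvd_card' l hd
    rw [← orderOf_coe] at ou
    have u1 : (u : G) ≠ 1 := fun e => hl.one_lt.ne (by rw [← ou, e, orderOf_one])
    obtain ⟨P⟩ : Nonempty (Sylow 2 (U a)) := inferInstance
    set Q := (P : Subgroup (U a)).map (U a).subtype
    have cQ : Nat.card Q = Nat.card P := card_map_of_injective (subtype_injective _)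
    have pQ : IsPGroup 2 Q := P.isPGroup'.map _
    have k := H89.ncard_orbit_mul_card Q (v • a)
    have QU : Q ≤ U a := map_subtype_le _
    obtain ⟨i, hi⟩ := IsPGroup.iff_card.1
      (pQ.to_le (inf_le_left : Q ⊓ stabilizer G (v • a) ≤ Q))
    have k1 : 2 ^ (m + 3 + i) ∣ Nat.card Q := by
      rw [cQ]
      refine P.pow_dvd_card_of_pow_dvd_card ?_
      rw [← cU, cΩ, pow_add, ← hi]
      exact mul_dvd_mul d2 (card_dvd_of_le (inf_le_inf_right _ QU))
    rw [← k, hi, pow_add, Nat.mul_dvd_mul_iff_right (by positivity)] at k1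
    have k2 : orbit Q (v • a) ⊆ fixedBy Ω (u : G) := by
      rintro _ ⟨g, rfl⟩
      obtain ⟨j, hj⟩ := IsPGroup.iff_orderOf.1 pQ g
      refine fix_of_comm (H4.commute_of_nilpotent (QU g.2) u.2.1 ?_).eq u.2.2
      rw [orderOf_coe, hj, ou]
      exact ((Nat.coprime_primes Nat.prime_two hl).2 (Ne.symm l2)).pow_left _
    have k3 := Set.ncard_le_ncard k2
    rw [(fx u u.2 u1).2.2, nF] at k3
    have k4 := Nat.le_of_dvd ((Set.ncard_pos (Set.toFinite _)).2 ⟨_, mem_orbit_self _⟩) k1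
    rw [pow_succ] at k4
    omega
  have cX : Nat.card X = 2 := by
    have k := H11.card_dvd_ncard_of_free (H := X)
      (Set.univ \ (fun w : G => w • a) '' (zpowers v : Subgroup G)) (fun g x hx => ⟨trivial, by
        rintro ⟨w, hw, e⟩
        by_cases g1 : (g : G) = 1
        · exact hx.2 ⟨w, hw, by simpa [smul_def, g1] using e⟩
        · have : w • a ∈ fixedBy Ω (g : G) := (fx g g.2 g1).2.2 ▸ ⟨w, hw, rfl⟩
          refine hx.2 ⟨w, hw, (smul_left_cancel_iff (g : G)).1 (this.trans e)⟩⟩)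
      fun g x hx e => Subtype.ext (by_contra fun g1 => hx.2 ((fx g g.2 g1).2.2 ▸ e))
    rw [Set.ncard_sdiff (Set.subset_univ _), Set.ncard_univ, cΩ, nF] at k
    obtain ⟨i, hi⟩ : ∃ i, Nat.card X = 2 ^ i :=
      ⟨_, Nat.eq_prime_pow_of_unique_prime_dvd Nat.card_pos.ne' fun hl hd => X2 _ hl hd⟩
    have e : p ^ 2 - p = 4 * (4 * n * n + 5 * n + 1) + 2 := by
      rw [Nat.sub_eq_iff_eq_add (Nat.le_self_pow two_ne_zero p), hn]; ring
    rcases i with _ | _ | i
    · exact absurd (mem_bot.1 (card_eq_one.1 hi ▸ hyX)) y1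
    · exact hi
    · have : 4 ∣ p ^ 2 - p := Dvd.dvd.trans ⟨2 ^ i, by rw [hi]; ring⟩ k
      omega
  have uq : ∀ u ∈ X, u = 1 ∨ u = y := fun u hu => by
    obtain ⟨w, -, hw⟩ := (Nat.card_eq_two_iff' (1 : X)).1 cX
    by_cases u1 : u = 1
    · exact .inl u1
    · exact .inr (congrArg Subtype.val ((hw ⟨u, hu⟩ fun e => u1 (congrArg Subtype.val e)).trans
        (hw ⟨y, hyX⟩ fun e => y1 (congrArg Subtype.val e)).symm))
  have yy : y ^ 2 = 1 := by
    have := pow_card_eq_one' (x := (⟨y, hyX⟩ : X))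
    rw [cX] at this
    exact congrArg Subtype.val this
  letI := Fintype.ofFinite Ω
  let φ : G →* ℤˣ := Equiv.Perm.sign.comp (toPermHom G Ω)
  have φy : φ y = -1 := by
    have k := Equiv.Perm.sign_of_pow_two_eq_one (σ := toPermHom G Ω y)
      (by rw [← map_pow, yy, map_one])
    have e : Fintype.card (Function.fixedPoints (toPermHom G Ω y)) = p := by
      rw [← Nat.card_eq_fintype_card, ← nF, ← (fx y hyX y1).2.2]
      rfl
    rw [e, ← Nat.card_eq_fintype_card, cΩ, show (p ^ 2 - p) / 2 = 2 * (4 * n * n + 5 * n + 1) + 1 by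
      have : p ^ 2 = 4 * (4 * n * n + 5 * n + 1) + 2 + p := by rw [hn]; ring
      omega, pow_succ, pow_mul] at k
    exact k.trans (by simp)
  refine ⟨even_iff_two_dvd.2 (cX ▸ card_dvd_of_le inf_le_left), U a ⊓ φ.ker, y, inf_le_left,
    fun g hg => ?_, fun e => ?_, le_antisymm (sup_le inf_le_left (zpowers_le.2 hy)) fun u hu => ?_,
    fun u hu e => uq u ⟨hu, e⟩⟩
  · have k : ∀ g ∈ stabilizer G a, ∀ n ∈ U a ⊓ φ.ker, g * n * g⁻¹ ∈ U a ⊓ φ.ker :=
      fun g hg n hn => ⟨by simpa [mem_stabilizer_iff.1 hg] using h.conj g a n hn.1,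
        Normal.conj_mem inferInstance n hn.2 g⟩
    exact mem_normalizer_iff.2 fun n =>
      ⟨k g hg n, fun e => by simpa [mul_assoc] using k _ (inv_mem hg) _ e⟩
  · have := MonoidHom.mem_ker.1 e.2
    rw [φy] at this
    exact absurd this (by decide)
  · rcases Int.units_eq_one_or (φ u) with e | e
    · exact mem_sup_left ⟨hu, e⟩
    · rw [← mul_inv_cancel_right u y]
      exact mul_mem (mem_sup_left ⟨mul_mem hu hy, MonoidHom.mem_ker.2 (by rw [map_mul, e, φy]; rfl)⟩)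
        (mem_sup_right (inv_mem (mem_zpowers y)))

end H90.HKS
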