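/- D3 tower (row S5261): the embedding into the triality group. -/
import Cfsg.Agent.H90.D3Kit
import Cfsg.Agent.H68.TwD4

set_option autoImplicit false

open Cfsg.Lie

universe v

namespace H90.D3

/-- the matrix of an element -/
noncomputable def wd {K : Type*} [Field K] {T : CF K} (u : Co T) : GL chevD4.Idx K :=
  (H68.mat chevD4 K).wd [(18, u.a), (13, T.σ u.a), (12, T.σ (T.σ u.a)), (14, u.b),
    (19, u.c), (16, -T.σ u.c), (15, -T.σ (T.σ u.c)), (17, u.d), (20, -T.σ u.d), (21, -T.σ (T.σ u.d)),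
    (22, u.e), (23, u.g)]

theorem wd_def {K : Type*} [Field K] {T : CF K} (u : Co T) : wd u =
    (H68.mat chevD4 K).wd [(18, u.a), (13, T.σ u.a), (12, T.σ (T.σ u.a)), (14, u.b),
    (19, u.c), (16, -T.σ u.c), (15, -T.σ (T.σ u.c)), (17, u.d), (20, -T.σ u.d), (21, -T.σ (T.σ u.d)),
    (22, u.e), (23, u.g)] := by rw [wd]

def JobEmb : Prop := All.{v} fun _ K _ _ T => (∀ u w : Co T, wd (u * w) = wd u * wd w) ∧
  Function.Injective (wd (T := T)) ∧
  ∀ g, g ∈ (H68.mat chevD4 K).T.U ⊓ twistedD4 K T.q ↔ ∃ u : Co T, g = wd u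

end H90.D3
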