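/- HR, job Full: the affine plane (blueprints/HR.md). -/
import Cfsg.Agent.H90.HrLK

set_option autoImplicit false
set_option linter.unusedSectionVars false

namespace H90.HR

open MulAction Cfsg Subgroup H89.K H98 H82.HR

universe u v

variable {G : Type u} {Ω : Type v} [Group G] [MulAction G Ω] {N : Ω → Subgroup G} {q f : ℕ}
  {a b c d e : Ω} {g x y z : G} {U V W : Subgroup G}

/-- parallel lines -/
def Par (Ω : Type v) [MulAction G Ω] (U V : Subgroup G) : Prop :=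
  U = V ∨ Disjoint (Fx Ω U) (Fx Ω V)

theorem Par.symm (h : Par Ω U V) : Par Ω V U := h.imp Eq.symm fun k => k.symm

theorem Par.cj (h : Par Ω U V) (g : G) : Par Ω (cj g U) (cj g V) :=
  h.imp (congrArg _) fun k => by
    rw [Fx_cj, Fx_cj]
    exact (Set.disjoint_image_iff (MulAction.injective g)).2 k

theorem Par.eq (h : Par Ω U V) (h1 : c ∈ Fx Ω U) (h2 : c ∈ Fx Ω V) : U = V :=
  h.resolve_right fun k => Set.disjoint_left.1 k h1 h2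

variable [Finite G] (H : Hy N q) (K : LK N f f)
include H K

omit H in
theorem leq (h : Ln N U) (h' : Ln N V) (hcd : c ≠ d) (h1 : c ∈ Fx Ω U) (h2 : d ∈ Fx Ω U)
    (h3 : c ∈ Fx Ω V) (h4 : d ∈ Fx Ω V) : U = V :=
  (K.line c d hcd).unique ⟨h, h1, h2⟩ ⟨h', h3, h4⟩

theorem playfair (h : Ln N U) (c : Ω) : ∃! V, Ln N V ∧ c ∈ Fx Ω V ∧ Par Ω U V := by
  haveI := H.t2.finite
  by_cases hc : c ∈ Fx Ω U
  · exact ⟨U, ⟨h, hc, .inl rfl⟩, fun V k => (k.2.2.eq hc k.2.1).symm⟩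
  have k := ncard_part (Fx Ω U) {W | IsSyl 2 W (N c) ∧ ¬ Disjoint (Fx Ω U) (Fx Ω W)}
    (fun d W => d ∈ Fx Ω W) (n := 1)
    (fun d hd => by
      obtain ⟨W, k, e⟩ := K.line c d fun e => hc (e ▸ hd)
      exact ⟨W, ⟨⟨(K.syl W k.1 c).2 k.2.1, Set.not_disjoint_iff.2 ⟨d, hd, k.2.2⟩⟩, k.2.2⟩,
        fun W' k' => e W' ⟨⟨c, k'.1.1⟩, fx_of_syl H k'.1.1, k'.2⟩⟩)
    fun W hW => by
      obtain ⟨d, h1, h2⟩ := Set.not_disjoint_iff.1 hW.2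
      refine Set.ncard_eq_one.2 ⟨d, Set.eq_singleton_iff_unique_mem.2 ⟨⟨h1, h2⟩, fun e he => ?_⟩⟩
      by_contra ne
      exact hc (leq K h ⟨c, hW.1⟩ ne he.1 h1 he.2 h2 ▸ fx_of_syl H hW.1)
  obtain ⟨W, V, bf⟩ := H.bg c
  have k2 := Set.ncard_inter_add_ncard_sdiff_eq_ncard {W | IsSyl 2 W (N c)}
    {W | Disjoint (Fx Ω U) (Fx Ω W)}
  rw [bf.card_syl, K.cU W ⟨c, bf.sylU⟩] at k2
  rw [K.cF U h, mul_one] at k
  obtain ⟨V, hV⟩ := Set.ncard_eq_one.1 (show ({W | IsSyl 2 W (N c)} ∩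
      {W | Disjoint (Fx Ω U) (Fx Ω W)}).ncard = 1 by
    have : ({W | IsSyl 2 W (N c)} \ {W | Disjoint (Fx Ω U) (Fx Ω W)}).ncard = f := k.symm
    omega)
  obtain ⟨⟨h1, h2⟩, h3⟩ := Set.eq_singleton_iff_unique_mem.1 hV
  exact ⟨V, ⟨⟨c, h1⟩, fx_of_syl H h1, .inr h2⟩, fun V' k' => h3 V' ⟨(K.syl V' k'.1 c).2 k'.2.1,
    k'.2.2.resolve_left fun e => hc (e ▸ k'.2.1)⟩⟩

theorem Par.trans (h1 : Ln N U) (h2 : Ln N V) (h3 : Ln N W) (a : Par Ω U V) (b : Par Ω V W) :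
    Par Ω U W := by
  refine or_iff_not_imp_right.2 fun k => ?_
  obtain ⟨c, c1, c2⟩ := Set.not_disjoint_iff.1 k
  exact (playfair H K h2 c).unique ⟨h1, c1, a.symm⟩ ⟨h3, c2, b⟩

theorem Par.nor (h1 : Ln N U) (h2 : Ln N V) (a : Par Ω U V) (hz : z ∈ ZZ U) : z ∈ nor V := by
  by_cases z1 : z = 1
  · exact z1 ▸ one_mem _
  rcases a with rfl | a
  · exact le_normalizer hz.1
  obtain ⟨c, hc⟩ := id h2
  replace hc := fx_of_syl H hc
  have cU : c ∉ Fx Ω U := fun k => Set.disjoint_left.1 a k hc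
  have ne : c ≠ z • c := fun e => cU (K.fix U h1 z hz.1 z1 c e.symm)
  obtain ⟨W, k, -⟩ := K.line c _ ne
  have hn := K.nor2 W k.1 z c k.2.1 _ k.2.2 ne k.2.2
    (by rw [smul_smul, hz.2.1, one_smul]; exact k.2.1)
  rwa [(playfair H K h1 c).unique ⟨h2, hc, .inr a⟩ ⟨k.1, k.2.1, .inr
    (K.adj U W h1 k.1 (fun e => cU (e ▸ k.2.1))
      fun e => z1 (mem_bot.1 (e ▸ (⟨hz.1, hn⟩ : z ∈ U ⊓ H82.HR.nor W)))).1⟩]

theorem ex_full (h : Ln N U) : ∃ V, Ln N V ∧ Disjoint (Fx Ω U) (Fx Ω V) ∧ U ≤ nor V := by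
  haveI := H.t2.finite
  haveI : Fact (Nat.Prime 2) := Nat.fact_prime_two
  have k := ncard_part (Set.univ \ Fx Ω U) {V | Ln N V ∧ Disjoint (Fx Ω U) (Fx Ω V)}
    (fun c W => c ∈ Fx Ω W) (n := f)
    (fun c hc => by
      obtain ⟨W, k, e⟩ := playfair H K h c
      exact ⟨W, ⟨⟨k.1, k.2.2.resolve_left fun e => hc.2 (e ▸ k.2.1)⟩, k.2.1⟩,
        fun W' k' => e W' ⟨k'.1.1, k'.2, .inr k'.1.2⟩⟩)
    fun W hW => by
      rw [← K.cF W hW.1]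
      congr 1
      ext c
      exact ⟨fun k => k.2, fun k => ⟨⟨trivial, fun k' => Set.disjoint_left.1 hW.2 k' k⟩, k⟩⟩
  rw [Set.ncard_sdiff (Set.subset_univ _), Set.ncard_univ, K.card, K.cF U h, Nat.add_sub_cancel_left,
    Nat.mul_left_inj (by have := K.two; omega)] at k
  obtain ⟨c, hc⟩ := id h
  have ev : 2 ∣ f := K.cU U h ▸ hc.isPGroup.card_eq_or_dvd.resolve_left fun e => by
    have := K.two
    rw [K.cU U h] at e
    omega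
  letI : MulAction G (Subgroup G) :=
    { smul := fun g W => cj g W, one_smul := cj_one, mul_smul := fun g h W => (cj_cj g h W).symm }
  obtain ⟨V, hV, e⟩ := H82.TP.odd_fix hc.isPGroup
    (F := {V | Ln N V ∧ Disjoint (Fx Ω U) (Fx Ω V)}) (fun g hg V hV => ⟨Ln.cj H hV.1 g, by
      change Disjoint _ (Fx Ω (cj g V))
      rw [← cj_eq_self_of_mem hg, Fx_cj, Fx_cj]
      exact (Set.disjoint_image_iff (MulAction.injective g)).2 hV.2⟩)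
    (by rw [← k, Nat.odd_iff]; have := K.two; omega)
  exact ⟨V, hV.1, hV.2, fun g hg => cj_eq_self_iff.1 (e g hg)⟩

/-- the dilatations -/
def TT : Subgroup G where
  carrier := {g | ∀ W, Ln N W → Par Ω (cj g W) W}
  one_mem' := fun W _ => .inl (cj_one W)
  mul_mem' := fun {g h} hg hh W hW => by
    rw [← cj_cj]
    exact (hg _ (Ln.cj H hW h)).trans H K (Ln.cj H (Ln.cj H hW h) g) (Ln.cj H hW h) hW (hh W hW)
  inv_mem' := fun {g} hg W hW => by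
    have := hg _ (Ln.cj H hW g⁻¹)
    rw [cj_cj_inv] at this
    exact this.symm

theorem TT_normal : (TT H K).Normal := ⟨fun g hg k W hW => by
  have := (hg _ (Ln.cj H hW k⁻¹)).cj k
  rwa [cj_cj_inv, cj_cj, cj_cj] at this⟩

theorem TT_off (hg : g ∈ TT H K) (hab : a ≠ b) (ha : g • a = a) (hb : g • b = b) (hW : Ln N W)
    (h1 : a ∈ Fx Ω W) (h2 : b ∈ Fx Ω W) (hc : c ∉ Fx Ω W) : g • c = c := by
  have k : ∀ a V, g • a = a → Ln N V → a ∈ Fx Ω V → c ∈ Fx Ω V → g • c ∈ Fx Ω V :=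
    fun a V ha hV h1 h2 => (hg V hV).eq (ha ▸ smul_mem_Fx.2 h1) h1 ▸ smul_mem_Fx.2 h2
  obtain ⟨V₁, k1, -⟩ := K.line a c fun e => hc (e ▸ h1)
  obtain ⟨V₂, k2, -⟩ := K.line b c fun e => hc (e ▸ h2)
  by_contra ne
  obtain rfl := leq K k1.1 k2.1 ne (k a _ ha k1.1 k1.2.1 k1.2.2) k1.2.2
    (k b _ hb k2.1 k2.2.1 k2.2.2) k2.2.2
  exact hc (leq K k1.1 hW hab k1.2.1 k2.2.1 h1 h2 ▸ k1.2.2)

theorem TT_sharp (hg : g ∈ TT H K) (hab : a ≠ b) (ha : g • a = a) (hb : g • b = b) : g = 1 := by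
  obtain ⟨W, ⟨hW, h1, h2⟩, -⟩ := K.line a b hab
  obtain ⟨V, hV, dj, -⟩ := ex_full H K hW
  obtain ⟨e, he⟩ := id hV
  have eW : e ∉ Fx Ω W := fun k => Set.disjoint_left.1 dj k (fx_of_syl H he)
  have ae : a ≠ e := fun k => eW (k ▸ h1)
  obtain ⟨W', ⟨hW', h3, h4⟩, -⟩ := K.line a e ae
  refine H.t2.faith g fun c => ?_
  by_cases hc : c ∈ Fx Ω W
  · by_cases ac : a = c
    · exact ac ▸ ha
    · exact TT_off H K hg ae ha (TT_off H K hg hab ha hb hW h1 h2 eW) hW' h3 h4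
        fun k => eW (leq K hW' hW ac h3 k h1 hc ▸ h4)
  · exact TT_off H K hg hab ha hb hW h1 h2 hc

theorem TT_ne : TT H K ≠ ⊥ := by
  obtain ⟨a, -⟩ := H.t2.big
  obtain ⟨U, V, bf⟩ := H.bg a
  have hU : Ln N U := ⟨a, bf.sylU⟩
  have hV : Ln N V := ⟨a, bf.sylV⟩
  have aU := fx_of_syl H bf.sylU
  have aV := fx_of_syl H bf.sylV
  obtain ⟨U', hU', dj, nU⟩ := ex_full H K hU
  have ne : U ≠ U' := fun e => Set.disjoint_left.1 dj aU (e ▸ aU)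
  obtain ⟨c, hc⟩ := id hU'
  obtain ⟨_, bf'⟩ := H.frame hc
  obtain ⟨y, hy, -, -, y1, -⟩ := bf'.two
  have yU : y ∈ nor U := Par.nor H K hU' hU (.inr dj.symm) hy
  obtain ⟨w, hw, w1⟩ := ex_ne H bf.sylU
  have cm : ∀ u ∈ U, u * y = y * u := fun u hu =>
    ((K.adj U U' hU hU' ne fun e => w1 (mem_bot.1 (e ▸ (⟨hw, nU hw⟩ : w ∈ U ⊓ nor U')))).2.2.2 y
      ⟨hy.1, yU⟩ y1 u hu).2 (nU hu)
  obtain ⟨V₁, ⟨l1, a1, p1⟩, -⟩ := playfair H K (Ln.cj H hV y) a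
  obtain ⟨x, hx, rfl⟩ := bf.trans ((K.syl V₁ l1 a).2 a1) (by
    rintro rfl
    have := p1.cj y⁻¹
    rw [cj_inv_cj, cj_eq_self (inv_mem yU)] at this
    exact bf.ne (this.eq aV aU))
  have xx : x * x = 1 := by
    have k1 := p1.cj y
    have k2 := p1.cj x
    rw [cj_cj, cj_cj, hy.2.1, cj_one, ← cm x hx] at k1
    rw [cj_cj, cj_cj] at k2
    have := (k1.trans H K hV (Ln.cj H hV _) (Ln.cj H hV _) k2).eq aV
      (aU _ (mul_mem hx hx) ▸ smul_mem_Fx.2 aV)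
    exact bf.uniq (mul_mem hx hx) (one_mem _) (by rw [← this, cj_one])
  have xZ := bf.cent x hx xx
  have p2 : Par Ω (cj (x * y) V) V := by
    have := p1.cj x
    rwa [cj_cj, cj_cj, xx, cj_one] at this
  refine ne_bot_iff_exists_ne_one.2 ⟨⟨x * y, fun W hW => ?_⟩, fun e => ?_⟩
  · obtain ⟨W₁, ⟨l, aW, p⟩, -⟩ := playfair H K hW a
    refine (p.cj _).trans H K (Ln.cj H hW _) (Ln.cj H l _) hW
      (Par.trans H K (Ln.cj H l _) l hW ?_ p.symm)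
    by_cases e : W₁ = U
    · exact .inl (e ▸ cj_eq_self (mul_mem (le_normalizer hx) yU))
    · obtain ⟨u, hu, rfl⟩ := bf.trans ((K.syl W₁ l a).2 aW) e
      rw [cj_cj, mul_assoc, ← cm u hu, ← mul_assoc, ← xZ.2.2 u hu, mul_assoc, ← cj_cj]
      exact p2.cj u
  · have : y ∈ U ⊓ U' := ⟨eq_inv_of_mul_eq_one_right (congrArg Subtype.val e) ▸ U.inv_mem hx, hy.1⟩
    exact y1 (mem_bot.1 (K.ti U U' hU hU' ne ▸ this))

omit H K in
theorem jobFull : JobFull.{u, v} := by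
  intro G Ω _ _ _ N q f H K
  haveI := TT_normal H K
  haveI := H.t2.nontrivial
  haveI : IsPretransitive (TT H K) Ω := ⟨fun x y =>
    let ⟨n, hn, e⟩ := H.t2.normal_trans (TT H K) (TT_ne H K) x y
    ⟨⟨n, hn⟩, e⟩⟩
  obtain ⟨P, -, h1, h2⟩ := H89.exists_frobenius_kernel (G := TT H K) (α := Ω)
    fun g a b hab ha hb => Subtype.ext (TT_sharp H K g.2 hab ha hb)
  refine ⟨P.map (TT H K).subtype, ⟨?_⟩, fun x y => ?_, ?_⟩
  · rintro _ ⟨n, hn, rfl⟩ g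
    refine ⟨⟨_, Normal.conj_mem ‹_› n.1 n.2 g⟩, (h1 _).2 (((h1 n).1 hn).imp (fun e => ?_)
      fun k a e => k (g⁻¹ • a) ?_), rfl⟩
    · simp [e]
    · exact (conj_smul_eq (g := g)).1 (by rw [smul_inv_smul]; exact e)
  · obtain ⟨n, e⟩ := h2.exists_smul_eq x y
    exact ⟨_, ⟨n.1, n.2, rfl⟩, e⟩
  · rintro x _ ⟨n, hn, rfl⟩ e
    exact congrArg Subtype.val (((h1 n).1 hn).resolve_right fun k => k x e)

end H90.HR
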