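import Cfsg.Agent.H74.FSp2

/-! A transvection with centre `Z(S)` and a second element of `Out_S(E)` (job FUSMC-TP). -/

set_option autoImplicit false

namespace H90.FT
open Cfsg H92 H92.Es H93 H92.P5 Subgroup H74.FT H74.FM Module
open scoped commutatorElement

universe u

theorem jobTP : JobTP.{u} := by
  intro Ω _ _ S p n hp F γ c E U x w a hE hn ha hZ hU hpow hA hUa hX hx hx' hxT hxC hw hw' hwx
  have m := c.mx
  have hF := c.sat
  have n4 := m.four
  have an : a ≤ n - 1 := by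
    by_contra r
    exact m.nle (i := n - 1) (j := a) (by omega) (by omega) (hZ.trans hUa)
  obtain ⟨d, π, ρ, h, -⟩ := exists_sec (p := p) (A := U) (B := ⊥) bot_le
    (commutator_le.2 fun y hy z hz => mem_bot.2 (ct_iff.1 (hU hz).2 y (hU hy).1))
    fun y hy => mem_bot.2 (hpow y hy)
  have hB : Aut F E ≤ Nm (⊥ : Subgroup Ω) := fun g _ => nm_bot g
  have hG : Aut F E ≤ Nm U ⊓ Nm ⊥ := le_inf hA hB
  have R : Rp (Aut F E) ρ := h.rp.mono hG
  obtain ⟨ν, hν⟩ : ∃ ν, n = a + (ν + 1) := ⟨n - a - 1, by omega⟩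
  have e1 : n - 1 = a + ν := by omega
  have fl : Flag (fun i => h.sb (γ (a + i))) (ν + 1) :=
    h.flag m hUa (by rw [← hν, m.bot le_rfl]; exact inf_le_right)
  have sh1 : ∀ s ∈ S ⊓ Nm E, Sh (fun i => h.sb (γ (a + i))) 1 (ρ s - 1) := fun s hs =>
    h.sh (V := fun i => γ (a + i)) (hG (Nm_le_Aut F E hs)) fun _ _ _ b =>
      Or.inl (com_symm (m.cS b hs.1))
  have key : ∀ s ∈ S ⊓ Nm E, s ^ p ∉ E → Aut F E ≤ Nm (γ (n - 1)) := fun s hs hs' => by
    have hsG := Nm_le_Aut F E hs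
    refine le_Nm_of_tv hF hE.2.1 le_rfl (pow_mem hs p) hs' (pow_mem hsG p) (fun g _ b => hX b) hA hB
      bot_le hZ ((h.eq_one_iff (hG (pow_mem hsG p))).1 ?_)
    rw [R.pow hsG]
    have := add_one_pow_p (((sh1 s hs).pow p).eq_zero fl.anti fl.top fl.bot (by omega))
    rwa [sub_add_cancel] at this
  by_cases px : x ^ p ∈ E
  swap
  · exact key x hx px
  by_cases pw : w ^ p ∈ E
  swap
  · exact key w hw pw
  rcases Nat.eq_zero_or_pos ν with rfl | hν0
  · have : U = γ (n - 1) := le_antisymm (by rw [e1]; exact hUa) hZ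
    exact this ▸ hA
  have s := seA2 hF hE.2.1 hw hx hx' hw' pw px hwx
  have sh2 : Sh (fun i => h.sb (γ (a + i))) ν (ρ x - 1) :=
    h.sh (V := fun i => γ (a + i)) (hG (Nm_le_Aut F E hx)) fun i y b e => by
      rcases Nat.eq_zero_or_pos i with rfl | hi
      · left
        have := com_of_tv hxT b
        rwa [e1, ← zero_add ν] at this
      · right
        exact com_symm (mem_bot.2 (ct_iff.1 hxC y ⟨b, m.anti (by omega) e⟩))
  have rd := R.rd2 fl.anti fl.top fl.bot (Nm_le_Aut F E hw) (Nm_le_Aut F E hx) (sh1 w hw) sh2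
  obtain ⟨z, z1, z2⟩ := m.ex (i := a + ν) (by omega)
  have zU : z ∈ U := hZ (e1 ▸ z1)
  have z3 : π z ∈ h.sb (γ (a + ν)) := h.mk_mem zU z1
  have z4 : π z ∉ h.sb (γ (a + (ν + 1))) := fun r => z2 ((h.mem_sb' bot_le zU).1 r)
  have z0 : π z ≠ 0 := fun r => z4 (r ▸ zero_mem _)
  have ln : ∀ v ∈ h.sb (γ (a + ν)), ∃ c : ZMod p, v = c • π z := fun v hv => by
    obtain ⟨c, e⟩ := fl.step ν _ z3 z4 v hv
    exact ⟨c, sub_eq_zero.1 (fl.eq_zero le_rfl e)⟩
  have p2 := hp.out.two_le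
  intro g hg
  have := s.line1 (R.dg_vec s.mem rd (π z)) (A := p - 1) (by omega)
    (by
      show (p - 1) * ν < (p - 1) * (1 + ν)
      exact Nat.mul_lt_mul_of_pos_left (by omega) (by omega))
    (fun t ht ht' => by
      obtain ⟨c, e⟩ := ln _ (h.map_sb (hG ht) (e1 ▸ hX ht') z3)
      refine ⟨c, ZMod.pow_card_sub_one_eq_one ?_, R.sem_vec ht e⟩
      rintro rfl
      exact R.ne ht z0 (by simpa using e)) hg
  obtain ⟨c, e⟩ := Submodule.mem_span_singleton.1 this
  simp only [R.one, End.one_apply] at e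
  rw [e1]
  refine h.nm_of bot_le (e1 ▸ hZ) (hG hg) fun v hv => ?_
  obtain ⟨c', rfl⟩ := ln v hv
  rw [map_smul, ← e]
  exact Submodule.smul_mem _ _ (Submodule.smul_mem _ _ z3)

end H90.FT
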