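/- RF tower: the three automizers. -/
import Cfsg.Agent.H90.U5Tri

set_option autoImplicit false
set_option linter.unusedSectionVars false
set_option linter.unusedSimpArgs false

open Subgroup H92 Cfsg H63.Oc

universe v

namespace H90.RF

theorem nor_gen {P : Type*} [Group P] [Finite P] {F : FusionSystem (⊤ : Subgroup P)} {X : Subgroup P}
    [hX : X.Normal] {α : Equiv.Perm P} (hα : α ∈ aY F X) (s t : P)
    (h : ∀ γ ∈ aY F X, (∀ c ∈ X, γ (α c) = t⁻¹ * α (s * c * s⁻¹) * t) → ∃ r, ∀ c ∈ X, γ c = r * c * r⁻¹) :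
    ∃ t, ∀ c ∈ X, α (s * c * s⁻¹) = t * α c * t⁻¹ := by
  have a := (U5.lg_aY X).au α hα
  obtain ⟨σ, hσ, e⟩ := U5.conj_aY (X := X) F s
  obtain ⟨τ, hτ, e'⟩ := U5.conj_aY (X := X) F t⁻¹
  have k : ∀ c ∈ X, (τ * α * σ * α⁻¹) (α c) = t⁻¹ * α (s * c * s⁻¹) * t := fun c hc => by
    simp [e c hc, e' _ (a.mem _ (hX.conj_mem c hc s))]
  obtain ⟨r, hr⟩ := h _ (mul_mem (mul_mem (mul_mem hτ hα) hσ) (inv_mem hα)) k
  exact ⟨t * r, fun c hc => by
    have := hr _ (a.mem c hc)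
    rw [k c hc] at this
    calc α (s * c * s⁻¹) = t * (t⁻¹ * α (s * c * s⁻¹) * t) * t⁻¹ := by group
      _ = _ := by rw [this]; group⟩

variable {K : Type v} [Field K] [Finite K] [CharP K 2] {T : TF K}

theorem z0_mono (i : ℕ) : z0 T i ≤ z0 T (i + 1) := by
  rcases i with _ | _ | _ | _ | _ | _ | _ | _ | _ | _ | _ | _ | i
  · exact bot_le
  · exact H55.Oc.Z_le_W
  · exact H55.Oc.W_le_A
  · exact fun c ⟨_, _, _, _, _, _, _, _, _⟩ => by show _ ∈ sV0 T; simp [mem_sV0, *]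
  · exact fun c ⟨_, _, _, _, _, _, _, _⟩ => by show _ ∈ sV T; simp [mem_sV, *]
  · exact fun c ⟨_, _, _, _, _, _, _⟩ => by show _ ∈ sZ5 T; simp [mem_sZ5, *]
  · exact fun c ⟨_, _, _, _, _, _⟩ => by show _ ∈ sF0 T; simp [mem_sF0, *]
  · exact fun c ⟨_, _, _, _, _⟩ => by show _ ∈ sZ6 T; simp [mem_sZ6, *]
  · exact fun c ⟨h1, _, h2, h3⟩ => ⟨⟨h2, h3⟩, h1⟩
  · exact fun c h => ⟨h.2, h.1.1⟩
  · exact fun c h => h.1
  · exact le_top
  · exact le_rfl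

theorem z8_mono (i : ℕ) : z8 T i ≤ z8 T (i + 1) := by
  rcases i with _ | _ | _ | _ | i
  · exact bot_le
  · exact fun c ⟨_, _, _, _, _, _, _, _, _, _, _⟩ => by show _ ∈ sV T; simp [mem_sV, *]
  · exact fun c ⟨_, _, _, _, _, _, _⟩ => by show _ ∈ sR T; simp [mem_sR, *]
  · exact fun c ⟨_, _, _, _, h1, h2⟩ => ⟨h1, h2⟩
  · exact le_rfl

theorem z1_mono (i : ℕ) : z1 T i ≤ z1 T (i + 1) := by
  rcases i with _ | _ | _ | _ | _ | i
  · exact bot_le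
  · exact H55.Oc.W_le_A
  · exact fun c ⟨_, _, _, _, _, _, _, _, _⟩ => by show _ ∈ sA7 T; simp [mem_sA7, *]
  · exact fun c ⟨h1, h2, _, _, _, h3, _⟩ => ⟨h1, h2, h3⟩
  · exact fun c h => h.1
  · exact le_rfl

theorem z8_le' (i : ℕ) (hi : i ≤ 4) : z8 T i ≤ sQ T := monotone_nat_of_le_succ z8_mono hi
theorem z1_le' (i : ℕ) (hi : i ≤ 5) : z1 T i ≤ sQ1 T := monotone_nat_of_le_succ z1_mono hi

theorem eq_ww {c : Co T} (h : c ∈ sW T) : c = ww T c.a6 c.a4 := by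
  obtain ⟨_, _, _, _, _, _, _, _, _, _⟩ := h
  ext <;> simp [ww, *]

theorem cj_ww (s : Co T) (a r : K) : s * ww T a r * s⁻¹ = ww T a (r + s.a1 * a) := by
  rw [mul_inv_eq_iff_eq_mul]
  ext <;> simp [ww] <;> grind

theorem ww_mem (a r : K) : ww T a r ∈ sW T := by simp [mem_sW, ww]

theorem jobTri : JobTri.{v} := fun K _ _ _ T aS a8 b8 a1 F hF => by
  haveI : Fact (Nat.Prime 2) := ⟨Nat.prime_two⟩
  have hP : IsPGroup 2 (Co T) := H55.Oc.pgroup_Co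
  have r1 : ∀ α ∈ aY F (sQ1 T), (∀ c ∈ sW T, α c = c) → ∃ s ∈ sQ1 T, ∀ c ∈ sQ1 T, α c = s * c * s⁻¹ :=
    fun α hα h => by
      obtain ⟨s, e⟩ := U5.inn_of_cg hP hF (z1 T) 5 rfl le_rfl z1_le' nz1 (fun i _ => z1_mono i) hα
        ((a1 α ((U5.lg_aY _).au α hα)).2.1 h)
      have := h _ (ww_mem 1 0)
      rw [e _ rfl, cj_ww] at this
      exact ⟨s, by simpa [ww, mem_sQ1] using congrArg Co.a4 this, e⟩
  refine ⟨U5.lg_aY _, U5.lg_aY _, U5.lg_aY _,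
    fun s => (U5.conj_aY F s).imp fun _ h => ⟨h.1, fun u => h.2 u trivial⟩,
    fun y hy h => (U5.inn_of_cg hP hF (z0 T) 12 rfl le_rfl (fun _ _ => le_top) nz0 (fun i _ => z0_mono i) hy h).imp
      fun _ h u => h u trivial,
    fun y hy => U5.res_aY hy ((aS y ((U5.lg_aY _).au y hy)).2.1 _ (by simp)),
    fun α hα h => U5.ext_of hP hF hα fun s => ?_, fun α hα h => ?_,
    fun y hy => U5.res_aY hy ((aS y ((U5.lg_aY _).au y hy)).1 11),
    fun α hα h => U5.ext_of hP hF hα fun s => ?_, r1⟩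
  · have a := (U5.lg_aY _).au α hα
    obtain ⟨pr, -, k⟩ := a8 α a
    obtain ⟨u, -, hu⟩ := k h
    obtain ⟨p, φ, g⟩ := b8 (fun c => u⁻¹ * α c * u)
      (by simpa using (au_conj (X := sQ T) (s := u⁻¹) (by rw [normalizer_eq_top]; trivial)).comp a)
      (fun c hc => nF0.conj_mem' _ (h c hc) u) hu
    refine U5.nor_of_cg hP hF (z8 T) 4 rfl le_rfl z8_le' nz8 (fun i _ => z8_mono i) hα (fun i _ => pr i) s
      (u * sd T p φ s * u⁻¹) fun i hi c hc => ?_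
    have h1 := g i hi _ ((nz8 _).conj_mem c hc s)
    rw [(au_sd p φ).conj trivial trivial] at h1
    convert (nz8 i).conj_mem _
      (mul_mem ((nz8 i).conj_mem _ (inv_mem (g i hi c hc)) (sd T p φ s)) h1) u using 1
    group
  · obtain ⟨s, e⟩ := U5.inn_of_cg hP hF (z8 T) 4 rfl le_rfl z8_le' nz8 (fun i _ => z8_mono i) hα h
    have := h 3 (by omega) (x1 T 1) ⟨rfl, rfl⟩
    rw [e _ ⟨rfl, rfl⟩] at this
    obtain ⟨-, h2, h6, -⟩ := this
    have h8 : s.b8 = 0 := by simp [x1] at h2; grind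
    exact ⟨s, ⟨h8, by simp [x1, h8] at h6; grind⟩, e⟩
  · have a := (U5.lg_aY _).au α hα
    obtain ⟨pr, -, φ, a', b, c', d, w⟩ := a1 α a
    have hW : sW T ≤ sQ1 T := fun _ h => h.1
    have hb : b = 0 := by
      have := (h (ww T 0 1) (by simp [mem_sZ, ww])).2.2.2.2.2.2.2.1
      rw [w] at this
      simpa [ww] using this
    have ha : a' ≠ 0 := fun e => by
      obtain ⟨x, hx, k⟩ := a.sur_of hW (pr 1) _ (ww_mem 1 0)
      rw [eq_ww hx, w] at k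
      simpa [ww, e, hb] using congrArg Co.a6 k
    refine nor_gen hα s (x1 T (d * φ s.a1 / a'))⁻¹ fun γ hγ k => (r1 γ hγ fun x hx => ?_).imp fun _ h => h.2
    obtain ⟨x, hx', rfl⟩ := a.sur_of hW (pr 1) x hx
    rw [k x (hW hx'), eq_ww hx', cj_ww, w, w, inv_inv, cj_ww]
    congr 1
    · simp [hb]
    · simp only [x1, hb, map_add, map_mul, zero_mul, add_zero]
      field_simp
      grind

end H90.RF
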