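/- D3 tower (row S5261): an element that inverts the module. -/
import Cfsg.Agent.H90.D3Kit

set_option autoImplicit false

namespace H90.D3

theorem exists_neg {Y V : Type*} [Group Y] [CommGroup V] [Finite V] (ρ : Y →* MulAut V) (A H : Subgroup Y)
    (D : Subgroup V) (AH : A ≤ H) (fx : ∀ a ∈ A, ∀ d ∈ D, ρ a d = d) (cD : ∀ a ∈ A, ∀ v, v⁻¹ * ρ a v ∈ D)
    (tr : ∀ v, v ∉ D → ∀ d ∈ D, ∃ a ∈ A, ρ a v = v * d)
    (ti : ∀ g, g ∉ H → ∀ a ∈ A, g * a * g⁻¹ ∈ H → ρ a = 1)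
    (st : ∀ d ∈ D, (∀ y, ρ y d = d) ∨ ∀ y, ρ y d = d → y ∈ H)
    {u : V} (hu : u ∈ D) (nu : ¬ ∀ y, ρ y u = u) {s : Y} (hs : s ∈ A) (ns : ρ s ≠ 1) {g : Y} (hg : g ∉ H) :
    ∃ τ, ∀ v, ρ τ v = v⁻¹ := by
  have ap : ∀ x y v, ρ (x * y) v = ρ x (ρ y v) := fun x y v => by rw [map_mul]; rfl
  have iv : ∀ x v, ρ x⁻¹ (ρ x v) = v := fun x v => by rw [← ap, inv_mul_cancel, map_one]; rfl
  have iv' : ∀ x v, ρ x (ρ x⁻¹ v) = v := fun x v => by rw [← ap, mul_inv_cancel, map_one]; rfl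
  have k0 : ∀ d, (∀ y, ρ y d = d → y ∈ H) → ∀ y, y ∉ H → ∀ a ∈ A, ρ a (ρ y d) = ρ y d → ρ a = 1 :=
    fun d hd y hy a ha e => ti y⁻¹ (mt inv_mem_iff.1 hy) a ha (hd _ (by rw [inv_inv, ap, ap, e, iv]))
  have k1 : ∀ d, (∀ y, ρ y d = d → y ∈ H) → ∀ y, ρ y d ∈ D → y ∈ H := fun d hd y h =>
    by_contra fun hy => ns (k0 d hd y hy s hs (fx s hs _ h))
  have su := (st u hu).resolve_left nu
  have st' : ∀ d ∈ D, d ≠ 1 → ∀ y, ρ y d = d → y ∈ H := fun d hd h1 => (st d hd).resolve_left fun h => by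
    obtain ⟨a, ha, e⟩ := tr _ (mt (k1 u su g) hg) d hd
    have := ti g⁻¹ (mt inv_mem_iff.1 hg) a ha (k1 u su _ (by
      rw [inv_inv, ap, ap, e, map_mul, iv, h]; exact mul_mem hu hd))
    rw [this] at e
    exact h1 (by simpa using e)
  let c : V → A.map ρ → D := fun v a => ⟨v⁻¹ * a.1 v, by obtain ⟨_, a, ha, rfl⟩ := a; exact cD a ha v⟩
  have sur : ∀ v, v ∉ D → Function.Surjective (c v) := fun v hv d => by
    obtain ⟨a, ha, e⟩ := tr v hv d d.2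
    exact ⟨⟨_, a, ha, rfl⟩, Subtype.ext (by simp [c, e])⟩
  have cd : Nat.card (A.map ρ) ≤ Nat.card D := Nat.card_le_card_of_injective (c (ρ g u)) (by
    rintro ⟨_, a, ha, rfl⟩ ⟨_, b, hb, rfl⟩ e
    have e' : ρ a (ρ g u) = ρ b (ρ g u) := by simpa [c] using e
    have := k0 u su g hg (b⁻¹ * a) (mul_mem (inv_mem hb) ha) (by rw [ap, e', iv])
    rw [map_mul, map_inv, inv_mul_eq_one] at this
    exact Subtype.ext this.symm)
  have fD : ∀ v, ρ s v = v → v ∈ D := fun v e => by_contra fun hv => ns (congrArg Subtype.val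
    (((sur v hv).bijective_of_nat_card_le cd).1 (a₁ := ⟨_, s, hs, rfl⟩) (a₂ := 1) (Subtype.ext (by simp [c, e]))))
  have on : ∀ y, y ∉ H → ∀ d ∈ D, ∃ e ∈ D, (ρ y e)⁻¹ * ρ s (ρ y e) = d := fun y hy d hd => by
    obtain ⟨e, h⟩ := Finite.surjective_of_injective (f := fun e : D => (⟨_, cD s hs (ρ y e)⟩ : D)) (fun a b h => by
      have h' : (ρ y a)⁻¹ * ρ s (ρ y a) = (ρ y b)⁻¹ * ρ s (ρ y b) := congrArg Subtype.val h
      by_contra k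
      refine ns (k0 (a⁻¹ * b : D) (st' _ (a⁻¹ * b).2 fun e => k (inv_mul_eq_one.1 (Subtype.ext e))) y hy s hs ?_)
      simp only [Subgroup.coe_mul, Subgroup.coe_inv, map_mul, map_inv]
      rw [inv_mul_eq_iff_eq_mul, eq_comm, ← mul_assoc, mul_comm (ρ s _), h', mul_comm, mul_inv_cancel_left]) ⟨d, hd⟩
    exact ⟨e, e.2, congrArg Subtype.val h⟩
  have dec : ∀ y, y ∉ H → ∀ v, ∃ d ∈ D, ∃ e ∈ D, v = d * ρ y e := fun y hy v => by
    obtain ⟨e, he, h⟩ := on y hy _ (cD s hs v)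
    refine ⟨v * (ρ y e)⁻¹, fD _ ?_, e, he, by simp⟩
    rw [map_mul, map_inv, mul_inv_eq_iff_eq_mul, mul_assoc, h, mul_inv_cancel_left]
  have dj : ∀ y, y ∉ H → ∀ e ∈ D, ρ y e ∈ D → e = 1 := fun y hy e he h =>
    by_contra fun k => hy (k1 e (st' e he k) y h)
  have HD : ∀ h ∈ H, ∀ d ∈ D, ρ h d ∈ D := fun h hh d hd => by_contra fun k => by
    obtain ⟨d1, h1, d2, h2, e⟩ := dec g hg (ρ h d)
    obtain ⟨a, ha, e'⟩ := tr (ρ g d2) (fun m => k (e ▸ mul_mem h1 m)) d1 h1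
    have := k1 d (st' d hd fun o => k (by rw [o, map_one]; exact one_mem _)) (g⁻¹ * (a⁻¹ * h))
      (by rw [ap, ap, e, mul_comm, ← e', iv, iv]; exact h2)
    exact hg (inv_mem_iff.1 ((mul_mem_cancel_right (mul_mem (inv_mem (AH ha)) hh)).1 this))
  obtain ⟨d2, h2, e2⟩ := on g hg u hu
  obtain ⟨a, ha, ea⟩ := tr (ρ g⁻¹ u) (mt (k1 u su _) (mt inv_mem_iff.1 hg)) d2 h2
  have xg : ∀ e ∈ D, ρ (g * a⁻¹ * g⁻¹) (ρ g e) = ρ g e := fun e he => by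
    rw [ap, iv, ap, fx _ (inv_mem ha) e he]
  have xu : ρ (g * a⁻¹ * g⁻¹) u = u * (ρ g d2)⁻¹ := by
    have : ρ a⁻¹ (ρ g⁻¹ u) = ρ g⁻¹ u * d2⁻¹ := by
      rw [eq_mul_inv_iff_mul_eq, ← fx _ (inv_mem ha) d2 h2, ← map_mul, ← ea, iv]
    rw [ap, ap, this, map_mul, iv', map_inv]
  set n := s * (g * a⁻¹ * g⁻¹) * s with hn
  have nH : g⁻¹ * n ∈ H := k1 u su _ (by
    rw [ap, hn, ap, ap, fx s hs u hu, xu, map_mul (ρ s), map_inv (ρ s), fx s hs u hu,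
      inv_mul_eq_iff_eq_mul.1 e2, mul_inv_rev, mul_inv_cancel_left, map_inv (ρ g⁻¹), iv]
    exact inv_mem h2)
  have nD : ∀ d ∈ D, ρ n (ρ n d) = d⁻¹ := fun d hd => by
    have he := cD _ (inv_mem ha) (ρ g⁻¹ d)
    set e := (ρ g⁻¹ d)⁻¹ * ρ a⁻¹ (ρ g⁻¹ d) with hE
    have xd : ρ (g * a⁻¹ * g⁻¹) d = d * ρ g e := by
      rw [ap, ap, hE, map_mul, map_inv (ρ g), iv', mul_inv_cancel_left]
    have n1 : ρ n d = d * ρ s (ρ g e) := by rw [hn, ap, ap, fx s hs d hd, xd, map_mul, fx s hs d hd]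
    have h3 := HD _ nH d hd
    have h4 : ρ g (e⁻¹ * ρ (g⁻¹ * n) d) = d * ((ρ g e)⁻¹ * ρ s (ρ g e)) := by
      rw [map_mul, map_inv, ap, iv', n1, mul_left_comm]
    have h5 := dj g hg _ (mul_mem (inv_mem he) h3) (h4 ▸ mul_mem hd (cD s hs _))
    rw [h5, map_one] at h4
    have h6 : ρ s (ρ g e) = ρ g e * d⁻¹ := by
      rw [← inv_mul_eq_iff_eq_mul, eq_inv_iff_mul_eq_one, mul_comm, ← h4]
    have h7 : ρ n d = ρ g e := by rw [n1, h6, mul_comm (ρ g e), mul_inv_cancel_left]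
    rw [h7, hn, ap, ap, h6, map_mul, map_inv, xg e he, xd, mul_inv_rev, mul_inv_cancel_left,
      fx s hs _ (inv_mem hd)]
  refine ⟨n * n, fun v => ?_⟩
  obtain ⟨d, hd, e, he, rfl⟩ := dec n (fun h => hg (inv_mem_iff.1 ((mul_mem_cancel_right h).1 nH))) v
  rw [ap, map_mul (ρ n), map_mul (ρ n), nD d hd, nD e he, map_inv (ρ n), mul_inv]

end H90.D3
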