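/- D3 tower (row S5261): the faithful level with a free vector. -/
import Cfsg.Agent.H90.D3Neg
import Cfsg.Agent.H90.U5D

set_option autoImplicit false
set_option linter.unusedSectionVars false

open Subgroup H92 Cfsg Cfsg.FusionSystem H90.RF H90.U5

universe v

namespace H90.D3

variable {P : Type v} [Group P] [Finite P] {p : ℕ} [Fact p.Prime] {E : Subgroup P}
  {Y H N : Subgroup (MulAut E)}

theorem exists_cAut {a : MulAut E} (h : a ∈ autInducedBy ⊤ E) :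
    ∃ x, ∃ hx : x ∈ normalizer (E : Set P), a = cAut E x hx := by
  obtain ⟨x, hx, h⟩ := mem_autInducedBy'.1 h
  exact ⟨x, hx.2, aut_ext fun c hc => by rw [h c hc, af_cAut _ hc]⟩

theorem neg_aux {Q : Type*} [Group Q] {x d t δ : Q} (b1 : x * (d * t) = d * t * x) (b2 : x * δ = δ * x)
    (b3 : d * (d⁻¹ * (x * d * x⁻¹)) = d⁻¹ * (x * d * x⁻¹) * d) (b4 : d * (d * t) = d * t * d)
    (a4 : δ⁻¹ * (t⁻¹ * (x * t * x⁻¹)) = 1) : d⁻¹ * (x * d * x⁻¹) * (x * δ * x⁻¹) = 1 := by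
  obtain ⟨c, rfl⟩ : ∃ c, t = d⁻¹ * c := ⟨d * t, by group⟩
  rw [mul_inv_cancel_left] at b1 b4
  have h1 : Commute c x := b1.symm
  have h2 : Commute c d := b4.symm
  have h3 : Commute d (d⁻¹ * (x * d * x⁻¹)) := b3
  have h4 : Commute c (d * x * d⁻¹) := (h2.mul_right h1).mul_right h2.inv_right
  rw [b2, mul_inv_cancel_right, inv_mul_eq_one.1 a4]
  calc _ = d⁻¹ * (x * d * x⁻¹) * (c⁻¹ * ((d * x * d⁻¹) * c) * x⁻¹) := by group
    _ = d⁻¹ * (x * d * x⁻¹) * (d * (d⁻¹ * (x * d * x⁻¹))⁻¹ * d⁻¹) := by rw [← h4.eq]; group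
    _ = 1 := by rw [h3.inv_right.eq]; group

/-- the lowest level on which `Y` acts nontrivially -/
theorem exists_min_level (D : Dt p E Y H) (z : ℕ → Subgroup P) (n : ℕ) (h0 : z 0 = ⊥)
    (hz : ∀ i < n, ∀ c ∈ z (i + 1), ∀ s, cm s c ∈ z i) (mono : ∀ i, z i ≤ z (i + 1))
    (hc : ∀ s, (∀ c ∈ z n, s * c = c * s) → s ∈ z n) :
    ∃ i < n, (z i).Normal ∧ (z (i + 1)).Normal ∧ z (i + 1) ≤ E ∧ (∀ y ∈ Y, ∀ j ≤ i, Pr (af y) (z j)) ∧
      (¬ ∀ y ∈ Y, ∀ u ∈ z (i + 1), u⁻¹ * af y u ∈ z i) ∧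
      ∀ y ∈ Y, (orderOf y).Coprime p → ∀ x ∈ E, x ∈ z i → af y x = x := by
  classical
  obtain ⟨i, hi, -, hE, -, nt⟩ := exists_level D z n h0 hz mono hc
  have ex : ∃ j, ¬ ∀ y ∈ Y, ∀ u ∈ z (j + 1), u⁻¹ * af y u ∈ z j := ⟨i, nt⟩
  have le : Nat.find ex ≤ i := Nat.find_min' ex nt
  have h : ∀ j < Nat.find ex, ∀ y ∈ Y, ∀ u ∈ z (j + 1), u⁻¹ * af y u ∈ z j := fun j hj =>
    not_not.1 (Nat.find_min ex hj)
  have nm : ∀ i ≤ n, (z i).Normal := fun i hi => by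
    rcases i with _ | i
    · rw [h0]; infer_instance
    · exact normal_of_cm fun s m hm => mono i (hz i hi m hm s)
  refine ⟨Nat.find ex, by omega, nm _ (by omega), nm _ (by omega),
    (monotone_nat_of_le_succ mono (by omega)).trans hE, fun y hy j hj u hu => ?_, Nat.find_spec ex,
    fun y hy co => fix_of_chain (D.hP.to_subgroup E) co z _
      (fun x _ hx => by rw [h0] at hx; rw [mem_bot.1 hx, (au_af y).one]) fun j hj x _ hx => h j hj y hy x hx⟩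
  rcases j with _ | j
  · rw [h0] at hu ⊢; rw [mem_bot.1 hu, (au_af y).one]; exact one_mem _
  · simpa using mul_mem hu (mono j (h j hj y hy u hu))

theorem core_W (D : Dt p E Y H) (z : ℕ → Subgroup P) (n : ℕ) (h0 : z 0 = ⊥) (mono : ∀ i, z i ≤ z (i + 1))
    (hz : ∀ i < n, ∀ c ∈ z (i + 1), c ^ p ∈ z i ∧ ∀ s, cm s c ∈ z i)
    (hc : ∀ s, (∀ c ∈ z n, s * c = c * s) → s ∈ z n) :
    ∃ i < n, ∃ M, ∃ y ∈ Y, ∃ u, Bw p z i E M (af y) u := by
  obtain ⟨i, hi, nU, nU', hE, pr, nt, fix⟩ :=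
    exists_min_level D z n h0 (fun i hi c hc => (hz i hi c hc).2) mono hc
  have pU : ∀ y ∈ Y, Pr (af y) (z i) := fun y hy => pr y hy i le_rfl
  set M := closure {m | ∃ y ∈ Y, ∃ u ∈ z (i + 1), m = af y u}
  have ME : M ≤ E := (closure_le _).2 fun _ ⟨y, _, u, hu, e⟩ => e ▸ af_mem y (hE hu)
  have zM : z (i + 1) ≤ M := fun u hu => subset_closure ⟨1, one_mem _, u, hu, by simp⟩
  have pM : ∀ y ∈ Y, Pr (af y) M := fun y hy => Pr.closure (au_af y) ME fun _ ⟨y', hy', u, hu, e⟩ =>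
    subset_closure ⟨y * y', mul_mem hy hy', u, hu, by rw [e, af_mul_apply]⟩
  have EM : ∀ x ∈ E, ∀ m ∈ M, cm x m ∈ z i := fun x hx m hm => by
    induction hm using closure_induction with
    | mem m hm =>
      obtain ⟨y, hy, u, hu, rfl⟩ := hm
      rw [← af_af_inv y x, ← (au_af y).cm (af_mem _ hx) (hE hu)]
      exact pU y hy _ ((hz i hi u hu).2 _)
    | one => simp [cm]
    | mul a b _ _ ia ib => rw [cm_mul_right]; exact mul_mem (nU.conj_mem' _ ia b) ib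
    | inv a _ ia => rw [cm_inv_right]; exact nU.conj_mem _ (inv_mem ia) a
  obtain ⟨V, _, _, π, ρ, S⟩ := exists_sec ME pM pU fun s hs => EM s (ME hs)
  have pw : ∀ m ∈ M, π m ^ p = 1 := fun m hm => by
    induction hm using closure_induction with
    | mem m hm =>
      obtain ⟨y, hy, u, hu, rfl⟩ := hm
      rw [← S.act ⟨y, hy⟩ u (zM hu), ← map_pow, ← S.pow (zM hu),
        ← (S.eq _ (one_mem _) _ (pow_mem (zM hu) p)).2 (by simpa using (hz i hi u hu).1), S.one, map_one]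
    | one => rw [S.one, one_pow]
    | mul a b ha hb ia ib => rw [S.mul a ha b hb, mul_pow, ia, ib, one_mul]
    | inv a ha ia =>
      have := S.div ha (one_mem _)
      rw [S.one, mul_one, mul_one] at this
      rw [← this, inv_pow, ia, inv_one]
  have pV : ∀ w : V, w ^ p = 1 := fun w => by obtain ⟨m, hm, rfl⟩ := S.sur w; exact pw m hm
  have hV : IsPGroup p V := fun w => ⟨1, by rw [pow_one, pV]⟩
  have nC := stb_nm pM pU ME
  have CH : stb Y (z i) M pM ≤ H := by_contra fun k => nt fun y hy u hu => by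
    have e := D.mn (autInducedBy ⊤ E ⊔ stb Y (z i) M pM) le_sup_left (sup_le D.syl.le fun _ h => h.1)
      fun h => k (le_sup_right.trans h)
    have : autInducedBy ⊤ E ⊔ stb Y (z i) M pM ≤ (sb ρ (π u)).map Y.subtype := sup_le (fun a ha => by
      obtain ⟨s, -, h⟩ := mem_autInducedBy.1 ha
      refine ⟨⟨a, D.syl.le ha⟩, (S.act _ u (zM hu)).trans
        ((S.eq _ (zM hu) _ (pM a (D.syl.le ha) u (zM hu))).2 ?_).symm, rfl⟩
      rw [h u (hE hu)]; exact (hz i hi u hu).2 s) fun a ha =>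
      ⟨⟨a, ha.1⟩, show ρ _ _ = _ by rw [(S.ker pM ⟨a, ha.1⟩).2 ha]; rfl, rfl⟩
    obtain ⟨y', h, rfl⟩ := this (e.symm ▸ hy)
    exact (S.eq _ (zM hu) _ (pM _ hy u (zM hu))).1 (((S.act _ u (zM hu)).symm.trans h).symm)
  have IC : Inn E ≤ stb Y (z i) M pM := fun a ha => ⟨D.syl.le (Inn_le_autInducedBy le_top ha), fun m hm => by
    obtain ⟨s, hs, h⟩ := mem_Inn.1 ha
    rw [h m (ME hm)]; exact EM s hs m hm⟩
  have cen' : ∀ s (hs : s ∈ normalizer (E : Set P)), cAut E s hs ∈ stb Y (z i) M pM → s ∈ E := fun s hs h =>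
    D.mem_E hs (D.inn_of_le nC CH h (cAut_mem hs trivial))
  have cen : ∀ s, s ∈ E ↔ ∀ m ∈ M, cm s m ∈ z i := fun s => ⟨EM s, fun h => by_contra fun k => by
    obtain ⟨t, ht, ht'⟩ := SetLike.exists_of_lt (lt_normalizerIn' (D.hP.to_subgroup ⊤) le_top
      (lt_of_le_of_ne (show E ≤ cmS (z i) M from EM) fun e => k (e ▸ h)))
    exact ht' (cen' t ht.2 ⟨D.cY _, fun m hm => by rw [af_cAut _ (ME hm)]; exact ht.1 m hm⟩)⟩
  have ok : ∀ y ∈ Y, Ok z i E (af y) := fun y hy => ⟨au_af y, pr y hy⟩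
  have cj : ∀ s (hs : s ∈ normalizer (E : Set P)), ∀ m ∈ M,
      (π m)⁻¹ * ρ ⟨_, D.cY hs⟩ (π m) = π (cm s m) ∧ cm s m ∈ M := fun s hs m hm => by
    have := pM _ (D.cY hs) m hm
    rw [S.act _ m hm, S.div hm this, af_cAut _ (ME hm)]
    rw [af_cAut _ (ME hm)] at this
    exact ⟨rfl, mul_mem (inv_mem hm) this⟩
  have bq : Bq p z i E M := by
    refine ⟨D.ne, zM, ME, cen, fun m hm => ?_, closure_mono fun m ⟨y, hy, u, hu, e⟩ =>
      ⟨subset_closure ⟨y, hy, u, hu, e⟩, _, ok y hy, u, hu, e⟩, fun X hU hX hp s hs k1 k2 => ?_,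
      fun B hB qu s hs hs' a b f g hf inj cov => ?_⟩
    · simpa using (S.eq _ (one_mem _) _ (pow_mem hm p)).1 (by rw [S.pow hm, pw m hm, S.one])
    · have pX : ∀ y ∈ Y, Pr (af y) X := fun y hy => hp _ (ok y hy)
      have pMX : ∀ y ∈ Y, Pr (af y) (M ⊓ X) := fun y hy => (pM y hy).inf (pX y hy)
      refine cen' s hs (D.le_of_pow (N := stb Y X M pM ⊓ stb Y (z i) (M ⊓ X) pMX) nC CH IC (fun _ h => h.1.1)
        (fun y hy n hn => ⟨stb_nm pM pX ME y hy n hn.1, stb_nm pMX pU (inf_le_left.trans ME) y hy n hn.2⟩)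
        (fun y hy => ?_) ⟨⟨D.cY hs, fun m hm => ?_⟩, D.cY hs, fun m hm => ?_⟩)
      · refine (quad_p (α := ρ ⟨y, hy.1.1⟩) hV fun w => ?_).imp fun k e =>
          (S.ker pM (⟨y, hy.1.1⟩ ^ p ^ k)).1 (by rwa [map_pow])
        obtain ⟨m, hm, rfl⟩ := S.sur w
        have h1 := pM y hy.1.1 m hm
        have h2 := mul_mem (inv_mem hm) h1
        rw [S.act _ m hm, S.div hm h1, S.act _ _ h2]
        exact ((S.eq _ h2 _ (pM y hy.1.1 _ h2)).2 (hy.2.2 _ ⟨h2, hy.1.2 m hm⟩)).symm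
      · rw [af_cAut _ (ME hm)]; exact k1 m hm
      · rw [af_cAut _ (ME hm.1)]; exact k2 m hm.1 hm.2
    · have ex : ∀ y : Y, y.1 ∈ autInducedBy B E → ∃ x, ∃ hx : x ∈ B, y = ⟨_, D.cY (hB hx)⟩ := fun y hy => by
        obtain ⟨x, hx, h⟩ := mem_autInducedBy.1 hy
        exact ⟨x, hx, Subtype.ext (aut_ext fun c hc => by rw [h c hc, af_cAut _ hc])⟩
      have := jobQ p Y V (H.subgroupOf Y) ((autInducedBy B E).subgroupOf Y) ρ hV
        (fun e => D.nle (subgroupOf_eq_top.1 e)) (fun y hy => D.le (autInducedBy_mono le_top E hy))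
        (fun y hy => CH ((S.ker pM y).1 hy))
        (fun g hg a ha e => (S.ker pM a).2 (IC (D.ti g g.2 hg a (autInducedBy_mono le_top E ha) e)))
        (fun x hx y hy w => by
          obtain ⟨x, hx', rfl⟩ := ex x hx
          obtain ⟨y, hy', rfl⟩ := ex y hy
          obtain ⟨m, hm, rfl⟩ := S.sur w
          obtain ⟨e, h⟩ := cj y (hB hy') m hm
          obtain ⟨e', h'⟩ := cj x (hB hx') _ h
          rw [e, eq_comm, ← inv_mul_eq_one, e', ← S.one, eq_comm, S.eq _ (one_mem _) _ h']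
          simpa using qu x hx' y hy' m hm)
        ⟨_, D.cY (hB hs)⟩ (cAut_mem (hB hs) hs) fun e => hs' (cen' s _ ((S.ker pM _).1 e))
      refine le_trans ?_ (this.trans (S.card_le (mono i |>.trans zM) g ?_))
      · simpa using Nat.card_le_card_of_injective (fun x : Fin a => (⟨ρ ⟨_, D.cY (hB (hf x))⟩, _,
          cAut_mem (hB (hf x)) (hf x), rfl⟩ : ((autInducedBy B E).subgroupOf Y).map ρ)) fun x y e =>
          inj x y ((cen _).2 fun m hm => by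
            have e' : ρ ⟨_, D.cY (hB (hf x))⟩ = ρ ⟨_, D.cY (hB (hf y))⟩ := congrArg Subtype.val e
            have h1 := cj _ (hB (hf x)) m hm
            have h2 := cj _ (hB (hf y)) m hm
            have := (S.eq _ h1.2 _ h2.2).1 (by rw [← h1.1, ← h2.1, e'])
            rw [cm_mul_left, cm_inv_left]
            simpa [mul_assoc] using nU.conj_mem' _ this (f x))
      · rintro _ ⟨w, rfl⟩
        obtain ⟨m, hm, rfl⟩ := S.sur w
        exact ⟨_, (cj s (hB hs) m hm).2, (cj s (hB hs) m hm).1.symm, cov m hm⟩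
  -- the stabilizers
  have ap : ∀ (x y : Y) v, ρ (x * y) v = ρ x (ρ y v) := fun x y v => by rw [map_mul]; rfl
  have iv : ∀ (x : Y) v, ρ x⁻¹ (ρ x v) = v := fun x v => by rw [← ap, inv_mul_cancel, map_one]; rfl
  have ex : ∀ y : Y, y.1 ∈ autInducedBy ⊤ E → ∃ x, ∃ hx : x ∈ normalizer (E : Set P), y = ⟨_, D.cY hx⟩ :=
    fun y hy => by
      obtain ⟨x, hx, h⟩ := exists_cAut hy
      exact ⟨x, hx, Subtype.ext h⟩
  have fz : ∀ y : Y, y.1 ∈ autInducedBy ⊤ E → ∀ u ∈ z (i + 1), ρ y (π u) = π u := fun y hy u hu => by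
    obtain ⟨x, hx, rfl⟩ := ex y hy
    rw [eq_comm, ← inv_mul_eq_one, (cj x hx u (zM hu)).1, ← S.one, eq_comm, S.eq _ (one_mem _) _ (cj x hx u (zM hu)).2]
    simpa using (hz i hi u hu).2 x
  have st : ∀ u ∈ z (i + 1), (∀ y, ρ y (π u) = π u) ∨ ∀ y : Y, ρ y (π u) = π u → y.1 ∈ H := fun u hu =>
    or_iff_not_imp_right.2 fun k y => by
      have e := D.mn ((sb ρ (π u)).map Y.subtype) (fun a ha => ⟨⟨a, D.syl.le ha⟩, fz _ ha u hu, rfl⟩)
        (map_subtype_le _) fun h => k fun y hy => h ⟨y, hy, rfl⟩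
      obtain ⟨y', h, e'⟩ := e.ge y.2
      exact (Subtype.ext e' : y' = y) ▸ h
  have ti : ∀ g : Y, g.1 ∉ H → ∀ a : Y, a.1 ∈ autInducedBy ⊤ E → (g * a * g⁻¹).1 ∈ H → a.1 ∈ Inn E :=
    fun g hg a ha e => D.ti g g.2 hg a ha e
  obtain ⟨g, hg, hg'⟩ := SetLike.not_le_iff_exists.1 D.nle
  obtain ⟨u, hu, nu⟩ : ∃ u ∈ z (i + 1), ¬ ∀ y, ρ y (π u) = π u := by
    by_contra k
    push Not at k
    exact nt fun y hy u hu => (S.eq _ (zM hu) _ (pM y hy u (zM hu))).1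
      (((S.act ⟨y, hy⟩ u (zM hu)).symm.trans (k u hu _)).symm)
  have su := (st u hu).resolve_left nu
  have wM : af g u ∈ M := pM g hg u (zM hu)
  have gw : π (af g u) = ρ ⟨g, hg⟩ (π u) := (S.act ⟨g, hg⟩ u (zM hu)).symm
  have k0 : ∀ y : Y, y.1 ∉ H → ∀ s (hs : s ∈ normalizer (E : Set P)),
      ρ ⟨_, D.cY hs⟩ (ρ y (π u)) = ρ y (π u) → s ∈ E := fun y hy s hs e =>
    D.mem_E hs (ti y⁻¹ (mt inv_mem_iff.1 hy) ⟨_, D.cY hs⟩ (cAut_mem hs trivial)
      (su _ (by rw [inv_inv, ap, ap, e, iv])))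
  have p1 : ∀ m ∈ M, π m = 1 ↔ m ∈ z i := fun m hm => by
    rw [← S.one, eq_comm, S.eq _ (one_mem _) _ hm, inv_one, one_mul]
  refine ⟨i, hi, M, g, hg, u, bq, ok g hg, hu, wM, fun s => ⟨fun hs => EM s hs _ wM, fun h => by_contra fun k => ?_⟩,
    fun s hs m hm => (cj s hs m hm).2, fun s hs hs' a b f r df hf cov => ?_, fun X nX pX sc c1 c2 s hs => ?_⟩
  · obtain ⟨t, ht, ht'⟩ := SetLike.exists_of_lt (lt_normalizerIn' (D.hP.to_subgroup ⊤) le_top
      (lt_of_le_of_ne (show E ≤ cmS (z i) {af g u} from fun x hx m hm => hm ▸ EM x hx _ wM)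
        fun e => k (e ▸ fun m hm => hm ▸ h)))
    refine ht' (k0 ⟨g, hg⟩ hg' t ht.2 ?_)
    rw [← gw, eq_comm, ← inv_mul_eq_one, (cj t ht.2 _ wM).1, p1 _ (cj t ht.2 _ wM).2]
    exact ht.1 _ rfl
  · set σ := ρ ⟨_, D.cY hs⟩ with hσ
    let c : Fin a → V := fun x => (ρ ⟨g, hg⟩⁻¹ (π (f x)))⁻¹ * σ (ρ ⟨g, hg⟩⁻¹ (π (f x)))
    have ic : Function.Injective c := fun x y e => (df x y).2 (by
      obtain ⟨n, hn, h⟩ := (df x y).1
      have hd := mul_mem (inv_mem (hf x)) (hf y)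
      have e1 : π ((f x)⁻¹ * f y) = (π (af g u))⁻¹ * ρ ⟨_, D.cY hn⟩ (π (af g u)) := by
        rw [(cj n hn _ wM).1]; exact ((S.eq _ (cj n hn _ wM).2 _ hd).2 h).symm
      have e2 : σ (ρ ⟨g, hg⟩⁻¹ (π ((f x)⁻¹ * f y))) = ρ ⟨g, hg⟩⁻¹ (π ((f x)⁻¹ * f y)) := by
        rw [← S.div (hf x) (hf y), map_mul, map_inv, map_mul σ, map_inv σ, inv_mul_eq_iff_eq_mul, eq_comm,
          ← mul_assoc, mul_comm (σ _)]
        exact (congrArg (· * _) e).trans (by simp only [c]; rw [mul_comm, mul_inv_cancel_left])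
      rw [e1, gw, map_mul (ρ _), map_inv (ρ _), iv, map_mul σ, map_inv σ,
        fz ⟨_, D.cY hs⟩ (cAut_mem hs trivial) u hu, mul_right_inj, ← ap _⁻¹, ← ap (_⁻¹ * _)] at e2
      have hH : (⟨g, hg⟩⁻¹ * ⟨_, D.cY hn⟩ * ⟨g, hg⟩ : Y).1 ∈ H := by_contra fun k => hs' (k0 _ k s hs e2)
      have := (S.ker pM _).2 (IC (ti ⟨g, hg⟩⁻¹ (mt inv_mem_iff.1 hg') ⟨_, D.cY hn⟩ (cAut_mem hn trivial)
        (by rwa [inv_inv])))
      rw [← p1 _ hd, e1, this]; simp)
    refine le_trans ?_ (S.card_le (mono i |>.trans zM) r (A := Set.range c) ?_)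
    · rw [Set.ncard_range_of_injective ic]; simp
    · rintro _ ⟨x, rfl⟩
      obtain ⟨m, hm, e⟩ := S.sur (ρ ⟨g, hg⟩⁻¹ (π (f x)))
      exact ⟨_, (cj s hs m hm).2, by simp only [c, ← e]; exact (cj s hs m hm).1.symm, cov m hm⟩
  · have pX' : ∀ y ∈ Y, Pr (af y) X := fun y hy => pX _ (ok y hy)
    obtain ⟨t, ht, ht'⟩ := SetLike.exists_of_lt (lt_normalizerIn' (D.hP.to_subgroup ⊤) le_top
      (lt_of_le_of_ne (le_top : E ≤ ⊤) D.ne))
    have AX : autInducedBy ⊤ E ≤ stb Y X (z i) pU := fun a ha => by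
      obtain ⟨x, hx, rfl⟩ := exists_cAut ha
      exact ⟨D.cY hx, fun c hc => by rw [af_cAut _ (hE (mono i hc))]; exact (c1 x hx).1 c hc⟩
    have YX := D.mn _ AX (fun _ h => h.1) fun h => ht' (D.mem_E ht.2
      (D.inn_of_le (stb_nm pU pX' ((mono i).trans hE)) h (AX (cAut_mem ht.2 trivial)) (cAut_mem ht.2 trivial)))
    have CI : stb Y (z i) M pM ≤ Inn E := D.pn (fun _ h => h.1) nC
      (isPGroup_of_forall_coprime fun y hy co => aut_ext fun x hx => by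
        have hP : IsPGroup p E := D.hP.to_subgroup E
        have fm : ∀ c ∈ z (i + 1), af y c = c := fun c hc => af_fix_of_coprime hP co (hE hc)
          (fix y hy.1 co _ (hE (mono i (hy.2 c (zM hc)))) (hy.2 c (zM hc)))
        have m : x⁻¹ * af y x ∈ z (i + 1) := sc _ fun c hc => by
          have := fm _ (nU'.conj_mem c hc x)
          rw [(au_af y).conj hx (hE hc), fm c hc] at this
          calc x⁻¹ * af y x * c = x⁻¹ * (af y x * c * (af y x)⁻¹) * af y x := by group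
            _ = _ := by rw [this]; group
        rw [af_fix_of_coprime hP co hx (fm _ m), map_one]; rfl)
    let Dz : Subgroup V :=
      { carrier := {v | ∃ d ∈ z (i + 1), π d = v}
        one_mem' := ⟨1, one_mem _, S.one⟩
        mul_mem' := by
          rintro _ _ ⟨a, ha, rfl⟩ ⟨b, hb, rfl⟩
          exact ⟨_, mul_mem ha hb, S.mul _ (zM ha) _ (zM hb)⟩
        inv_mem' := by
          rintro _ ⟨a, ha, rfl⟩
          exact ⟨_, inv_mem ha, by simpa [S.one] using (S.div (zM ha) (one_mem _)).symm⟩ }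
    obtain ⟨τ, hτ⟩ := exists_neg ρ ((autInducedBy ⊤ E).subgroupOf Y) (H.subgroupOf Y) Dz (fun _ h => D.le h)
      (by rintro a ha _ ⟨d, hd, rfl⟩; exact fz a ha d hd)
      (fun a ha v => by
        obtain ⟨x, hx, rfl⟩ := ex a ha
        obtain ⟨m, hm, rfl⟩ := S.sur v
        exact ⟨_, (c1 x hx).2 m hm, (cj x hx m hm).1.symm⟩)
      (by
        rintro v hv _ ⟨d, hd, rfl⟩
        obtain ⟨m, hm, rfl⟩ := S.sur v
        obtain ⟨n, hn, h⟩ := c2 m hm (fun k => hv ⟨m, k, rfl⟩) d hd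
        refine ⟨⟨_, D.cY hn⟩, cAut_mem hn trivial, ?_⟩
        rw [← inv_mul_eq_iff_eq_mul, (cj n hn m hm).1]
        exact (S.eq _ (cj n hn m hm).2 _ (zM hd)).2 h)
      (fun g hg a ha e => (S.ker pM a).2 (IC (ti g hg a ha e)))
      (by rintro _ ⟨d, hd, rfl⟩; exact st d hd) ⟨u, hu, rfl⟩ nu (s := ⟨_, D.cY ht.2⟩) (cAut_mem ht.2 trivial)
      (fun e => ht' (cen' t ht.2 ((S.ker pM _).1 e))) (g := ⟨g, hg⟩) hg'
    obtain ⟨e, he, h⟩ := mem_Inn.1 (CI ((S.ker pM (τ * ⟨_, D.cY hs⟩ * τ⁻¹ * (⟨_, D.cY hs⟩ : Y)⁻¹)).1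
      (MulEquiv.ext fun v => by
        have : ∀ w, ρ τ⁻¹ w = w⁻¹ := fun w => by
          conv_lhs => rw [← inv_inv w, ← hτ w⁻¹, iv]
        rw [ap, ap, ap, this, map_inv (ρ _), hτ, inv_inv, ← ap, mul_inv_cancel, map_one])))
    refine ⟨e, he, fun d hd => ?_⟩
    have hd' := hE hd
    have τd := pM τ τ.2 d (zM hd)
    have a1 : af τ.1 (s * d * s⁻¹) = e * s * af τ.1 d * (e * s)⁻¹ := by
      have := h (s * af τ.1 d * s⁻¹) ((mem_normalizer_iff.1 hs _).1 (ME τd))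
      simp only [Subgroup.coe_mul, Subgroup.coe_inv, af_mul_apply] at this
      rw [← af_cAut hs (ME τd), af_inv_af, af_inv_af, af_cAut hs hd', af_cAut hs (ME τd)] at this
      rw [this]; group
    have a2 : d * af τ.1 d ∈ z i := by
      rw [← p1 _ (mul_mem (zM hd) τd), S.mul _ (zM hd) _ τd, ← S.act τ d (zM hd), hτ, mul_inv_cancel]
    have a3 := (hz i hi d hd).2 s
    have a4 : (cm s d)⁻¹ * af τ.1 (cm s d) ∈ X := (YX.ge τ.2).2 _ a3
    have es := mul_mem (le_normalizer he) hs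
    have a5 : af τ.1 (cm s d) = cm (e * s) (af τ.1 d) := by
      rw [cm, (au_af _).mul _ (inv_mem hd') _ ((mem_normalizer_iff.1 hs _).1 hd'), (au_af _).inv hd', a1, cm]
    have q : ∀ x, x ∈ X ↔ (x : P ⧸ X) = 1 := fun x => (QuotientGroup.eq_one_iff x).symm
    have cz : ∀ n ∈ normalizer (E : Set P), ∀ c ∈ z i, (n : P ⧸ X) * c = c * n := fun n hn c hc => by
      have := (q _).1 ((c1 n hn).1 c hc)
      simp only [cm, QuotientGroup.mk_mul, QuotientGroup.mk_inv] at this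
      rwa [inv_mul_eq_one, eq_mul_inv_iff_mul_eq, eq_comm] at this
    have b1 := cz _ es _ a2
    have b2 := cz _ es _ a3
    have b3 := cz _ (le_normalizer hd') _ ((hz i hi d hd).2 (e * s))
    have b4 := cz _ (le_normalizer hd') _ a2
    rw [a5, q] at a4
    rw [cm_mul_left, q]
    generalize cm s d = δ at a4 b2 ⊢
    simp only [cm, QuotientGroup.mk_mul, QuotientGroup.mk_inv] at a4 b1 b2 b3 b4 ⊢
    exact neg_aux b1 b2 b3 b4 a4

end H90.D3
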