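/- D3 tower (row S5261): the essential subgroups and the three automizers. -/
import Cfsg.Agent.H90.D3W
import Cfsg.Agent.H90.U5Tri

set_option autoImplicit false
set_option linter.unusedSectionVars false
set_option linter.unusedSimpArgs false

open Subgroup H92 Cfsg Cfsg.FusionSystem H90.RF

universe v

namespace H90.D3

section Gen
variable {P : Type v} [Group P] [Finite P] {p : ℕ} [Fact p.Prime] {F : FusionSystem (⊤ : Subgroup P)}
  {E : Subgroup P} (hP : IsPGroup p P) (hF : F.IsSaturated p) (h1 : E < ⊤) (h2 : F.IsFullyNormalized E)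
include hP hF h1 h2

theorem ti_ext {g s : MulAut E} (hg : g ∈ F.autGroup E) (hs : s ∈ autInducedBy ⊤ E) (k : s ∉ Inn E)
    (e : g * s * g⁻¹ ∈ extSub F E) : g ∈ extSub F E := by
  have hS : IsPGroup p (⊤ : Subgroup P) := hP.to_subgroup _
  have sy := sylIn_of_fn hS hF h2
  obtain ⟨h, hh, e'⟩ := (sy.mono (autInducedBy_le_extSub F h1) (extSub_le F E)).exists_conj
    (C := zpowers (g * s * g⁻¹))
    ((((sy.isPGroup.to_le (zpowers_le.2 hs)).map (MulAut.conj g).toMonoidHom)).to_le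
      (zpowers_le.2 ⟨s, mem_zpowers s, rfl⟩)) (zpowers_le.2 e)
  exact (mul_mem_cancel_left hh).1 (mem_extSub_of_conj hS hF h2 (mul_mem (extSub_le F E hh) hg) hs k
    (by simpa [mul_assoc] using e' _ (mem_zpowers _)))

theorem exists_dt' (hc : centralizerIn ⊤ E ≤ E) {N : Subgroup (MulAut E)} (n1 : autInducedBy ⊤ E ≤ N)
    (n2 : N ≤ F.autGroup E) (n3 : ¬ N ≤ extSub F E) : ∃ Y ≤ N, U5.Dt p E Y (extSub F E) := by
  have hS : IsPGroup p (⊤ : Subgroup P) := hP.to_subgroup _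
  obtain ⟨Y, ⟨a, b, c⟩, mn⟩ := WellFounded.has_min (wellFounded_lt (α := Subgroup (MulAut E)))
    {L | autInducedBy ⊤ E ≤ L ∧ L ≤ N ∧ ¬ L ≤ extSub F E} ⟨_, n1, le_rfl, n3⟩
  exact ⟨Y, b, hP, h1.ne, hc, (sylIn_of_fn hS hF h2).mono a (b.trans n2), autInducedBy_le_extSub F h1, c,
    fun R r1 r2 x hx => relSE_extSub hS hF (fc_of_fn hS hF h2) R r1 r2 ⟨n2 (b hx.1), hx.2⟩,
    fun g hg hg' s hs e => by_contra fun k => hg' (ti_ext hP hF h1 h2 (n2 (b hg)) hs k e),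
    fun L l1 l2 l3 => l2.lt_or_eq.resolve_left (mn L ⟨l1, l2.trans b, l3⟩)⟩

end Gen

variable {K : Type v} [Field K] [Finite K] {T : CF K}

variable (T) in
/-- a series of `Q₂` -/
def y2 : ℕ → Subgroup (Co T)
  | 0 => ⊥ | 1 => sZ T | 2 => sW T | 3 => sZ3 T | 4 => sZ4 T | _ => sQ2 T

instance ny2 (j : ℕ) : (y2 T j).Normal := by unfold y2; split <;> infer_instance

theorem y2_mono (i : ℕ) : y2 T i ≤ y2 T (i + 1) := by
  rcases i with _ | _ | _ | _ | _ | i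
  exacts [bot_le, Z_le, W_le, Z3_le, Z4_le', le_rfl]

theorem y2_le (i : ℕ) : y2 T i ≤ sQ2 T := by
  rcases i with _ | _ | _ | _ | _ | i
  exacts [bot_le, fun _ h => h.2.1, fun _ h => h.2.1, fun _ h => h.2.1, Z4_le', le_rfl]

theorem y2_cm : ∀ i < 5, ∀ u ∈ y2 T (i + 1), ∀ s, cm s u ∈ y2 T i := by
  intro i hi u hu s
  interval_cases i
  exacts [cm_one s hu, cm_Z s hu, cm_W s hu, cm_Z3 s hu, cm_Z4 s u]

theorem z0_le1 : ∀ i ≤ 5, z0 T i ≤ sQ1 T := fun _ hi => monotone_nat_of_le_succ (z0_mono (T := T)) hi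

theorem cr_all {c : K} (h : ∀ t, T.cr t c = 0) : c = 0 := T.tr_nd fun v => by
  obtain ⟨t, r, t', r', rfl⟩ := T.exists_cr_add v
  rw [mul_add, T.tr_add, T.tr_cr, T.tr_cr c t', T.cr_comm c, T.cr_comm c, h, h]; simp

theorem mem_Z3_of {u : Co T} (hu : u ∈ sQ2 T) (h : ∀ w ∈ sQ2 T, cm u w ∈ sW T) : u ∈ sZ3 T :=
  ⟨cr_all fun t => by
    have := (h (xc T t) rfl).2.2.2
    simpa [cm_d, xc, (mem_sQ2 T).1 hu, T.cr_comm] using this, hu,
  cr_all fun t => by simpa [cm_d, xa, (mem_sQ2 T).1 hu] using (h (xa T t) rfl).2.2.2⟩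

theorem mem_W_of {u : Co T} (hu : u ∈ sQ2 T) (h : ∀ w ∈ sQ2 T, cm u w = 1) : u ∈ sW T := by
  have h3 := mem_Z3_of hu fun w hw => by rw [h w hw]; exact one_mem _
  exact ⟨h3.1, h3.2.1, h3.2.2, T.tr_nd fun v => by
    simpa [cm_e3' h3, xa, mul_comm] using congrArg Co.e (h (xa T v) rfl)⟩

theorem pr_W2 {β : Co T → Co T} (a : Au (sQ2 T) β) : Pr β (sW T) := fun u hu =>
  mem_W_of (a.mem u hu.2.1) (a.cm_mem le_rfl a.mem (U5.pr_bot a) hu.2.1 fun _ hw =>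
    cm_eq_one.2 (cm_eq_one.1 (cm_Q2_W hw hu)).symm)

theorem pr_Z32 {β : Co T → Co T} (a : Au (sQ2 T) β) : Pr β (sZ3 T) := fun u hu =>
  mem_Z3_of (a.mem u hu.2.1) (a.cm_mem le_rfl a.mem (pr_W2 a) hu.2.1 fun w _ => cm_W' hu w)

theorem pr_y2 {β : Co T → Co T} (a : Au (sQ2 T) β) (h : Pr β (sZ4 T)) (i : ℕ) : Pr β (y2 T i) := by
  rcases i with _ | _ | _ | _ | _ | i
  · exact U5.pr_bot a
  · intro u hu
    obtain ⟨v, hv⟩ := T.exists_tr one_ne_zero u.gk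
    have e : u = cm (xd T v) (xc T 1) := eq_of_Z hu (cm_Q1 rfl rfl) (by
      rw [cm_g1 rfl rfl]; simpa [xc, xd] using hv.symm)
    rw [e, a.cm rfl rfl]
    exact cm_Q1 (h _ ⟨rfl, rfl⟩).1 (h _ ⟨rfl, rfl⟩).1
  exacts [pr_W2 a, pr_Z32 a, h, a.mem]

/-- an automorphism of `Q₁` that is trivial modulo `Z` fixes `Z` -/
theorem fix_Z {β : Co T → Co T} (a : Au (sQ1 T) β) (h : ∀ u ∈ sQ1 T, u⁻¹ * β u ∈ sZ T) :
    ∀ u ∈ sZ T, β u = u := fun u hu => by
  have k : ∀ w ∈ sQ1 T, EqV (β w) w := fun w hw => (Q1_mod hw (a.mem w hw)).1 (h w hw)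
  rw [Z_cm hu, a.cm rfl rfl]
  exact EqV.cm (a.mem _ rfl) (a.mem _ rfl) rfl rfl (k _ rfl) (k _ rfl)

/-- an automorphism of `Q₂` that is trivial modulo `Z₃` is trivial on `Z₃ / W` -/
theorem fix_d {β : Co T → Co T} (a : Au (sQ2 T) β) (h : ∀ u ∈ sQ2 T, u⁻¹ * β u ∈ sZ3 T) :
    ∀ u ∈ sZ3 T, (β u).d = u.d := fun u hu => by
  have k := fun w (hw : w ∈ sQ2 T) => (Q2_mod hw (a.mem w hw)).1 (h w hw)
  have c : ∀ t r, (β (cm (xc T r) (xa T t))).d = T.cr t r := fun t r => by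
    rw [a.cm rfl rfl, cm_d, (k _ rfl).1, (k _ rfl).2, (k (xc T r) rfl).1, (mem_sQ2 T).1 (a.mem (xc T r) rfl)]
    simp [xa, xc]
  have m : ∀ t r, cm (xc T r) (xa T t) ∈ sZ3 T := fun t r => cm_Q2 rfl rfl
  obtain ⟨t, r, t', r', e⟩ := T.exists_cr_add u.d
  have hw : (cm (xc T r) (xa T t) * cm (xc T r') (xa T t'))⁻¹ * u ∈ sW T :=
    (mod2 (mul_mem (m _ _) (m _ _))).2 ⟨hu, by simp [e, cm_d, xa, xc]⟩
  have := pr_W2 a _ hw
  rw [a.mul _ (inv_mem (mul_mem (m _ _) (m _ _)).2.1) _ hu.2.1, a.inv (mul_mem (m _ _) (m _ _)).2.1,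
    a.mul _ (m _ _).2.1 _ (m _ _).2.1, mod2 (mul_mem (pr_Z32 a _ (m _ _)) (pr_Z32 a _ (m _ _)))] at this
  rw [this.2, Co.mul_d, c, c, (pr_Z32 a _ (m t' r')).1, e]; simp

theorem fix_W {β : Co T → Co T} (a : Au (sQ2 T) β) (h : ∀ u ∈ sQ2 T, u⁻¹ * β u ∈ sZ3 T) :
    ∀ u ∈ sW T, β u = u := fun u hu => by
  have k := fun w (hw : w ∈ sQ2 T) => (Q2_mod hw (a.mem w hw)).1 (h w hw)
  have c : ∀ v, ∀ y ∈ sQ2 T, β (cm (xd T v) y) = cm (xd T v) y := fun v y hy => by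
    have m : xd T v ∈ sZ3 T := ⟨rfl, rfl, rfl⟩
    have m' := pr_Z32 a _ m
    have h1 := cm_W' m' (β y)
    have h2 := cm_W' m y
    rw [a.cm rfl hy]
    ext
    exacts [h1.1.trans h2.1.symm, h1.2.1.trans h2.2.1.symm, h1.2.2.1.trans h2.2.2.1.symm,
      h1.2.2.2.trans h2.2.2.2.symm, by rw [cm_e3' m', cm_e3' m, (k y hy).1, fix_d a h _ m],
      by rw [cm_g3' m', cm_g3' m, (k y hy).2, fix_d a h _ m, (mem_sQ2 T).1 hy, (mem_sQ2 T).1 (a.mem y hy)]; simp]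
  obtain ⟨v, hv⟩ := T.exists_tr one_ne_zero u.ek
  obtain ⟨w, hw⟩ := T.exists_tr one_ne_zero u.gk
  have e : u = cm (xd T v) (xa T 1) * cm (xd T w) (xc T 1) := by
    have m : ∀ v, xd T v ∈ sZ3 T := fun _ => ⟨rfl, rfl, rfl⟩
    simp only [one_mul, Co.coe_ek, Co.coe_gk] at hv hw
    ext <;> simp [cm_c, cm_d, cm_e3' (m _), cm_g3' (m _), hu.1, hu.2.1, hu.2.2.1, hu.2.2.2] <;>
      simp [xa, xc, xd, hv, hw]
  rw [e, a.mul _ (cm_b _ _) _ (cm_b _ _), c _ _ rfl, c _ _ rfl]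

theorem Q1_lt : sQ1 T < ⊤ := lt_top_iff_ne_top.2 fun e => one_ne_zero ((e.ge trivial : xa T 1 ∈ sQ1 T))

theorem cen_Q1 : centralizerIn ⊤ (sQ1 T) ≤ sQ1 T := fun s hs => by
  simpa [cm_c, xb, mem_sQ1] using congrArg Co.c (cm_eq_one.2 (hs.2 (xb T 1) rfl).symm)

theorem core_Co {p : ℕ} [Fact p.Prime] [CharP K p] {E : Subgroup (Co T)} {Y H : Subgroup (MulAut E)}
    (D : U5.Dt p E Y H) : ∃ i < 3, ∃ M, ∃ y ∈ Y, ∃ u, Bw p (zA T) i E M (af y) u :=
  core_W D (zA T) 3 rfl (fun i => by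
      rcases i with _ | _ | _ | i
      exacts [bot_le, Z_le, W_le, le_rfl])
    (fun i hi c hc => by
      interval_cases i
      · exact ⟨pow_p_Z3 p (W_le (Z_le hc)), fun s => cm_one s hc⟩
      · exact ⟨by rw [pow_p_Z3 p (W_le hc)]; exact one_mem _, fun s => cm_Z s hc⟩
      · exact ⟨by rw [pow_p_Z3 p hc]; exact one_mem _, fun s => cm_W s hc⟩)
    fun _ h => cen_Z3 h

theorem jobTri : JobTri.{v} := fun l0 l1 l2 p _ K _ _ _ T ch F hF => by
  have hP := pgroup_Co (T := T) p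
  have es : ∀ E, F.IsEssential p E → E = sQ1 T ∨ E = sQ2 T := fun E hE => by
    obtain ⟨Y, H, D⟩ := U5.exists_dt hP hF hE
    obtain ⟨i, hi, M, y, -, u, h⟩ := core_Co D
    interval_cases i
    exacts [Or.inr (l0 p K T _ _ _ _ h), Or.inl (l1 p K T _ _ _ _ h), (l2 p K T _ _ _ _ h).elim]
  have au := fun y (hy : y ∈ aY F ⊤) => (U5.lg_aY _).au y hy
  have al : ∀ Q f, Mor F Q f → ¬ Q ≤ sQ1 T → ¬ Q ≤ sQ2 T → ∃ y ∈ aY F ⊤, ∀ x ∈ Q, f x = y x :=
    alperin_induction (hP.to_subgroup ⊤) hF _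
      (fun P Q f g _ c h e k1 k2 => (c (mt h.trans k1) (mt h.trans k2)).imp fun y hy =>
        ⟨hy.1, fun x hx => (e x hx).symm.trans (hy.2 x (h hx))⟩)
      (fun P Q f g _ c _ c' h k1 k2 => by
        obtain ⟨y, hy, e⟩ := c k1 k2
        obtain ⟨y', hy', e'⟩ := c'
          (fun l => k1 fun x hx => (au y hy).mem_of le_top ((ch y (au y hy)).1 5) trivial (e x hx ▸ l (h x hx)))
          (fun l => k2 fun x hx => (au y hy).mem_of le_top (ch y (au y hy)).2 trivial (e x hx ▸ l (h x hx)))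
        exact ⟨y' * y, mul_mem hy' hy, fun x hx => (e' _ (h x hx)).trans (congrArg y' (e x hx))⟩)
      fun P h α hα k1 k2 => by
        rcases h with rfl | h
        · exact ⟨_, ⟨α, hα, rfl⟩, fun _ _ => rfl⟩
        · rcases es P h with rfl | rfl
          exacts [(k1 le_rfl).elim, (k2 le_rfl).elim]
  have ex : ∀ α ∈ extSub F (sQ1 T), ∃ y ∈ aY F ⊤, ∀ u ∈ sQ1 T, af α u = y u := fun α hα => by
    induction hα using closure_induction with
    | mem α h =>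
      obtain ⟨Q, hQ, g, hg, e⟩ := h
      obtain ⟨y, hy, k⟩ := al Q g hg hQ.not_ge fun l => one_ne_zero (l (hQ.le (rfl : xb T 1 ∈ sQ1 T)) : (1 : K) = 0)
      exact ⟨y, hy, fun u hu => (e u hu).symm.trans (k u (hQ.le hu))⟩
    | one => exact ⟨1, one_mem _, fun u _ => by simp⟩
    | mul a b _ _ ia ib =>
      obtain ⟨y, hy, e⟩ := ia
      obtain ⟨y', hy', e'⟩ := ib
      exact ⟨y * y', mul_mem hy hy', fun u hu => by rw [af_mul_apply, e _ (af_mem _ hu), e' u hu]; rfl⟩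
    | inv a _ ia =>
      obtain ⟨y, hy, e⟩ := ia
      exact ⟨y⁻¹, inv_mem hy, fun u hu => by
        rw [Equiv.Perm.eq_inv_iff_eq, ← e _ (af_mem _ hu), af_af_inv]⟩
  have fn : F.IsFullyNormalized (sQ1 T) := U5.fn_X F
  have st : ∀ α ∈ F.autGroup (sQ1 T), Pr (af α) (sW T) → α ∈ extSub F (sQ1 T) := fun α hα h => by
    let N : Subgroup (MulAut (sQ1 T)) :=
      { carrier := {β | β ∈ F.autGroup (sQ1 T) ∧ Pr (af β) (sW T)}
        one_mem' := ⟨one_mem _, fun c hc => by simpa using hc⟩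
        mul_mem' := fun {a b} ha hb => ⟨mul_mem ha.1 hb.1, fun c hc => by
          rw [af_mul_apply]; exact ha.2 _ (hb.2 c hc)⟩
        inv_mem' := fun {a} ha => ⟨inv_mem ha.1, fun c hc => (au_af a).mem_of W_le_Q1 ha.2
          (af_mem _ (W_le_Q1 hc)) (by rwa [af_af_inv])⟩ }
    refine (by_contra fun k => ?_ : N ≤ _) ⟨hα, h⟩
    obtain ⟨Y, hY, D⟩ := exists_dt' hP hF Q1_lt fn cen_Q1 (N := N) (fun a ha =>
      ⟨(sylIn_of_fn (hP.to_subgroup ⊤) hF fn).le ha, fun c hc => by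
        obtain ⟨s, -, e⟩ := mem_autInducedBy.1 ha
        rw [e c (W_le_Q1 hc)]; exact nW.conj_mem c hc s⟩) (fun _ h => h.1) k
    obtain ⟨i, hi, M, y, hy, u, h⟩ := core_Co D
    interval_cases i
    · exact one_ne_zero ((l0 p K T _ _ _ _ h).le (rfl : xb T 1 ∈ sQ1 T) : (1 : K) = 0)
    · exact h.q.ne (eq_top_iff.2 fun s _ => (h.fr s).2 (cm_Z s ((hY hy).2 u h.hu)))
    · exact l2 p K T _ _ _ _ h
  have n2 := fun α hα h => U5.nor_of_cm hP hF (y2 T) 5 rfl le_rfl (fun i _ => y2_le i) y2_mono ny2 y2_cm (α := α)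
    hα fun i _ => pr_y2 ((U5.lg_aY _).au α hα) h i
  refine ⟨es, U5.lg_aY _, U5.lg_aY _, U5.lg_aY _, fun s => (U5.conj_aY F s).imp fun _ h => ⟨h.1, fun u => h.2 u trivial⟩,
    fun y hy h => (U5.pel_of hP hF hy (fun s => ⟨y s, fun c _ => (au y hy).conj trivial trivial⟩) h).imp
      fun _ h u => h u trivial,
    fun y hy h => (U5.inn_of_cg hP hF (z0 T) 6 rfl le_rfl (fun _ _ => le_top) nz0 (fun i _ => z0_mono i) hy h).imp
      fun _ h u => h u trivial,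
    fun y hy => U5.res_aY hy ((ch y (au y hy)).1 5), ?_, ?_, fun α hα h => ?_,
    fun y hy => U5.res_aY hy (ch y (au y hy)).2, fun α hα h => U5.ext_of hP hF hα (n2 α hα h),
    fun α hα h => ?_⟩
  · rintro _ ⟨α, hα, rfl⟩ h
    exact ex α (st α hα h)
  · rintro _ ⟨α, hα, rfl⟩ s hs h
    have hn : s⁻¹ ∈ normalizer (sQ1 T : Set (Co T)) := by rw [normalizer_eq_top]; trivial
    have hc : cAut _ _ hn ∈ autInducedBy ⊤ (sQ1 T) := cAut_mem hn trivial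
    have := ti_ext hP hF Q1_lt fn (inv_mem hα) hc
      (fun k => hs (inv_mem_iff.1 ((cAut_mem_Inn_iff cen_Q1 le_top ⟨trivial, hn⟩).1 k)))
      (st _ (mul_mem (mul_mem (inv_mem hα) ((sylIn_of_fn (hP.to_subgroup ⊤) hF fn).le hc)) (inv_mem (inv_mem hα)))
        fun z hz => by
          obtain ⟨z', hz', e⟩ := h z hz
          rwa [inv_inv, af_mul_apply, af_mul_apply, af_cAut _ (af_mem _ (W_le_Q1 hz)), inv_inv, e, af_inv_af])
    obtain ⟨y, hy, e⟩ := ex α (inv_mem_iff.1 this)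
    exact fun z hz => e z (W_le_Q1 hz) ▸ (ch y (au y hy)).1 2 z hz
  · obtain ⟨s, e⟩ := U5.inn_of_cg hP hF (z0 T) 5 rfl le_rfl z0_le1 nz0 (fun i _ => z0_mono i) hα
      fun i hi u hu => by
        have := h u (z0_le1 _ hi hu)
        rcases i with _ | i
        · rw [fix_Z ((U5.lg_aY _).au α hα) h u hu]; exact inv_mul_cancel u
        · exact monotone_nat_of_le_succ (z0_mono (T := T)) (Nat.le_add_left 1 i) this
    have := h (xb T 1) rfl
    rw [e _ rfl] at this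
    exact ⟨s, by simpa [cm_c, xb, mem_sQ1] using (show (cm s (xb T 1)).c = 0 from this.2.2.1), e⟩
  · have a := (U5.lg_aY _).au α hα
    obtain ⟨s, e⟩ := U5.inn_of_cg hP hF (y2 T) 5 rfl le_rfl (fun i _ => y2_le i) ny2 (fun i _ => y2_mono i) hα
      fun i hi u hu => by
        have := h u (y2_le _ hu)
        have k := fun hu => show (id u)⁻¹ * α u ∈ y2 T i by
          rw [fix_W a h u hu]; simp
        interval_cases i
        exacts [k (Z_le hu), k hu, (mod2 hu).2 ⟨pr_Z32 a u hu, fix_d a h u hu⟩, this, Z3_le this]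
    have := h (xa T 1) rfl
    rw [e _ rfl] at this
    exact ⟨s, by simpa [cm_c, xa, mem_sQ2] using (show (cm s (xa T 1)).c = 0 from this.2.2), e⟩

end H90.D3
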