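/- D3 tower (row S5261): the standard form of the automizer of `S`. -/
import Cfsg.Agent.H90.D3Tri
import Cfsg.Agent.H90.U5Hall

set_option autoImplicit false
set_option linter.unusedSectionVars false
set_option linter.unusedSimpArgs false

open Subgroup H92 Cfsg H90.RF

universe v

namespace H90.D3

variable {K : Type v} [Field K] [Finite K] {T : CF K} {p : ℕ} {Y0 Y1 Y2 : Subgroup (Equiv.Perm (Co T))}

theorem CH.cl (ch : CH T) {θ β γ : Co T → Co T} (a : Au ⊤ θ) (h : Cg (z0 T) 6 β γ) :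
    Cg (z0 T) 6 (fun x => θ (β x)) fun x => θ (γ x) :=
  h.comp_left a (ch θ a).1 (fun _ _ => le_top) (fun _ _ => trivial) fun _ _ => trivial

/-- conjugation by an automorphism that is trivial on the factors -/
theorem CH.cj (ch : CH T) {θ α y : Co T → Co T} (a : Au ⊤ α) (b : Au ⊤ y) (h : Cg (z0 T) 6 θ id)
    (e : ∀ c, α (θ c) = θ (y c)) : Cg (z0 T) 6 α y :=
  (ch.cl a h).symm.trans (by simpa only [e, id] using h.comp_right (ch y b).1)

theorem sd_uniq {δ : Pm T} (h : Cg (z0 T) 6 (sd δ) id) : δ = 1 := by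
  obtain ⟨h1, h2, -⟩ := Cg_sd (θ := id) h.symm
  have e : δ.x = 1 := by simpa [xa] using (h1 (xa T 1)).symm
  exact Pm.ext' e (show _ = (1 : K) by simpa [xb] using (h2 (xb T 1) rfl).symm)
    (RingEquiv.ext fun t => show _ = t by simpa [xa, e] using (h1 (xa T t)).symm)

theorem sd_uniq' (ch : CH T) {θ : Co T → Co T} {δ ε : Pm T} (h : Cg (z0 T) 6 θ (sd δ))
    (k : Cg (z0 T) 6 θ (sd ε)) : δ = ε :=
  (inv_mul_eq_one.1 (sd_uniq fun i hi c hc => by
    simpa only [sd_sd, inv_mul_cancel, sd_one, id] using ch.cl (au_sd ε⁻¹) (h.symm.trans k) i hi c hc)).symm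

theorem CH.mul (ch : CH T) {θ η : Co T → Co T} {δ ε : Pm T} (a : Au ⊤ θ) (h : Cg (z0 T) 6 θ (sd δ))
    (k : Cg (z0 T) 6 η (sd ε)) : Cg (z0 T) 6 (fun x => θ (η x)) (sd (δ * ε)) :=
  (ch.cl a k).trans (by simpa only [sd_sd] using h.comp_right (pr_sd_z0 ε))

theorem au_cjY {P : Type*} [Group P] {θ : MulAut P} {Y : Subgroup (Equiv.Perm P)} (l : Lg ⊤ Y)
    {y : Equiv.Perm P} (h : y ∈ cjY θ Y) : Au ⊤ y := by
  obtain ⟨α, hα, e⟩ := mem_cjY.1 h
  exact ((au_aut θ⁻¹).comp ((l.au α hα).comp (au_aut θ))).congr fun c _ => by simp [e]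

/-- a standard automorphism of order `p` is not congruent to an element of `Y₀` -/
theorem no_p [hp : Fact p.Prime] (ch : CH T) (t : Tri T p Y0 Y1 Y2) {y : Equiv.Perm (Co T)} (hy : y ∈ Y0)
    {δ : Pm T} (k : Cg (z0 T) 6 y (sd δ)) (e : δ ^ p = 1) : δ = 1 := by
  have pw : ∀ j : ℕ, Cg (z0 T) 6 (y ^ j : Equiv.Perm _) (sd (δ ^ j)) := fun j => by
    induction j with
    | zero => exact fun i _ c _ => by simp [sd_one]
    | succ j ih => rw [pow_succ', pow_succ']; exact (ch.mul (t.l0.au y hy) k ih :)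
  obtain ⟨j, m, hm, hj⟩ := Nat.exists_eq_pow_mul_and_not_dvd (orderOf_pos y).ne' p hp.out.ne_one
  obtain ⟨s, hs⟩ := t.pel0 _ (pow_mem hy m) ⟨j, by rw [← pow_mul, mul_comm, ← hj, pow_orderOf_eq_one]⟩
  have := sd_uniq ((pw m).symm.trans fun i hi c hc => by rw [hs]; exact z0_cm i hi c hc s)
  exact orderOf_eq_one_iff.1 (Nat.eq_one_of_dvd_coprimes (hp.out.coprime_iff_not_dvd.2 hm)
    (orderOf_dvd_of_pow_eq_one e) (orderOf_dvd_of_pow_eq_one this))

theorem jobHall : JobHall.{v} := fun p hp K _ _ _ T ch Y0 Y1 Y2 t sS => by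
  have hP := pgroup_Co (T := T) p
  let A : Subgroup (MulAut (Co T)) :=
    { carrier := {θ | ∃ δ : Pm T, Cg (z0 T) 6 θ (sd δ)}
      one_mem' := ⟨1, fun i _ c _ => by simp [sd_one]⟩
      mul_mem' := fun {a b} ⟨δ, h⟩ ⟨ε, k⟩ => ⟨δ * ε, (ch.mul (au_aut a) h k :)⟩
      inv_mem' := fun {a} ⟨δ, h⟩ => ⟨δ⁻¹, by
        have := (ch.cl (au_aut a⁻¹) h).comp_right (pr_sd_z0 δ⁻¹)
        simpa only [sd_sd, mul_inv_cancel, sd_one, MulAut.inv_apply_self] using this.symm⟩ }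
  choose f hf using fun θ : A => θ.2
  let F : A →* Pm T := MonoidHom.mk' f fun θ η => sd_uniq' ch (hf _) (ch.mul (au_aut θ.1) (hf θ) (hf η) :)
  let σ : Pm T →* A := sdH.codRestrict A fun δ => ⟨δ, Cg.refl _ _ _⟩
  have hk : ∀ θ ∈ F.ker, Cg (z0 T) 6 θ.1 id := fun θ h => by
    have := hf θ
    rw [show f θ = 1 from h] at this
    exact fun i hi c hc => by simpa only [sd_one, id] using this i hi c hc
  let Y : Subgroup A := (Y0.comap (MulAut.toPerm _)).subgroupOf A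
  obtain ⟨θ, hθ, h⟩ := U5.hall_abs (p := p) F σ (fun δ => sd_uniq' ch (hf _) (Cg.refl _ _ _))
    (isPGroup_of_forall_coprime fun α hα co => by
      have e : ∀ x, af (MulAut.congr topEquiv.symm α.1) x = α.1 x := fun x => af_of_mem _ (mem_top x)
      exact Subtype.ext (MulEquiv.ext fun x => (e x).symm.trans (fix_of_chain (hP.to_subgroup ⊤)
        (by rwa [MulEquiv.orderOf_eq, orderOf_coe]) (z0 T) 6
        (fun x _ hx => by rw [mem_bot.1 hx, e, map_one])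
        (fun i hi x _ hx => by rw [e]; exact hk α hα i hi x hx) x trivial trivial))) Y
    (U5.coprime_of_pow fun δ ⟨y, hy, e⟩ e' => no_p ch t hy (e ▸ hf y) e')
  refine ⟨θ, hk θ hθ, fun δ ⟨y, hy, c⟩ => ?_⟩
  obtain ⟨α, hα, e⟩ := mem_cjY.1 hy
  have a := t.l0.au α hα
  have c' := (ch.cj a (au_cjY t.l0 hy) (hk θ hθ) e).trans c
  have m : (⟨a.toTop, δ, c'⟩ : A) ∈ Y := show MulAut.toPerm _ a.toTop ∈ Y0 from
    (Equiv.ext fun _ => rfl : α = MulAut.toPerm _ a.toTop) ▸ hα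
  exact ⟨(sdH δ).toEquiv, mem_cjY.2 ⟨_, h δ ⟨_, m, sd_uniq' ch (hf _) c'⟩, fun x => by
    change θ.1 (sdH δ (θ.1⁻¹ (θ.1 x))) = _
    rw [MulAut.inv_apply_self]; rfl⟩, fun _ => rfl⟩

end H90.D3
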