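/- D3 tower (row S5261): the assembly. -/
import Cfsg.Agent.H90.D3Hall

set_option autoImplicit false
set_option linter.unusedSectionVars false
set_option linter.unusedSimpArgs false

open Subgroup H92 Cfsg H90.RF

universe u v

namespace H90.D3

/-- all the slots -/
structure Jobs : Prop where
  L0 : JobL0.{v}
  L1 : JobL1.{v}
  L2 : JobL2.{v}
  A1 : JobA1.{v}
  A2 : JobA2.{v}
  CH : JobCH.{v}
  AS0 : JobAS0.{v}
  AS1 : JobAS1.{v}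
  X2 : JobX2.{v}
  Oa : JobOa.{v}
  Oe : JobOe.{v}
  Om : JobOm.{v}
  Oc : JobOc.{v}
  Ga : JobGa.{v}
  Gb : JobGb.{v}
  Gc : JobGc.{v}
  G2 : JobG2.{v}
  N1 : JobN1.{v}
  N2 : JobN2.{v}
  Real : JobReal.{v}
  Model : JobModel.{v}

section Co
variable {K : Type v} [Field K] [Finite K] {T : CF K} {p : ℕ}
variable {Y0 Y1 Y2 Y1' Y2' : Subgroup (Equiv.Perm (Co T))} {Φ : Subgroup (RingAut K)}

theorem det1 (o : Om T 0 Y1) (t : Tri T p Y0 Y1 Y2) (t' : Tri T p Y0 Y1' Y2') (n : N1 T Y1)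
    (n' : N1 T Y1') : Y1 ≤ Y1' := by
  have k : ∀ α ∈ Y1, Pr α (sW T) → α ∈ Y1' := fun α hα p => by
    obtain ⟨y, hy, e⟩ := t.ext1 α hα p
    obtain ⟨β, hβ, e'⟩ := t'.res1 y hy
    exact U5.lg_mem t.l1 t'.l1 hα hβ fun c hc => (e c hc).trans (e' c hc).symm
  intro α hα
  rcases o α hα with p | ⟨u, p⟩
  · exact k α hα p
  obtain ⟨ν, hν, e⟩ := n
  obtain ⟨ν', hν', e'⟩ := n'
  obtain ⟨y, hy, f⟩ := t.inn u⁻¹
  obtain ⟨γ, hγ, f'⟩ := t.res1 y hy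
  have h1 := k γ hγ fun c hc => by rw [f' c (W_le_Q1 hc), f]; exact nW.conj_mem c hc _
  have h2 := U5.lg_mem t.l1 t'.l1 hν hν' fun c hc => (e c hc).trans (e' c hc).symm
  have h3 := k _ (mul_mem hν (mul_mem hγ hα)) fun c hc => by
    have q := (t.l1.au α hα).mem c (W_le_Q1 hc)
    rw [Equiv.Perm.mul_apply, Equiv.Perm.mul_apply, f' _ q, f, e _ (nQ1.conj_mem _ q _), inv_inv]
    exact ⟨rfl, (p c hc).2.2, neg_eq_zero.2 (by simpa only [zero_mul] using (p c hc).2.1), (p c hc).1⟩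
  exact (Y1'.mul_mem_cancel_left h1).1 ((Y1'.mul_mem_cancel_left h2).1 h3)

theorem det2 (a : A2 T) (t : Tri T p Y0 Y1 Y2) (t' : Tri T p Y0 Y1' Y2') (n : N2 T Y2) (n' : N2 T Y2') :
    Y2 ≤ Y2' := by
  have k : ∀ α ∈ Y2, Pr α (sZ4 T) → α ∈ Y2' := fun α hα p => by
    obtain ⟨y, hy, e⟩ := t.ext2 α hα p
    obtain ⟨β, hβ, e'⟩ := t'.res2 y hy
    exact U5.lg_mem t.l2 t'.l2 hα hβ fun c hc => (e c hc).trans (e' c hc).symm
  intro α hα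
  obtain ⟨F, ψ, m, n0, r, s, -, h⟩ := a α (t.l2.au α hα)
  by_cases hr : (n0 : K) = 0
  · exact k α hα fun c hc => ⟨by simp [(h c hc.2).1, hr, hc.1], (t.l2.au α hα).mem c hc.2⟩
  obtain ⟨ν, hν, e⟩ := n
  obtain ⟨ν', hν', e'⟩ := n'
  obtain ⟨y, hy, f⟩ := t.inn (xb T (-s / n0))
  obtain ⟨γ, hγ, f'⟩ := t.res2 y hy
  have h1 := k γ hγ fun c hc => by rw [f' c hc.2, f]; exact nZ4.conj_mem c hc _
  have h2 := U5.lg_mem t.l2 t'.l2 hν hν' fun c hc => (e c hc).trans (e' c hc).symm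
  have h3 := k _ (mul_mem hν (mul_mem hγ hα)) fun c hc => by
    have q := (t.l2.au α hα).mem c hc.2
    rw [Equiv.Perm.mul_apply, Equiv.Perm.mul_apply, f' _ q, f, e _ (nQ2.conj_mem _ q _)]
    refine ⟨neg_eq_zero.2 ((cj_Q2 _ q).2.trans ?_), rfl⟩
    simp only [h c hc.2, hc.1, map_zero, xb]
    push_cast
    field_simp
    ring
  exact (Y2'.mul_mem_cancel_left h1).1 ((Y2'.mul_mem_cancel_left h2).1 h3)

theorem eq_dia {δ : Pm T} {x : K} {y : T.k} (hx : x ≠ 0) (hy : (y : K) ≠ 0) {k l : K} (hl : l ≠ 0)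
    (h : ∀ t, k * δ.φ t = l * t) (h1 : δ.x = x) (h2 : (δ.y : K) = y) : δ = Pm.dia x y hx hy := by
  have e : k = l := by simpa using h 1
  exact Pm.ext' h1 h2 (RingEquiv.ext fun t => mul_left_cancel₀ hl (e ▸ h t))

variable (T) in
/-- `Y₀` contains an element congruent to the diagonal automorphism -/
def CT (Y0 : Subgroup (Equiv.Perm (Co T))) (x : K) (y : T.k) : Prop :=
  ∀ hx hy, ∃ η ∈ Y0, Cg (z0 T) 6 η (sd (Pm.dia x y hx hy))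

theorem wt1 (a : Std T Y0) (t : Tri T p Y0 Y1 Y2) (g : G1 T Y1) {s : K} (hs : s ≠ 0) :
    CT T Y0 (s ^ 2) (T.nmk s)⁻¹ := fun hx hy' => by
  obtain ⟨α, hα, h⟩ := g s hs
  obtain ⟨y, hy, e⟩ := t.ext1 α hα fun c hc => by
    obtain ⟨h1, h2, h3, -⟩ := h c (W_le_Q1 hc)
    exact ⟨(t.l1.au α hα).mem c (W_le_Q1 hc), by simp [h1, dg, hc.2.1], by simp [h2, dg, hc.2.2.1],
      by simp [h3, dg, hc.2.2.2]⟩
  obtain ⟨δ, hδ⟩ := a y hy
  obtain ⟨-, c2, c3, -⟩ := Cg_sd hδ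
  have k : ∀ x, δ.x * δ.y * δ.φ x = s ^ 2 * ((T.nmk s)⁻¹ : T.k) * x := fun x =>
    (c3 (xc T x) ⟨rfl, rfl⟩).symm.trans (by rw [← e _ rfl, (h _ rfl).2.1]; rfl)
  have k2 : (δ.y : K) = ((T.nmk s)⁻¹ : T.k) := by
    have := c2 (xb T 1) rfl
    rw [← e _ rfl, (h _ rfl).1] at this
    simpa [dg, xb] using this.symm
  have k1 := k 1
  rw [map_one, mul_one, mul_one, k2] at k1
  exact ⟨y, hy, eq_dia hx hy' (mul_ne_zero hx hy') k (mul_right_cancel₀ hy' k1) k2 ▸ hδ⟩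

theorem wt2 (a : Std T Y0) (t : Tri T p Y0 Y1 Y2) (g : G2 T Y2) {s : T.k} (hs : s ≠ 0) :
    CT T Y0 (s : K)⁻¹ (s ^ 2) := fun hx hy' => by
  obtain ⟨α, hα, h⟩ := g.2 s hs
  obtain ⟨y, hy, e⟩ := t.ext2 α hα fun c hc => ⟨by simp [(h c hc.2).1, hc.1], (t.l2.au α hα).mem c hc.2⟩
  obtain ⟨δ, hδ⟩ := a y hy
  obtain ⟨c1, -, c3, -⟩ := Cg_sd hδ
  have k : ∀ x, δ.x * δ.φ x = (s : K)⁻¹ * x := fun x =>
    (c1 (xa T x)).symm.trans (by rw [← e _ rfl, (h _ rfl).1]; rfl)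
  have k1 : δ.x = (s : K)⁻¹ := by simpa using k 1
  have k2 := c3 (xc T 1) ⟨rfl, rfl⟩
  rw [← e _ rfl, (h _ rfl).2, k1] at k2
  refine ⟨y, hy, eq_dia hx hy' hx k k1 ?_ ▸ hδ⟩
  simp only [xc, map_one, mul_one] at k2
  rw [eq_comm, inv_mul_eq_iff_eq_mul₀ (by simpa using hs)] at k2
  rw [k2, sq]; rfl

theorem Sp.ht (h : Sp T Y0) {x : K} {y : T.k} (c : CT T Y0 x y) (hx : x ≠ 0) (hy : (y : K) ≠ 0) : HT T Y0 x y :=
  (h _ (c hx hy)).imp fun _ k => ⟨k.1, fun u => (k.2 u).trans (sd_dia x y hx hy u)⟩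

theorem Sp.h2 (h : Sp T Y0) (c : ∀ s : T.k, s ≠ 0 → CT T Y0 (s : K)⁻¹ (s ^ 2)) : H2 T Y0 := fun s hs =>
  h.ht (c s hs) (by simpa using hs) (by simpa using hs)

theorem HA.h2 (h : HA T Y0) : H2 T Y0 := fun s hs => h _ _ (by simpa using hs) (by simpa using hs)

/-- the two one-dimensional tori generate the torus -/
theorem ha_of (h1 : ∀ s : K, s ≠ 0 → HT T Y0 (s ^ 2) (T.nmk s)⁻¹) (h2 : H2 T Y0) : HA T Y0 := fun x y hx hy => by
  let f : {z : K × T.k // z.1 ≠ 0 ∧ (z.2 : K) ≠ 0} → {z : K × T.k // z.1 ≠ 0 ∧ (z.2 : K) ≠ 0} := fun z =>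
    ⟨(z.1.1 ^ 2 * (z.1.2 : K)⁻¹, (T.nmk z.1.1)⁻¹ * z.1.2 ^ 2), by simp [z.2.1, z.2.2], by simp [z.2.1, z.2.2]⟩
  obtain ⟨⟨⟨s, r⟩, hs, hr⟩, e⟩ := Finite.surjective_of_injective (f := f) (by
    rintro ⟨⟨s, r⟩, hs, hr⟩ ⟨⟨s', r'⟩, hs', hr'⟩ e
    simp only [f, Subtype.mk.injEq, Prod.mk.injEq, Subtype.ext_iff] at e hs hr hs' hr' ⊢
    obtain ⟨e1, e2⟩ := e
    push_cast at e2
    have a1 : (s * s'⁻¹) ^ 2 = r * (r' : K)⁻¹ := by field_simp at e1 ⊢; linear_combination e1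
    have a2 : T.σ (s * s'⁻¹) = s * s'⁻¹ := T.fix_of_sq (by rw [← map_pow, a1]; simp)
    have a3 := T.nm_of_fix a2
    have n1 := mt T.nm_eq_zero.1 hs
    have n2 := mt T.nm_eq_zero.1 hs'
    rw [T.nm_mul, T.nm_inv] at a3
    have a4 : (r * (r' : K)⁻¹) ^ 2 = T.nm s * (T.nm s')⁻¹ := by
      simp only [CF.coe_nmk] at e2; field_simp at e2 ⊢; linear_combination e2
    have a5 : s * s'⁻¹ = 1 := mul_left_cancel₀ (pow_ne_zero 3 (mul_ne_zero hs (inv_ne_zero hs')))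
      (by rw [← a1, a3] at a4; linear_combination a4)
    rw [a5, one_pow, eq_comm] at a1
    exact ⟨(mul_inv_eq_one₀ hs').1 a5, (mul_inv_eq_one₀ hr').1 a1⟩) ⟨(x, y), hx, hy⟩
  obtain ⟨η, hη, k⟩ := h1 s hs
  obtain ⟨η', hη', k'⟩ := h2 r (by simpa using hr)
  obtain ⟨e1, e2⟩ := Prod.ext_iff.1 (congrArg Subtype.val e)
  exact ⟨η * η', mul_mem hη hη', fun u => by
    rw [Equiv.Perm.mul_apply, k, k', dg_dg]; exact congrArg₂ (dg T · · u) e1 e2⟩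

theorem Std.cj (ch : CH T) (l : Lg ⊤ Y0) (h : Std T Y0) {θ : MulAut (Co T)} (c : Cg (z0 T) 6 θ id) :
    Std T (cjY θ Y0) := fun y hy => by
  obtain ⟨α, hα, e⟩ := mem_cjY.1 hy
  exact (h α hα).imp fun δ k => (ch.cj (l.au α hα) (au_cjY l hy) c e).symm.trans k

theorem CT.cj (ch : CH T) (l : Lg ⊤ Y0) {x : K} {y : T.k} (h : CT T Y0 x y) {θ : MulAut (Co T)}
    (c : Cg (z0 T) 6 θ id) : CT T (cjY θ Y0) x y := fun hx hy => by
  obtain ⟨α, hα, k⟩ := h hx hy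
  obtain ⟨η, hη, e⟩ := exists_cjY θ hα
  exact ⟨η, hη, (ch.cj (l.au α hα) (au_cjY l hη) c e).symm.trans k⟩

variable (T) in
/-- the field automorphisms as parameters -/
def fld : RingAut K →* Pm T := MonoidHom.mk' (fun φ => ⟨1, 1, φ, one_ne_zero, one_ne_zero⟩) fun φ ψ =>
  Pm.ext' (by simp [Pm.mul_x]) (by simp [Pm.mul_y]) rfl

theorem sd_fld (δ : Pm T) (u : Co T) : sd δ u = dg T δ.x δ.y (sd (fld T δ.φ) u) :=
  congrArg (dg T δ.x δ.y) (dg_one (fa T δ.φ u)).symm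

variable (T) in
/-- the field automorphisms in `Y₀` -/
def fY (Y0 : Subgroup (Equiv.Perm (Co T))) : Subgroup (RingAut K) :=
  Y0.comap ((MulAut.toPerm _).comp (sdH.comp (fld T)))

variable (T) in
/-- the standard form of `Y₀` -/
def St0 (Φ : Subgroup (RingAut K)) (Y0 : Subgroup (Equiv.Perm (Co T))) : Prop :=
  ∀ y : Equiv.Perm (Co T), y ∈ Y0 ↔ ∃ s, ∃ δ : Pm T, δ.φ ∈ Φ ∧ ∀ u, y u = s * sd δ u * s⁻¹

theorem st0_of (t : Tri T p Y0 Y1 Y2) (a : Std T Y0) (b : Sp T Y0) (c : HA T Y0) : St0 T (fY T Y0) Y0 := by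
  refine fun y => ⟨fun hy => ?_, fun ⟨s, δ, hδ, e⟩ => ?_⟩
  · obtain ⟨δ, hδ⟩ := a y hy
    obtain ⟨η, hη, e⟩ := b δ ⟨y, hy, hδ⟩
    obtain ⟨τ, hτ, e'⟩ := c δ.x δ.y δ.hx δ.hy
    obtain ⟨s, hs⟩ := t.rad0 _ (mul_mem hy (inv_mem hη)) fun i hi u hu => by
      obtain ⟨w, hw, rfl⟩ := (au_sd δ).sur_of le_top (pr_sd_z0 δ _) u hu
      have := hδ i hi w hw
      rw [← e] at this ⊢
      simpa using this
    refine ⟨s, δ, ?_, fun u => by rw [← e, ← hs]; simp⟩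
    have := mul_mem (inv_mem hτ) hη
    rwa [show τ⁻¹ * η = MulAut.toPerm _ (sdH (fld T δ.φ)) from Equiv.ext fun u => by
      rw [Equiv.Perm.mul_apply, Equiv.Perm.inv_eq_iff_eq, e, e', sd_fld]; rfl] at this
  · obtain ⟨τ, hτ, e'⟩ := c δ.x δ.y δ.hx δ.hy
    obtain ⟨σ, hσ, e''⟩ := t.inn s
    have := mul_mem hσ (mul_mem hτ hδ)
    rwa [show y = σ * (τ * MulAut.toPerm _ (sdH (fld T δ.φ))) from Equiv.ext fun u => by
      rw [Equiv.Perm.mul_apply, Equiv.Perm.mul_apply, e'', e', e, sd_fld]; rfl]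

theorem cen_Q2 : FusionSystem.centralizerIn ⊤ (sQ2 T) ≤ sQ2 T := fun s hs => by
  simpa [cm_c, xa, mem_sQ2] using congrArg Co.c (cm_eq_one.2 (hs.2 (xa T 1) rfl).symm)

variable [Fact p.Prime] [CharP K p]

variable (T p) in
/-- a saturated system in which both automizers move the flag -/
structure Mv (F : FusionSystem (⊤ : Subgroup (Co T))) : Prop where
  sat : F.IsSaturated p
  m1 : ∃ α ∈ aY F (sQ1 T), ¬ Pr α (sW T)
  m2 : ∃ α ∈ aY F (sQ2 T), ¬ Pr α (sZ4 T)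

variable {F : FusionSystem (⊤ : Subgroup (Co T))}

theorem Mv.cj (a : CH T) (h : Mv T p F) (θ : MulAut (Co T)) :
    ∃ F', Mv T p F' ∧ (F'.IsRealizable p → F.IsRealizable p) ∧ aY F' ⊤ = cjY θ (aY F ⊤) ∧
      aY F' (sQ1 T) = cjY θ (aY F (sQ1 T)) := by
  obtain ⟨F', tr, e⟩ := U5.exists_cj F θ
  obtain ⟨a1, a2⟩ := a θ (au_aut θ)
  exact ⟨F', ⟨tr.symm.isSaturated h.sat, e _ (a1 5) ▸ U5.moves (a1 2) h.m1, e _ a2 ▸ U5.moves (a1 4) h.m2⟩,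
    tr.isRealizable', e _ fun _ _ => trivial, e _ (a1 5)⟩

theorem Jobs.tri (J : Jobs.{v}) (h : F.IsSaturated p) : Tri T p (aY F ⊤) (aY F (sQ1 T)) (aY F (sQ2 T)) :=
  (jobTri J.L0 J.L1 J.L2 p K T (J.CH p K T) F h).2

theorem Jobs.ess (J : Jobs.{v}) (h : F.IsSaturated p) {E : Subgroup (Co T)} (hE : F.IsEssential p E) :
    E = sQ1 T ∨ E = sQ2 T := (jobTri J.L0 J.L1 J.L2 p K T (J.CH p K T) F h).1 E hE

theorem Jobs.om (J : Jobs.{v}) (t : Tri T p Y0 Y1 Y2) (s : Std T Y0) (h : H2 T Y0) :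
    ((2 : K) ≠ 0 → D3.Om T 0 Y1) ∧ ((2 : K) = 0 → ∃ a, D3.Om T a Y1) :=
  ⟨fun h2 => (J.Om p K T (J.A1 p K T) _ _ _ t (J.Oa p K T h2 (J.A1 p K T) _ _ _ t s h)).1 h2 h,
    fun h2 => (J.Om p K T (J.A1 p K T) _ _ _ t (J.Oe p K T h2 (J.A1 p K T) _ _ _ t)).2 h2⟩

theorem Jobs.om0 (J : Jobs.{v}) (t : Tri T p Y0 Y1 Y2) (s : Std T Y0) (h : HA T Y0) : D3.Om T 0 Y1 := by
  by_cases h2 : (2 : K) = 0
  · obtain ⟨a, o⟩ := (J.om t s h.h2).2 h2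
    have hω : T.ω ≠ 0 := fun e => T.ne (by rw [e, map_zero])
    exact (J.Oc p K T _ _ _ t a o).1 T.ω 1 hω one_ne_zero (h _ _ hω one_ne_zero) fun e =>
      T.ne (by rw [← mul_one T.ω, ← e, T.mul_sh, T.σ_nm])
  · exact (J.om t s h.h2).1 h2

theorem Jobs.g2 (J : Jobs.{v}) (h : Mv T p F) : D3.G2 T (aY F (sQ2 T)) :=
  J.G2 p K T (J.A2 p K T) _ _ _ (J.tri h.sat) h.m2

theorem Jobs.g0 (J : Jobs.{v}) (h : Mv T p F) (s : Std T (aY F ⊤)) (k : (2 : K) ≠ 0 → H2 T (aY F ⊤))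
    (o : D3.Om T 0 (aY F (sQ1 T))) : G0 T (aY F (sQ1 T)) := by
  by_cases h2 : (2 : K) = 0
  exacts [J.Gb p K T h2 (J.A1 p K T) _ _ _ (J.tri h.sat) s o h.m1,
    J.Ga p K T h2 (J.A1 p K T) _ _ _ (J.tri h.sat) s (k h2) o h.m1]

theorem stepA (J : Jobs.{v}) (h : Mv T p F) :
    ∃ F', Mv T p F' ∧ (F'.IsRealizable p → F.IsRealizable p) ∧ Std T (aY F' ⊤) := by
  have ch := J.CH p K T
  by_cases q : ∃ l : T.k, l ≠ 0 ∧ l ≠ 1
  · exact ⟨F, h, id, fun y hy => J.AS0 p K T ch y ((U5.lg_aY _).au y hy)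
      (J.AS1 p K T (J.A1 p K T) ch q y ((U5.lg_aY _).au y hy))⟩
  obtain ⟨θ, hθ⟩ := J.X2 p K T ch (fun l => by_contra fun k => q ⟨l, not_or.1 k⟩) _ _ _ (J.tri h.sat)
  obtain ⟨F', m, r, e, -⟩ := h.cj ch θ
  exact ⟨F', m, r, fun y hy => J.AS0 p K T ch y ((U5.lg_aY _).au y hy) (hθ y (e ▸ hy))⟩

theorem stepH (J : Jobs.{v}) (h : Mv T p F) (s : Std T (aY F ⊤)) :
    ∃ F', Mv T p F' ∧ (F'.IsRealizable p → F.IsRealizable p) ∧ Std T (aY F' ⊤) ∧ Sp T (aY F' ⊤) ∧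
      H2 T (aY F' ⊤) ∧ ∀ x y, CT T (aY F ⊤) x y → CT T (aY F' ⊤) x y := by
  have ch := J.CH p K T
  obtain ⟨θ, c, sp⟩ := jobHall p K T ch _ _ _ (J.tri h.sat) s
  obtain ⟨F', m, r, e, -⟩ := h.cj ch θ
  have s' : Std T (aY F' ⊤) := e ▸ s.cj ch (U5.lg_aY _) c
  have sp' : Sp T (aY F' ⊤) := e ▸ sp
  exact ⟨F', m, r, s', sp', sp'.h2 fun _ hs => wt2 s' (J.tri m.sat) (J.g2 m) hs,
    fun x y k => e ▸ k.cj ch (U5.lg_aY _) c⟩

theorem stepB (J : Jobs.{v}) (h : Mv T p F) (s : Std T (aY F ⊤)) (k : H2 T (aY F ⊤)) :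
    ∃ F', Mv T p F' ∧ (F'.IsRealizable p → F.IsRealizable p) ∧ Std T (aY F' ⊤) ∧ G0 T (aY F' (sQ1 T)) := by
  have t := J.tri h.sat
  by_cases h2 : (2 : K) = 0
  swap
  · exact ⟨F, h, id, s, J.g0 h s (fun _ => k) ((J.om t s k).1 h2)⟩
  obtain ⟨a, o⟩ := (J.om t s k).2 h2
  by_cases q : ∃ l : T.k, l ≠ 0 ∧ l ≠ 1
  · obtain ⟨l, h0, h1⟩ := q
    have h0' : (l : K) ≠ 0 := by simpa using h0
    refine ⟨F, h, id, s, J.g0 h s (fun _ => k) ((J.Oc p K T _ _ _ t a o).1 _ _ (inv_ne_zero h0')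
      (by simpa using h0) (k l h0) fun e => h1 (Subtype.ext ?_))⟩
    rw [T.sh_inv, T.sh_of_fix l.2, inv_eq_one] at e
    exact sub_eq_zero.1 (pow_eq_zero_iff two_ne_zero |>.1 (by
      change ((l : K) - 1) ^ 2 = 0; linear_combination e + (1 - (l : K)) * h2))
  obtain ⟨θ, c, o'⟩ := (J.Oc p K T _ _ _ t a o).2 fun l => by_contra fun k => q ⟨l, not_or.1 k⟩
  obtain ⟨F', m, r, e, e'⟩ := h.cj (J.CH p K T) θ
  have s' : Std T (aY F' ⊤) := e ▸ s.cj (J.CH p K T) (U5.lg_aY _) c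
  exact ⟨F', m, r, s', J.g0 m s' (fun k => (k h2).elim) (e' ▸ o')⟩

section Real
variable {G : Type*} [Group G] [Finite G] {ι : Co T →* G} {E : FusionSystem (⊤ : Subgroup (Co T))}

theorem real_mem (r : Rl T p Φ ι) (hE : E.IsRealizedBy (ι.comp (⊤ : Subgroup (Co T)).subtype))
    {X : Subgroup (Co T)} {f : Co T → Co T} (pf : Pr f X) (g : G)
    (h : ∀ c ∈ X, g * ι c * g⁻¹ = ι (f c)) : ∃ y ∈ aY E X, ∀ c ∈ X, y c = f c :=
  exists_aY ((real_iff hE r.inj).2 ⟨g, fun c hc => (h c hc).symm⟩) pf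

theorem real_st0 (r : Rl T p Φ ι) (hE : E.IsRealizedBy (ι.comp (⊤ : Subgroup (Co T)).subtype)) :
    St0 T Φ (aY E ⊤) := by
  refine fun y => ⟨fun hy => ?_, fun ⟨s, δ, hδ, e⟩ => ?_⟩
  · obtain ⟨g, hg⟩ := (real_iff hE r.inj).1 (mor_aY hy)
    obtain ⟨s, δ, hδ, h⟩ := r.nor g (mem_normalizer_fintype fun _ ⟨c, hc⟩ => ⟨y c, by rw [hg c trivial, hc]⟩)
    exact ⟨s, δ, hδ, fun c => r.inj (by rw [hg c trivial, h])⟩
  · obtain ⟨g, hg⟩ := r.std δ hδ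
    obtain ⟨y', hy', e'⟩ := real_mem r hE (X := ⊤) (f := y) (fun _ _ => trivial) (ι s * g)
      fun c _ => by rw [e, map_mul, map_mul, map_inv, ← hg]; group
    rwa [show y = y' from Equiv.ext fun c => (e' c trivial).symm]

end Real

theorem stepD (J : Jobs.{v}) (h : Mv T p F) (s : Std T (aY F ⊤)) (sp : Sp T (aY F ⊤)) (ha : HA T (aY F ⊤)) :
    F.IsRealizable p := by
  have hP : IsPGroup p (⊤ : Subgroup (Co T)) := (pgroup_Co p).to_subgroup _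
  have t := J.tri h.sat
  have o := J.om0 t s ha
  have n1 := J.N1 p K T _ _ _ t (J.g0 h s (fun _ => ha.h2) o) ha
  have n2 := J.N2 p K T _ _ _ t (J.g2 h) ha
  haveI : Finite (RingAut K) := Finite.of_injective (fun φ : RingAut K => (φ : K → K)) DFunLike.coe_injective
  obtain ⟨G, _, _, ι, r⟩ := J.Real p K T (fY T (aY F ⊤)) (U5.coprime_of_pow fun φ hφ e =>
    congrArg Pm.φ (no_p (J.CH p K T) t hφ (δ := fld T φ) (Cg.refl _ _ _) (by rw [← map_pow, e, map_one])))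
  obtain ⟨S, hS⟩ := r.syl
  have hS' : (S : Subgroup G) = (ι.comp (⊤ : Subgroup (Co T)).subtype).range := by
    rw [hS]
    exact le_antisymm (fun _ ⟨c, e⟩ => ⟨⟨c, trivial⟩, e⟩) fun _ ⟨c, e⟩ => ⟨_, e⟩
  obtain ⟨E, hE, re⟩ := H9.exists_pull (r.inj.comp (subtype_injective _)) S hS'
  have e0 : aY E ⊤ = aY F ⊤ := Subgroup.ext fun y => (real_st0 r re y).trans (st0_of t s sp ha y).symm
  have t' := J.tri hE
  rw [e0] at t'
  have o' := J.om0 t' s ha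
  have n1' : N1 T (aY E (sQ1 T)) := r.n1.elim fun g => real_mem r re au_nu1.mem g
  have n2' : N2 T (aY E (sQ2 T)) := r.n2.elim fun g => real_mem r re au_nu2.mem g
  have l1 : F ≤ E := le_of_essential hP h.sat fun P k => by
    rcases k with rfl | k
    · exact U5.aut_le' e0.ge
    · rcases J.ess h.sat k with rfl | rfl
      exacts [U5.aut_le' (det1 o t t' n1 n1'), U5.aut_le' (det2 (J.A2 p K T) t t' n2 n2')]
  have l2 : E ≤ F := le_of_essential hP hE fun P k => by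
    rcases k with rfl | k
    · exact U5.aut_le' e0.le
    · rcases J.ess hE k with rfl | rfl
      exacts [U5.aut_le' (det1 o' t' t n1' n1), U5.aut_le' (det2 (J.A2 p K T) t' t n2' n2)]
  exact H9.isRealizable_of ⟨re.1, fun P h φ k => (Iff.intro (l1 P ·) (l2 P ·)).trans (re.2 P h φ k)⟩ S hS'

theorem core (J : Jobs.{v}) (hF : F.IsSaturated p) : F.IsRealizable p := by
  have hP : IsPGroup p (⊤ : Subgroup (Co T)) := (pgroup_Co p).to_subgroup _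
  have ch := J.CH p K T
  have t := J.tri hF
  have nrm : ∀ X : Subgroup (Co T), (∀ θ, Au ⊤ θ → Pr θ X) → (∀ E, F.IsEssential p E → E = X) → F.IsNormal X :=
    fun X hX hE => isNormal_of_essential hP hF fun P h => by
      rcases h with rfl | h
      · exact ⟨le_top, fun α _ => hX _ (au_af α)⟩
      · obtain rfl := hE P h
        exact ⟨le_rfl, fun α _ _ => af_mem α⟩
  by_cases m1 : ∀ α ∈ aY F (sQ1 T), Pr α (sW T)
  · exact H9.isRealizable_of_isNormal hP hF (nrm _ (fun θ h => (ch θ h).2) fun E h =>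
      (J.ess hF h).resolve_left fun e => U5.not_ess hP hF (fun α hα => t.ext1 α hα (m1 α hα)) (e ▸ h)) cen_Q2
  by_cases m2 : ∀ α ∈ aY F (sQ2 T), Pr α (sZ4 T)
  · exact H9.isRealizable_of_isNormal hP hF (nrm _ (fun θ h => (ch θ h).1 5) fun E h =>
      (J.ess hF h).resolve_right fun e => U5.not_ess hP hF (fun α hα => t.ext2 α hα (m2 α hα)) (e ▸ h)) cen_Q1
  push Not at m1 m2
  obtain ⟨F1, h1, r1, s1⟩ := stepA J ⟨hF, m1, m2⟩
  obtain ⟨F2, h2, r2, s2, -, k2, -⟩ := stepH J h1 s1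
  obtain ⟨F3, h3, r3, s3, g3⟩ := stepB J h2 s2 k2
  obtain ⟨F4, h4, r4, s4, p4, k4, c4⟩ := stepH J h3 s3
  exact r1 (r2 (r3 (r4 (stepD J h4 s4 p4 (ha_of (fun s hs => p4.ht (c4 _ _
    (wt1 s3 (J.tri h3.sat) (J.Gc p K T _ _ _ (J.tri h3.sat) g3) hs)) (by simpa using hs) (by simpa using hs)) k4)))))

end Co

theorem main (J : Jobs.{v}) {Ω : Type u} [Group Ω] {S : Subgroup Ω} (p : ℕ) [Fact p.Prime]
    (F : FusionSystem S) (hF : F.IsSaturated p) {K : Type v} [Field K] [Fintype K] [CharP K p] (n : ℕ)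
    (hn : 1 ≤ n) (hK : Fintype.card K = (p ^ n) ^ 3) (S0 : Sylow p (Lie.twistedD4 K (p ^ n)))
    (e : S ≃* (S0 : Subgroup (Lie.twistedD4 K (p ^ n)))) : F.IsRealizable p := by
  obtain ⟨T, ⟨e'⟩⟩ := J.Model p K n hn hK S0
  let ψ : S →* Co T := (e.trans e').toMonoidHom
  obtain ⟨b, hi⟩ := H94.exists_pIso (mulOn_ext1 ψ) fun x hx y hy h => by
    rw [ext1_of_mem ψ hx, ext1_of_mem ψ hy] at h
    exact congrArg Subtype.val ((e.trans e').injective h)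
  rw [← range_eq_img ψ fun x => (ext1_coe ψ x).symm, MonoidHom.range_eq_top.2 (e.trans e').surjective] at hi
  obtain ⟨E, tr⟩ := hi.exists_tr F
  exact tr.symm.isRealizable' (core J (tr.isSaturated hF))

end H90.D3
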