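import Cfsg.Agent.H90.D8Lift
import Cfsg.Agent.H48.ASG

/-! Elementary consequences of a frame for a standard subgroup with Sylow `2`-subgroup `D₈`. -/

set_option autoImplicit false
set_option linter.unusedSectionVars false
set_option linter.unusedSimpArgs false

namespace H90.D8

open Subgroup Cfsg H98 H14 H1.Gold H85.FZ H49.D8

universe u

variable {G : Type u} [Group G] {v s z x y c d σ w p q : G} {A T W : Subgroup G}

section
variable (h : DH v s z)
include h

theorem vi : v⁻¹ = v := inv_eq_of_mul_eq_one_right h.vv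
theorem si : s⁻¹ = s := inv_eq_of_mul_eq_one_right h.ss
theorem zi : z⁻¹ = z := inv_eq_of_mul_eq_one_right h.zz
theorem vv' (x : G) : v * (v * x) = x := by rw [← mul_assoc, h.vv, one_mul]
theorem ss' (x : G) : s * (s * x) = x := by rw [← mul_assoc, h.ss, one_mul]
theorem zz' (x : G) : z * (z * x) = x := by rw [← mul_assoc, h.zz, one_mul]
theorem vs' (x : G) : v * (s * x) = s * (v * (z * x)) := by
  rw [← mul_assoc, h.vs, mul_assoc, mul_assoc]
theorem zv' (x : G) : z * (v * x) = v * (z * x) := by rw [← mul_assoc, ← h.vz, mul_assoc]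
theorem zs' (x : G) : z * (s * x) = s * (z * x) := by rw [← mul_assoc, ← h.sz, mul_assoc]

end

local macro "d8 " h:term : tactic => `(tactic| simp only [mul_assoc, mul_inv_rev, inv_one, mul_one, one_mul,
  vi $h, si $h, zi $h, vv' $h, ss' $h, zz' $h, vs' $h, zv' $h, zs' $h, ($h).vv, ($h).ss, ($h).zz,
  ($h).vs, ← ($h).vz, ← ($h).sz, true_or, or_true])

section
variable (h : DH v s z)
include h

theorem mem_D (hx : x ∈ cl [v, s]) : x = 1 ∨ x = z ∨ x = v ∨ x = v * z ∨ x = s ∨ x = s * z ∨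
    x = s * v ∨ x = s * (v * z) := by
  unfold cl at hx
  induction hx using closure_induction_left with
  | one => exact Or.inl rfl
  | mul_left a ha y _ ih =>
    simp only [Set.mem_ofPred_eq, List.mem_cons, List.not_mem_nil, or_false] at ha
    rcases ha with rfl | rfl <;> rcases ih with e | e | e | e | e | e | e | e <;> rw [e] <;> d8 h
  | inv_mul_cancel a ha y _ ih =>
    simp only [Set.mem_ofPred_eq, List.mem_cons, List.not_mem_nil, or_false] at ha
    rcases ha with rfl | rfl <;> rcases ih with e | e | e | e | e | e | e | e <;> rw [e] <;> d8 h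

theorem mem_V (hx : x ∈ cl [v, z]) : x = 1 ∨ x = z ∨ x = v ∨ x = v * z := by
  unfold cl at hx
  induction hx using closure_induction_left with
  | one => exact Or.inl rfl
  | mul_left a ha y _ ih =>
    simp only [Set.mem_ofPred_eq, List.mem_cons, List.not_mem_nil, or_false] at ha
    rcases ha with rfl | rfl <;> rcases ih with e | e | e | e <;> rw [e] <;> d8 h
  | inv_mul_cancel a ha y _ ih =>
    simp only [Set.mem_ofPred_eq, List.mem_cons, List.not_mem_nil, or_false] at ha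
    rcases ha with rfl | rfl <;> rcases ih with e | e | e | e <;> rw [e] <;> d8 h

theorem nc : v * s ≠ s * v := fun e => h.z1 (by
  rw [h.vs] at e
  simpa using e)

theorem v_mem : v ∈ cl [v, s] := mem_cl (by simp)
theorem s_mem : s ∈ cl [v, s] := mem_cl (by simp)

theorem sq_D (hx : x ∈ cl [v, s]) : (x * x = 1 ∧
    (x = 1 ∨ x = z ∨ x = v ∨ x = v * z ∨ x = s ∨ x = s * z)) ∨ x * x = z := by
  rcases mem_D h hx with e | e | e | e | e | e | e | e <;> rw [e] <;> d8 h <;> simp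

theorem z_comm (hx : x ∈ cl [v, s]) : x * z = z * x := by
  rcases mem_D h hx with e | e | e | e | e | e | e | e <;> rw [e] <;> d8 h

theorem mem_cenD (a : x * v * x⁻¹ = v) (b : x * s * x⁻¹ = s) : x ∈ cen (cl [v, s]) := by
  refine le_centralizer_iff.1 (cl_le.2 fun y hy => ?_ : cl [v, s] ≤ cen (zpowers x)) (mem_zpowers x)
  rw [zpowers_eq_closure, cen, centralizer_closure, mem_centralizer_singleton_iff]
  simp only [List.mem_cons, List.not_mem_nil, or_false] at hy
  rcases hy with rfl | rfl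
  · exact (mul_inv_eq_iff_eq_mul.1 a).symm
  · exact (mul_inv_eq_iff_eq_mul.1 b).symm

theorem tri_move (t : Tri σ z v) (e : σ * w = w * σ) (hσ : σ ∈ A) (hd : d = v ∨ d = v * z) :
    ∃ a ∈ A, a * (w * d) * a⁻¹ = w * z := by
  rcases hd with rfl | rfl
  · refine ⟨σ⁻¹, inv_mem hσ, ?_⟩
    rw [← t.1, ← mul_assoc w, ← mul_assoc w, ← e]; group
  · refine ⟨σ, hσ, ?_⟩
    calc _ = σ * w * σ⁻¹ * ((σ * v * σ⁻¹) * (σ * z * σ⁻¹)) := by group
      _ = _ := by rw [t.1, t.2, e, mul_inv_cancel_right]; d8 h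

end

/-- `x` interchanges the two four-subgroups -/
def Sw (v s z x : G) : Prop :=
  (x * v * x⁻¹ = s ∨ x * v * x⁻¹ = s * z) ∧ (x * s * x⁻¹ = v ∨ x * s * x⁻¹ = v * z)

/-- the elements of `T` normalizing the two four-subgroups -/
abbrev Nr (T : Subgroup G) (v s : G) : Subgroup G := (T ⊓ cen (cl [v, s])) ⊔ cl [v, s]

variable [Finite G] (f : Fr (nor A) A (cen A) T v s z) (odd : Odd (Nat.card ↥(A ⊓ cen A)))
include f

theorem DT : cl [v, s] ≤ T := f.D ▸ inf_le_left
theorem DA : cl [v, s] ≤ A := f.D ▸ inf_le_right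

theorem conjD (hx : x ∈ T) (hd : d ∈ cl [v, s]) : x * d * x⁻¹ ∈ cl [v, s] :=
  f.D ▸ ⟨T.mul_mem (T.mul_mem hx (DT f hd)) (T.inv_mem hx),
    conj_mem_of_mem_normalizer (f.syl.le hx) (DA f hd)⟩

theorem fixz (hx : x ∈ T) : x * z * x⁻¹ = z := by
  have h := f.toDH
  have e : x * z * x⁻¹ = x * (s * v) * x⁻¹ * (x * (s * v) * x⁻¹) := by
    have : z = s * v * (s * v) := by d8 h
    conv_lhs => rw [this]
    group
  rcases sq_D h (conjD f hx (mul_mem (s_mem h) (v_mem h))) with k | k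
  · exact absurd (by simpa using e.trans k.1) h.z1
  · exact e.trans k

theorem conj_cases (hx : x ∈ T) (hd : d ∈ cl [v, s]) (dd : d * d = 1) (d1 : d ≠ 1) (dz : d ≠ z) :
    x * d * x⁻¹ = v ∨ x * d * x⁻¹ = v * z ∨ x * d * x⁻¹ = s ∨ x * d * x⁻¹ = s * z := by
  have h := f.toDH
  rcases sq_D h (conjD f hx hd) with ⟨-, k | k | k⟩ | k
  · exact absurd (by simpa using k) d1
  · exact absurd ((MulAut.conj x).injective (k.trans (fixz f hx).symm)) dz
  · exact k
  · exact absurd (by rw [← k]; calc _ = x * (d * d) * x⁻¹ := by group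
                                  _ = 1 := by rw [dd]; group) h.z1

theorem nr_or_sw (hx : x ∈ T) : x ∈ Nr T v s ∨ Sw v s z x := by
  have h := f.toDH
  have k : ∀ d ∈ cl [v, s], x * v * x⁻¹ = d * v * d⁻¹ → x * s * x⁻¹ = d * s * d⁻¹ →
      x ∈ Nr T v s := fun d hd a b => by
    have : d⁻¹ * x ∈ T ⊓ cen (cl [v, s]) := ⟨T.mul_mem (T.inv_mem (DT f hd)) hx, mem_cenD h
      (by calc _ = d⁻¹ * (x * v * x⁻¹) * d := by group
            _ = _ := by rw [a]; group)
      (by calc _ = d⁻¹ * (x * s * x⁻¹) * d := by group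
            _ = _ := by rw [b]; group)⟩
    simpa using mul_mem (mem_sup_right hd : d ∈ Nr T v s) (mem_sup_left this)
  have n : x * v * x⁻¹ * (x * s * x⁻¹) ≠ x * s * x⁻¹ * (x * v * x⁻¹) := fun e =>
    nc h ((MulAut.conj x).injective (by simpa [mul_assoc] using e))
  have a := conj_cases f hx (v_mem h) h.vv (fun e => nc h (by simp [e]))
    fun e => nc h (by rw [e, h.sz])
  have b := conj_cases f hx (s_mem h) h.ss (fun e => nc h (by simp [e]))
    fun e => nc h (by rw [e, h.vz])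
  rcases a with a | a | a | a <;> rcases b with b | b | b | b
  · exact absurd (by rw [a, b]) n
  · exact absurd (by rw [a, b]; d8 h) n
  · exact Or.inl (k 1 (one_mem _) (by rw [a]; d8 h) (by rw [b]; d8 h))
  · exact Or.inl (k v (v_mem h) (by rw [a]; d8 h) (by rw [b]; d8 h))
  · exact absurd (by rw [a, b]; d8 h) n
  · exact absurd (by rw [a, b]) n
  · exact Or.inl (k s (s_mem h) (by rw [a]; d8 h) (by rw [b]; d8 h))
  · exact Or.inl (k (s * v) (mul_mem (s_mem h) (v_mem h)) (by rw [a]; d8 h) (by rw [b]; d8 h))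
  · exact Or.inr ⟨Or.inl a, Or.inl b⟩
  · exact Or.inr ⟨Or.inl a, Or.inr b⟩
  · exact absurd (by rw [a, b]) n
  · exact absurd (by rw [a, b]; d8 h) n
  · exact Or.inr ⟨Or.inr a, Or.inl b⟩
  · exact Or.inr ⟨Or.inr a, Or.inr b⟩
  · exact absurd (by rw [a, b]; d8 h) n
  · exact absurd (by rw [a, b]) n

theorem Sw.not_mem (k : Sw v s z x) : x * v * x⁻¹ ∉ cl [v, z] := fun r => by
  have h := f.toDH
  have : v * (x * v * x⁻¹) = x * v * x⁻¹ * v := by
    rcases mem_V h r with e | e | e | e <;> rw [e] <;> d8 h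
  rcases k.1 with e | e <;> rw [e] at this
  · exact nc h this
  · exact nc h (mul_right_cancel (b := z) (by rw [mul_assoc, this]; d8 h))

theorem Sw.mul (hx : x ∈ T) (hy : y ∈ T) (k : Sw v s z x) (k' : Sw v s z y) :
    x * y ∈ Nr T v s := by
  have h := f.toDH
  refine (nr_or_sw f (mul_mem hx hy)).resolve_right fun r => r.not_mem f ?_
  have vm : v ∈ cl [v, z] := mem_cl (by simp)
  have zm : z ∈ cl [v, z] := mem_cl (by simp)
  have a : x * s * x⁻¹ ∈ cl [v, z] := by
    rcases k.2 with e | e <;> rw [e]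
    exacts [vm, mul_mem vm zm]
  rw [show x * y * v * (x * y)⁻¹ = x * (y * v * y⁻¹) * x⁻¹ by group]
  rcases k'.1 with e | e <;> rw [e]
  · exact a
  · rw [show x * (s * z) * x⁻¹ = x * s * x⁻¹ * (x * z * x⁻¹) by group, fixz f hx]
    exact mul_mem a zm

theorem dec (hx : x ∈ Nr T v s) : ∃ c ∈ T ⊓ cen (cl [v, s]), ∃ d ∈ cl [v, s], x = c * d :=
  (mem_sup_left_norm (inf_le_right.trans (centralizer_le_normalizer _))).1 hx

theorem in_sup (k : In (cen A) z c) (hd : d ∈ cl [v, s]) : c * d ∈ cen A ⊔ A := by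
  rcases k with k | k
  · exact mul_mem_sup k (DA f hd)
  · have := mul_mem_sup k (DA f (mul_mem (z_mem f.toDH) hd))
    rwa [mul_assoc, zz' f.toDH] at this

include odd

theorem noK (hd : d ∈ cl [v, s]) (k : d ∈ cen A) : d = 1 := by
  obtain ⟨n, hn⟩ := isPGroup_iff_forall.1 f.syl.isPGroup _ (DT f hd)
  exact orderOf_eq_one_iff.1 (Nat.eq_one_of_dvd_coprimes
    (Nat.Coprime.pow_left n (Nat.coprime_two_left.2 odd)) (orderOf_dvd_of_pow_eq_one hn)
    (Subgroup.orderOf_dvd_natCard _ (mem_inf.2 ⟨DA f hd, k⟩)))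

theorem sqK (hc : c ∈ T ⊓ cen (cl [v, s])) : c * c ∈ cen A := by
  by_cases k : In (cen A) z c
  · rcases k with k | k
    · exact mul_mem k k
    · have := mul_mem k k
      rwa [mul_assoc, ← mul_assoc z, hc.2 z (z_mem f.toDH), mul_assoc, f.zz, mul_one] at this
  · exact (f.out c hc k).1

theorem inv_dec (hc : c ∈ T ⊓ cen (cl [v, s])) (hd : d ∈ cl [v, s]) (e : c * d * (c * d) = 1) :
    c * c = 1 ∧ d * d = 1 := by
  have e' : c * c * (d * d) = 1 := by
    rw [← e, mul_assoc, mul_assoc, ← mul_assoc d c, hc.2 d hd, mul_assoc]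
  have : d * d = 1 := noK f odd (mul_mem hd hd) (by
    rw [eq_inv_of_mul_eq_one_right e']; exact inv_mem (sqK f odd hc))
  exact ⟨by rwa [this, mul_one] at e', this⟩

omit odd in
theorem exists_tri (hc : c ∈ T ⊓ cen (cl [v, s])) :
    (∃ w, (w = c ∨ w = c * z) ∧ ∃ σ ∈ A, Tri σ z v ∧ σ * w = w * σ) ∧
      ∃ w, (w = c ∨ w = c * z) ∧ ∃ σ ∈ A, Tri σ z s ∧ σ * w = w * σ := by
  by_cases k : In (cen A) z c
  · obtain ⟨σ, a, b⟩ := f.triA
    obtain ⟨ρ, a', b'⟩ := f.triB
    rcases k with k | k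
    · exact ⟨⟨_, Or.inl rfl, σ, a, b, k σ a⟩, _, Or.inl rfl, ρ, a', b', k ρ a'⟩
    · exact ⟨⟨_, Or.inr rfl, σ, a, b, k σ a⟩, _, Or.inr rfl, ρ, a', b', k ρ a'⟩
  · obtain ⟨-, w, a, b, b'⟩ := f.out c hc k
    refine ⟨⟨w, a, b⟩, w * z, ?_, b'⟩
    rcases a with rfl | rfl
    · exact Or.inr rfl
    · exact Or.inl (by rw [mul_assoc, f.zz, mul_one])

/-- an involution normalizing the four-subgroups is conjugate into `C(D)` -/
theorem n1 (hx : x ∈ Nr T v s) (xx : x * x = 1) :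
    ∃ a ∈ A, a * x * a⁻¹ ∈ T ⊓ cen (cl [v, s]) := by
  have h := f.toDH
  obtain ⟨c, hc, d, hd, rfl⟩ := dec f hx
  have dd := (inv_dec f odd hc hd xx).2
  have zc : z ∈ T ⊓ cen (cl [v, s]) := ⟨DT f (z_mem h), fun y hy => z_comm h hy⟩
  have wz : ∀ w, w = c ∨ w = c * z → w * z ∈ T ⊓ cen (cl [v, s]) := by
    rintro _ (rfl | rfl)
    exacts [mul_mem hc zc, mul_mem (mul_mem hc zc) zc]
  obtain ⟨⟨w, w1, σ, a, b, e⟩, w', w1', ρ, a', b', e'⟩ := exists_tri f hc
  have h' : DH s v z := ⟨h.ss, h.vv, h.zz, h.z1, by d8 h, h.sz, h.vz⟩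
  have k : ∀ {v s : G}, DH v s z → ∀ {w σ : G}, (w = c ∨ w = c * z) → σ ∈ A → Tri σ z v →
      σ * w = w * σ → (d = v ∨ d = v * z) → ∃ a ∈ A, a * (c * d) * a⁻¹ = w * z :=
    fun {v s} h {w σ} w1 a b e hd => by
      rcases w1 with rfl | rfl
      · exact tri_move h b e a hd
      · have : c * d = c * z * (d * z) := by rcases hd with rfl | rfl <;> d8 h
        rw [this]
        refine tri_move h b e a ?_
        rcases hd with rfl | rfl
        · exact Or.inr rfl
        · exact Or.inl (by d8 h)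
  rcases sq_D h hd with ⟨-, r | r | r | r | r | r⟩ | r
  · exact ⟨1, one_mem _, by simpa [r] using hc⟩
  · exact ⟨1, one_mem _, by simpa only [r, one_mul, inv_one, mul_one] using mul_mem hc zc⟩
  · obtain ⟨g, g1, g2⟩ := k h w1 a b e (Or.inl r); exact ⟨g, g1, g2 ▸ wz w w1⟩
  · obtain ⟨g, g1, g2⟩ := k h w1 a b e (Or.inr r); exact ⟨g, g1, g2 ▸ wz w w1⟩
  · obtain ⟨g, g1, g2⟩ := k h' w1' a' b' e' (Or.inl r); exact ⟨g, g1, g2 ▸ wz w' w1'⟩
  · obtain ⟨g, g1, g2⟩ := k h' w1' a' b' e' (Or.inr r); exact ⟨g, g1, g2 ▸ wz w' w1'⟩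
  · exact absurd (r.symm.trans dd) h.z1

theorem f2 (hx : x ∈ T) (xx : x * x = 1) (n : x ∉ cen A ⊔ A) :
    ∃ a ∈ A, ∃ y ∈ A, orderOf y = 2 ∧ a * x * a⁻¹ = y * x := by
  have h := f.toDH
  rcases nr_or_sw f hx with k | k
  · obtain ⟨a, ha, hc⟩ := n1 f odd k xx
    have ni : ¬ In (cen A) z (a * x * a⁻¹) := fun r => n (by
      have := in_sup f r (one_mem _)
      rwa [mul_one, mul_mem_cancel_right (inv_mem (mem_sup_right ha)),
        mul_mem_cancel_left (mem_sup_right ha)] at this)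
    obtain ⟨-, w, w1, ⟨σ, a1, b1, e1⟩, ρ, a2, b2, e2⟩ := f.out _ hc ni
    have key : ∀ {u τ : G}, u ∈ cl [v, s] → τ ∈ A → Tri τ z u →
        τ * (a * x * a⁻¹ * z) = a * x * a⁻¹ * z * τ →
        ∃ a ∈ A, ∃ y ∈ A, orderOf y = 2 ∧ a * x * a⁻¹ = y * x := fun {u τ} hu b t e => by
      refine ⟨a⁻¹ * τ * a, mul_mem (mul_mem (inv_mem ha) b) ha, a⁻¹ * (u * z) * a,
        mul_mem (mul_mem (inv_mem ha) (DA f (mul_mem hu (z_mem h)))) ha, ?_, ?_⟩
      · rw [show a⁻¹ * (u * z) * a = a⁻¹ * (u * z) * a⁻¹⁻¹ by rw [inv_inv], orderOf_conj', ← t.2,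
          orderOf_conj', ← t.1, orderOf_conj', orderOf_two_of_mul_self h.zz h.z1]
      · calc _ = a⁻¹ * (τ * (a * x * a⁻¹ * z) * τ⁻¹ * (τ * z⁻¹ * τ⁻¹)) * a := by group
          _ = a⁻¹ * (a * x * a⁻¹ * (u * z)) * a := by
            rw [e, zi h, t.1, mul_inv_cancel_right, mul_assoc _ z, z_comm h hu]
          _ = _ := by rw [← hc.2 _ (mul_mem hu (z_mem h))]; group
    rcases w1 with rfl | rfl
    · exact key (s_mem h) a2 b2 e2
    · exact key (v_mem h) a1 b1 e1
  · refine ⟨v * s, DA f (mul_mem (v_mem h) (s_mem h)), z, DA f (z_mem h),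
      orderOf_two_of_mul_self h.zz h.z1, ?_⟩
    have xi : x⁻¹ = x := inv_eq_of_mul_eq_one_right xx
    have b : ∀ a b : G, x * a * x⁻¹ = b → x * b * x⁻¹ = a := fun a b e => by
      rw [← e, xi]
      calc _ = x * x * a * (x * x) := by group
        _ = _ := by rw [xx]; group
    have e : x * (s * v) * x⁻¹ = v * s := by
      rw [show x * (s * v) * x⁻¹ = x * s * x⁻¹ * (x * v * x⁻¹) by group]
      rcases k.1 with e | e
      · rw [b _ _ e, e]
      · have := b _ _ e
        rw [show x * (s * z) * x⁻¹ = x * s * x⁻¹ * (x * z * x⁻¹) by group, fixz f hx] at this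
        rw [eq_mul_inv_of_mul_eq this, e]; d8 h
    calc v * s * x * (v * s)⁻¹ = v * s * (x * (s * v) * x⁻¹) * x := by rw [mul_inv_rev, vi h, si h]; group
      _ = _ := by rw [e]; congr 1; d8 h

theorem f3' (hp : p ∈ T) (k : Sw v s z p) (hq : q ∈ Nr T v s) (qq : q * q = 1) (e : p * q = q * p) :
    q ∈ cen A ⊔ A := by
  have h := f.toDH
  obtain ⟨c, hc, d, hd, rfl⟩ := dec f hq
  refine in_sup f (by_contra fun n => ?_) hd
  have dd := (inv_dec f odd hc hd qq).2
  have m := f.mv p hp (k.not_mem f) c hc n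
  have pd := conjD f hp hd
  have e1 : p * c * p⁻¹ * c⁻¹ = d * (p * d * p⁻¹)⁻¹ := by
    calc _ = p * (c * d) * p⁻¹ * (p * d * p⁻¹)⁻¹ * c⁻¹ := by group
      _ = c * (d * (p * d * p⁻¹)⁻¹) * c⁻¹ := by rw [e]; group
      _ = _ := by rw [← hc.2 _ (mul_mem hd (inv_mem pd)), mul_inv_cancel_right]
  rw [e1] at m
  have e2 := noK f odd (mul_mem (mul_mem hd (inv_mem pd)) (z_mem h)) m
  have e3 : p * d * p⁻¹ = d * z := by
    rw [mul_assoc, mul_eq_one_iff_eq_inv, mul_inv_rev, inv_inv, zi h] at e2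
    rw [z_comm h hd]
    conv_rhs => rw [e2]
    rw [zz' h]
  have pz : ∀ a, p * (a * z) * p⁻¹ = p * a * p⁻¹ * z := fun a => by
    conv_rhs => rw [← fixz f hp]
    group
  have sv : ∀ a b : G, (a = 1 ∨ a = z) → (b = 1 ∨ b = z) → s * a ≠ v * b := by
    intro a b ha hb r
    have e : s = v * (b * a⁻¹) := by rw [← mul_assoc, ← r, mul_inv_cancel_right]
    have cz : Commute v z := h.vz
    have c1 : ∀ a : G, (a = 1 ∨ a = z) → Commute v a := fun a ha =>
      ha.elim (fun r => r ▸ Commute.one_right v) fun r => r ▸ cz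
    exact nc h (e ▸ ((Commute.refl v).mul_right ((c1 b hb).mul_right (c1 a ha).inv_right)).eq)
  rcases sq_D h hd with ⟨-, r | r | r | r | r | r⟩ | r
  · exact h.z1 (by simpa [r] using e3.symm)
  · rw [r, fixz f hp, h.zz] at e3; exact h.z1 e3
  · rw [r] at e3
    rcases k.1 with a | a
    · exact sv 1 z (Or.inl rfl) (Or.inr rfl) (by rw [mul_one, ← a, e3])
    · exact sv z z (Or.inr rfl) (Or.inr rfl) (by rw [← a, e3])
  · rw [r, pz, mul_left_inj] at e3
    rcases k.1 with a | a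
    · exact sv 1 z (Or.inl rfl) (Or.inr rfl) (by rw [mul_one, ← a, e3])
    · exact sv z z (Or.inr rfl) (Or.inr rfl) (by rw [← a, e3])
  · rw [r] at e3
    rcases k.2 with a | a
    · exact sv z 1 (Or.inr rfl) (Or.inl rfl) (by rw [mul_one, ← a, e3])
    · exact sv z z (Or.inr rfl) (Or.inr rfl) (by rw [← a, e3])
  · rw [r, pz, mul_left_inj] at e3
    rcases k.2 with a | a
    · exact sv z 1 (Or.inr rfl) (Or.inl rfl) (by rw [mul_one, ← a, e3])
    · exact sv z z (Or.inr rfl) (Or.inr rfl) (by rw [← a, e3])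
  · exact h.z1 (r.symm.trans dd)

/-- of three commuting involutions one is inner -/
theorem f3 (hp : p ∈ T) (hq : q ∈ T) (pp : p * p = 1) (qq : q * q = 1) (e : p * q = q * p) :
    p ∈ cen A ⊔ A ∨ q ∈ cen A ⊔ A ∨ p * q ∈ cen A ⊔ A := by
  rcases nr_or_sw f hp with k | k <;> rcases nr_or_sw f hq with k' | k'
  · obtain ⟨c, hc, d, hd, rfl⟩ := dec f k
    obtain ⟨c', hc', d', hd', rfl⟩ := dec f k'
    refine (f.idx c hc c' hc').imp (in_sup f · hd) (Or.imp (in_sup f · hd') fun r => ?_)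
    have := in_sup f r (mul_mem hd hd')
    rwa [mul_assoc, ← mul_assoc c', ← hc'.2 d hd, mul_assoc, ← mul_assoc] at this
  · exact Or.inl (f3' f odd hq k' k pp e.symm)
  · exact Or.inr (Or.inl (f3' f odd hp k k' qq e))
  · refine Or.inr (Or.inr (f3' f odd hp k (k.mul f hp hq k') ?_ (by rw [mul_assoc, ← e])))
    rw [mul_assoc, ← mul_assoc q, ← e, mul_assoc, qq, mul_one, pp]

omit odd in
/-- a subgroup of order at least three of `C_T(D)` in another conjugate of `K` -/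
theorem four {L : Subgroup G} (hL : IsTightlyEmbedded L) (h1 : W ≤ T ⊓ cen (cl [v, s]))
    (h2 : W ≤ L) (h3 : ∀ y ∈ W, y ∈ cen A → y = 1) (h4 : 2 < Nat.card W) : v * z ∈ L := by
  have h := f.toDH
  have cz : ∀ c ∈ W, z * c = c * z := fun c hc => (h1 hc).2 z (z_mem h)
  obtain ⟨y, hy, y1, yk, c, hc, n⟩ : ∃ y ∈ W, y ≠ 1 ∧ In (cen A) z y ∧ ∃ c ∈ W, ¬ In (cen A) z c := by
    have := Fintype.ofFinite W
    obtain ⟨⟨x, hx⟩, ⟨a, ha⟩, ⟨b, hb⟩, xa, xb, ab⟩ := Fintype.two_lt_card_iff.1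
      (show 2 < Fintype.card W by rwa [← Nat.card_eq_fintype_card])
    have ha' := mul_mem (inv_mem ha) hx
    have hb' := mul_mem (inv_mem hx) hb
    have n1 : a⁻¹ * x ≠ 1 := fun r => xa (Subtype.ext (inv_mul_eq_one.1 r).symm)
    have n2 : x⁻¹ * b ≠ 1 := fun r => xb (Subtype.ext (inv_mul_eq_one.1 r))
    have n3 : a⁻¹ * x * (x⁻¹ * b) ≠ 1 := fun r =>
      ab (Subtype.ext (inv_mul_eq_one.1 (by simpa [mul_assoc] using r)))
    generalize a⁻¹ * x = a at *
    generalize x⁻¹ * b = b at *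
    by_cases i1 : In (cen A) z a <;> by_cases i2 : In (cen A) z b
    · have := mul_mem (i1.resolve_left fun r => n1 (h3 _ ha' r))
        (i2.resolve_left fun r => n2 (h3 _ hb' r))
      rw [mul_assoc, ← mul_assoc z, cz b hb', mul_assoc, h.zz, mul_one] at this
      exact absurd (h3 _ (mul_mem ha' hb') this) n3
    · exact ⟨a, ha', n1, i1, b, hb', i2⟩
    · exact ⟨b, hb', n2, i2, a, ha', i1⟩
    · exact ⟨_, mul_mem ha' hb', n3, ((f.idx a (h1 ha') b (h1 hb')).resolve_left i1).resolve_left i2,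
        a, ha', i1⟩
  have yk := yk.resolve_left fun r => y1 (h3 y hy r)
  have sq : ∀ c ∈ W, c * c = 1 := fun c hc => h3 _ (mul_mem hc hc) (by
    by_cases k : In (cen A) z c
    · rcases k with k | k
      · exact mul_mem k k
      · have := mul_mem k k
        rwa [mul_assoc, ← mul_assoc z, cz c hc, mul_assoc, h.zz, mul_one] at this
    · exact (f.out c (h1 hc) k).1)
  obtain ⟨-, w, w1, ⟨σ, a, b, e⟩, -⟩ := f.out c (h1 hc) n
  have sy := yk σ a
  have key : ∀ u ∈ W, u ≠ 1 → σ * u = u * σ → σ ∈ nor L := fun u hu u1 r =>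
    te_centralizer_le hL (orderOf_two_of_mul_self (sq u hu) u1) (h2 hu)
      (mem_centralizer_singleton_iff.2 r)
  have sN : σ ∈ nor L := by
    rcases w1 with rfl | rfl
    · exact key _ hc (fun r => n (Or.inl (r ▸ one_mem _))) e
    · refine key _ (mul_mem hc hy) (fun r => n (Or.inr ?_)) ?_
      · rw [eq_inv_of_mul_eq_one_left r, inv_eq_of_mul_eq_one_right (sq y hy)]; exact yk
      · have : c * y = c * z * (y * z) := by
          rw [mul_assoc, ← mul_assoc z, cz y hy, mul_assoc, h.zz, mul_one]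
        rw [this, ← mul_assoc, e, mul_assoc, sy, ← mul_assoc]
  have := mul_mem (conj_mem_of_mem_normalizer sN (h2 hy)) (h2 hy)
  have e2 : σ * y * σ⁻¹ * y = v * z := by
    calc _ = σ * (y * z) * σ⁻¹ * (σ * z⁻¹ * σ⁻¹) * y := by group
      _ = y * z * v * y := by rw [sy, zi h, b.1, mul_inv_cancel_right]
      _ = _ := by
        rw [mul_assoc y, mul_assoc y, ← h.vz, (h1 hy).2 _ (mul_mem (v_mem h) (z_mem h)),
          ← mul_assoc, sq y hy, one_mul]
  exact e2 ▸ this

end H90.D8
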