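import Cfsg.Agent.H90.D8Id
import Cfsg.Agent.H73.D8W0
import Cfsg.Agent.S0254
import Cfsg.Agent.S2072
import Cfsg.Agent.S2075

/-! D8: the wrap of S3107. -/

set_option autoImplicit false
set_option linter.unusedSectionVars false

namespace H90.D8

open Subgroup Cfsg H98 H1.Gold H85.FZ H49.D8

universe u

theorem iso_of_ker {A X Y : Type*} [Group A] [Group X] [Group Y] (f : A →* X) (g : A →* Y)
    (hf : Function.Surjective f) (hg : Function.Surjective g) (h : ∀ a, f a = 1 ↔ g a = 1) :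
    Nonempty (X ≃* Y) :=
  ⟨(QuotientGroup.quotientKerEquivOfSurjective f hf).symm.trans
    ((QuotientGroup.quotientMulEquivOfEq (Subgroup.ext h)).trans
      (QuotientGroup.quotientKerEquivOfSurjective g hg))⟩

theorem Ty.small {Y : Type*} [Group Y] (h : Ty Y) :
    ∃ (X : Type) (_ : Group X), Ty X ∧ Nonempty (Y ≃* X) := by
  rcases h with ⟨F, _, _, c, e⟩ | e
  exacts [⟨_, _, Or.inl ⟨F, _, _, c, ⟨MulEquiv.refl _⟩⟩, e⟩, ⟨_, _, Or.inr ⟨MulEquiv.refl _⟩, e⟩]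

section
variable {H Q : Type u} [Group H] [Finite H] [Group Q] [Finite Q] {t : H}

/-- `t` as an element of its centralizer. -/
abbrev tcen (t : H) : cen1 t := ⟨t, mem_centralizer_singleton_iff.2 rfl⟩

theorem two_aux (o : orderOf t = 2) (ψ : cen1 t →* Q) (od : Odd (Nat.card ψ.ker)) {x : cen1 t}
    {k : ℕ} (hx : (x : H) ^ 2 ^ k = 1) (h : ψ x ∈ zpowers (ψ (tcen t))) : (x : H) ∈ zpowers t := by
  obtain ⟨n, hn⟩ := h
  have cm : Commute (x : H) (t ^ (-n)) :=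
    (show Commute (x : H) t from mem_centralizer_singleton_iff.1 x.2).zpow_right _
  have h1 : x * tcen t ^ (-n) ∈ ψ.ker := by
    rw [MonoidHom.mem_ker, map_mul, map_zpow, ← hn, ← zpow_add, add_neg_cancel, zpow_zero]
  have h2 : (x * tcen t ^ (-n)) ^ 2 ^ (k + 1) = 1 := Subtype.ext (by
    have : t ^ 2 = 1 := o ▸ pow_orderOf_eq_one t
    change ((x : H) * t ^ (-n)) ^ 2 ^ (k + 1) = 1
    rw [cm.mul_pow, pow_succ, pow_mul, hx, one_pow, one_mul, mul_comm, pow_mul, ← zpow_natCast _ 2,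
      ← zpow_mul, mul_comm, zpow_mul, zpow_natCast, this, one_zpow, one_pow])
  have h3 : orderOf (x * tcen t ^ (-n)) = 1 := Nat.eq_one_of_dvd_coprimes
    ((Nat.coprime_two_left.2 od).pow_left (k + 1)) (orderOf_dvd_of_pow_eq_one h2)
    (Subgroup.orderOf_dvd_natCard _ h1)
  have h4 : (x : H) * t ^ (-n) = 1 := congrArg Subtype.val (orderOf_eq_one_iff.1 h3)
  rw [zpow_neg, mul_inv_eq_one] at h4
  exact ⟨n, h4.symm⟩

theorem inf_cen {L : Subgroup Q} [L.Normal] (hL : Ty L) : L ⊓ cen L = ⊥ := by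
  obtain ⟨s, ⟨v, w, z, d, -⟩, -⟩ := jobK L hL
  rw [cen, ← H14.map_center_subtype, H73.D8W.center_eq_bot fun k => d.nc (k.1.1 _ _),
    Subgroup.map_bot]

theorem mk_ct (o : orderOf t = 2) (ψ : cen1 t →* Q) (od : Odd (Nat.card ψ.ker)) {L : Subgroup Q}
    [L.Normal] (hL : Ty L) (r : L ≤ ψ.range) (hc : cen L = zpowers (ψ (tcen t))) :
    ∃ A K, Ct t A K ∧ ∀ n, TyQ A K n → Nonempty (L ≃* alternatingGroup (Fin n)) := by
  have ic := inf_cen hL
  have inj := subtype_injective (cen1 t)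
  have mem : ∀ (M : Subgroup Q) (x : cen1 t),
      (x : H) ∈ (M.comap ψ).map (cen1 t).subtype ↔ ψ x ∈ M := fun M x => mem_map_iff_mem inj
  have nr : ∀ (M : Subgroup Q) [M.Normal], cen1 t ≤ nor ((M.comap ψ).map (cen1 t).subtype) :=
    fun M _ => (normal_subgroupOf_iff_le_normalizer (map_subtype_le _)).1 (by
      rw [subgroupOf, comap_map_eq_self_of_injective inj]; infer_instance)
  let A := (L.comap ψ).map (cen1 t).subtype
  let f : A →* L := (ψ.comp (inclusion (map_subtype_le _))).codRestrict L fun a =>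
    (mem L ⟨a, map_subtype_le _ a.2⟩).1 a.2
  have fs : Function.Surjective f := fun l => by
    obtain ⟨x, hx⟩ := r l.2
    exact ⟨⟨x, (mem L x).2 (hx ▸ l.2)⟩, Subtype.ext hx⟩
  have fk : ∀ a : A, f a = 1 ↔ (a : H) ∈ ((cen L).comap ψ).map (cen1 t).subtype := fun a => by
    rw [mem (cen L) ⟨a, map_subtype_le _ a.2⟩, Subtype.ext_iff]
    exact ⟨fun e => (show ψ _ = 1 from e) ▸ one_mem _, fun e => ic.le ⟨(f a).2, e⟩⟩
  obtain ⟨X, _, hX, ⟨e⟩⟩ := Ty.small hL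
  refine ⟨A, ((cen L).comap ψ).map (cen1 t).subtype, ⟨⟨map_subtype_le _, map_subtype_le _, nr L,
    nr _, ?_, fun x hx k => (mem _ ⟨x, hx⟩).2 fun l hl => ?_,
    X, _, e.toMonoidHom.comp f, hX, e.surjective.comp fs, fun a => e.map_eq_one_iff.trans (fk a)⟩,
    o, (mem _ (tcen t)).2 (hc ▸ mem_zpowers _), fun P hP h2 x hx => ?_⟩,
    fun n ⟨g, gs, gk⟩ => iso_of_ker f g fs gs fun a => (fk a).trans (gk a).symm⟩
  · rwa [← map_inf _ _ _ inj, ← comap_inf, ic, card_map_of_injective inj]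
  · obtain ⟨y, rfl⟩ := r hl
    have h1 := (mem _ (⟨x, hx⟩ * y * ⟨x, hx⟩⁻¹ * y⁻¹)).1 (k y ((mem L y).2 hl))
    rw [map_mul, map_mul, map_mul, map_inv, map_inv] at h1
    have h2 := ic.le (mem_inf.2 ⟨mul_mem (Normal.conj_mem ‹_› _ hl _) (inv_mem hl), h1⟩)
    rw [mem_bot, mul_inv_eq_one, mul_inv_eq_iff_eq_mul] at h2
    exact h2.symm
  · obtain ⟨k, hk⟩ := isPGroup_iff_forall.1 h2 x hx
    exact two_aux o ψ od (x := ⟨x, map_subtype_le _ (hP hx)⟩) hk
      (hc ▸ (mem _ ⟨x, map_subtype_le _ (hP hx)⟩).1 (hP hx))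

theorem sec_of_range (o : orderOf t = 2) (ψ : cen1 t →* Q) (od : Odd (Nat.card ψ.ker))
    (r : ψ.range ≤ zpowers (ψ (tcen t))) : SectionalPRankLE 2 4 H := by
  have p : IsPGroup 2 (zpowers t) := isPGroup_zpowers (k := 1) (by rw [← o]; simp)
  refine sec_of_isSyl (S := zpowers t) (isSyl_of_isSyl_normalizer ⟨le_inf le_top le_normalizer, p,
    fun P hP a b => le_antisymm (fun x hx => ?_) a⟩) (H9.Sec.sec_of fun A B _ => ?_)
  · obtain ⟨k, hk⟩ := isPGroup_iff_forall.1 hP x hx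
    have : x ∈ cen1 t := by
      have h1 := (mem_normalizer_iff.1 (b hx).2 t).1 (mem_zpowers t)
      rcases (H14.mem_zpowers_two o).1 h1 with e | e
      · rw [conj_eq_one_iff] at e
        simp [e] at o
      · exact mem_centralizer_singleton_iff.2 (mul_inv_eq_iff_eq_mul.1 e)
    exact two_aux o ψ od (x := ⟨x, this⟩) hk (r ⟨_, rfl⟩)
  · refine (H9.Sec.relIndex_le_card B A).trans ((card_le_card_group A).trans ?_)
    rw [Nat.card_zpowers, o]
    norm_num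

end

variable {G : Type u} [Group G] [Finite G] {X : Subgroup G} {t : G}

theorem card_cen1_iso {Y : Type*} [Group Y] (e : X ≃* Y) (x : X) :
    Nat.card (cen1 (e x)) = Nat.card (X.subgroupOf (cen1 (x : G))) := by
  have k : ∀ y : X, e y ∈ cen1 (e x) ↔ (y : G) ∈ cen1 (x : G) := fun y => by
    rw [mem_centralizer_singleton_iff, mem_centralizer_singleton_iff, ← map_mul, ← map_mul,
      e.apply_eq_iff_eq, Subtype.ext_iff]
    rfl
  exact Nat.card_congr ⟨fun y => ⟨⟨e.symm y, (k _).1 (by simpa using y.2)⟩, (e.symm y).2⟩,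
    fun c => ⟨e ⟨c, c.2⟩, (k _).2 c.1.2⟩, fun y => Subtype.ext (e.apply_symm_apply _),
    fun c => by simp⟩

theorem hs_top [X.Normal] (hc : cen X = ⊥) (hH : JobIH) (e : X ≃* Spor.HS) (o : orderOf t = 2)
    (m : t ∈ X) (n : ¬ 128 ∣ Nat.card (cen1 t)) : X = ⊤ := by
  refine top_le_iff.1 fun g _ => by_contra fun hg => n ?_
  have m' := Normal.conj_mem ‹_› t m g
  have c1 : Nat.card (cen1 (g * t * g⁻¹)) = Nat.card (cen1 t) := by
    have := card_cen1_iso (X := ⊤) (topEquiv.trans (MulAut.conj g)) ⟨t, mem_top _⟩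
    rwa [top_subgroupOf, card_top] at this
  obtain ⟨cj, d⟩ := hH.2 (e ⟨t, m⟩) (e ⟨_, m'⟩) (by rw [e.orderOf_eq, ← orderOf_coe, o])
    (by rw [e.orderOf_eq, ← orderOf_coe, ← o]; exact (MulAut.conj g).orderOf_eq t)
    (fun r => n (by rw [card_cen1_iso] at r; exact r.trans (card_subgroup_dvd_card _)))
    (fun r => n (by rw [card_cen1_iso] at r; exact c1 ▸ r.trans (card_subgroup_dvd_card _)))
  obtain ⟨c, k⟩ := isConj_iff.1 cj
  obtain ⟨c, rfl⟩ := e.surjective c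
  rw [← map_inv, ← map_mul, ← map_mul, e.apply_eq_iff_eq, Subtype.ext_iff] at k
  have k1 : (c : G)⁻¹ * g ∈ cen1 t := mem_centralizer_singleton_iff.2 (by
    have k' : (c : G) * t * (c : G)⁻¹ = g * t * g⁻¹ := k
    rw [mul_assoc, ← mul_inv_cancel_right (g * t) g⁻¹, inv_inv, ← k']
    group)
  have i1 : X.relIndex (cen1 t) ∣ 2 := (relIndex_dvd_index_of_normal X _).trans
    (Cfsg.Agent.S2072.result ▸ index_dvd_out hc e)
  have i2 := ((Nat.dvd_prime Nat.prime_two).1 i1).resolve_left fun r =>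
    hg ((X.mul_mem_cancel_left (inv_mem c.2)).1 (relIndex_eq_one.1 r k1))
  rw [card_cen1_iso] at d
  rw [← (X.subgroupOf (cen1 t)).card_mul_index]
  exact (show (X.subgroupOf (cen1 t)).index = 2 from i2) ▸ Nat.mul_dvd_mul_right d 2

theorem he_top [X.Normal] (hc : cen X = ⊥) (e : X ≃* Spor.He) (m : t ∉ X) :
    X ⊔ zpowers t = ⊤ := by
  have i : X.index = 2 := ((Nat.dvd_prime Nat.prime_two).1 (Cfsg.Agent.S2075.result ▸
    index_dvd_out hc e)).resolve_left fun r => m ((index_eq_one.1 r).ge (mem_top t))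
  refine top_le_iff.1 fun g _ => ?_
  by_cases h : g ∈ X
  · exact mem_sup_left h
  · exact (mul_mem_cancel_right (mem_sup_right (mem_zpowers t))).1
      (mem_sup_left ((mul_mem_iff_of_index_two i).2 (iff_of_false h m)))

theorem l29 {Y : Type*} [Group Y] (e : Nonempty (Y ≃* alternatingGroup (Fin 6))) :
    ∃ (F : Type) (_ : Field F) (_ : Fintype F), Fintype.card F = 9 ∧
      Nonempty (Y ≃* Matrix.ProjectiveSpecialLinearGroup (Fin 2) F) := by
  haveI : Fact (Nat.Prime 3) := ⟨Nat.prime_three⟩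
  letI := Fintype.ofFinite (GaloisField 3 2)
  have h9 : Fintype.card (GaloisField 3 2) = 9 := by
    rw [← Nat.card_eq_fintype_card, GaloisField.card 3 2 two_ne_zero]; rfl
  exact ⟨_, _, _, h9, ⟨e.some.trans (Cfsg.Agent.S0254.result h9).some.symm⟩⟩

/-- The reduction to `X ⟨t⟩`. -/
theorem red07 (hC : Core.{u}) (h0 : JobI0.{u}) (hIL : JobIL.{u}) (hH : JobIH) (hE : JobIHe.{u})
    [X.Normal] (h1 : IsSimpleGroup X) (h2 : ¬ IsMulCommutative X) (h3 : cen X = ⊥)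
    (h5 : ¬ SectionalPRankLE 2 4 X) (o : orderOf t = 2) {Q : Type u} [Group Q] [Finite Q]
    (π : cen1 t →* Q) (sj : Function.Surjective π) (od : Odd (Nat.card π.ker)) {L : Subgroup Q}
    [L.Normal] (hL : Ty L) (hc : cen L = zpowers (π (tcen t))) :
    (t ∈ X ∧ Spor.IsoHS X ∧ Nonempty (L ≃* alternatingGroup (Fin 6))) ∨
      (t ∉ X ∧ (Sp44 X ∨ L52 X ∨ U52 X) ∧ Nonempty (L ≃* alternatingGroup (Fin 6))) ∨
      (t ∉ X ∧ Spor.IsoHe X ∧ Nonempty (L ≃* alternatingGroup (Fin 7))) := by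
  have hX := H73.D8W.as_sub h1 h2 h3 t
  set t1 : ↥(X ⊔ zpowers t) := ⟨t, mem_sup_right (mem_zpowers t)⟩
  have o1 : orderOf t1 = 2 := by rw [← o]; exact (orderOf_coe _).symm
  have e := (subgroupOfEquivOfLe (le_sup_left : X ≤ X ⊔ zpowers t)).symm
  have h6 : ¬ SectionalPRankLE 2 4 (X.subgroupOf (X ⊔ zpowers t)) := fun k =>
    h5 (H3.sectionalPRankLE_of_injective k e.toMonoidHom e.injective)
  let ι : cen1 t1 →* cen1 t := ((X ⊔ zpowers t).subtype.comp (cen1 t1).subtype).codRestrict _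
    fun x => mem_centralizer_singleton_iff.2
      (congrArg Subtype.val (mem_centralizer_singleton_iff.1 x.2))
  have inj : Function.Injective ι := fun a b k =>
    Subtype.ext (Subtype.ext (congrArg (fun z : cen1 t => (z : G)) k))
  have od1 : Odd (Nat.card (π.comp ι).ker) :=
    od.of_dvd_nat (card_comap_dvd_of_injective π.ker ι inj)
  have rg : ι.range = (X ⊔ zpowers t).subgroupOf (cen1 t) := by
    ext x
    exact ⟨fun ⟨y, k⟩ => k ▸ y.1.2, fun k => ⟨⟨⟨x, k⟩, mem_centralizer_singleton_iff.2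
      (Subtype.ext (mem_centralizer_singleton_iff.1 x.2))⟩, rfl⟩⟩
  have nm : (π.comp ι).range.Normal := by
    rw [MonoidHom.range_comp, rg]
    refine Normal.map ⟨fun x hx g => ?_⟩ π sj
    obtain ⟨y, hy, w, ⟨n, rfl⟩, k⟩ := mem_sup_of_normal_left.1 (mem_subgroupOf.1 hx)
    have cm : Commute (g : G) (t ^ n) :=
      (show Commute (g : G) t from mem_centralizer_singleton_iff.1 g.2).zpow_right _
    refine mem_subgroupOf.2 ?_
    change (g : G) * x * (g : G)⁻¹ ∈ _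
    rw [← k, show (g : G) * (y * t ^ n) * (g : G)⁻¹ = g * y * (g : G)⁻¹ * (g * t ^ n * (g : G)⁻¹) by
      group, cm.eq, mul_inv_cancel_right]
    exact mul_mem (mem_sup_left (Normal.conj_mem ‹_› _ hy _)) (mem_sup_right ⟨n, rfl⟩)
  have r : L ≤ (π.comp ι).range := by
    have := (jobK L hL).simple
    rcases (inferInstance : ((π.comp ι).range.subgroupOf L).Normal).eq_bot_or_eq_top with k | k
    · refine absurd (H3.sectionalPRankLE_subgroup (sec_of_range o1 (π.comp ι) od1 ?_) _) h6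
      refine le_trans (commutator_eq_bot_iff_le_centralizer.1 (le_bot_iff.1 ?_)) hc.le
      exact (commutator_le_inf _ _).trans (subgroupOf_eq_bot.1 k).le_bot
    · exact subgroupOf_eq_top.1 k
  obtain ⟨A, K, c, ty⟩ := mk_ct o1 (π.comp ι) od1 hL r hc
  obtain ⟨b, ou⟩ := (hC _ _ _ A K hX c).resolve_left h6
  rcases (ident h0 hIL hH hE hX c b ou).resolve_left h6 with
    ⟨a, ⟨f⟩, q⟩ | ⟨a, f, q⟩ | ⟨a, ⟨f⟩, q, -⟩
  · exact Or.inl ⟨a, ⟨e.trans f⟩, ty _ q⟩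
  · refine Or.inr (Or.inl ⟨a, ?_, ty _ q⟩)
    rcases f with ⟨F, _, _, k, ⟨f⟩⟩ | ⟨F, _, _, k, ⟨f⟩⟩ | ⟨F, _, _, k, ⟨f⟩⟩
    exacts [Or.inl ⟨F, _, _, k, ⟨e.trans f⟩⟩, Or.inr (Or.inl ⟨F, _, _, k, ⟨e.trans f⟩⟩),
      Or.inr (Or.inr ⟨F, _, _, k, ⟨e.trans f⟩⟩)]
  · exact Or.inr (Or.inr ⟨a, ⟨e.trans f⟩, ty _ q⟩)

theorem s3107_of (hLF : JobLF.{u}) (hC : Core.{u}) (h0 : JobI0.{u}) (hIL : JobIL.{u}) (hH : JobIH)
    (hE : JobIHe.{u}) {G : Type u} [Group G] [Finite G]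
    (hF : IsSimpleGroup ↥(Cfsg.generalizedFittingSubgroup G)) (hF' : ¬ IsMulCommutative ↥(Cfsg.generalizedFittingSubgroup G))
    (h5 : ¬ Cfsg.SectionalPRankLE 2 4 ↥(Cfsg.generalizedFittingSubgroup G))
    (t : G) (ht : orderOf t = 2) (tc : ↥(Subgroup.centralizer ({t} : Set G))) (htc : (tc : G) = t)
    (hL : (∃ (F : Type) (_ : Field F) (_ : Fintype F), (Fintype.card F % 16 = 7 ∨ Fintype.card F % 16 = 9) ∧
        Nonempty (↥(Cfsg.layer (↥(Subgroup.centralizer ({t} : Set G)) ⧸ Cfsg.oddCore ↥(Subgroup.centralizer ({t} : Set G)))) ≃* Matrix.ProjectiveSpecialLinearGroup (Fin 2) F)) ∨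
      Nonempty (↥(Cfsg.layer (↥(Subgroup.centralizer ({t} : Set G)) ⧸ Cfsg.oddCore ↥(Subgroup.centralizer ({t} : Set G)))) ≃* ↥(alternatingGroup (Fin 7))))
    (hCL : Subgroup.centralizer ((Cfsg.layer (↥(Subgroup.centralizer ({t} : Set G)) ⧸ Cfsg.oddCore ↥(Subgroup.centralizer ({t} : Set G))) : Subgroup (↥(Subgroup.centralizer ({t} : Set G)) ⧸ Cfsg.oddCore ↥(Subgroup.centralizer ({t} : Set G)))) : Set (↥(Subgroup.centralizer ({t} : Set G)) ⧸ Cfsg.oddCore ↥(Subgroup.centralizer ({t} : Set G)))) =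
      Subgroup.zpowers (QuotientGroup.mk tc : (↥(Subgroup.centralizer ({t} : Set G)) ⧸ Cfsg.oddCore ↥(Subgroup.centralizer ({t} : Set G))))) :
    ((∃ (F : Type) (_ : Field F) (_ : Fintype F), Fintype.card F = 9 ∧ Nonempty (↥(Cfsg.layer (↥(Subgroup.centralizer ({t} : Set G)) ⧸ Cfsg.oddCore ↥(Subgroup.centralizer ({t} : Set G)))) ≃* Matrix.ProjectiveSpecialLinearGroup (Fin 2) F)) ∧
        Cfsg.generalizedFittingSubgroup G = ⊤ ∧ Cfsg.Spor.IsoHS G) ∨
      ((∃ (F : Type) (_ : Field F) (_ : Fintype F), Fintype.card F = 9 ∧ Nonempty (↥(Cfsg.layer (↥(Subgroup.centralizer ({t} : Set G)) ⧸ Cfsg.oddCore ↥(Subgroup.centralizer ({t} : Set G)))) ≃* Matrix.ProjectiveSpecialLinearGroup (Fin 2) F)) ∧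
        t ∉ Cfsg.generalizedFittingSubgroup G ∧
        ((∃ (F : Type) (_ : Field F) (_ : Fintype F), Fintype.card F = 4 ∧
            (Nonempty (↥(Cfsg.generalizedFittingSubgroup G) ≃* Cfsg.PSp 2 F) ∨ Nonempty (↥(Cfsg.generalizedFittingSubgroup G) ≃* Cfsg.PSU 5 F 2))) ∨
          (∃ (F : Type) (_ : Field F) (_ : Fintype F), Fintype.card F = 2 ∧
            Nonempty (↥(Cfsg.generalizedFittingSubgroup G) ≃* Matrix.ProjectiveSpecialLinearGroup (Fin 5) F)))) ∨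
      (Nonempty (↥(Cfsg.layer (↥(Subgroup.centralizer ({t} : Set G)) ⧸ Cfsg.oddCore ↥(Subgroup.centralizer ({t} : Set G)))) ≃* ↥(alternatingGroup (Fin 7))) ∧
        t ∉ Cfsg.generalizedFittingSubgroup G ∧ Cfsg.generalizedFittingSubgroup G ⊔ Subgroup.zpowers t = ⊤ ∧
        Cfsg.Spor.IsoHe ↥(Cfsg.generalizedFittingSubgroup G)) := by
  have h3 := H99.Wr.AS.cen_eq (G := G) ⟨hF, hF'⟩
  obtain rfl : tc = tcen t := Subtype.ext htc
  have od : Odd (Nat.card (QuotientGroup.mk' (oddCore (cen1 t))).ker) := by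
    rw [QuotientGroup.ker_mk']; exact H2.odd_card_oddCore _
  have sj := QuotientGroup.mk'_surjective (oddCore (cen1 t))
  rcases red07 hC h0 hIL hH hE hF hF' h3 h5 ht _ sj od hL hCL with
    ⟨m, ⟨e⟩, q⟩ | ⟨m, f, q⟩ | ⟨m, ⟨e⟩, q⟩
  · obtain ⟨A, K, c, -⟩ := mk_ct ht _ od hL (fun x _ => sj x) hCL
    have top := hs_top h3 hH e ht m (not_128 hLF c)
    exact Or.inl ⟨l29 q, top, ⟨(topEquiv.symm.trans (MulEquiv.subgroupCongr top.symm)).trans e⟩⟩
  · refine Or.inr (Or.inl ⟨l29 q, m, ?_⟩)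
    rcases f with ⟨F, _, _, k, f⟩ | f | ⟨F, _, _, k, f⟩
    exacts [Or.inl ⟨F, _, _, k, Or.inl f⟩, Or.inr f, Or.inl ⟨F, _, _, k, Or.inr f⟩]
  · exact Or.inr (Or.inr ⟨q, m, he_top h3 e m, ⟨e⟩⟩)

end H90.D8
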