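import Cfsg.Agent.H90.ZGrp
import Cfsg.Agent.H85.OddAut
import Cfsg.Agent.H3.DSQAut
import Cfsg.Agent.H2.MinNormal
import Cfsg.Agent.S3742

/-! Solvable Frobenius complements. -/

set_option autoImplicit false

namespace H90

open Cfsg
open scoped commutatorElement

variable {G : Type*} [Group G]

/-- The quaternion group of order eight. -/
abbrev Q8 := QuaternionGroup 2

theorem Free.isZGroup_of_sq [Finite G] (h : Free G)
    (h2 : ∀ (c : G) (k : ℕ), c ^ 2 ^ k = 1 → c * c = 1) : IsZGroup G := by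
  obtain ⟨P⟩ : Nonempty (Sylow 2 G) := inferInstance
  rcases h.isCyclic_or_quaternion_two P.isPGroup' with hc | ⟨n, hn, ⟨e⟩⟩
  · exact h.isZGroup_of_sylow_two P
  · exfalso
    obtain ⟨k, hk⟩ := P.isPGroup' (e.symm (QuaternionGroup.a 1))
    have h3 := h2 (e.symm (QuaternionGroup.a 1) : P) k (by simpa using congrArg Subtype.val hk)
    have h4 : (QuaternionGroup.a 1 : QuaternionGroup (2 ^ n)) ^ 2 = 1 := by
      apply e.symm.injective
      rw [map_pow, map_one, sq]
      exact Subtype.ext h3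
    have h5 := orderOf_dvd_of_pow_eq_one h4
    rw [QuaternionGroup.orderOf_a_one] at h5
    have h6 := Nat.le_of_dvd two_pos h5
    have : 2 ≤ 2 ^ n := by calc 2 = 2 ^ 1 := rfl
      _ ≤ 2 ^ n := Nat.pow_le_pow_right two_pos hn
    omega

/-- A `2`-element centralizing a quaternion subgroup squares to one. -/
theorem Free.sq_eq_one_of_centralizes_Q8 [Finite G] (h : Free G) (φ : Q8 →* G)
    (hφ : Function.Injective φ) {c : G} (hc : c ∈ Subgroup.centralizer (φ.range : Set G))
    {k : ℕ} (hk : c ^ 2 ^ k = 1) : c * c = 1 := by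
  obtain ⟨j, -, hj⟩ := (Nat.dvd_prime_pow Nat.prime_two).1 (orderOf_dvd_of_pow_eq_one hk)
  by_contra hne
  have h4 : 4 ∣ orderOf c := by
    rw [hj]
    match j, hj with
    | 0, hj => exact absurd (by rw [orderOf_eq_one_iff.1 hj, mul_one]) hne
    | 1, hj => exact absurd (by rw [← sq]; exact pow_of_orderOf hj) hne
    | j + 2, _ => exact ⟨2 ^ j, by ring⟩
  have key : ∀ q : Q8, φ q ∈ Subgroup.zpowers c := fun q =>
    h.mem_zpowers_of_commute (hc _ ⟨q, rfl⟩).symm (by
      rw [orderOf_injective φ hφ]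
      exact (orderOf_dvd_of_pow_eq_one (by revert q; decide)).trans h4)
  obtain ⟨s, hs⟩ := key (QuaternionGroup.a 1)
  obtain ⟨t, ht⟩ := key (QuaternionGroup.xa 0)
  have : φ (QuaternionGroup.a 1 * QuaternionGroup.xa 0) =
      φ (QuaternionGroup.xa 0 * QuaternionGroup.a 1) := by
    rw [map_mul, map_mul, ← hs, ← ht]; exact zpow_mul_comm _ _ _
  exact absurd (hφ this) (by decide)

/-- An element of the derived group centralizing `O_2(G)` centralizes the Fitting subgroup. -/
theorem Free.mem_centralizer_fitting [Finite G] (h : Free G) {c : G} (h1 : c ∈ commutator G)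
    (h2 : c ∈ Subgroup.centralizer (pCore 2 G : Set G)) :
    c ∈ Subgroup.centralizer (fittingSubgroup G : Set G) := by
  have : fittingSubgroup G ≤ Subgroup.centralizer ({c} : Set G) := by
    rw [H2.fitting_eq_iSup_pCore, iSup_le_iff]
    rintro ⟨p, hp⟩ x hx
    have := Fact.mk hp
    rw [Subgroup.mem_centralizer_singleton_iff]
    by_cases hp2 : p = 2
    · subst hp2; exact h2 x hx
    · have := h.isCyclic_of_isPGroup hp2 (H2.pCore_isPGroup p G)
      exact commutator_le_centralizer_of_cyclic (pCore p G) h1 x hx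
  intro x hx
  exact Subgroup.mem_centralizer_singleton_iff.1 (this hx)

/-- In a solvable Frobenius complement without a normal `2`-complement some element of odd order
acts non-trivially on `O_2(G)`. -/
theorem Free.exists_odd_not_centralizes [Finite G] [Group.IsSolvable G] (h : Free G)
    (hn : ¬ HasNormalPComplement 2 G) :
    ∃ g : G, Odd (orderOf g) ∧ g ∉ Subgroup.centralizer (pCore 2 G : Set G) := by
  by_contra hall
  push Not at hall
  refine hn (H7.hasNPC_of_normalizer_centralizer fun R hR g hg hcop => ?_)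
  have hodd : Odd (orderOf g) := Nat.coprime_two_right.1 hcop
  intro r hr
  have hc : r⁻¹ * (g * r * g⁻¹) ∈ R := R.mul_mem (R.inv_mem hr) ((hg r).1 hr)
  obtain ⟨k, hk⟩ := hR ⟨_, hc⟩
  have hk' : (r⁻¹ * (g * r * g⁻¹)) ^ 2 ^ k = 1 := by simpa using congrArg Subtype.val hk
  have hC : r⁻¹ * (g * r * g⁻¹) ∈ Subgroup.centralizer (pCore 2 G : Set G) := by
    have e : r⁻¹ * (g * r * g⁻¹) = (r⁻¹ * g * r⁻¹⁻¹) * g⁻¹ := by group
    rw [e]
    exact Subgroup.mul_mem _ ((inferInstance : (Subgroup.centralizer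
      (pCore 2 G : Set G)).Normal).conj_mem _ (hall g hodd) _) (Subgroup.inv_mem _ (hall g hodd))
  have hD : r⁻¹ * (g * r * g⁻¹) ∈ commutator G := by
    have e : r⁻¹ * (g * r * g⁻¹) = ⁅r⁻¹, g⁆ := by rw [commutatorElement_def]; group
    rw [e]
    exact Subgroup.commutator_mem_commutator trivial trivial
  have hF := H2.centralizer_fitting_le G (h.mem_centralizer_fitting hD hC)
  have hO : r⁻¹ * (g * r * g⁻¹) ∈ pCore 2 G :=
    H2.le_pCore_of_le_fitting (H31.isPGroup_zpowers_of_pow_eq_one hk')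
      (Subgroup.zpowers_le.2 hF) (Subgroup.mem_zpowers _)
  have := H85.conj_eq_of_fix_comm hodd hk' (by
    rw [← hall g hodd _ hO]; group)
  exact (mul_inv_eq_iff_eq_mul.1 this).symm

theorem Free.exists_normal_Q8 [Finite G] [Group.IsSolvable G] (h : Free G)
    (hn : ¬ HasNormalPComplement 2 G) :
    ∃ φ : Q8 →* G, Function.Injective φ ∧ φ.range = pCore 2 G ∧
      ∃ g : G, Odd (orderOf g) ∧ g ∉ Subgroup.centralizer (φ.range : Set G) := by
  obtain ⟨g, hodd, hg⟩ := h.exists_odd_not_centralizes hn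
  rcases h.isCyclic_or_quaternion_two (H2.pCore_isPGroup 2 G) with hc | ⟨n, hn1, ⟨e⟩⟩
  · exfalso
    obtain ⟨x, hx⟩ := (Subgroup.isCyclic_iff_exists_zpowers_eq_top _).1 hc
    have hxm : x ∈ pCore 2 G := hx ▸ Subgroup.mem_zpowers x
    obtain ⟨k, hk⟩ := H2.pCore_isPGroup 2 G ⟨x, hxm⟩
    have h1 := H85.conj_eq_of_mem_zpowers hodd (x := x) (k := k)
      (by simpa using congrArg Subtype.val hk)
      (by rw [hx]; exact (inferInstance : (pCore 2 G).Normal).conj_mem _ hxm _)
    apply hg
    rw [← hx]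
    rintro _ ⟨s, rfl⟩
    exact ((show Commute g x from mul_inv_eq_iff_eq_mul.1 h1).zpow_right s).symm
  · obtain ⟨k, rfl⟩ : ∃ k, n = k + 1 := ⟨n - 1, by omega⟩
    rcases ((H3.dsq_quaternion k).of_mulEquiv e.symm).quaternion_eight_or_isPGroup_mulAut with
      ⟨⟨e'⟩⟩ | hp
    · have hr : ((pCore 2 G).subtype.comp e'.symm.toMonoidHom).range = pCore 2 G := by
        rw [MonoidHom.range_comp, MonoidHom.range_eq_top.2 e'.symm.surjective,
          ← MonoidHom.range_eq_map, Subgroup.range_subtype]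
      refine ⟨(pCore 2 G).subtype.comp e'.symm.toMonoidHom,
        (pCore 2 G).subtype_injective.comp e'.symm.injective, hr, g, hodd, by rwa [hr]⟩
    · exfalso
      apply hg
      have h1 : MulAut.conjNormal (H := pCore 2 G) g = 1 :=
        H7.eq_one_of_isPGroup_of_coprime hp
          ((Nat.coprime_two_right.2 hodd).coprime_dvd_left (orderOf_map_dvd _ g))
      intro x hx
      have := congrArg (fun a : MulAut (pCore 2 G) => ((a ⟨x, hx⟩ : pCore 2 G) : G)) h1
      simp only [MulAut.conjNormal_apply, MulAut.one_apply] at this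
      exact (mul_inv_eq_iff_eq_mul.1 this).symm

/-- Conjugation on a normal quaternion subgroup gives a map to the symmetric group of degree
four. -/
theorem exists_hom_perm_four (φ : Q8 →* G) (hφ : Function.Injective φ) [hn : φ.range.Normal] :
    ∃ f : G →* Equiv.Perm (Fin 4), f.ker = Subgroup.centralizer (φ.range : Set G) ∧
      Nat.card (φ.range.map f) = 4 := by
  obtain ⟨e⟩ := Cfsg.Agent.S3742.result
  let ι := MonoidHom.ofInjective hφ
  let c : G →* MulAut Q8 := (MulAut.congr ι.symm).toMonoidHom.comp MulAut.conjNormal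
  have hc : ∀ g s, φ (c g s) = g * φ s * g⁻¹ := by
    intro g s
    have : ∀ t : φ.range, φ (ι.symm t) = t := fun t => MonoidHom.apply_ofInjective_symm hφ t
    simp only [c, MonoidHom.comp_apply, MulEquiv.toMonoidHom_eq_coe, MonoidHom.coe_coe,
      MulAut.congr_apply, MulEquiv.trans_apply, MulEquiv.symm_symm, this]
    rfl
  have hker : (e.toMonoidHom.comp c).ker = Subgroup.centralizer (φ.range : Set G) := by
    ext g
    rw [MonoidHom.mem_ker, MonoidHom.comp_apply, MulEquiv.toMonoidHom_eq_coe, MonoidHom.coe_coe,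
      EmbeddingLike.map_eq_one_iff]
    constructor
    · rintro h1 _ ⟨s, rfl⟩
      have := hc g s
      rw [h1, MulAut.one_apply] at this
      exact (mul_inv_eq_iff_eq_mul.1 this.symm).symm
    · intro h1
      ext1 s
      apply hφ
      rw [hc, ← h1 _ ⟨s, rfl⟩]; simp
  refine ⟨e.toMonoidHom.comp c, hker, ?_⟩
  rw [← MonoidHom.range_comp, ← Subgroup.index_ker]
  have h2 : ((e.toMonoidHom.comp c).comp φ).ker = Subgroup.center Q8 := by
    rw [← MonoidHom.comap_ker, hker]
    ext q
    rw [Subgroup.mem_comap, Subgroup.mem_center_iff]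
    constructor
    · intro h1 s
      apply hφ
      rw [map_mul, map_mul]
      exact h1 _ ⟨s, rfl⟩
    · rintro h1 _ ⟨s, rfl⟩
      rw [← map_mul, ← map_mul, h1]
  rw [h2]
  have h3 : Nat.card (Subgroup.center Q8) = 2 := (H3.dsq_quaternion 0).card_center
  have h4 := (Subgroup.center Q8).index_mul_card
  rw [h3, Nat.card_eq_fintype_card, QuaternionGroup.card] at h4
  omega

/-- Structure of a solvable Frobenius complement without a normal `2`-complement. -/
theorem Free.solvable_structure [Finite G] [Group.IsSolvable G] (h : Free G)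
    (hn : ¬ HasNormalPComplement 2 G) :
    ∃ (φ : Q8 →* G) (f : G →* Equiv.Perm (Fin 4)), Function.Injective φ ∧ φ.range = pCore 2 G ∧
      f.ker = Subgroup.centralizer (φ.range : Set G) ∧ Nat.card (φ.range.map f) = 4 ∧
      alternatingGroup (Fin 4) ≤ f.range ∧ ∀ c ∈ f.ker, ∀ k, c ^ 2 ^ k = 1 → c * c = 1 := by
  obtain ⟨φ, hφ, hr, g, hodd, hg⟩ := h.exists_normal_Q8 hn
  have : φ.range.Normal := hr ▸ inferInstance
  obtain ⟨f, hf, h4⟩ := exists_hom_perm_four φ hφ
  refine ⟨φ, f, hφ, hr, hf, h4, ?_, fun c hc k hk =>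
    h.sq_eq_one_of_centralizes_Q8 φ hφ (hf ▸ hc) hk⟩
  apply Equiv.Perm.alternatingGroup_le_of_index_le_two
  have h24 : Nat.card (Equiv.Perm (Fin 4)) = 24 := by
    rw [Nat.card_eq_fintype_card, Fintype.card_perm, Fintype.card_fin]; rfl
  have h5 : 4 ∣ Nat.card f.range := by
    have := Subgroup.card_dvd_of_le (Subgroup.map_le_range f φ.range)
    rwa [h4] at this
  have h6 : orderOf (f g) ∣ Nat.card f.range := f.range.orderOf_dvd_natCard ⟨g, rfl⟩
  have h7 : Odd (orderOf (f g)) := hodd.of_dvd_nat (orderOf_map_dvd _ _)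
  have h8 : orderOf (f g) ≠ 1 := fun h1 => hg (by
    rw [← hf]; exact orderOf_eq_one_iff.1 h1)
  have h9 : orderOf (f g) ∣ 24 := by
    have := orderOf_dvd_natCard (f g)
    rwa [h24] at this
  have h10 : orderOf (f g) = 3 := by
    have := Nat.le_of_dvd (by norm_num) h9
    rw [Nat.odd_iff] at h7
    generalize orderOf (f g) = d at this h7 h8 h9
    interval_cases d <;> omega
  have h11 : 12 ∣ Nat.card f.range :=
    Nat.Coprime.mul_dvd_of_dvd_of_dvd (by norm_num : Nat.Coprime 4 3) h5 (by rwa [h10] at h6)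
  have h12 := f.range.index_mul_card
  rw [h24] at h12
  obtain ⟨d, hd⟩ := h11
  rw [hd] at h12
  have : f.range.index * d = 2 := by nlinarith
  exact Nat.le_of_dvd two_pos ⟨d, this.symm⟩

/-- The map of a generalized quaternion group onto the four-group. -/
def quatToV (n : ℕ) : QuaternionGroup (2 * n) →* DihedralGroup 2 where
  toFun q := match q with
    | .a i => .r (ZMod.castHom (show 2 ∣ 2 * (2 * n) from ⟨_, rfl⟩) (ZMod 2) i)
    | .xa i => .sr (ZMod.castHom (show 2 ∣ 2 * (2 * n) from ⟨_, rfl⟩) (ZMod 2) i)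
  map_one' := by
    change DihedralGroup.r _ = DihedralGroup.r 0
    rw [map_zero]
  map_mul' := by
    have h2 : ZMod.castHom (show 2 ∣ 2 * (2 * n) from ⟨_, rfl⟩) (ZMod 2) 2 = 0 := by
      rw [map_ofNat]; rfl
    rintro (i | i) (j | j) <;> simp [-ZMod.castHom_apply, h2]

theorem quatToV_surjective (n : ℕ) : Function.Surjective (quatToV n) := by
  rintro (i | i)
  · obtain ⟨j, rfl⟩ := ZMod.castHom_surjective (show 2 ∣ 2 * (2 * n) from ⟨_, rfl⟩) i
    exact ⟨.a j, rfl⟩
  · obtain ⟨j, rfl⟩ := ZMod.castHom_surjective (show 2 ∣ 2 * (2 * n) from ⟨_, rfl⟩) i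
    exact ⟨.xa j, rfl⟩

theorem quatToV_comm (n : ℕ) {x y : QuaternionGroup (2 * n)} (hx : quatToV n x = 1)
    (hy : quatToV n y = 1) : x * y = y * x := by
  rcases x with (i | i) <;> rcases y with (j | j)
  · simp [add_comm]
  · cases hy
  · cases hx
  · cases hx

/-- A Frobenius complement with a normal `2`-complement is a Z-group or has a normal Z-subgroup
with quotient the four-group. -/
theorem Free.npc_structure [Finite G] (h : Free G) (hn : HasNormalPComplement 2 G) :
    IsZGroup G ∨ ∃ f : G →* DihedralGroup 2, Function.Surjective f ∧ IsZGroup f.ker := by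
  obtain ⟨P, N, hN, hNP⟩ := hn
  rcases h.isCyclic_or_quaternion_two P.isPGroup' with hc | ⟨n, hn1, ⟨e⟩⟩
  · exact Or.inl (h.isZGroup_of_sylow_two P)
  right
  obtain ⟨k, rfl⟩ : ∃ k, n = k + 1 := ⟨n - 1, by omega⟩
  rw [pow_succ'] at e
  obtain ⟨π, hπ1, hπ2⟩ := H31.exists_proj_of_isComplement' hNP
  let f : G →* DihedralGroup 2 := (quatToV (2 ^ k)).comp (e.toMonoidHom.comp π)
  refine ⟨f, (quatToV_surjective _).comp (e.surjective.comp fun a => ⟨a, hπ1 a⟩), ?_⟩
  obtain ⟨S⟩ : Nonempty (Sylow 2 f.ker) := inferInstance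
  have : IsMulCommutative S := by
    refine ⟨⟨fun x y => ?_⟩⟩
    have h1 : π (x * y : S) = π (y * x : S) := by
      apply e.injective
      simp only [Subgroup.coe_mul, map_mul]
      exact quatToV_comm _ x.1.2 y.1.2
    have h2 : (((x * y * (y * x)⁻¹ : S) : f.ker) : G) ∈ N := by
      rw [← hπ2, MonoidHom.mem_ker]
      simp only [Subgroup.coe_mul, Subgroup.coe_inv, map_mul, map_inv] at h1 ⊢
      rw [h1, mul_inv_cancel]
    have h3 := (H7.not_dvd_card_iff_forall_coprime N).1
      (H7.not_dvd_card_of_isComplement' P hNP) _ h2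
    rw [Subgroup.orderOf_coe, Subgroup.orderOf_coe] at h3
    exact mul_inv_eq_one.1 (H7.eq_one_of_isPGroup_of_coprime S.isPGroup' h3)
  have := (h.subgroup f.ker).isCyclic_subgroup S
  exact (h.subgroup f.ker).isZGroup_of_sylow_two S

end H90
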