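import Cfsg.Agent.H90.Huppert
import Cfsg.Agent.H90.ZassSolv
import Cfsg.Agent.S4291

/-! Groups acting regularly on the non-zero elements of a finite abelian group. -/

set_option autoImplicit false

namespace H90

open Cfsg
open scoped commutatorElement

variable {G V : Type*} [Group G] [AddCommGroup V] [DistribMulAction G V]

variable (G V) in
/-- Regularity on the non-zero vectors. -/
structure RegNZ : Prop where
  trans : TransNZ G V
  fpf : ∀ (g : G) (v : V), v ≠ 0 → g • v = v → g = 1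

namespace RegNZ

variable [Finite V] [Nontrivial V] (h : RegNZ G V)
include h

theorem faithful : FaithfulSMul G V := ⟨fun {a b} hab => by
  obtain ⟨v, hv⟩ := exists_ne (0 : V)
  exact (inv_mul_eq_one.1 (h.fpf (a⁻¹ * b) v hv (by rw [mul_smul, ← hab, inv_smul_smul])))⟩

theorem finite : Finite G := by
  obtain ⟨v, hv⟩ := exists_ne (0 : V)
  exact Finite.of_injective (fun g : G => g • v) fun a b hab =>
    inv_mul_eq_one.1 (h.fpf (a⁻¹ * b) v hv (by
      rw [mul_smul, ← show a • v = b • v from hab, inv_smul_smul]))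

theorem free : Free G :=
  Free.of_fpf (K := Multiplicative V)
    (MonoidHom.mk' (fun g => AddEquiv.toMultiplicative (DistribMulAction.toAddEquiv V g))
      fun a b => MulEquiv.ext fun v => mul_smul a b v.toAdd)
    fun g hg k hk => by
      by_contra h0
      exact hg (h.fpf g k.toAdd h0 hk)

theorem card_dvd (S : Subgroup G) (W : AddSubgroup V) (hW : ∀ s ∈ S, ∀ v ∈ W, s • v ∈ W) :
    Nat.card S ∣ Nat.card W - 1 := by
  have h1 := H11.card_dvd_ncard_of_free (H := S) ((W : Set V) \ {0})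
    (fun k w hw => ⟨hW k k.2 w hw.1, (smul_ne_zero_iff_ne (k : G)).2 hw.2⟩)
    (fun k w hw hkw => Subtype.ext (h.fpf k w hw.2 hkw))
  rwa [Set.ncard_sdiff_singleton_of_mem W.zero_mem, ← Nat.card_coe_set_eq] at h1

theorem card_eq : Nat.card G = Nat.card V - 1 := by
  refine Nat.dvd_antisymm ?_ h.trans.card_sub_one_dvd
  have := h.card_dvd ⊤ ⊤ fun _ _ _ _ => trivial
  rwa [Subgroup.card_top, AddSubgroup.card_top] at this

/-- A non-abelian subgroup is irreducible in dimension two over a prime field. -/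
theorem irreducible_of_sq {r : ℕ} (hr : r.Prime) (hV : Nat.card V = r ^ 2) (N : Subgroup G)
    (hN : ¬ IsMulCommutative N) (W : AddSubgroup V) (hW : ∀ s ∈ N, ∀ v ∈ W, s • v ∈ W) :
    W = ⊥ ∨ W = ⊤ := by
  obtain ⟨j, hj, hc⟩ := (Nat.dvd_prime_pow hr).1 (hV ▸ W.card_addSubgroup_dvd_card)
  interval_cases j
  · exact Or.inl (AddSubgroup.card_eq_one.1 hc)
  · exfalso
    have := Fact.mk hr
    have hcyc : IsAddCyclic W := isAddCyclic_of_prime_card (hc.trans (pow_one r))
    obtain ⟨w, hw⟩ := (AddSubgroup.isAddCyclic_iff_exists_zmultiples_eq_top W).1 hcyc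
    have hw0 : w ≠ 0 := by
      rintro rfl
      rw [← hw, Nat.card_zmultiples, addOrderOf_zero, pow_one] at hc
      exact hr.one_lt.ne hc
    have hwW : w ∈ W := hw ▸ AddSubgroup.mem_zmultiples w
    refine hN ⟨⟨fun x y => Subtype.ext (inv_mul_eq_one.1 (h.fpf _ w hw0 ?_))⟩⟩
    obtain ⟨a, ha⟩ : (x : G) • w ∈ AddSubgroup.zmultiples w := hw ▸ hW x x.2 w hwW
    obtain ⟨b, hb⟩ : (y : G) • w ∈ AddSubgroup.zmultiples w := hw ▸ hW y y.2 w hwW
    simp only at ha hb
    rw [mul_smul, inv_smul_eq_iff, Subgroup.coe_mul, Subgroup.coe_mul, mul_smul, mul_smul, ← ha,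
      ← hb, smul_comm (y : G) a w, smul_comm (x : G) b w, ← ha, ← hb, smul_comm a b]
  · exact Or.inr (W.eq_top_of_card_eq (hc.trans hV.symm))

theorem card_of_solvable [Group.IsSolvable G] {A : Subgroup G} (hA : MaxAb A) {E : Type*} [Field E]
    [Finite E] [Module E V] (D : FD V A E) (hd : 2 ≤ Module.finrank E V)
    (hI : ∀ B : Subgroup G, B.Normal → IsCyclic B →
      ∃ W : AddSubgroup V, W ≠ ⊥ ∧ W ≠ ⊤ ∧ ∀ b ∈ B, ∀ v ∈ W, b • v ∈ W) :
    Nat.card V = 25 ∨ Nat.card V = 49 ∨ Nat.card V = 121 ∨ Nat.card V = 529 := by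
  have := h.faithful
  have := h.finite
  have key : ∀ (B : Subgroup G) (j : ℕ), B.Normal → IsCyclic B → Nat.card V = 3 ^ j →
      ∃ i, 0 < i ∧ i < j ∧ Nat.card B ∣ 3 ^ i - 1 := by
    intro B j h1 h2 hV
    obtain ⟨W, h3, h4, h5⟩ := hI B h1 h2
    obtain ⟨i, hi, hc⟩ := (Nat.dvd_prime_pow Nat.prime_three).1 (hV ▸ W.card_addSubgroup_dvd_card)
    refine ⟨i, Nat.pos_of_ne_zero ?_, lt_of_le_of_ne hi ?_, hc ▸ h.card_dvd B W h5⟩
    · rintro rfl
      exact h3 (AddSubgroup.card_eq_one.1 hc)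
    · rintro rfl
      exact h4 (W.eq_top_of_card_eq (hc.trans hV.symm))
  have h1 := D.huppert h.trans hA hd
  simp only [Set.mem_insert_iff, Set.mem_singleton_iff] at h1
  rcases h1 with h1 | h1 | h1 | h1 | h1 | h1
  · exfalso
    have hG : Nat.card G = 2 ^ 3 := by rw [h.card_eq, h1]; rfl
    obtain ⟨B, hB⟩ := Sylow.exists_subgroup_card_pow_prime (G := G) 2 (n := 2) (by
      rw [hG]; norm_num)
    have h2 := B.index_mul_card
    rw [hB, hG] at h2
    have : IsMulCommutative B := IsPGroup.isMulCommutative_of_card_eq_prime_sq hB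
    obtain ⟨i, h3, h4, h5⟩ := key B 2 (Subgroup.normal_of_index_eq_two (by omega))
      (h.free.isCyclic_subgroup B) h1
    interval_cases i
    rw [hB] at h5
    norm_num at h5
  · exact Or.inl h1
  · exact Or.inr (Or.inl h1)
  · exact Or.inr (Or.inr (Or.inl h1))
  · exact Or.inr (Or.inr (Or.inr h1))
  · exfalso
    have hG : Nat.card G = 80 := by rw [h.card_eq, h1]
    obtain ⟨P, B, hB, hBP⟩ := h.free.hasNPC_two_of_not_three (by rw [hG]; norm_num)
    have h2 := hBP.card_mul_card
    have h3 : Nat.card P = 16 := by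
      rw [P.card_eq_multiplicity, hG]
      have : Nat.factorization 80 2 = 4 := by
        rw [Nat.factorization_def _ Nat.prime_two]; decide +kernel
      rw [this]; rfl
    rw [h3, hG] at h2
    have h4 : Nat.card B = 5 := by omega
    obtain ⟨i, h5, h6, h7⟩ := key B 4 hB (isCyclic_of_prime_card h4) h1
    rw [h4] at h7
    interval_cases i <;> norm_num at h7

/-- A Z-subgroup containing a maximal normal abelian subgroup `A` is self-centralizing on `A`. -/
theorem relIndex_dvd {A C : Subgroup G} (hA : MaxAb A) [C.Normal] (hAC : A ≤ C) [IsZGroup C] :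
    A.relIndex C ∣ (Subgroup.centralizer (A : Set G)).index := by
  have := h.finite
  have := hA.normal
  have := hA.comm
  have h1 : C ⊓ Subgroup.centralizer (A : Set G) = A := by
    refine le_antisymm ?_ (le_inf hAC A.le_centralizer)
    by_contra hne
    set N := C ⊓ Subgroup.centralizer (A : Set G) with hN
    have : IsZGroup N := IsZGroup.of_injective (Subgroup.inclusion_injective inf_le_left)
    have h2 : (fittingSubgroup N).map N.subtype ≤ A := by
      have := H2.normal_map_subtype_of_characteristic N (fittingSubgroup N)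
      have : IsCyclic ((fittingSubgroup N).map N.subtype) := isCyclic_of_surjective _
        (Subgroup.equivMapOfInjective _ _ N.subtype_injective).surjective
      exact hA.le_of_comm _ ((Subgroup.map_subtype_le _).trans inf_le_right)
    exact hne fun x hx => h2 ⟨⟨x, hx⟩, H2.centralizer_fitting_le N fun y hy =>
      Subtype.ext (hx.2 _ (h2 ⟨y, hy, rfl⟩)), rfl⟩
  rw [← h1, Subgroup.inf_relIndex_left, h1]
  exact Subgroup.relIndex_dvd_index_of_normal _ _

theorem nonsolvable (hns : ¬ Group.IsSolvable G) :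
    ∃ (φ : SL5 →* G) (M : Subgroup G), Function.Injective φ ∧ φ.range ⊔ M = ⊤ ∧
      φ.range ⊓ M = ⊥ ∧ M ≤ Subgroup.centralizer (φ.range : Set G) ∧
      ((Nat.card V = 121 ∧ Nat.card M = 1) ∨ (Nat.card V = 841 ∧ Nat.card M = 7) ∨
        (Nat.card V = 3481 ∧ Nat.card M = 29)) := by
  have := h.faithful
  have := h.finite
  obtain ⟨φ, f, M, hφ, hn, h1, h2, h3, h4, h5, -, h6, h7⟩ := h.free.nonsolvable_structure hns
  obtain ⟨A, hZ, hA⟩ := exists_maxAb (Subgroup.center G)
  have := hA.normal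
  have := hA.comm
  obtain ⟨E, _, _, _, ⟨D⟩⟩ := h.trans.exists_FD A
  have := D.isCyclic
  have hz : φ (-1) * φ (-1) = 1 := by rw [← map_mul]; simp
  have hzA : φ (-1) ∈ A := hZ (Subgroup.mem_center_iff.2 fun g => (h.free.mul_comm_of_sq hz g).symm)
  have hSA : φ.range ≤ Subgroup.centralizer (A : Set G) := by
    refine le_trans ?_ (commutator_le_centralizer_of_cyclic A)
    rw [MonoidHom.range_eq_map, ← commutator_SL5, commutator_def, Subgroup.map_commutator]
    exact Subgroup.commutator_mono le_top le_top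
  have hAC : A ≤ f.ker := h1 ▸ Subgroup.le_centralizer_iff.1 hSA
  have hzM : φ (-1) ∉ M := fun hm => by
    have : φ (-1) ∈ φ.range ⊓ M := ⟨⟨_, rfl⟩, hm⟩
    rw [h7, Subgroup.mem_bot, map_eq_one_iff _ hφ] at this
    exact absurd this (by decide)
  have hMi : M.relIndex f.ker = 2 := by
    rw [Subgroup.relIindex_eq_two_iff']
    refine ⟨φ (-1), hAC hzA, fun c hc => ?_⟩
    rcases h5 c hc with h8 | h8
    · exact Or.inr ⟨h8, fun h9 => hzM (by simpa using M.mul_mem h9 (M.inv_mem h8))⟩
    · exact Or.inl ⟨h8, fun h9 => hzM (by simpa using M.mul_mem h8 (M.inv_mem h9))⟩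
  have hC : Nat.card f.ker = 2 * Nat.card M := by
    rw [card_eq_relIndex_mul M f.ker, hMi, inf_eq_right.2 h3]
  have hZC : IsZGroup f.ker := by
    have hM : IsZGroup M := (h.free.subgroup M).isZGroup_of_odd
      (Nat.coprime_two_right.1 (h4.coprime_dvd_right (by norm_num)))
    obtain ⟨P⟩ : Nonempty (Sylow 2 f.ker) := inferInstance
    have : IsCyclic P := by
      refine isCyclic_of_card_dvd_prime (p := 2) ?_
      obtain ⟨j, hj⟩ := P.isPGroup'.exists_card_eq
      have h8 : Nat.card P ∣ 2 * Nat.card M := hC ▸ Subgroup.card_subgroup_dvd_card _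
      refine Nat.Coprime.dvd_of_dvd_mul_right ?_ h8
      rw [hj]
      exact (h4.coprime_dvd_right (by norm_num)).symm.pow_left j
    exact (h.free.subgroup _).isZGroup_of_sylow_two P
  obtain ⟨p, -, ⟨k, hk0⟩, hp, hk⟩ := FiniteField.card' E
  rw [← Nat.card_eq_fintype_card] at hk
  change _ = p ^ k at hk
  have : Module.Finite E V := Module.Finite.of_finite
  set d := Module.finrank E V with hdd
  have hV : Nat.card V = Nat.card E ^ d := Module.natCard_eq_pow_finrank (K := E) (V := V)
  have hc1 := (h.relIndex_dvd hA hAC).trans (D.index_centralizer_dvd hp hk)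
  have hA2 : 2 ∣ Nat.card A := by
    have := A.orderOf_dvd_natCard hzA
    rwa [orderOf_injective φ hφ, show orderOf (-1 : SL5) = 2 from
      orderOf_eq_prime (by decide) (by decide)] at this
  have hCA := card_eq_relIndex_mul A f.ker
  rw [inf_eq_right.2 hAC] at hCA
  have hc2 : (A.relIndex f.ker).Coprime 30 := by
    refine h4.coprime_dvd_left ?_
    obtain ⟨a, ha⟩ := hA2
    exact ⟨a, by rw [hC, ha] at hCA; nlinarith⟩
  have h120 : Nat.card (Equiv.Perm (Fin 5)) = 120 := by
    rw [Nat.card_eq_fintype_card, Fintype.card_perm, Fintype.card_fin]; rfl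
  have hi : f.range.index ∣ 2 := by
    have := Subgroup.index_dvd_of_le (h2 ▸ Subgroup.map_le_range f φ.range)
    rwa [alternatingGroup.index_eq_two] at this
  have hfi := f.range.index_mul_card
  rw [h120, ← Subgroup.index_ker] at hfi
  have hG := f.ker.index_mul_card
  have hGV := h.card_eq
  have hSG : 120 ∣ Nat.card G := card_SL5 ▸ Subgroup.card_dvd_of_injective φ hφ
  have hd2 : 2 ≤ d := by
    by_contra hd
    have hd1 : d = 1 := by have := Module.finrank_pos (R := E) (M := V); omega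
    have hcomm : ∀ x ∈ φ.range, ∀ y ∈ φ.range, x * y = y * x := fun x hx y hy =>
      D.comm_of_relIndex_eq (N := ⊥) ⟨bot_le, by simp, by simp⟩ (by simp [← hdd, hd1]) (hSA hx)
        (fun z hz => by rw [Subgroup.mem_bot.1 hz, mul_one, one_mul]) (hSA hy)
    have := hφ (((map_mul φ _ _).trans (hcomm _ ⟨m3, rfl⟩ _ ⟨m3a, rfl⟩)).trans
      (map_mul φ _ _).symm)
    exact absurd this (by decide)
  set r := Nat.card E with hr
  have hr1 : 1 < r := Finite.one_lt_card
  have hp7 : 7 ≤ p := by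
    by_contra hlt
    have h8 : p ∣ 120 := by
      have := hp.two_le
      have : p ≤ 6 := by omega
      interval_cases p <;> norm_num
    have h9 : p ∣ r ^ d := hk ▸ dvd_pow (dvd_pow_self p hk0.ne') (by omega)
    have := (Nat.dvd_sub_iff_right (Nat.one_le_pow d r (by omega)) h9).1
      (by rw [← hV, ← hGV]; exact h8.trans hSG)
    exact hp.one_lt.ne' (Nat.dvd_one.1 this)
  obtain ⟨T, hT⟩ : r - 1 ∣ r ^ d - 1 := Nat.sub_one_dvd_pow_sub_one r d
  have hT1 : T ∣ 120 * A.relIndex f.ker := by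
    refine Nat.dvd_of_mul_dvd_mul_left (show 0 < r - 1 by omega) ?_
    rw [← hT, ← hV, ← hGV, ← hG, hCA, mul_comm (r - 1), ← mul_assoc]
    exact Nat.mul_dvd_mul (Nat.mul_dvd_mul_right (Dvd.intro_left _ hfi) _) D.card_dvd
  obtain ⟨r', hr'⟩ : ∃ r', r = r' + 1 := ⟨r - 1, by omega⟩
  have hTge : ∀ e, e ≤ d → ∀ S, r' * S + 1 = r ^ e → S ≤ T := fun e he S hS => by
    have h8 : r ^ e ≤ r ^ d := Nat.pow_le_pow_right (by omega) he
    refine Nat.le_of_mul_le_mul_left ?_ (show 0 < r' by omega)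
    rw [hr', add_tsub_cancel_right] at hT
    rw [hr'] at h8 hS
    omega
  have hT2 := hTge 2 hd2 (r + 1) (by rw [hr']; ring)
  have hcpos : 0 < A.relIndex f.ker := Nat.pos_of_ne_zero Subgroup.index_ne_zero_of_finite
  have hT3 := Nat.le_of_dvd (by omega) hT1
  have hck := Nat.le_of_dvd hk0 hc1
  have hk3 : k ≤ 3 := by
    by_contra hk4
    have h8 : ∀ t : ℕ, 120 * (t + 4) < 7 ^ (t + 4) := fun t => by
      induction t with
      | zero => norm_num
      | succ t ih => rw [show t + 1 + 4 = t + 4 + 1 by ring, pow_succ]; omega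
    have h9 := h8 (k - 4)
    rw [Nat.sub_add_cancel (by omega)] at h9
    have : 7 ^ k ≤ p ^ k := Nat.pow_le_pow_left hp7 k
    omega
  have hc3 : A.relIndex f.ker = 1 := by
    generalize A.relIndex f.ker = c at hc2 hck hcpos
    have : c ≤ 3 := by omega
    interval_cases c
    · rfl
    · norm_num at hc2
    · norm_num at hc2
  rw [hc3, mul_one] at hT1 hT3
  have hr7 : 7 ≤ r := hk ▸ hp7.trans (Nat.le_self_pow hk0.ne' p)
  have hd3 : d = 2 := by
    by_contra hd
    by_cases hd3 : d = 3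
    · have h8 := hTge 3 hd3.ge (r ^ 2 + r + 1) (by rw [hr']; ring)
      have h9 : T = r ^ 2 + r + 1 := by
        refine Nat.eq_of_mul_eq_mul_left (show 0 < r' by omega) ?_
        rw [hd3, hr', add_tsub_cancel_right] at hT
        have : (r' + 1) ^ 3 = r' * ((r' + 1) ^ 2 + (r' + 1) + 1) + 1 := by ring
        rw [hr']
        omega
      have : r ≤ 11 := by nlinarith
      rw [h9] at hT1
      interval_cases r <;> omega
    · have h8 := hTge 4 (by omega) (r ^ 3 + r ^ 2 + r + 1) (by rw [hr']; ring)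
      have : 7 ^ 3 ≤ r ^ 3 := Nat.pow_le_pow_left hr7 3
      omega
  have hT4 : T = r + 1 := by
    refine Nat.eq_of_mul_eq_mul_left (show 0 < r' by omega) ?_
    rw [hd3, hr', add_tsub_cancel_right] at hT
    have : (r' + 1) ^ 2 = r' * (r' + 1 + 1) + 1 := by ring
    rw [hr']
    omega
  rw [hd3] at hV
  rw [hT4] at hT1 hT3
  rw [hC, hGV, hV] at hG
  have hM : ¬ 2 ∣ Nat.card M ∧ ¬ 3 ∣ Nat.card M := by
    constructor <;> intro h8
    · exact absurd (Nat.eq_one_of_dvd_coprimes h4 h8 (by norm_num)) (by norm_num)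
    · exact absurd (Nat.eq_one_of_dvd_coprimes h4 h8 (by norm_num)) (by norm_num)
  have h119 : r ≠ 119 := fun h8 => by
    have h9 : 7 ∣ p ^ k := by rw [← hk, h8]; norm_num
    have h10 : 17 ∣ p ^ k := by rw [← hk, h8]; norm_num
    have e1 := (Nat.prime_dvd_prime_iff_eq (by norm_num) hp).1
      ((by norm_num : Nat.Prime 7).dvd_of_dvd_pow h9)
    have e2 := (Nat.prime_dvd_prime_iff_eq (by norm_num) hp).1
      ((by norm_num : Nat.Prime 17).dvd_of_dvd_pow h10)
    omega
  have hfin : f.range.index = 2 ∧ ((r = 11 ∧ Nat.card M = 1) ∨ (r = 29 ∧ Nat.card M = 7) ∨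
      (r = 59 ∧ Nat.card M = 29)) := by
    have hr119 : r ≤ 119 := by omega
    generalize Nat.card M = m at hG hM ⊢
    clear * - hG hM hfi hi h119 hr119 hr7 hT1
    rcases (Nat.dvd_prime Nat.prime_two).1 hi with h8 | h8 <;> rw [h8] at hfi ⊢
    · have : f.ker.index = 120 := by omega
      rw [this] at hG
      interval_cases r <;> omega
    · have : f.ker.index = 60 := by omega
      rw [this] at hG
      interval_cases r <;> omega
  refine ⟨φ, M, hφ, ?_, h7, h1 ▸ h3, ?_⟩
  · rw [h6, ← Equiv.Perm.eq_alternatingGroup_of_index_eq_two hfin.1, eq_top_iff]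
    exact fun g _ => ⟨g, rfl⟩
  · rw [hV]
    rcases hfin.2 with ⟨h8, h9⟩ | ⟨h8, h9⟩ | ⟨h8, h9⟩ <;> simp [h8, h9]

end RegNZ

theorem nonempty_equiv_prod {S : Type*} [Group S] (φ : S →* G) (M : Subgroup G)
    (hφ : Function.Injective φ) (h1 : φ.range ⊔ M = ⊤) (h2 : φ.range ⊓ M = ⊥)
    (h3 : M ≤ Subgroup.centralizer (φ.range : Set G)) : Nonempty (G ≃* S × M) := by
  have hc : ∀ (s : S) (m : M), Commute (φ s) (M.subtype m) := fun s m => h3 m.2 _ ⟨s, rfl⟩
  refine ⟨(MulEquiv.ofBijective (φ.noncommCoprod M.subtype hc) ⟨?_, ?_⟩).symm⟩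
  · rw [MonoidHom.noncommCoprod_injective]
    exact ⟨hφ, M.subtype_injective, by rw [Subgroup.range_subtype, disjoint_iff, h2]⟩
  · rw [← MonoidHom.range_eq_top, MonoidHom.noncommCoprod_range, Subgroup.range_subtype, h1]

end H90
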