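import Cfsg.Agent.H90.NearF

/-! Linear groups over a prime field that are regular on the non-zero vectors. -/

set_option autoImplicit false

namespace H90

open Cfsg

variable {p : ℕ} [Fact p.Prime] {V : Type*} [AddCommGroup V] [Module (ZMod p) V]
  {H : Subgroup (V ≃ₗ[ZMod p] V)}

theorem regNZ_of (hreg : ∀ v w : V, v ≠ 0 → w ≠ 0 → ∃! h : H, (h : V ≃ₗ[ZMod p] V) v = w) :
    RegNZ H V :=
  ⟨fun v w hv hw => (hreg v w hv hw).exists, fun _ v hv h => (hreg v v hv hv).unique h rfl⟩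

/-- No cyclic normal subgroup is irreducible. -/
def NoIrr (G V : Type*) [Group G] [AddCommGroup V] [DistribMulAction G V] : Prop :=
  ∀ B : Subgroup G, B.Normal → IsCyclic B →
    ∃ W : AddSubgroup V, W ≠ ⊥ ∧ W ≠ ⊤ ∧ ∀ b ∈ B, ∀ v ∈ W, b • v ∈ W

theorem noIrr_of (hI : ∀ A : Subgroup H, A.Normal → IsCyclic A → ∃ W : Submodule (ZMod p) V,
    W ≠ ⊥ ∧ W ≠ ⊤ ∧ ∀ a ∈ A, ∀ v ∈ W, ((a : H) : V ≃ₗ[ZMod p] V) v ∈ W) : NoIrr H V :=
  fun B h1 h2 => by
    obtain ⟨W, h3, h4, h5⟩ := hI B h1 h2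
    exact ⟨W.toAddSubgroup, fun h => h3 (Submodule.toAddSubgroup_injective h),
      fun h => h4 (Submodule.toAddSubgroup_injective h), h5⟩

variable {G : Type*} [Group G] [DistribMulAction G V]

theorem NoIrr.nontrivial (hI : NoIrr G V) : Nontrivial V := by
  obtain ⟨W, h1, -⟩ := hI ⊥ inferInstance inferInstance
  obtain ⟨v, hv⟩ := (AddSubgroup.ne_bot_iff_exists_ne_zero).1 h1
  exact ⟨v, 0, fun h => hv (Subtype.ext h)⟩

theorem NoIrr.two_le [FaithfulSMul G V] [Finite G] [Finite V] (hI : NoIrr G V) {A : Subgroup G}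
    [hA : A.Normal] {E : Type*} [Field E] [Module E V] (D : FD V A E) :
    2 ≤ Module.finrank E V := by
  have := hI.nontrivial
  have : Module.Finite E V := Module.Finite.of_finite
  obtain ⟨W, h1, h2, h3⟩ := hI A hA D.isCyclic
  by_contra hd
  have hd1 : Module.finrank E V = 1 := by have := Module.finrank_pos (R := E) (M := V); omega
  obtain ⟨⟨w, hw⟩, hw0⟩ := (AddSubgroup.ne_bot_iff_exists_ne_zero).1 h1
  refine h2 (eq_top_iff.2 fun v _ => ?_)
  obtain ⟨c, rfl⟩ := (finrank_eq_one_iff_of_nonzero' w fun h => hw0 (Subtype.ext h)).1 hd1 v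
  exact D.smul_mem W h3 c hw

theorem RegNZ.centralizer_ne [Finite V] (h : RegNZ G V) (hI : NoIrr G V) {A : Subgroup G}
    (hA : MaxAb A) : Subgroup.centralizer (A : Set G) ≠ A := by
  have := hI.nontrivial
  have := h.faithful
  have := h.finite
  have := hA.normal
  have := hA.comm
  obtain ⟨E, _, _, _, ⟨D⟩⟩ := h.trans.exists_FD A
  exact D.centralizer_ne h.trans (hI.two_le D)

theorem RegNZ.card_of_noIrr [Finite V] (h : RegNZ G V) (hI : NoIrr G V) [Group.IsSolvable G] :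
    Nat.card V = 25 ∨ Nat.card V = 49 ∨ Nat.card V = 121 ∨ Nat.card V = 529 := by
  have := hI.nontrivial
  have := h.faithful
  have := h.finite
  obtain ⟨A, -, hA⟩ := exists_maxAb (⊥ : Subgroup G)
  have := hA.normal
  have := hA.comm
  obtain ⟨E, _, _, _, ⟨D⟩⟩ := h.trans.exists_FD A
  exact h.card_of_solvable hA D (hI.two_le D) hI

theorem RegNZ.card_eq_sq [Finite V] (h : RegNZ G V) (hI : NoIrr G V) :
    ∃ r : ℕ, r.Prime ∧ Nat.card V = r ^ 2 := by
  have := hI.nontrivial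
  by_cases hs : Group.IsSolvable G
  · rcases h.card_of_noIrr hI with h1 | h1 | h1 | h1
    exacts [⟨5, by norm_num, h1⟩, ⟨7, by norm_num, h1⟩, ⟨11, by norm_num, h1⟩,
      ⟨23, by norm_num, h1⟩]
  · obtain ⟨_, _, -, -, -, -, h1 | h1 | h1⟩ := h.nonsolvable hs
    exacts [⟨11, by norm_num, h1.1⟩, ⟨29, by norm_num, h1.1⟩, ⟨59, by norm_num, h1.1⟩]

theorem Free.minNon [Finite G] (h : Free G) {A N : Subgroup G} (hA : MaxAb A) (hN : MinNon A N) :
    Nonempty (N ≃* Q8) ∨ Nonempty (N ≃* SL5) := by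
  have := hN.normal
  have hne : Nontrivial N := by
    by_contra h1
    rw [not_nontrivial_iff_subsingleton] at h1
    exact hN.nonab ⟨⟨fun _ _ => Subsingleton.elim _ _⟩⟩
  by_cases hs : Group.IsSolvable N
  · left
    obtain ⟨s, hs, hsN⟩ := hN.isPGroup hA
    have := Fact.mk hs
    rcases (h.subgroup N).isCyclic_or_quaternion hsN with h1 | ⟨rfl, -⟩
    · exact absurd IsCyclic.isMulCommutative hN.nonab
    rcases h.isCyclic_or_quaternion_two hsN with h1 | ⟨n, hn, ⟨e⟩⟩
    · exact absurd IsCyclic.isMulCommutative hN.nonab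
    obtain ⟨k, rfl⟩ : ∃ k, n = k + 1 := ⟨n - 1, by omega⟩
    have hD := (H3.dsq_quaternion k).of_mulEquiv e.symm
    refine hD.quaternion_eight_or.resolve_right fun h2 => ?_
    generalize e.symm (QuaternionGroup.a 1) = a at hD h2
    have h3 : (Subgroup.zpowers (a : G)).Normal := ⟨fun x hx g => by
      obtain ⟨j, rfl⟩ := hx
      have h4 := h2 ⟨g * a * g⁻¹, hN.normal.conj_mem _ a.2 g⟩ (by
        rw [← Subgroup.orderOf_coe, orderOf_conj', Subgroup.orderOf_coe, hD.ord])
      obtain ⟨i, hi⟩ := h4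
      refine ⟨i * j, ?_⟩
      simp only at hi ⊢
      rw [zpow_mul, ← conj_zpow]
      exact congrArg (fun t : N => (t : G) ^ j) hi⟩
    have h4 := hA.le_of_comm _ ((Subgroup.zpowers_le.2 a.2).trans hN.le)
    exact hD.not_commute hD.notMem
      (Subtype.ext (hN.le (Subtype.property _) _ (h4 (Subgroup.mem_zpowers _))).symm)
  · right
    refine (h.subgroup N).equiv_SL5_of_perfect ?_
    have h1 := H2.normal_map_subtype_of_characteristic N (commutator N)
    have h2 := hN.min _ h1 (Subgroup.map_subtype_le _) fun h3 => hs (by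
      have : IsMulCommutative (commutator N) := ⟨⟨fun x y => Subtype.ext (Subtype.ext
        (setLike_mul_comm (s := (commutator N).map N.subtype) ⟨_, x.2, rfl⟩ ⟨_, y.2, rfl⟩))⟩⟩
      have := H2.isNilpotent_of_isMulCommutative (commutator N)
      exact isSolvable_of_commutator_le le_rfl)
    rw [eq_top_iff]
    intro x _
    obtain ⟨y, hy, hyx⟩ : (x : G) ∈ (commutator N).map N.subtype := h2.symm ▸ x.2
    exact Subtype.ext hyx ▸ hy

end H90
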