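/- Recognition of `J₁ × J₁` by element orders: a normal component `J₁`. -/
import Cfsg.Agent.H90.OrdRed
import Cfsg.Agent.H52.ReeW
import Cfsg.Agent.H57.PslOut
import Cfsg.Agent.H74.J1Spec
import Cfsg.Agent.S1159
import Cfsg.Agent.H24.EppoCls

set_option autoImplicit false

namespace H90.OrdR
open Cfsg Subgroup H24 H98 H70.Sq H10.W

universe u

/-- Divisors of the maximal orders. -/
def PJ (a : ℕ) : Prop := ∃ n ∈ muJ, a ∣ n

instance (a : ℕ) : Decidable (PJ a) := inferInstanceAs (Decidable (∃ n ∈ muJ, a ∣ n))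

theorem PJ.of_dvd {a b : ℕ} (h : a ∣ b) (hb : PJ b) : PJ a :=
  let ⟨n, h1, h2⟩ := hb; ⟨n, h1, h.trans h2⟩

theorem PJ.le {a : ℕ} (h : PJ a) : a ≤ 285 := by
  obtain ⟨n, h1, h2⟩ := h
  have : ∀ n ∈ muJ, 0 < n ∧ n ≤ 285 := by decide
  exact (Nat.le_of_dvd (this n h1).1 h2).trans (this n h1).2

theorem not_ord {L : Type*} [Group L] (h : ∀ g : L, PJ (orderOf g)) {a : ℕ} (ha : ¬ PJ a) :
    ¬ Ord L a := fun ⟨g, hg⟩ => ha (hg ▸ h g)

theorem card_out_congr {A B : Type*} [Group A] [Group B] (e : A ≃* B) :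
    Nat.card (Out A) = Nat.card (Out B) := by
  refine Nat.card_congr (QuotientGroup.congr _ _ (MulAut.congr e) ?_).toEquiv
  ext σ
  constructor
  · rintro ⟨_, ⟨a, rfl⟩, rfl⟩
    exact ⟨e a, by ext x; simp [MulAut.congr]⟩
  · rintro ⟨b, rfl⟩
    exact ⟨_, ⟨e.symm b, rfl⟩, by ext x; simp [MulAut.congr]⟩

theorem out_l2_11 {L : Type*} [Group L] (h : IsL2 L 11) : Nat.card (Out L) = 2 := by
  obtain ⟨F, _, _, hF, ⟨e⟩⟩ := h
  have : Fact (Nat.Prime 11) := ⟨by norm_num⟩
  obtain ⟨π, h1, h2⟩ := H57.exists_aut_psl_two_proj (F := F)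
  obtain ⟨φ, h3, -, h4⟩ := H57.exists_out_psl_hom π h1 fun σ => ⟨_, h2 σ⟩
  have h5 : Nat.card (RingAut F) = 1 := by
    rw [Nat.card_congr (H57.ringAutEquivZMod (p := 11) (f := 1) (by simpa using hF)).toEquiv]; simp
  have h6 := φ.ker.card_mul_index
  rw [index_ker, MonoidHom.range_eq_top.2 h3, card_top, h5, h4, Nat.card_eq_fintype_card, hF] at h6
  rw [card_out_congr e, ← h6]; norm_num

theorem cls (L : Type u) [Group L] [Finite L] [IsSimpleGroup L] (hL : ¬ IsMulCommutative L)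
    (h : ∀ g : L, PJ (orderOf g)) : Nat.card L = 60 ∨
      (Nat.card L = 660 ∧ Ord L 6 ∧ Nat.card (Out L) = 2) ∨ Spor.IsoJ1 L := by
  rcases H52.RB.walter' L hL (ab2_of_no_four (not_ord h (by decide))).2 with
    ⟨n, hn, h1⟩ | ⟨q, hq, hq8, h1⟩ | h1 | ⟨K, _, _, m, hm, hK, ⟨e⟩⟩
  · obtain ⟨c, ⟨a, ha⟩, b, hb⟩ := L2.facts (q := 2 ^ n) h1
    have e : Nat.gcd 2 (2 ^ n - 1) = 1 := by
      obtain ⟨k, rfl⟩ : ∃ k, n = k + 1 := ⟨n - 1, by omega⟩
      have := Nat.two_pow_pos k
      exact Nat.coprime_two_left.2 ⟨2 ^ k - 1, by rw [pow_succ]; omega⟩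
    rw [e, Nat.div_one] at c ha hb
    have h2 := ha ▸ h a
    have h3 := hb ▸ h b
    have h4 : n < 9 := by
      by_contra h4
      have := h3.le
      have := Nat.pow_le_pow_right (show 0 < 2 by norm_num) (not_lt.1 h4)
      omega
    have h5 : ∀ n < 9, 2 ≤ n → PJ (2 ^ n - 1) → PJ (2 ^ n + 1) → n = 2 := by decide
    obtain rfl := h5 n h4 hn h2 h3
    exact Or.inl c
  · obtain ⟨c, ⟨a, ha⟩, b, hb⟩ := L2.facts (q := q) h1
    have e : Nat.gcd 2 (q - 1) = 2 := Nat.gcd_eq_left (by omega)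
    rw [e] at c ha hb
    have h2 := ha ▸ h a
    have h3 := hb ▸ h b
    have h4 : q < 572 := by have := h3.le; omega
    have h5 : ∀ q < 572, 3 < q ∧ (q % 8 = 3 ∨ q % 8 = 5) → PJ ((q - 1) / 2) ∧ PJ ((q + 1) / 2) →
        q ∈ [5, 11, 21, 13, 29, 43] := by decide +kernel
    have h6 : ∀ p : ℕ, p.Prime → ¬ PJ p → q ≠ p := fun p hp h7 h8 =>
      not_ord h h7 (ord_of_prime hp (by rw [c, h8]; exact (Dvd.intro _ rfl).mul_left _))
    have h9 := h5 q h4 ⟨hq, hq8⟩ ⟨h2, h3⟩
    simp only [List.mem_cons, List.not_mem_nil, or_false] at h9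
    rcases h9 with rfl | rfl | rfl | rfl | rfl | rfl
    · exact Or.inl c
    · exact Or.inr (Or.inl ⟨c, ⟨b, hb⟩, out_l2_11 h1⟩)
    · obtain ⟨F, _, _, hF, -⟩ := h1
      exact absurd (hF ▸ FiniteField.isPrimePow_card F) (by decide +kernel)
    · exact absurd rfl (h6 _ (by norm_num) (by decide))
    · exact absurd rfl (h6 _ (by norm_num) (by decide))
    · exact absurd rfl (h6 _ (by norm_num) (by decide))
  · exact Or.inr (Or.inr h1)
  · obtain ⟨g, hg⟩ := (Cfsg.Agent.S1159.result hm hK 9).2 (Or.inr (Or.inl dvd_rfl))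
    exact absurd ⟨e.symm g, by rw [e.symm.orderOf_eq, hg]⟩ (not_ord h (a := 9) (by decide))

theorem ord_J1 {L : Type*} [Group L] (h : Spor.IsoJ1 L) {a : ℕ}
    (ha : a ∈ ({1, 2, 3, 5, 6, 7, 10, 11, 15, 19} : Finset ℕ)) : Ord L a := by
  obtain ⟨e⟩ := h
  obtain ⟨g, hg⟩ : a ∈ Set.range (orderOf : Spor.J1 → ℕ) := by
    rw [H74.JK.range_orderOf_J1]; exact ha
  exact ⟨e.symm g, by rw [e.symm.orderOf_eq, hg]⟩

/-- In a group of order `660`, elements of order dividing `55` normalise a Sylow `11`-subgroup. -/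
theorem syl11 {T : Type*} [Group T] [Finite T] [Fact (Nat.Prime 11)] (hc : Nat.card T = 660)
    (P : Sylow 11 T) {t : T} (ht : orderOf t ∣ 55) :
    ∃ h : T, h * t * h⁻¹ ∈ normalizer ((P : Subgroup T) : Set T) := by
  obtain ⟨Q, hQ⟩ : ∃ Q : Sylow 11 T, t • Q = Q := by
    rw [orderOf_dvd_iff_pow_eq_one] at ht
    by_cases h5 : t ^ 5 = 1
    · have : Fact (Nat.Prime 5) := ⟨by norm_num⟩
      have h1 := H98.isPGroup_zpowers (p := 5) (k := 1) (x := t) (by rw [pow_one, h5])
      obtain ⟨Q, hQ⟩ := h1.nonempty_fixed_point_of_prime_not_dvd_card (Sylow 11 T) fun h2 => by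
        have h3 := card_sylow_modEq_one 11 T
        have h4 := (Sylow.card_dvd_index P).trans P.1.index_dvd_card
        rw [hc] at h4
        have h6 := Nat.le_of_dvd (by norm_num) h4
        have h7 : ∀ n ≤ 660, n ∣ 660 → n % 11 = 1 % 11 → ¬ 5 ∣ n := by decide +kernel
        exact h7 _ h6 h4 h3 h2
      exact ⟨Q, hQ ⟨t, mem_zpowers t⟩⟩
    · have h1 : orderOf (t ^ 5) = 11 := orderOf_eq_prime (by rw [← pow_mul, ht]) h5
      refine ⟨Sylow.ofCard (zpowers (t ^ 5)) (by
        rw [Nat.card_zpowers, h1, hc, show 660 = 11 * 60 from rfl,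
          Nat.factorization_mul (by norm_num) (by norm_num)]
        simp [Nat.factorization_eq_zero_of_not_dvd (show ¬ 11 ∣ 60 by norm_num),
          Nat.Prime.factorization_self (show Nat.Prime 11 by norm_num)]), ?_⟩
      rw [Sylow.smul_eq_iff_mem_normalizer]
      exact centralizer_le_normalizer _ (by
        rintro _ ⟨k, rfl⟩; exact (((Commute.refl t).pow_left 5).zpow_left k).eq)
  obtain ⟨h, rfl⟩ := MulAction.exists_smul_eq T Q P
  exact ⟨h, Sylow.smul_eq_iff_mem_normalizer.1 (by rw [mul_smul, mul_smul, inv_smul_smul, hQ])⟩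

theorem stepJ (H : Type u) [Group H] [Finite H] (hs : SS H) (hn : Nontrivial H)
    (hp : IsPSolvable 19 H) (h : ∀ g : H, PJ (orderOf g)) : ∃ M : Subgroup H, M ≠ ⊤ ∧
      ∀ g : H, (∃ n ∈ ({35, 55, 95, 77, 133, 209} : Set ℕ), orderOf g ∣ n) →
        ∃ h : H, h * g * h⁻¹ ∈ M := by
  have : Fact (Nat.Prime 19) := ⟨by norm_num⟩
  have : Fact (Nat.Prime 11) := ⟨by norm_num⟩
  have : Fact (Nat.Prime 5) := ⟨by norm_num⟩
  have hc : ∀ L : Subgroup H, IsComponent L → Nat.card L = 60 ∨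
      (Nat.card L = 660 ∧ Ord L 6 ∧ Nat.card (Out L) = 2) := fun L hL => by
    obtain ⟨h1, h2⟩ := hs.simple hL
    refine (cls L h2 fun g => orderOf_coe g ▸ h g).imp_right fun h3 => h3.resolve_right fun h4 => ?_
    obtain ⟨g, hg⟩ := ord_J1 h4 (a := 19) (by decide)
    exact not_dvd_of_simple h2 (by norm_num) (H18.isPSolvable_subgroup hp L)
      (hg ▸ orderOf_dvd_natCard g)
  by_cases h60 : ∀ L : Subgroup H, IsComponent L → Nat.card L = 60
  · obtain ⟨P, hP⟩ := exists_isSyl 5 (layer H)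
    refine ⟨normalizer (P : Set H), fun e => ?_, fun g ⟨n, hn, hg⟩ => ?_⟩
    · obtain ⟨L, hL, -⟩ := hs.exists_cmp (K := ⊤) (Normal.isSubnormal inferInstance) top_ne_bot
      have := hP.isPGroup.isNilpotent
      have h1 := hs.eq_bot (normalizer_eq_top_iff.1 e).isSubnormal inferInstance
      have h2 := hP.card_eq
      rw [h1, card_bot, eq_comm, Nat.pow_eq_one, Nat.factorization_eq_zero_iff] at h2
      have h3 : 5 ∣ Nat.card (layer H) :=
        (by rw [h60 L hL]; norm_num : 5 ∣ Nat.card L).trans (card_dvd_of_le (H14.comp_le_layer hL))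
      have h4 := (Nat.card_pos (α := layer H)).ne'
      rcases h2 with h2 | h2 | h2 | h2
      exacts [by omega, h2 (by norm_num), h2 h3, h4 h2]
    · have hm : ∀ m : ℕ, m.Coprime 60 → m.Coprime (Nat.card (layer H)) := fun m hm =>
        Nat.coprime_of_dvd fun r hr h1 h2 => by
          obtain ⟨L, hL, -, h3⟩ := hs.dvd_cmp (Normal.isSubnormal inferInstance) le_rfl hr h2
          exact hr.one_lt.ne' (Nat.eq_one_of_dvd_coprimes hm h1 (h60 L hL ▸ h3))
      refine conj_mem_normalizer (m := 1463) (by norm_num) hP (by norm_num) (hm _ (by norm_num))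
        (hg.trans ?_)
      rcases hn with rfl | rfl | rfl | rfl | rfl | rfl <;> norm_num
  · push Not at h60
    obtain ⟨T, hT, h1⟩ := h60
    obtain ⟨c, o6, out⟩ := (hc T hT).resolve_left h1
    have nT : T.Normal := hs.normal_of hT o6 (ord_of_prime (p := 5) (by norm_num) (by simp [c]))
      (ord_of_prime (p := 11) (by norm_num) (by simp [c])) (by norm_num) (by norm_num) (by norm_num)
      (not_ord h (by decide)) (Or.inl (exp_of_not_ord Nat.prime_two (not_ord h (by decide))))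
    obtain ⟨P⟩ : Nonempty (Sylow 11 T) := inferInstance
    obtain ⟨h2, h3⟩ := hs.simple hT
    obtain ⟨M, hM, h4⟩ := inner_step (hs.inf_cent hT)
      (B := normalizer ((P : Subgroup T) : Set T)) fun e => by
        rcases (normalizer_eq_top_iff.1 e).eq_bot_or_eq_top with e1 | e1
        · exact P.ne_bot_of_dvd_card (by simp [c]) e1
        · have := P.not_dvd_index
          have h5 := P.isPGroup'
          rw [e1] at h5
          have := (h5.of_equiv topEquiv).isNilpotent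
          exact h3 ⟨⟨IsSimpleGroup.comm_iff_isSolvable.2 inferInstance⟩⟩
    refine ⟨M, hM, fun g ⟨n, hn, hg⟩ => h4 g (mem_sup_of_out ?_) fun t ht => syl11 c P ?_⟩
    · rw [out]
      refine Nat.Coprime.coprime_dvd_left hg ?_
      rcases hn with rfl | rfl | rfl | rfl | rfl | rfl <;> norm_num
    · refine (Nat.dvd_gcd (ht.trans hg) (c ▸ orderOf_dvd_natCard t)).trans ?_
      rcases hn with rfl | rfl | rfl | rfl | rfl | rfl <;> norm_num

theorem jobJC (h3814 : St3814.{u}) : JobJC.{u} := by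
  intro G _ _ h hF
  have key := red (p := 19) (by norm_num) PJ {35, 55, 95, 77, 133, 209} (fun _ _ => PJ.of_dvd)
    (fun G _ _ h hS => h3814 G {5, 7, 11, 19} (by decide) (by simp; norm_num)
      (fun p hp q hq hpq => hS (p * q) (by
        revert p q; simp))
      (fun p hp q hq r hr h1 h2 h3 g hg => by
        have := (hg ▸ h g).le
        revert p q r; simp)) stepJ G h (by
      rintro n (rfl | rfl | rfl | rfl | rfl | rfl)
      exacts [(hF 70 (by decide)).of_dvd (by norm_num), (hF 110 (by decide)).of_dvd (by norm_num),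
        (hF 190 (by decide)).of_dvd (by norm_num), hF 77 (by decide), hF 133 (by decide),
        hF 209 (by decide)])
  obtain ⟨T, hT, h19⟩ := exists_cmp_of_ab2 (ab2_of_no_four (not_ord h (by decide))).2
    (by norm_num) key
  have h' : ∀ g : G ⧸ solvableRadical G, PJ (orderOf g) := fun g => by
    obtain ⟨g, rfl⟩ := QuotientGroup.mk'_surjective _ g
    exact PJ.of_dvd (orderOf_map_dvd _ g) (h g)
  obtain ⟨h1, h2⟩ := (ss_quot G).simple hT
  have hJ : Spor.IsoJ1 T := by
    rcases cls T h2 fun g => orderOf_coe g ▸ h' g with e | ⟨e, -⟩ | e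
    · rw [e] at h19; omega
    · rw [e] at h19; omega
    · exact e
  exact ⟨T, (ss_quot G).normal_of hT (ord_J1 hJ (a := 7) (by decide))
    (ord_J1 hJ (a := 11) (by decide)) (ord_J1 hJ (a := 19) (by decide)) (by norm_num) (by norm_num)
    (by norm_num) (not_ord h' (by decide))
    (Or.inl (exp_of_not_ord Nat.prime_two (not_ord h' (by decide)))), hJ⟩

end H90.OrdR
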