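/- U4 tower (row S5210), chapter q = 3: assembly. -/
import Cfsg.Agent.H90.Q3Spec

set_option autoImplicit false
set_option linter.unusedSectionVars false
set_option linter.unusedVariables false

open Subgroup H28.U4 H77 Cfsg
open H90.RF (aY)

namespace H90.Q3

/-- all jobs -/
structure Jobs : Prop where
  ca : JobCA
  cb : JobCB
  u : JobU
  na : JobNA
  nd : JobND
  hy : JobHy
  cj : JobCj
  sch : JobSch
  st : JobSt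
  da : JobDA
  dd : JobDD
  th : JobTh
  pull : JobPull
  k1 : JobK1
  dat : JobDat
  card : JobCard
  kk : JobKK

/-- the group on `W` -/
noncomputable abbrev gQ (F : FusionSystem (⊤ : Subgroup (Co T9))) : Subgroup (Equiv.Perm W) :=
  gW T9 (aY F (sQ T9))

variable {F : FusionSystem (⊤ : Subgroup (Co T9))}

theorem Lf.mul {n n' : Co0} {g g' : Equiv.Perm W} (h : Lf io n g) (k : Lf io n' g') : Lf io (n * n') ⇑(g * g') :=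
  fun u hu => by
    obtain ⟨u1, m1, e1, p1⟩ := k u hu
    obtain ⟨u2, m2, e2, p2⟩ := h u1 m1
    exact ⟨u2, m2, by rw [← e2, ← e1]; group, by rw [p2, p1]; rfl⟩

theorem mover (m : Mv T9 3 F) : ∃ g ∈ gQ F, ¬ PL g := by
  obtain ⟨α, hα, k⟩ := m.m1
  obtain ⟨g, hg, e⟩ := exists_gW (H90.U5.lg_aY _) hα
  exact ⟨g, hg, fun p => k ((pl_iff ((H90.U5.lg_aY _).au α hα) e).1 p)⟩

theorem exists_th (J : Jobs) {l : List V} (hl : ∀ a ∈ l, a ∈ NL) :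
    ∃ θ : MulAut (Co T9), ∀ u ∈ sQ T9, θ u ∈ sQ T9 ∧ (θ u).π = wd l u.π := by
  induction l with
  | nil => exact ⟨1, fun u hu => ⟨hu, rfl⟩⟩
  | cons a l ih =>
    obtain ⟨θ, h⟩ := ih fun b hb => hl b (List.mem_cons_of_mem _ hb)
    obtain ⟨η, k⟩ := J.th a (hl a List.mem_cons_self)
    exact ⟨η * θ, fun u hu => ⟨(k _ (h u hu).1).1, (k _ (h u hu).1).2.trans (congrArg (Jp a) (h u hu).2)⟩⟩

theorem tr (J : Jobs) (H : H3) (m : Mv T9 3 F) {l : List V} (hl : ∀ a ∈ l, a ∈ NL) :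
    ∃ F', Mv T9 3 F' ∧ (F'.IsRealizable 3 → F.IsRealizable 3) ∧ gQ F' = cW (wd l) (gQ F) := by
  obtain ⟨θ, h⟩ := exists_th J hl
  obtain ⟨F', m', r, e⟩ := H.cj F m θ (wd l) fun u hu => (h u hu).2
  exact ⟨F', m', r.1, e⟩

theorem hy (J : Jobs) (H : H3) (m : Mv T9 3 F) : Hy (gQ F) ∧ Cl (Rt (gQ F)) :=
  J.hy _ (H.sp F m.sat) (H.tau F m)

/-- the system of a model -/
structure Md (M : Subgroup Co0) (E : FusionSystem (⊤ : Subgroup (Co T9))) : Prop where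
  mv : Mv T9 3 E
  re : E.IsRealizable 3
  mem : ∀ g : Equiv.Perm W, g ∈ gQ E ↔ ∃ n ∈ M, Lf io n g

theorem model (J : Jobs) {M : Subgroup Co0} (hS : ∀ u, io u ∈ M) (hc : ¬ 3 ^ 7 ∣ Nat.card M) (h0 : nn 0 ∈ M)
    (h5 : nn 5 ∈ M) : ∃ E, Md M E := by
  obtain ⟨E, s, r, e, a⟩ := J.pull Co0 io io_inj M hS hc
  obtain ⟨α, hα, au, k⟩ := (e (Jp a2)).2 ⟨_, h0, J.dat.l0⟩
  refine ⟨E, ⟨s, ⟨α, hα, fun p => ?_⟩, a ⟨_, h5, J.dat.l5⟩⟩, r, e⟩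
  have := (pl_iff au k).2 p (bs 2) rfl
  rw [Jp_apply (by decide)] at this
  revert this; decide +kernel

theorem Md.rt {M : Subgroup Co0} {E : FusionSystem (⊤ : Subgroup (Co T9))} (h : Md M E) {n : Co0} (hn : n ∈ M)
    {x : V} (l : Lf io n (Jp x)) (r : Ro x := by decide) : Rt (gQ E) x := ⟨r, (h.mem _).2 ⟨n, hn, l⟩⟩

theorem co2 (J : Jobs) (H : H3) : ∃ E, Md (St1 vv) E ∧ Eqv (Rt (gQ E)) pD5 := by
  have D := J.dat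
  obtain ⟨E, h⟩ := model J (M := St1 vv) (fun u => (D.s u).1) J.card.1 D.f0.1 D.f5.1
  exact ⟨E, h, (J.u _ (hy J H h.mv).2 (h.rt D.f0.1 D.l0)).1 (h.rt D.f1.1 D.l1) (h.rt D.f2.1 D.l2)⟩

theorem sub (J : Jobs) (H : H3) {M : Subgroup Co0} (hM : M ≤ St1 vv) (hS : ∀ u, io u ∈ M) (h0 : nn 0 ∈ M)
    (h5 : nn 5 ∈ M) : ∃ E, Md M E ∧ (∀ x, Rt (gQ E) x → pD5 x) ∧
      ∀ g ∈ gQ E, ∀ x y, Ro x → Ro y → pD5 x → Cn g x y → pD5 y := by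
  obtain ⟨E, h⟩ := model J hS (fun d => J.card.1 (d.trans (card_dvd_of_le hM))) h0 h5
  obtain ⟨E', h', e⟩ := co2 J H
  have le : gQ E ≤ gQ E' := fun g hg =>
    let ⟨n, hn, l⟩ := (h.mem g).1 hg
    (h'.mem g).2 ⟨n, hM hn, l⟩
  refine ⟨E, h, fun x hx => ((e x).1 ⟨hx.1, le hx.2⟩).2, fun g hg x y rx ry px c => ?_⟩
  obtain ⟨y', r, c'⟩ := J.cj _ (hy J H h'.mv).1 g (le hg) x ((e x).2 ⟨rx, px⟩)
  exact c'.uniq r.1 ry c ▸ ((e y').1 r).2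

theorem realA (J : Jobs) (H : H3) (m : Mv T9 3 F) {P : V → Prop} (hP : P = pA4 ∨ P = pA41 ∨ P = pD5)
    (e : Eqv (Rt (gQ F)) P) : F.IsRealizable 3 := by
  have D := J.dat
  suffices ∃ M E, Md M E ∧ Eqv (Rt (gQ E)) P by
    obtain ⟨M, E, h, e'⟩ := this
    exact H.same F E m h.mv ((J.da J.cj J.sch J.na _ P (hy J H m).1 hP e).trans
      (J.da J.cj J.sch J.na _ P (hy J H h.mv).1 hP e').symm) h.re
  rcases hP with rfl | rfl | rfl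
  · obtain ⟨E, h, d, -⟩ := sub J H (M := St2 vv vw) inf_le_left (fun u => ⟨(D.s u).1, (D.s u).2.1⟩)
      ⟨D.f0.1, D.f0.2.1⟩ ⟨D.f5.1, D.f5.2.1⟩
    refine ⟨_, E, h, (J.u _ (hy J H h.mv).2 (h.rt ⟨D.f0.1, D.f0.2.1⟩ D.l0)).2.2.1
      (h.rt ⟨D.f1.1, D.f1.2.1⟩ D.l1) d fun r => ?_⟩
    obtain ⟨n, hn, l⟩ := (h.mem _).1 r.2
    exact D.f2.2 ((J.kk H.inn J.k1 D n _ _ l D.l2 hn.1 D.f2.1).1.symm.trans hn.2)
  · obtain ⟨E, h⟩ := model J (M := Sw vv vw) (fun u => .inl ⟨(D.s u).1, (D.s u).2.1⟩) J.card.2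
      (.inl ⟨D.f0.1, D.f0.2.1⟩) (.inl ⟨D.f5.1, D.f5.2.1⟩)
    exact ⟨_, E, h, (J.u _ (hy J H h.mv).2 (h.rt (.inl ⟨D.f0.1, D.f0.2.1⟩) D.l0)).2.1
      (h.rt (.inl ⟨D.f1.1, D.f1.2.1⟩) D.l1) (h.rt (.inr D.f3) D.l3)⟩
  · obtain ⟨E, h⟩ := co2 J H
    exact ⟨_, E, h⟩

theorem d4_tl : ∀ (m : Fin 3) (x : V), Ro (sh (tl m m) x) ∧ pD4 (sh (tl m m) x) ↔ Ro x ∧ pD4 x := by
  decide +kernel

theorem not_d5 : ∀ m : Fin 3, m ≠ 0 → ∃ x ∈ [a3, a4, a2, ee, ff, b2, b3, ⟨0, 0, 1, 0, 1⟩, ⟨0, 0, 1, 0, -1⟩,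
    ⟨1, 1, -1, 1, 1⟩, ⟨1, 1, -1, 1, -1⟩, ⟨1, 1, -1, -1, 1⟩, ⟨1, 1, -1, -1, -1⟩],
    Ro x ∧ pD5 (sh (tl m m) x) ∧ ¬ pD5 (sh (tl m m) (sh [a3, a4] x)) := by
  decide +kernel

theorem E1_eq : E1 = wd [a3, a4] := by simp [E1, wd]

theorem realD (J : Jobs) (H : H3) (m : Mv T9 3 F) (e : Eqv (Rt (gQ F)) pD4) : F.IsRealizable 3 := by
  have D := J.dat
  have l12 : Lf io (nn 1 * nn 2) E1 := D.l1.mul D.l2
  have f12 : (nn 1 * nn 2) • vv = vv := by rw [mul_smul, D.f2.1, D.f1.1]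
  by_cases hE : ∃ k : Fin 3, E1 ∈ cW (wd (tl k k)) (gQ F)
  · obtain ⟨k, hk⟩ := hE
    obtain ⟨F', m', r, e'⟩ := tr J H m (tl_NL k k)
    have q : Eqv (Rt (gQ F')) pD4 := fun x => by rw [e', rt_cW (tl_ne k k), e, d4_tl]
    obtain ⟨E, h, d, -⟩ := sub J H (M := St1 vv ⊓ Sw v3 v4) inf_le_left
      (fun u => ⟨(D.s u).1, .inl (D.s u).2.2⟩) ⟨D.f0.1, .inl D.f0.2.2⟩ ⟨D.f5.1, .inl D.f5.2.2⟩
    have q' : Eqv (Rt (gQ E)) pD4 := (J.u _ (hy J H h.mv).2 (h.rt ⟨D.f0.1, .inl D.f0.2.2⟩ D.l0)).2.2.2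
      (h.rt ⟨D.f4.1, .inl D.f4.2⟩ D.l4) d fun r => by
        obtain ⟨n, hn, l⟩ := (h.mem _).1 r.2
        have := (J.kk H.inn J.k1 D n _ _ l D.l1 hn.1 D.f1.1).2
        exact hn.2.elim (fun p => D.f1.2.2.2 (this.symm.trans p.2)) fun p => D.f1.2.2.1 (this.symm.trans p.2)
    refine r (H.same F' E m' h.mv ?_ h.re)
    exact ((J.dd J.cj J.sch J.nd _ (hy J H m').1 q).1 (e' ▸ hk)).trans
      ((J.dd J.cj J.sch J.nd _ (hy J H h.mv).1 q').1 ((h.mem _).2 ⟨_, ⟨f12, .inr ⟨D.f12.1, D.f12.2.1⟩⟩, l12⟩)).symm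
  · obtain ⟨E, h, d, d'⟩ := sub J H (M := St2 vv v4) inf_le_left
      (fun u => ⟨(D.s u).1, (D.s u).2.2.2⟩) ⟨D.f0.1, D.f0.2.2.2⟩ ⟨D.f5.1, D.f5.2.2.2⟩
    have q' : Eqv (Rt (gQ E)) pD4 := (J.u _ (hy J H h.mv).2 (h.rt ⟨D.f0.1, D.f0.2.2.2⟩ D.l0)).2.2.2
      (h.rt ⟨D.f4.1, D.f4.2.2⟩ D.l4) d fun r => by
        obtain ⟨n, hn, l⟩ := (h.mem _).1 r.2
        exact D.f1.2.2.2 ((J.kk H.inn J.k1 D n _ _ l D.l1 hn.1 D.f1.1).2.symm.trans hn.2)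
    refine H.same F E m h.mv (((J.dd J.cj J.sch J.nd _ (hy J H m).1 e).2 fun k hk => hE ⟨k, hk⟩).trans
      ((J.dd J.cj J.sch J.nd _ (hy J H h.mv).1 q').2 fun k hk => ?_).symm) h.re
    by_cases k0 : k = 0
    · subst k0
      obtain ⟨n, hn, l⟩ := (h.mem E1).1 (by simpa [mem_cW, tl, wd] using hk)
      exact D.f12.2.2 (D.f12.2.1.symm.trans ((J.kk H.inn J.k1 D n _ _ l l12 hn.1 f12).2.symm.trans hn.2))
    · obtain ⟨x, -, r, p, np⟩ := not_d5 k k0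
      have n34 : ∀ a ∈ [a3, a4], dot a a ≠ 0 := by decide +kernel
      have r' : Ro (sh [a3, a4] x) := (dot_sh n34 x x).trans r
      exact np (d' _ (mem_cW.1 hk) _ _ ((dot_sh (tl_ne k k) x x).trans r) ((dot_sh (tl_ne k k) _ _).trans r') p
        (((cn_wd (tl_ne k k) r'.ne).mul (E1_eq ▸ cn_wd n34 r.ne)).mul (cn_wd (tl_ne k k) r.ne).inv))

theorem x3 (J : Jobs) : JobX3 := fun H F m hG => by
  obtain ⟨i, j, r⟩ := J.ca _ (hy J H m).2 ((J.st J.cj _ (hy J H m).1).1 (mover m))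
  obtain ⟨F1, m1, r1, e1⟩ := tr J H m (tl_NL i j)
  have b : Rt (gQ F1) b2 := by rw [e1, rt_cW (tl_ne i j)]; exact r
  rcases J.cb _ (hy J H m1).2 b with g | ⟨l, hl, P, hP, e⟩
  · have s := (J.st J.cj _ (hy J H m1).1).2 b g
    rw [e1, ← tg_eq i j] at s
    exact absurd ⟨_, fun h => absurd h (by decide), s⟩ hG
  · obtain ⟨F2, m2, r2, e2⟩ := tr J H m1 hl
    have q : Eqv (Rt (gQ F2)) P := fun x => by rw [e2, rt_cW fun a h => NL_ne a (hl a h)]; exact e x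
    refine r1 (r2 ?_)
    rcases hP with p | p | p | rfl
    exacts [realA J H m2 (.inl p) q, realA J H m2 (.inr (.inl p)) q, realA J H m2 (.inr (.inr p)) q,
      realD J H m2 q]

end H90.Q3
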