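/- RF tower: the dichotomy along a central series. -/
import Cfsg.Agent.H90.U5D

set_option autoImplicit false

open Subgroup H92 Cfsg Cfsg.FusionSystem H90.U5

universe v

namespace H90.RF

theorem jobD : JobD.{v} := fun SE P _ _ hP F hF E hE z n h0 mono hz hc => by
  haveI : Fact (Nat.Prime 2) := ⟨Nat.prime_two⟩
  obtain ⟨Y, H, D⟩ := exists_dt hP hF hE
  obtain ⟨i, hi, M, h, V, _, _, π, ρ, S, pM, pV, k1, k2, k3⟩ :=
    core_D D z n h0 mono (fun i hi c hc => by simpa [sq] using hz i hi c hc) hc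
  haveI : ((Inn E).subgroupOf Y).Normal := (innNormal E).subgroupOf _
  have hs := QuotientGroup.mk'_surjective ((Inn E).subgroupOf Y)
  obtain ⟨R, hR⟩ := (sylIn_iff D.syl.le).1 D.syl
  have mR : ∀ y : Y, y ∈ (R : Subgroup Y) ↔ y.1 ∈ autInducedBy ⊤ E := fun y => by rw [hR]; rfl
  let ρ' := QuotientGroup.lift ((Inn E).subgroupOf Y) ρ k1
  obtain ⟨b1, b2⟩ := SE _ V _ (R.mapSurjective hs) ρ'
    (spe_quotient_of_relSE D.se D.syl
      (Inn_lt_autInducedBy (hP.to_subgroup ⊤) D.cen (lt_top_iff_ne_top.2 D.ne)) D.nle)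
    (fun w => by simpa [sq] using pV w)
    (by rintro _ ⟨y, hy, rfl⟩ e; exact (QuotientGroup.eq_one_iff _).2 (k2 y ((mR y).1 hy) e))
    fun N hN e x hx => by
      obtain ⟨y, rfl⟩ := hs x
      exact k3 (N.comap (QuotientGroup.mk' _)) (hN.comap _) (fun y hy => e _ hy) y hx
  let c : ∀ s ∈ normalizer (E : Set P), Y ⧸ (Inn E).subgroupOf Y := fun s hs => (⟨_, D.cY hs⟩ : Y)
  have cR : ∀ s hs', c s hs' ∈ (R.mapSurjective hs : Subgroup _) := fun s hs' =>
    ⟨_, (mR ⟨_, D.cY hs'⟩).2 (cAut_mem hs' (mem_top s)), rfl⟩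
  have ci : ∀ s hs t ht, c s hs = c t ht → s⁻¹ * t ∈ E := fun s hs t ht e => by
    refine D.mem_E (mul_mem (inv_mem hs) ht) ?_
    rw [show cAut E (s⁻¹ * t) (mul_mem (inv_mem hs) ht) = (cAut E s hs)⁻¹ * cAut E t ht from
      eq_inv_mul_of_mul_eq (aut_ext fun x hx => by
        rw [af_mul_apply, af_cAut _ hx, af_cAut _ hx,
          af_cAut _ ((mem_normalizer_iff.1 (mul_mem (inv_mem hs) ht) x).1 hx)]; group)]
    exact QuotientGroup.eq (s := (Inn E).subgroupOf Y).1 e
  have zM := (mono i).trans h.le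
  refine ⟨i, hi, M, h.ne, h.le, h.ME, h.cen, fun m hm => by simpa [sq] using h.pw m hm, h.gen, h.red,
    fun a b f g hf inj cov => ?_, fun B hB sq s hs hs' a b f g hf inj cov => ?_⟩
  · refine (Nat.pow_le_pow_left ?_ 2).trans (b1.trans ?_)
    · simpa using Nat.card_le_card_of_injective (fun x : Fin a => (⟨c _ (hf x), cR _ (hf x)⟩ :
        (R.mapSurjective hs : Subgroup _))) fun x y e => inj x y (ci _ _ _ _ (congrArg Subtype.val e))
    · rw [← Set.ncard_univ]
      exact S.card_le zM g fun w _ => (S.sur w).imp fun m hm => ⟨hm.1, hm.2, cov m hm.1⟩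
  · have ex : ∀ y : Y, y.1 ∈ autInducedBy B E → ∃ x ∈ B, ∀ u ∈ E, af y.1 u = x * u * x⁻¹ := fun y hy =>
      mem_autInducedBy.1 hy
    have := b2 (((autInducedBy B E).subgroupOf Y).map (QuotientGroup.mk' _))
      (map_mono fun y hy => (mR y).2 (autInducedBy_mono le_top E hy))
      (by
        rintro _ ⟨y, hy, rfl⟩
        obtain ⟨x, hx, e⟩ := ex y hy
        rw [← map_mul]
        refine (QuotientGroup.eq_one_iff _).2 (mem_Inn.2 ⟨x * x, sq x hx, fun u hu => ?_⟩)
        change af (y.1 * y.1) u = _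
        rw [af_mul_apply, e _ (af_mem _ hu), e u hu]; group)
      (c s hs) (cR s hs) fun e => hs' (D.mem_E hs ((QuotientGroup.eq_one_iff (N := (Inn E).subgroupOf Y) _).1 e))
    refine le_trans ?_ (this.trans (S.card_le zM g ?_))
    · simpa using Nat.card_le_card_of_injective (fun x : Fin a => (⟨c _ (hB (hf x)), _,
        cAut_mem (hB (hf x)) (hf x), rfl⟩ : ((autInducedBy B E).subgroupOf Y).map (QuotientGroup.mk' _)))
        fun x y e => inj x y (ci _ _ _ _ (congrArg Subtype.val e))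
    · rintro _ ⟨w, rfl⟩
      obtain ⟨m, hm, rfl⟩ := S.sur w
      have k := pM _ (D.cY hs) m hm
      have e := S.act ⟨_, D.cY hs⟩ m hm
      rw [af_cAut _ (h.ME hm)] at k e
      exact ⟨_, mul_mem (inv_mem hm) k, (S.div hm k).symm.trans (by rw [← e]; rfl), cov m hm⟩

end H90.RF
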