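/- RF tower: the standard form of the automizer of `S`. -/
import Cfsg.Agent.H90.U5Hall
import Cfsg.Agent.H90.RFTri

set_option autoImplicit false
set_option linter.unusedSectionVars false
set_option linter.unusedSimpArgs false

open Subgroup H92 Cfsg H63.Oc

universe v

namespace H90.RF

variable {K : Type v} [Field K] [Finite K] [CharP K 2] {T : TF K}

theorem z0_cm : ∀ i < 12, ∀ u ∈ z0 T (i + 1), ∀ s, cm s u ∈ z0 T i := by
  intro i hi u hu s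
  have k : ∀ X : Subgroup (Co T), X.Normal → u ∈ X → cm s u ∈ X := fun X n h =>
    mul_mem (inv_mem h) (n.conj_mem u h s)
  have := k _ (nz0 _) hu
  interval_cases i
  · exact (zA_central 0 (by omega) u hu).2 s
  · exact (zA_central 1 (by omega) u hu).2 s
  · exact (zA_central 2 (by omega) u hu).2 s
  · exact (zA_central 3 (by omega) u hu).2 s
  · exact (zA_central 4 (by omega) u (z0_mono 5 hu)).2 s
  · exact z0_mono 4 ((zA_central 4 (by omega) u hu).2 s)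
  · obtain ⟨_, _, _, _, _⟩ := hu
    obtain ⟨h1, h2, h3, h4, h5⟩ := this
    exact ⟨h1, h2, by simp [cm, T.sq, *]; grind, h3, h4, h5⟩
  · obtain ⟨_, _, _, _⟩ := hu
    obtain ⟨h1, h2, h3, h4⟩ := this
    exact ⟨h1, h2, by simp [cm, T.sq, *]; grind, h3, h4⟩
  · obtain ⟨⟨_, _⟩, h⟩ := hu
    have h' : u.a1 = 0 := h
    obtain ⟨⟨h1, h2⟩, h3⟩ := this
    exact ⟨h3, by simp [cm, T.sq, *]; grind, h1, h2⟩
  · obtain ⟨_, _⟩ := hu
    exact ⟨⟨this.2, by simp [cm, T.sq, *]; grind⟩, this.1⟩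
  · exact ⟨this, by simp [cm]; grind⟩
  · exact (mem_sQ1 T).2 (by simp [cm]; grind)

variable (T) in
/-- the standard automorphisms as a homomorphism -/
noncomputable def sdH : U5.DD K →* MulAut (Co T) :=
  MonoidHom.mk' (fun δ => (au_sd δ.left δ.right).toTop) fun δ δ' =>
    MulEquiv.ext fun u => (sd_sd δ.left δ'.left δ.right δ'.right u).symm

theorem Cg_sd {θ : Co T → Co T} {p : Kˣ × Kˣ} {φ : RingAut K} (h : Cg (z0 T) 12 θ (sd T p φ)) :
    (∀ t, (θ (x1 T t)).a1 = p.1 * φ t) ∧ (θ (y2 T 1)).b2 = p.1 * p.2 ∧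
      ∀ t, (θ (x4 T t)).a4 = chi4 T p.1 p.2 * φ t := by
  refine ⟨fun t => ?_, ?_, fun t => ?_⟩
  · have : _ = (0 : K) := h 11 (by omega) (x1 T t) trivial
    simp [sd, dg, fa, x1] at this ⊢
    grind
  · have := (h 8 (by omega) (y2 T 1) ⟨⟨rfl, rfl⟩, rfl⟩).2.1
    simp [sd, dg, fa, y2] at this ⊢
    grind
  · rw [← inv_mul_eq_one.1 (mem_bot.1 (h 0 (by omega) (x4 T t) (H14.Oc.x4_mem t)))]
    rfl

theorem R_mod {c d : Co T} (hc : c ∈ sQ T) (h : c⁻¹ * d ∈ sR T) : d.a1 = c.a1 ∧ d.b2 = c.b2 ∧ d.b6 = c.b6 := by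
  obtain ⟨h1, h2, h3, -⟩ := h
  simp [hc.1, hc.2] at h1 h2 h3
  grind

theorem jobHall : JobHall.{v} := fun K _ _ _ T aS Y0 Y8 Y1 t g8 g1 => by
  haveI : Fact (Nat.Prime 2) := ⟨Nat.prime_two⟩
  haveI : Finite (RingAut K) := Finite.of_injective (fun φ : RingAut K => (φ : K → K)) DFunLike.coe_injective
  haveI : Finite (U5.DD K) := Finite.of_equiv _ SemidirectProduct.equivProd.symm
  obtain ⟨Γ, hΓ, h⟩ := U5.hall_gen H55.Oc.pgroup_Co (z0 T) 12 rfl rfl (sdH T)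
    (fun θ => ⟨(aS θ (au_aut θ)).1, (aS θ (au_aut θ)).2.2.elim fun p h => h.elim fun φ h => ⟨⟨p, φ⟩, h⟩⟩)
    (fun δ h => by
      obtain ⟨h1, h2, -⟩ := Cg_sd (θ := id) h.symm
      have k : (δ.left.1 : K) = 1 := by simpa [x1] using (h1 1).symm
      exact (U5.eq_inl (x := 1) one_ne_zero (fun t => by simpa [x1] using (h1 t).symm) k
        (by simpa [y2, k] using h2.symm)).trans (map_one _)) z0_cm t.l0 t.inn t.rad0
  obtain ⟨θ, hθ⟩ := h (U5.coprime_of_pow fun δ _ e => by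
    have e1 : δ.right = 1 := orderOf_eq_one_iff.1 (Nat.eq_one_of_dvd_coprimes
      (odd_aut (T := T)).coprime_two_right (orderOf_dvd_natCard _)
      (orderOf_dvd_of_pow_eq_one (by simpa [sq] using congrArg SemidirectProduct.right e)))
    have e2 := congrArg SemidirectProduct.left e
    rw [sq, SemidirectProduct.mul_left, e1, map_one] at e2
    have k : ∀ x : Kˣ, x * x = 1 → x = 1 := fun x h => Units.ext (by
      rcases mul_self_eq_one_iff.1 (congrArg Units.val h : (x : K) * x = 1) with h | h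
      exacts [h, h.trans (CharTwo.neg_eq 1)])
    exact SemidirectProduct.ext (Prod.ext (k _ (congrArg Prod.fst e2)) (k _ (congrArg Prod.snd e2))) e1)
  have i0 : ∀ p ∈ T0 T, SemidirectProduct.inl p ∈ Γ := fun p hp => by
    obtain ⟨α, hα, k⟩ := g8.2 p hp
    have m := fun c (hc : c ∈ sQ T) => R_mod (c := dg T p.1 p.2 c) (by simp [mem_sQ, dg, hc.1, hc.2])
      (k 3 (by omega) c hc)
    obtain ⟨y, hy, e⟩ := t.ext8 α hα fun c ⟨h1, h2, h3, hc⟩ => by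
      have := (t.l8.au α hα).mem c hc
      obtain ⟨m1, m2, m3⟩ := m c hc
      exact ⟨by simp [m1, dg, h1], by simp [m2, dg, h2], by simp [m3, dg, h3], this⟩
    obtain ⟨-, -, p', φ, c⟩ := aS y (t.l0.au y hy)
    obtain ⟨c1, c2, -⟩ := Cg_sd c
    have k1 : ∀ x, p'.1 * φ x = p.1 * x := fun x => by rw [← c1, ← e _ ⟨rfl, rfl⟩, (m _ ⟨rfl, rfl⟩).1]; rfl
    have k2 : (p'.1 : K) = p.1 := by simpa using k1 1
    rw [← e _ ⟨rfl, rfl⟩, (m _ ⟨rfl, rfl⟩).2.1, k2] at c2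
    exact (hΓ _).2 ⟨y, hy, U5.eq_inl (δ := ⟨p', φ⟩) p.1.ne_zero k1 k2 (by simpa [dg, y2] using c2.symm) ▸ c⟩
  have i1 : ∀ p, SemidirectProduct.inl p ∈ Γ := fun p => by
    obtain ⟨α, hα, k⟩ := g1.2 (H14.Oc.pw T 2 1 p.1 * H14.Oc.pw T 3 2 p.2)
    obtain ⟨y, hy, e⟩ := t.ext1 α hα fun c hc => by rw [H14.Oc.eq_x4 hc, k]; exact H14.Oc.x4_mem _
    obtain ⟨-, -, p', φ, c⟩ := aS y (t.l0.au y hy)
    have k1 := fun x => ((Cg_sd c).2.2 x).symm.trans (by rw [← e _ rfl, k])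
    have h1 : SemidirectProduct.inl p' ∈ Γ :=
      (hΓ _).2 ⟨y, hy, U5.eq_inl (δ := ⟨p', φ⟩) (x := p') (Units.ne_zero _) k1 rfl rfl ▸ c⟩
    have h2 : H14.Oc.pw T 2 1 p'.1 * H14.Oc.pw T 3 2 p'.2 = H14.Oc.pw T 2 1 p.1 * H14.Oc.pw T 3 2 p.2 :=
      Units.ext (by simpa [chi4, x4, H14.Oc.pw_val] using k1 1)
    simpa using mul_mem (i0 (p * p'⁻¹) (H14.Oc.mem_T0'.2 (by
      simp only [Prod.fst_mul, Prod.snd_mul, Prod.fst_inv, Prod.snd_inv, map_mul, map_inv]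
      rw [mul_mul_mul_comm, ← mul_inv, h2, mul_inv_cancel]))) h1
  refine ⟨θ, Γ.map SemidirectProduct.rightHom, fun y => (hθ y).trans
    ⟨fun ⟨s, δ, hδ, e⟩ => ⟨s, δ.left, δ.right, ⟨δ, hδ, rfl⟩, e⟩, fun ⟨s, p, φ, ⟨δ, hδ, e'⟩, e⟩ =>
      ⟨s, ⟨p, φ⟩, ?_, e⟩⟩⟩
  convert mul_mem (i1 (p * δ.left⁻¹)) hδ using 1
  exact SemidirectProduct.ext (by simp) (by simpa using e'.symm)

end H90.RF
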