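import Cfsg.Agent.H61.PSL2
import Cfsg.Agent.H61.HurClassify
import Cfsg.Agent.H12.Linearize
import Cfsg.Agent.H9.ClassTwo

/-! Groups with a Sylow subgroup `p^{1+2}_+`: radical subgroups of order `p²` give large tori in
the `p'`-group `Out_G(P) ≤ GL₂(p)`. -/

set_option autoImplicit false

open Matrix hiding zpow_add zpow_mul one_zpow
open Subgroup MatrixGroups MulAction H61
open scoped commutatorElement

namespace H90.RV

variable {G : Type*} [Group G] {p : ℕ}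

theorem exists_conj_mem [Finite G] [Fact p.Prime] (P : Sylow p G) {W Q : Subgroup G}
    (hP : (P : Subgroup G) ≤ W) (hQ : Q ≤ W) (h : IsPGroup p Q) :
    ∃ w ∈ W, ∀ y ∈ Q, w * y * w⁻¹ ∈ P := by
  obtain ⟨R, hR⟩ := (h.comap_subtype (K := W)).exists_le_sylow
  obtain ⟨w, hw⟩ := exists_smul_eq W R (P.subtype hP)
  refine ⟨w, w.2, fun y hy => ?_⟩
  have h1 : w * ⟨y, hQ hy⟩ * w⁻¹ ∈ (w • R : Sylow p W) := by
    rw [← SetLike.mem_coe, Sylow.coe_smul]
    exact ⟨⟨y, hQ hy⟩, hR (show (⟨y, hQ hy⟩ : W) ∈ Q.comap W.subtype from hy), rfl⟩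
  rw [hw] at h1
  exact h1

/-- `P` is extraspecial of order `p³` and exponent `p` with centre `⟨z⟩` -/
structure XS (p : ℕ) (P : Subgroup G) (z : G) : Prop where
  mem : z ∈ P
  ne : z ≠ 1
  cen : ∀ u ∈ P, u * z = z * u
  comm : ∀ u ∈ P, ∀ v ∈ P, ⁅u, v⁆ ∈ zpowers z
  pow : ∀ u ∈ P, u ^ p = 1
  zen : ∀ u ∈ P, (∀ v ∈ P, v * u = u * v) → u ∈ zpowers z
  card : Nat.card P = p ^ 3

theorem exists_xs [Finite G] [Fact p.Prime] {P : Subgroup G} (hE : Cfsg.IsExtraspecial p P)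
    (hcard : Nat.card P = p ^ 3) (hexp : Monoid.exponent P = p) : ∃ z, XS p P z := by
  have pp : p.Prime := Fact.out
  have : Nontrivial (center P) := Finite.one_lt_card_iff_nontrivial.1 (hE.2 ▸ pp.one_lt)
  obtain ⟨z, hz⟩ := exists_ne (1 : center P)
  have h3 : ∀ w ∈ center P, (w : G) ∈ zpowers (z : G) := fun w hw => by
    obtain ⟨k, hk⟩ := mem_zpowers_of_prime_card hE.2 (g := z) (g' := ⟨w, hw⟩) hz
    exact ⟨k, congrArg (fun x : center P => ((x : P) : G)) hk⟩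
  refine ⟨z, z.1.2, fun h => hz (Subtype.ext (Subtype.ext h)),
    fun u hu => congrArg Subtype.val (mem_center_iff.1 z.2 ⟨u, hu⟩), fun u hu v hv => ?_,
    fun u hu => ?_, fun u hu h => ?_, hcard⟩
  · exact h3 ⁅(⟨u, hu⟩ : P), ⟨v, hv⟩⁆ (hE.1.2.2 ▸ H9.commutatorElement_mem_commutator _ _)
  · exact congrArg Subtype.val (hexp ▸ Monoid.pow_exponent_eq_one (⟨u, hu⟩ : P))
  · exact h3 ⟨u, hu⟩ (mem_center_iff.2 fun v => Subtype.ext (h v v.2))

theorem zpow_congr {x : G} (hx : x ^ p = 1) {i j : ℤ} (h : i ≡ j [ZMOD p]) : x ^ i = x ^ j := by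
  obtain ⟨k, hk⟩ := h.dvd
  rw [show j = i + p * k by omega, zpow_add, zpow_mul, zpow_natCast, hx, one_zpow, mul_one]

/-- `g` induces the matrix on `⟨z, a⟩` -/
def Ind (z a : G) (α β γ δ : ℤ) : Prop :=
  ∃ g : G, g * z * g⁻¹ = z ^ α * a ^ β ∧ g * a * g⁻¹ = z ^ γ * a ^ δ

theorem Ind.mul {z a : G} (hc : Commute z a) {α β γ δ α' β' γ' δ' : ℤ} (h : Ind z a α β γ δ)
    (h' : Ind z a α' β' γ' δ') :
    Ind z a (α * α' + γ * β') (β * α' + δ * β') (α * γ' + γ * δ') (β * γ' + δ * δ') := by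
  obtain ⟨g, h1, h2⟩ := h
  obtain ⟨k, h3, h4⟩ := h'
  have key : ∀ i j : ℤ, g * (z ^ i * a ^ j) * g⁻¹ = z ^ (α * i + γ * j) * a ^ (β * i + δ * j) := by
    intro i j
    have : g * (z ^ i * a ^ j) * g⁻¹ = (g * z * g⁻¹) ^ i * (g * a * g⁻¹) ^ j := by
      simp only [conj_zpow]; group
    rw [this, h1, h2, (hc.zpow_zpow _ _).mul_zpow, (hc.zpow_zpow _ _).mul_zpow]
    simp only [← zpow_mul, zpow_add, mul_assoc]
    congr 1
    rw [← mul_assoc, ← mul_assoc, (hc.zpow_zpow _ _).eq]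
  exact ⟨g * k, by rw [← key, ← h3]; group, by rw [← key, ← h4]; group⟩

theorem Ind.congr {z a : G} (hz : z ^ p = 1) (ha : a ^ p = 1) {α β γ δ α' β' γ' δ' : ℤ}
    (h : Ind z a α β γ δ) (h1 : α ≡ α' [ZMOD p]) (h2 : β ≡ β' [ZMOD p]) (h3 : γ ≡ γ' [ZMOD p])
    (h4 : δ ≡ δ' [ZMOD p]) : Ind z a α' β' γ' δ' := by
  obtain ⟨g, h5, h6⟩ := h
  exact ⟨g, by rw [h5, zpow_congr hz h1, zpow_congr ha h2],
    by rw [h6, zpow_congr hz h3, zpow_congr ha h4]⟩

theorem exists_nat_mul [Fact p.Prime] {j : ℤ} (hj : ¬ (p : ℤ) ∣ j) (t : ℤ) :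
    ∃ k : ℕ, j * k ≡ t [ZMOD p] := by
  have h0 : (j : ZMod p) ≠ 0 := fun h => hj ((ZMod.intCast_zmod_eq_zero_iff_dvd j p).1 h)
  refine ⟨((j : ZMod p)⁻¹ * t).val, (ZMod.intCast_eq_intCast_iff _ _ _).1 ?_⟩
  simp [h0]

theorem Ind.lower [Fact p.Prime] {z a : G} (hc : Commute z a) (hz : z ^ p = 1) (ha : a ^ p = 1)
    {j : ℤ} (hj : ¬ (p : ℤ) ∣ j) (h : Ind z a 1 j 0 1) (t : ℤ) : Ind z a 1 t 0 1 := by
  have : ∀ k : ℕ, Ind z a 1 (j * k) 0 1 := fun k => by
    induction k with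
    | zero => exact ⟨1, by simp, by simp⟩
    | succ k ih =>
      have := ih.mul hc h
      simp only [mul_one, zero_mul, add_zero, one_mul, mul_zero, zero_add] at this
      rw [Nat.cast_succ, mul_add, mul_one]
      exact this
  obtain ⟨k, hk⟩ := exists_nat_mul hj t
  exact (this k).congr hz ha rfl hk rfl rfl

theorem Ind.swap {z a : G} (hc : Commute z a) {α β γ δ : ℤ} (h : Ind z a α β γ δ) :
    Ind a z δ γ β α := by
  obtain ⟨g, h1, h2⟩ := h
  exact ⟨g, by rw [h2, (hc.zpow_zpow _ _).eq], by rw [h1, (hc.zpow_zpow _ _).eq]⟩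

namespace XS

variable {z : G}

theorem exists_comm {P : Subgroup G} (h : XS p P z) {a : G} (ha : a ∈ P) (hz : a ∉ zpowers z) :
    ∃ u ∈ P, ∃ j : ℤ, ¬ (p : ℤ) ∣ j ∧ u * a * u⁻¹ = z ^ j * a := by
  by_contra hn
  refine hz (h.zen a ha fun u hu => ?_)
  obtain ⟨j, hj⟩ := h.comm u hu a ha
  have hj' : z ^ j = ⁅u, a⁆ := hj
  by_contra h1
  refine hn ⟨u, hu, j, ?_, by rw [hj', H9.conj_eq_commutatorElement_mul]⟩
  rintro ⟨k, rfl⟩
  rw [zpow_mul, zpow_natCast, h.pow z h.mem, one_zpow] at hj'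
  exact h1 (commutatorElement_eq_one_iff_mul_comm.1 hj'.symm)

/-- the radical condition -/
def Rad (p : ℕ) (z a : G) : Prop := ∃ j : ℤ, ¬ (p : ℤ) ∣ j ∧ Ind z a 1 j 0 1

theorem torus [Finite G] [Fact p.Prime] {P : Sylow p G} (h : XS p (P : Subgroup G) z) {a : G}
    (ha : a ∈ P) (hz : a ∉ zpowers z) (hr : Rad p z a) {l m : ℤ} (hlm : l * m ≡ 1 [ZMOD p]) :
    ∃ g ∈ normalizer ((P : Subgroup G) : Set G), g * z * g⁻¹ = z ^ l ∧
      ∃ k : ℤ, g * a * g⁻¹ = z ^ k * a ^ m := by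
  have hc : Commute z a := (h.cen a ha).symm
  have pz := h.pow z h.mem
  have pa := h.pow a ha
  obtain ⟨j, hj, h1⟩ := hr
  have L := h1.lower hc pz pa hj
  obtain ⟨u, hu, i, hi, h2⟩ := h.exists_comm ha hz
  have U : Ind z a 1 0 1 1 := (Ind.lower hc.symm pa pz hi
    ⟨u, by rw [h2, zpow_one, (hc.zpow_left i).eq], by rw [h.cen u hu]; simp⟩ 1).swap hc.symm
  obtain ⟨c, hc'⟩ := hlm.dvd
  obtain ⟨g, h3, h4⟩ := ((L (-(l - 1) * m)).mul hc (U.mul hc (L (l - 1)))).congr pz pa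
    (α' := l) (β' := 0) (γ' := 1) (δ' := m) (by ring_nf; rfl)
    (Int.modEq_iff_dvd.2 ⟨-(l - 1) * c, by linear_combination (-(l - 1)) * hc'⟩) (by ring_nf; rfl)
    (Int.modEq_iff_dvd.2 ⟨-c, by linear_combination (-1) * hc'⟩)
  rw [zpow_zero, mul_one] at h3
  rw [zpow_one] at h4
  have zl : (z ^ l) ^ m = z := by rw [← zpow_mul, zpow_congr pz hlm, zpow_one]
  have am : (a ^ m) ^ l = a := by rw [← zpow_mul, mul_comm, zpow_congr pa hlm, zpow_one]
  let W : Subgroup G :=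
    { carrier := {w | Commute w z ∧ ∃ k : ℤ, w * a * w⁻¹ = z ^ k * a}
      one_mem' := ⟨Commute.one_left z, 0, by simp⟩
      mul_mem' := by
        rintro v w ⟨h5, k, h6⟩ ⟨h7, k', h8⟩
        refine ⟨h5.mul_left h7, k' + k, ?_⟩
        calc v * w * a * (v * w)⁻¹ = v * (w * a * w⁻¹) * v⁻¹ := by group
          _ = z ^ k' * (v * a * v⁻¹) := by rw [h8, ← mul_assoc, (h5.zpow_right k').eq]; group
          _ = _ := by rw [h6, zpow_add, mul_assoc]
      inv_mem' := by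
        rintro w ⟨h5, k, h6⟩
        refine ⟨h5.inv_left, -k, ?_⟩
        have : a = z ^ (-k) * (w * a * w⁻¹) := by rw [h6]; group
        calc w⁻¹ * a * w⁻¹⁻¹ = w⁻¹ * (z ^ (-k) * (w * a * w⁻¹)) * w⁻¹⁻¹ := by rw [← this]
          _ = _ := by rw [← mul_assoc, (h5.inv_left.zpow_right (-k)).eq]; group }
  have hPW : (P : Subgroup G) ≤ W := fun v hv => ⟨h.cen v hv, by
    obtain ⟨k, hk⟩ := h.comm v hv a ha
    exact ⟨k, by rw [H9.conj_eq_commutatorElement_mul, ← hk]⟩⟩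
  obtain ⟨w, ⟨h5, k, h6⟩, h7⟩ := exists_conj_mem P hPW
    (Q := (P : Subgroup G).map (MulAut.conj g).toMonoidHom) (by
      rintro _ ⟨v, hv, rfl⟩
      obtain ⟨h5, k, h6⟩ := hPW hv
      have h7 : Commute (g * v * g⁻¹) z := by
        rw [← zl, ← h3]
        exact ((h5.map (MulAut.conj g)).zpow_right m)
      refine ⟨h7, l * k * l, ?_⟩
      have h8 : (g * v * g⁻¹) * a ^ m * (g * v * g⁻¹)⁻¹ = z ^ (l * k) * a ^ m := by
        have e1 : a ^ m = z⁻¹ * (g * a * g⁻¹) := by rw [h4]; group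
        have e2 : z ^ (l * k) = g * z ^ k * g⁻¹ := by rw [zpow_mul, ← h3, conj_zpow]
        calc _ = (g * v * g⁻¹) * z⁻¹ * (g * a * g⁻¹) * (g * v * g⁻¹)⁻¹ := by rw [e1]; group
          _ = z⁻¹ * (g * (v * a * v⁻¹) * g⁻¹) := by rw [h7.inv_right.eq]; group
          _ = z⁻¹ * z ^ (l * k) * (g * a * g⁻¹) := by rw [h6, e2]; group
          _ = _ := by rw [e1]; group
      show (g * v * g⁻¹) * a * (g * v * g⁻¹)⁻¹ = _
      conv_lhs => rw [← am, ← conj_zpow, h8, (hc.zpow_zpow _ _).mul_zpow, am, ← zpow_mul])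
    (P.isPGroup'.map _)
  refine ⟨w * g, mem_normalizer_fintype fun y hy => ?_, ?_, 1 + k * m, ?_⟩
  · have := h7 _ ⟨y, hy, rfl⟩
    simpa [mul_assoc] using this
  · calc _ = w * (g * z * g⁻¹) * w⁻¹ := by group
      _ = _ := by rw [h3, (h5.zpow_right l).eq]; group
  · calc _ = w * (g * a * g⁻¹) * w⁻¹ := by group
      _ = z * (w * a * w⁻¹) ^ m := by rw [h4, conj_zpow, ← mul_assoc, h5.eq]; group
      _ = _ := by rw [h6, (hc.zpow_left _).mul_zpow, ← zpow_mul, zpow_add, zpow_one, mul_assoc]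

theorem card_zpowers' [Fact p.Prime] {P : Subgroup G} (h : XS p P z) {a : G} (ha : a ∈ P)
    (h1 : a ≠ 1) : Nat.card (zpowers a) = p := by
  rw [Nat.card_zpowers, orderOf_eq_prime (h.pow a ha) h1]

theorem exists_rep [Finite G] [Fact p.Prime] {P : Subgroup G} (h : XS p P z) :
    ∃ (χ : P →* Multiplicative (Fin 2 → ZMod p)) (ρ : normalizer (P : Set G) →* GL (Fin 2) (ZMod p)),
      Function.Surjective χ ∧ (∀ u : P, χ u = 1 ↔ (u : G) ∈ zpowers z) ∧
      ∀ (g : normalizer (P : Set G)) (u v : P), (v : G) = g * u * (g : G)⁻¹ →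
        (ρ g : Matrix (Fin 2) (Fin 2) (ZMod p)) *ᵥ (χ u).toAdd = (χ v).toAdd := by
  have pp : p.Prime := Fact.out
  set Z := (zpowers z).subgroupOf P with hZ
  haveI : Z.Normal := H9.normal_of_commutatorElement_mem fun u v => h.comm u u.2 v v.2
  have hZc : Nat.card Z = p := by
    rw [Nat.card_congr (subgroupOfEquivOfLe (zpowers_le.2 h.mem)).toEquiv,
      h.card_zpowers' h.mem h.ne]
  obtain ⟨c⟩ := H12.nonempty_mulEquiv_fun (p := p) (W := P ⧸ Z) (n := 2) (fun a b => by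
    obtain ⟨a, rfl⟩ := QuotientGroup.mk_surjective a
    obtain ⟨b, rfl⟩ := QuotientGroup.mk_surjective b
    rw [← commutatorElement_eq_one_iff_mul_comm]
    exact (QuotientGroup.eq_one_iff ⁅a, b⁆).2 (h.comm a a.2 b b.2)) (fun a => by
    obtain ⟨a, rfl⟩ := QuotientGroup.mk_surjective a
    rw [← QuotientGroup.mk_pow, show a ^ p = 1 from Subtype.ext (h.pow a a.2)]
    rfl) (by
    have := card_eq_card_quotient_mul_card_subgroup Z
    rw [h.card, hZc, pow_succ] at this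
    exact (Nat.eq_of_mul_eq_mul_right pp.pos this).symm)
  let χ : P →* Multiplicative (Fin 2 → ZMod p) := (c : _ →* _).comp (QuotientGroup.mk' Z)
  have hs : Function.Surjective χ := c.surjective.comp (QuotientGroup.mk'_surjective Z)
  have hk : ∀ u : P, χ u = 1 ↔ (u : G) ∈ zpowers z := fun u => by
    simp [χ, hZ, mem_subgroupOf]
  have hex : ∀ g : normalizer (P : Set G), ∃ M : Matrix (Fin 2) (Fin 2) (ZMod p),
      ∀ u : P, M *ᵥ (χ u).toAdd = (χ (g • u)).toAdd := fun g => by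
    let f : P →* Multiplicative (Fin 2 → ZMod p) := χ.comp (MulDistribMulAction.toMonoidHom P g)
    have hf : χ.ker ≤ f.ker := fun u hu => by
      have h1 : ∀ v : P, v * u = u * v := fun v => by
        obtain ⟨k, hk⟩ := (hk u).1 hu
        exact Subtype.ext (by
          simp only [coe_mul, ← hk]; exact (Commute.zpow_right (h.cen v v.2) k).eq)
      refine (hk _).2 (h.zen _ (g • u).2 fun v hv => ?_)
      have := congrArg (fun x : P => ((g • x : P) : G)) (h1 (g⁻¹ • (⟨v, hv⟩ : P)))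
      simp only [smul_mul', smul_inv_smul, coe_mul] at this
      exact this
    let ι := χ.liftOfSurjective hs ⟨f, hf⟩
    refine ⟨LinearMap.toMatrix' ((AddMonoidHom.toMultiplicative.symm ι).toZModLinearMap p),
      fun u => ?_⟩
    rw [LinearMap.toMatrix'_mulVec]
    exact congrArg Multiplicative.toAdd (χ.liftOfRightInverse_comp_apply _ _ _ u)
  choose M hM using hex
  have ext : ∀ A B : Matrix (Fin 2) (Fin 2) (ZMod p),
      (∀ u : P, A *ᵥ (χ u).toAdd = B *ᵥ (χ u).toAdd) → A = B := fun A B hAB =>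
    Matrix.ext_of_mulVec_single fun i => by
      obtain ⟨u, hu⟩ := hs (.ofAdd (Pi.single i 1))
      simpa [hu] using hAB u
  let ρ : normalizer (P : Set G) →* Matrix (Fin 2) (Fin 2) (ZMod p) :=
    { toFun := M
      map_one' := ext _ _ fun u => by rw [hM, one_smul, one_mulVec]
      map_mul' := fun a b => ext _ _ fun u => by rw [← mulVec_mulVec, hM, hM, hM, mul_smul] }
  refine ⟨χ, ρ.toHomUnits, hs, hk, fun g u v hv => ?_⟩
  rw [show v = g • u from Subtype.ext hv]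
  exact hM g u

theorem exists_pgl [Finite G] [Fact p.Prime] {P : Sylow p G} (h : XS p (P : Subgroup G) z) :
    ∃ (H : Subgroup PGL(2, ZMod p)) (pt : G → P1 (ZMod p)), ¬ p ∣ Nat.card H ∧
      (∀ x, ∃ a ∈ P, a ∉ zpowers z ∧ pt a = x) ∧
      (∀ a ∈ P, a ∉ zpowers z → ∀ b ∈ P, b ∉ zpowers z → pt a = pt b →
        ∃ i j : ℤ, b = z ^ i * a ^ j) ∧
      ∀ a ∈ P, a ∉ zpowers z → Rad p z a →
        ∃ t ∈ H, t • pt a = pt a ∧ ∀ k, t ^ k = 1 → p - 1 ∣ 3 * k := by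
  classical
  have pp : p.Prime := Fact.out
  obtain ⟨χ, ρ, hs, hk, hρ⟩ := h.exists_rep
  have hne : ∀ u : (P : Subgroup G), (u : G) ∉ zpowers z → (χ u).toAdd ≠ 0 :=
    fun u hu h0 => hu ((hk u).1 h0)
  let pt : G → P1 (ZMod p) := fun a =>
    if ha : a ∈ (P : Subgroup G) ∧ a ∉ zpowers z then
      Projectivization.mk _ (χ ⟨a, ha.1⟩).toAdd (hne _ ha.2) else pinf _
  have hpt : ∀ a (ha : a ∈ (P : Subgroup G)) (hz : a ∉ zpowers z),
      pt a = Projectivization.mk _ (χ ⟨a, ha⟩).toAdd (hne _ hz) := fun a ha hz => dif_pos ⟨ha, hz⟩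
  have hpw : ∀ (u : (P : Subgroup G)) (j : ℤ), (χ (u ^ j)).toAdd = (j : ZMod p) • (χ u).toAdd := by
    intro u j
    rw [map_zpow, toAdd_zpow, Int.cast_smul_eq_zsmul]
  have heq : ∀ u v : (P : Subgroup G), χ u = χ v → ∃ i : ℤ, (u : G) = z ^ i * v := fun u v huv => by
    obtain ⟨i, hi⟩ := (hk (u * v⁻¹)).1 (by rw [map_mul, map_inv, huv, mul_inv_cancel])
    exact ⟨i, by rw [show z ^ i = _ from hi]; simp⟩
  let θ := ProjGenLinGroup.mk.comp ρ
  refine ⟨θ.range, pt, ?_, fun x => ?_, fun a ha hz b hb hz' hab => ?_, fun a ha hz hr => ?_⟩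
  · have h1 : (P : Subgroup G).subgroupOf (normalizer ((P : Subgroup G) : Set G)) ≤ θ.ker := by
      intro g hg
      have : ρ g = 1 := Units.ext (Matrix.ext_of_mulVec_single fun i => by
        obtain ⟨u, hu⟩ := hs (.ofAdd (Pi.single i 1))
        have hg' : (g : G) ∈ (P : Subgroup G) := hg
        have h2 := hρ g u (⟨g, hg'⟩ * u * ⟨g, hg'⟩⁻¹) rfl
        rw [χ.map_mul, χ.map_mul, χ.map_inv, mul_inv_cancel_comm, hu] at h2
        rw [Units.val_one, one_mulVec]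
        exact h2)
      simp [θ, this]
    rw [← index_ker]
    exact fun h2 => (P.subtype le_normalizer).not_dvd_index (h2.trans (index_dvd_of_le h1))
  · induction x using Projectivization.ind with | h v hv =>
    obtain ⟨u, hu⟩ := hs (.ofAdd v)
    have hz : (u : G) ∉ zpowers z := fun h1 => hv (by simpa [hu] using (hk u).2 h1)
    exact ⟨u, u.2, hz, by rw [hpt u u.2 hz]; simp [hu]⟩
  · rw [hpt a ha hz, hpt b hb hz', eq_comm, Projectivization.mk_eq_mk_iff'] at hab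
    obtain ⟨c, hc⟩ := hab
    obtain ⟨j, rfl⟩ := ZMod.intCast_surjective c
    rw [← hpw] at hc
    obtain ⟨i, hi⟩ := heq _ _ (Multiplicative.toAdd.injective hc).symm
    exact ⟨i, j, hi⟩
  · obtain ⟨L, hL⟩ := IsCyclic.exists_ofOrder_eq_natCard (α := (ZMod p)ˣ)
    rw [Nat.card_eq_fintype_card, ZMod.card_units] at hL
    obtain ⟨l, hl⟩ := ZMod.intCast_surjective (L : ZMod p)
    obtain ⟨m, hm⟩ := ZMod.intCast_surjective ((L⁻¹ : (ZMod p)ˣ) : ZMod p)
    obtain ⟨g, hg, h1, k, h2⟩ := h.torus ha hz hr (l := l) (m := m)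
      ((ZMod.intCast_eq_intCast_iff _ _ _).1 (by
        rw [Int.cast_mul, hl, hm, Int.cast_one, Units.mul_inv]))
    have h3 : (ρ ⟨g, hg⟩ : Matrix (Fin 2) (Fin 2) (ZMod p)) *ᵥ (χ ⟨a, ha⟩).toAdd =
        (m : ZMod p) • (χ ⟨a, ha⟩).toAdd := by
      rw [hρ _ _ (⟨z, h.mem⟩ ^ k * ⟨a, ha⟩ ^ m) h2.symm, map_mul,
        (hk _).2 (zpow_mem (mem_zpowers z) k), one_mul, hpw]
    refine ⟨θ ⟨g, hg⟩, ⟨_, rfl⟩, ?_, fun n hn => ?_⟩
    · rw [hpt a ha hz]
      refine (Projectivization.PGL.mk_smul_mk _ _).trans ?_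
      rw [Projectivization.mk_eq_mk_iff']
      exact ⟨_, h3.symm⟩
    · rw [← map_pow, MonoidHom.comp_apply, ProjGenLinGroup.mk_eq_one,
        GeneralLinearGroup.mem_center_iff_val_mem_range_scalar] at hn
      obtain ⟨c, hc⟩ := hn
      obtain ⟨c, rfl⟩ := ZMod.intCast_surjective c
      have h4 : ∀ v, (ρ (⟨g, hg⟩ ^ n) : Matrix (Fin 2) (Fin 2) (ZMod p)) *ᵥ v = (c : ZMod p) • v :=
        fun v => by rw [← hc]; ext i; simp [mulVec_diagonal]
      have h5 : (m : ZMod p) ^ n = c := by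
        have : ∀ n : ℕ, (ρ (⟨g, hg⟩ ^ n) : Matrix (Fin 2) (Fin 2) (ZMod p)) *ᵥ (χ ⟨a, ha⟩).toAdd =
            (m : ZMod p) ^ n • (χ ⟨a, ha⟩).toAdd := fun n => by
          induction n with
          | zero => simp
          | succ n ih =>
            rw [pow_succ', map_mul, Units.val_mul, ← mulVec_mulVec, ih, mulVec_smul, h3, smul_smul,
              pow_succ]
        exact smul_left_injective _ (hne ⟨a, ha⟩ hz) ((this n).symm.trans (h4 _))
      have h6 : ∀ u ∈ (P : Subgroup G), ∃ i : ℤ, g ^ n * u * (g ^ n)⁻¹ = z ^ i * u ^ c := by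
        intro u hu
        have hu' := ((mem_normalizer_iff.1 (pow_mem hg n)) u).1 hu
        refine heq ⟨_, hu'⟩ (⟨u, hu⟩ ^ c) (Multiplicative.toAdd.injective ?_)
        rw [hpw, ← h4]
        exact (hρ (⟨g, hg⟩ ^ n) ⟨u, hu⟩ ⟨_, hu'⟩ rfl).symm
      have h7 : ∀ n : ℕ, g ^ n * z * (g ^ n)⁻¹ = z ^ l ^ n := fun n => by
        induction n with
        | zero => simp
        | succ n ih =>
          calc _ = g * (g ^ n * z * (g ^ n)⁻¹) * g⁻¹ := by rw [pow_succ']; group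
            _ = _ := by rw [ih, ← conj_zpow, h1, ← zpow_mul, pow_succ']
      obtain ⟨u, hu, j, hj, h8⟩ := h.exists_comm ha hz
      have h9 : ⁅u, a⁆ = z ^ j := by rw [commutatorElement_def, h8]; simp
      obtain ⟨i, hi⟩ := h6 u hu
      obtain ⟨i', hi'⟩ := h6 a ha
      have cz : ∀ v ∈ (P : Subgroup G), ∀ t : ℤ, Commute v (z ^ t) :=
        fun v hv t => Commute.zpow_right (h.cen v hv) t
      have h10 : z ^ (l ^ n * j) = z ^ (j * c * c) := by
        have e1 : ⁅u ^ c, a⁆ = z ^ (j * c) := by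
          rw [H9.commutatorElement_zpow_left (h9 ▸ cz u hu j), h9, zpow_mul]
        have e2 : ⁅u ^ c, a ^ c⁆ = z ^ (j * c * c) := by
          rw [H9.commutatorElement_zpow_right (e1 ▸ cz a ha _), e1, ← zpow_mul]
        have e3 : ⁅z ^ i * u ^ c, z ^ i' * a ^ c⁆ = ⁅u ^ c, a ^ c⁆ := by
          have hA := zpow_mem hu c
          have hB := zpow_mem ha c
          have hB' := mul_mem (zpow_mem h.mem i') hB
          rw [H9.commutatorElement_mul_left',
            commutatorElement_eq_one_iff_mul_comm.2 (cz _ hB' i).eq.symm, mul_one,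
            H9.commutatorElement_mul_right',
            commutatorElement_eq_one_iff_mul_comm.2 (cz _ hA i').eq, one_mul, e2]
          group
        rw [zpow_mul, ← h7, conj_zpow, ← h9, ← e2, ← e3, ← hi, ← hi']
        simp only [commutatorElement_def]
        group
      have h11 : ((l ^ n * j : ℤ) : ZMod p) = (j * c * c : ℤ) := by
        rw [ZMod.intCast_eq_intCast_iff, ← orderOf_eq_prime (h.pow z h.mem) h.ne]
        exact zpow_eq_zpow_iff_modEq.1 h10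
      have h0 : (j : ZMod p) ≠ 0 := fun h => hj ((ZMod.intCast_zmod_eq_zero_iff_dvd j p).1 h)
      push_cast at h11
      rw [← h5, hl, hm, mul_comm, mul_assoc] at h11
      have h12 : L ^ n = L⁻¹ ^ n * L⁻¹ ^ n := Units.ext (by
        rw [Units.val_mul, Units.val_pow_eq_pow_val, Units.val_pow_eq_pow_val]
        exact mul_left_cancel₀ h0 h11)
      rw [← hL, orderOf_dvd_iff_pow_eq_one]
      calc L ^ (3 * n) = L ^ n * (L ^ n * L ^ n) := by rw [← pow_add, ← pow_add]; congr 1; ring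
        _ = 1 := by nth_rewrite 1 [h12]; group

theorem rad_of_conj [Finite G] [Fact p.Prime] {P : Sylow p G} (h : XS p (P : Subgroup G) z)
    {a g : G} (ha : a ∈ P) (hz : a ∉ zpowers z) (hg : g * a * g⁻¹ = z) : Rad p z a := by
  have h1 : g * z * g⁻¹ ∈ centralizer {z} := by
    rw [mem_centralizer_singleton_iff]
    nth_rewrite 2 3 [← hg]
    calc _ = g * (z * a) * g⁻¹ := by group
      _ = _ := by rw [← h.cen a ha]; group
  obtain ⟨w, hw, h2⟩ := exists_conj_mem P (W := centralizer {z})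
    (fun u hu => mem_centralizer_singleton_iff.2 (h.cen u hu)) (zpowers_le.2 h1) (by
      refine IsPGroup.of_card (n := 1) ?_
      rw [Nat.card_zpowers, pow_one]
      exact orderOf_eq_prime (by rw [conj_pow, h.pow z h.mem]; simp) fun h0 => h.ne (by
        simpa using h0))
  rw [mem_centralizer_singleton_iff] at hw
  have h3 : (w * g) * a * (w * g)⁻¹ = z := by
    calc _ = w * (g * a * g⁻¹) * w⁻¹ := by group
      _ = _ := by rw [hg, hw]; group
  have h4 : (w * g) * z * (w * g)⁻¹ ∈ P := by simpa [mul_assoc] using h2 _ (mem_zpowers _)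
  generalize w * g = k at h3 h4
  have h5 : k * z * k⁻¹ ∉ zpowers z := by
    rintro ⟨i, hi⟩
    have h6 : z ∈ zpowers a := ⟨i, by
      have : z ^ i = k * z * k⁻¹ := hi
      nth_rewrite 1 [← h3] at this
      rw [conj_zpow] at this
      simpa using this⟩
    have h7 : zpowers z = zpowers a := eq_of_le_of_card_ge (zpowers_le.2 h6) (by
      rw [h.card_zpowers' h.mem h.ne, h.card_zpowers' ha fun h0 => hz (h0 ▸ one_mem _)])
    exact hz (h7 ▸ mem_zpowers a)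
  obtain ⟨u, hu, j, hj, h6⟩ := h.exists_comm h4 h5
  have ea : a = k⁻¹ * z * k := by rw [← h3]; group
  refine ⟨j, hj, k⁻¹ * u * k, ?_, ?_⟩
  · calc _ = k⁻¹ * (u * (k * z * k⁻¹) * u⁻¹) * k := by group
      _ = (k⁻¹ * z * k⁻¹⁻¹) ^ j * z := by rw [h6, conj_zpow]; group
      _ = _ := by rw [inv_inv, ← ea, zpow_one, (Commute.zpow_left (h.cen a ha) j).eq]
  · calc _ = k⁻¹ * (u * (k * a * k⁻¹) * u⁻¹) * k := by group
      _ = _ := by rw [h3, h.cen u hu, ea]; group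

theorem sub_sq [Finite G] [Fact p.Prime] {P A : Subgroup G} (h : XS p P z) (hA : A ≤ P)
    (hc : Nat.card A = p ^ 2) : z ∈ A ∧ ∃ a ∈ A, a ∉ zpowers z := by
  have pp : p.Prime := Fact.out
  have hz := h.card_zpowers' h.mem h.ne
  have h1 : ¬ A ≤ zpowers z := fun h1 => by
    have := card_le_of_le h1
    rw [hc, hz] at this
    nlinarith [pp.two_le]
  refine ⟨?_, SetLike.not_le_iff_exists.1 h1⟩
  by_contra h2
  have h3 : A < centralizer A ⊓ P := lt_of_le_of_ne (le_inf (fun a ha b hb => congrArg Subtype.val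
    ((IsPGroup.isMulCommutative_of_card_eq_prime_sq hc).1.1 ⟨b, hb⟩ ⟨a, ha⟩)) hA)
    fun e => h2 (e ▸ ⟨fun b hb => h.cen b (hA hb), h.mem⟩)
  obtain ⟨k, hk, h4⟩ := (Nat.dvd_prime_pow pp).1
    (h.card ▸ card_dvd_of_le (inf_le_right : centralizer A ⊓ P ≤ P))
  have h5 : p ^ 2 < p ^ k := by
    rw [← hc, ← h4]
    exact lt_of_le_of_ne (card_le_of_le h3.le) fun e => h3.ne (eq_of_le_of_card_ge h3.le e.ge)
  have h6 : k = 3 := by
    have := (Nat.pow_lt_pow_iff_right pp.one_lt).1 h5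
    omega
  have h7 : centralizer A ⊓ P = P := eq_of_le_of_card_ge inf_le_right (by rw [h4, h6, h.card])
  exact h1 fun a ha => h.zen a (hA ha) fun v hv => ((h7.ge hv).1 a ha).symm

theorem rad_of_aut [Finite G] [Fact p.Prime] {P A : Subgroup G} (h : XS p P z) (hA : A ≤ P)
    (hc : Nat.card A = p ^ 2) {a : G} (ha : a ∈ A) (hz : a ∉ zpowers z)
    (hS : ∀ φ : MulAut A, orderOf φ = p → ∃ g : G, ∀ x : A, (φ x : G) = g * (x : G) * g⁻¹) :
    Rad p z a := by
  have pp : p.Prime := Fact.out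
  have hzA := (h.sub_sq hA hc).1
  let _ : CommGroup A := { (inferInstance : Group A) with
    mul_comm := (IsPGroup.isMulCommutative_of_card_eq_prime_sq hc).1.1 }
  have h0 : a ≠ 1 := fun h0 => hz (h0 ▸ one_mem _)
  set B := zpowers (⟨a, ha⟩ : A) with hB
  have h1 : Nat.card B = p := by
    rw [hB, Nat.card_zpowers, ← orderOf_coe, orderOf_eq_prime (h.pow a (hA ha)) h0]
  have h2 : Nat.card (A ⧸ B) = p := by
    have := card_eq_card_quotient_mul_card_subgroup B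
    rw [hc, h1, pow_two] at this
    exact (Nat.eq_of_mul_eq_mul_right pp.pos this).symm
  let ψ : A →* A := B.subtype.comp
    ((mulEquivOfPrimeCardEq h2 h1 : _ →* _).comp (QuotientGroup.mk' B))
  have k1 : ∀ x, ψ x ∈ B := fun x => (mulEquivOfPrimeCardEq h2 h1 x).2
  have k2 : ∀ x, ψ x = 1 ↔ x ∈ B := fun x => by simp [ψ]
  have k3 : ∀ x, ψ (ψ x) = 1 := fun x => (k2 _).2 (k1 x)
  let φ : MulAut A :=
    { toFun := fun x => x * ψ x
      invFun := fun x => x * (ψ x)⁻¹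
      left_inv := fun x => by simp [k3]
      right_inv := fun x => by simp [k3]
      map_mul' := fun x y => by rw [map_mul, mul_mul_mul_comm] }
  have k4 : ∀ (n : ℕ) x, (φ ^ n) x = x * ψ x ^ n := fun n x => by
    induction n with
    | zero => simp
    | succ n ih =>
      rw [pow_succ', MulAut.mul_apply, ih]
      show _ * ψ _ = _
      rw [map_mul, map_pow, k3, one_pow, mul_one, pow_succ, mul_assoc]
  have k5 : ψ ⟨z, hzA⟩ ≠ 1 := fun e => by
    obtain ⟨i, hi⟩ := (k2 _).1 e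
    have h7 : zpowers z = zpowers a := eq_of_le_of_card_ge
      (zpowers_le.2 ⟨i, congrArg Subtype.val hi⟩) (by
      rw [h.card_zpowers' h.mem h.ne, h.card_zpowers' (hA ha) h0])
    exact hz (h7 ▸ mem_zpowers a)
  obtain ⟨g, hg⟩ := hS φ (orderOf_eq_prime (by
    ext x
    rw [k4, show ψ x ^ p = 1 from Subtype.ext (h.pow _ (hA (ψ x).2))]
    simp) fun e => k5 (by
      have : φ ⟨z, hzA⟩ = ⟨z, hzA⟩ := by rw [e]; rfl
      exact mul_eq_left.1 this))
  obtain ⟨j, hj⟩ := k1 ⟨z, hzA⟩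
  have hj' : (⟨a, ha⟩ : A) ^ j = ψ ⟨z, hzA⟩ := hj
  refine ⟨j, ?_, g, ?_, ?_⟩
  · rintro ⟨k, rfl⟩
    rw [zpow_mul, zpow_natCast, show (⟨a, ha⟩ : A) ^ p = 1 from Subtype.ext (h.pow _ (hA ha)),
      one_zpow] at hj'
    exact k5 hj'.symm
  · rw [← hg ⟨z, hzA⟩, zpow_one]
    show ((_ * ψ _ : A) : G) = _
    rw [← hj']
    rfl
  · rw [← hg ⟨a, ha⟩]
    show ((_ * ψ _ : A) : G) = _
    rw [(k2 _).2 (mem_zpowers _)]
    simp

end XS

theorem dickson3 {X H : Type*} [Group H] [Finite H] [MulAction H X] (h : Hur p H X)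
    (hp : ¬ p ∣ Nat.card H) {x y w : X} (hxy : x ≠ y) (hxw : x ≠ w) (hyw : y ≠ w) {a b c : H}
    (ha : a • x = x) (hb : b • y = y) (hc : c • w = w) (ha' : a ^ 2 ≠ 1) (hb' : b ^ 2 ≠ 1)
    (hc' : c ^ 2 ≠ 1) : Nonempty (H ≃* alternatingGroup (Fin 4)) ∨
      Nonempty (H ≃* Equiv.Perm (Fin 4)) ∨ Nonempty (H ≃* alternatingGroup (Fin 5)) := by
  have key : ∀ u v : X, u ≠ v → (∀ g : H, g ^ 2 • u = u ∧ g ^ 2 • v = v) → False := by
    intro u v huv hg
    have f : ∀ (g : H) (t : X), g • t = t → g ^ 2 ≠ 1 → t = u ∨ t = v := fun g t h1 h2 =>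
      h.fix_two h2 huv (hg g).1 (hg g).2 (by rw [pow_two, mul_smul, h1, h1])
    rcases f a x ha ha' with rfl | rfl <;> rcases f b y hb hb' with rfl | rfl <;>
      rcases f c w hc hc' with rfl | rfl <;> simp_all
  rcases h.classify with ⟨u, hu⟩ | ⟨u, v, huv, -, h1, -⟩ | h1 | h1 | h1 | ⟨u, k, -, h1, h2, -⟩
  · exfalso
    obtain ⟨t, ht⟩ := (h.isCyclic_stabilizer (h.Q_eq_bot_of_not_dvd hp u)).exists_generator
    have h1 : ∀ g : H, ∃ k : ℤ, (t : H) ^ k = g := fun g => by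
      obtain ⟨k, hk⟩ := ht ⟨g, hu g⟩
      exact ⟨k, congrArg Subtype.val hk⟩
    have h2 : (t : H) ≠ 1 := fun e => by
      obtain ⟨k, hk⟩ := h1 a
      rw [e, one_zpow] at hk
      exact ha' (by rw [← hk, one_pow])
    obtain ⟨v, hv, h3⟩ := h.exists_second (h.pow_p_ne_one hp h2) (hu t)
    refine key u v hv.symm fun g => ⟨hu _, ?_⟩
    obtain ⟨k, hk⟩ := h1 (g ^ 2)
    exact hk ▸ (zpow_mem (mem_stabilizer_iff.2 h3) k :)
  · refine (key u v huv fun g => ?_).elim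
    rcases (h1.ge (mem_top g) :) with ⟨h2, h3⟩ | ⟨h2, h3⟩ <;> simp [pow_two, mul_smul, h2, h3]
  · exact Or.inl h1.2
  · exact Or.inr (Or.inl h1.2)
  · exact Or.inr (Or.inr h1.2)
  · rw [h.Q_eq_bot_of_not_dvd hp u, card_bot] at h2
    omega

theorem pow_alt4 {H : Type*} [Group H] (e : H ≃* alternatingGroup (Fin 4)) (g : H) :
    g ^ 2 = 1 ∨ g ^ 3 = 1 := by
  have : ∀ s : Equiv.Perm (Fin 4), Equiv.Perm.sign s = 1 → s ^ 2 = 1 ∨ s ^ 3 = 1 := by
    decide +kernel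
  simpa only [← e.map_eq_one_iff, map_pow, Subtype.ext_iff, SubgroupClass.coe_pow,
    OneMemClass.coe_one] using this (e g) (e g).2

theorem pow_alt5 {H : Type*} [Group H] (e : H ≃* alternatingGroup (Fin 5)) (g : H) :
    g ^ 2 = 1 ∨ g ^ 3 = 1 ∨ g ^ 5 = 1 := by
  have : ∀ s : Equiv.Perm (Fin 5), Equiv.Perm.sign s = 1 → s ^ 2 = 1 ∨ s ^ 3 = 1 ∨ s ^ 5 = 1 := by
    decide +kernel
  simpa only [← e.map_eq_one_iff, map_pow, Subtype.ext_iff, SubgroupClass.coe_pow,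
    OneMemClass.coe_one] using this (e g) (e g).2

theorem pow_sym4 {H : Type*} [Group H] (e : H ≃* Equiv.Perm (Fin 4)) (g : H) :
    g ^ 3 = 1 ∨ g ^ 4 = 1 := by
  have : ∀ s : Equiv.Perm (Fin 4), s ^ 3 = 1 ∨ s ^ 4 = 1 := by
    decide +kernel
  simpa only [← e.map_eq_one_iff, map_pow] using this (e g)

theorem three_rad [Finite G] [Fact p.Prime] {P : Sylow p G} {z : G} (h : XS p (P : Subgroup G) z)
    (A : Fin 3 → Subgroup G) (hA : Function.Injective A) (hAP : ∀ i, A i ≤ (P : Subgroup G))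
    (hc : ∀ i, Nat.card (A i) = p ^ 2)
    (hS : ∀ i, ∀ φ : MulAut (A i), orderOf φ = p →
      ∃ g : G, ∀ a : A i, (φ a : G) = g * (a : G) * g⁻¹) : p ≤ 13 := by
  have pp : p.Prime := Fact.out
  by_contra hp
  obtain ⟨H, pt, h1, -, h2, h3⟩ := h.exists_pgl
  choose a ha hz using fun i => (h.sub_sq (hAP i) (hc i)).2
  choose t ht h4 h5 using fun i => h3 (a i) (hAP i (ha i)) (hz i)
    (h.rad_of_aut (hAP i) (hc i) (ha i) (hz i) (hS i))
  have h6 : ∀ i j, i ≠ j → rat (pt (a i)) ≠ rat (pt (a j)) := fun i j hij e => hij (hA (by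
    obtain ⟨k, l, hl⟩ := h2 _ (hAP i (ha i)) (hz i) _ (hAP j (ha j)) (hz j) (rat_injective e)
    have zA := fun i => (h.sub_sq (hAP i) (hc i)).1
    have h7 : zpowers z < A i ⊓ A j := lt_of_le_of_ne (zpowers_le.2 ⟨zA i, zA j⟩) fun e =>
      hz j (e ▸ ⟨hl ▸ mul_mem (zpow_mem (zA i) k) (zpow_mem (ha i) l), ha j⟩)
    obtain ⟨k, hk, h8⟩ := (Nat.dvd_prime_pow pp).1
      (hc i ▸ card_dvd_of_le (inf_le_left : A i ⊓ A j ≤ A i))
    have h9 : p ^ 1 < p ^ k := by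
      rw [pow_one, ← h8, ← h.card_zpowers' h.mem h.ne]
      exact lt_of_le_of_ne (card_le_of_le h7.le) fun e => h7.ne (eq_of_le_of_card_ge h7.le e.ge)
    have h10 : k = 2 := by
      have := (Nat.pow_lt_pow_iff_right pp.one_lt).1 h9
      omega
    rw [h10] at h8
    exact (eq_of_le_of_card_ge inf_le_left (by rw [h8, hc])).symm.trans
      (eq_of_le_of_card_ge inf_le_right (by rw [h8, hc]))))
  have h7 : ∀ i k, 0 < k → k ≤ 5 → (⟨t i, ht i⟩ : H) ^ k ≠ 1 := fun i k h0 hk e => by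
    have h8 := h5 i k (congrArg Subtype.val e)
    have h9 := Nat.le_of_dvd (by omega) h8
    have : p = 14 ∨ p = 15 ∨ p = 16 := by omega
    rcases this with rfl | rfl | rfl <;> exact absurd pp (by decide)
  have h8 : ∀ i, (⟨t i, ht i⟩ : H) • rat (pt (a i)) = rat (pt (a i)) := fun i =>
    (pgl_smul_rat _ _).trans (congrArg _ (h4 i))
  rcases dickson3 ((hur_pglF (ZMod p) p).subgroup H) h1 (h6 0 1 (by decide)) (h6 0 2 (by decide))
    (h6 1 2 (by decide)) (h8 0) (h8 1) (h8 2) (h7 0 2 (by decide) (by decide))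
    (h7 1 2 (by decide) (by decide)) (h7 2 2 (by decide) (by decide)) with ⟨⟨e⟩⟩ | ⟨⟨e⟩⟩ | ⟨⟨e⟩⟩
  · rcases pow_alt4 e ⟨t 0, ht 0⟩ with h9 | h9 <;> exact h7 0 _ (by decide) (by decide) h9
  · rcases pow_sym4 e ⟨t 0, ht 0⟩ with h9 | h9 <;> exact h7 0 _ (by decide) (by decide) h9
  · rcases pow_alt5 e ⟨t 0, ht 0⟩ with h9 | h9 | h9 <;> exact h7 0 _ (by decide) (by decide) h9

theorem all_rad [Finite G] [Fact p.Prime] {P : Sylow p G} {z : G} (h : XS p (P : Subgroup G) z)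
    (hc : ∀ a ∈ (P : Subgroup G), a ≠ 1 → ∃ g : G, g * a * g⁻¹ = z) : p ≤ 7 := by
  classical
  have pp : p.Prime := Fact.out
  by_contra hp
  obtain ⟨H, pt, h1, h2, -, h3⟩ := h.exists_pgl
  have h4 : ∀ x : P1 (ZMod p), ∃ t : H, t • rat x = rat x ∧ ∀ k, t ^ k = 1 → p - 1 ∣ 3 * k := by
    intro x
    obtain ⟨a, ha, hz, rfl⟩ := h2 x
    obtain ⟨g, hg⟩ := hc a ha fun h0 => hz (h0 ▸ one_mem _)
    obtain ⟨t, ht, h4, h5⟩ := h3 a ha hz (h.rad_of_conj ha hz hg)
    exact ⟨⟨t, ht⟩, (pgl_smul_rat _ _).trans (congrArg _ h4),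
      fun k e => h5 k (congrArg Subtype.val e)⟩
  choose t h5 h6 using h4
  have h7 : ∀ x k, k = 2 ∨ k = 3 ∨ k = 5 → t x ^ k ≠ 1 := fun x k hk e => by
    have h8 := h6 x k e
    have h9 := Nat.le_of_dvd (by omega) h8
    have h10 : p ≤ 16 := by omega
    interval_cases p <;> first | exact absurd pp (by decide) | omega
  have hcard : Nat.card (P1 (ZMod p)) = p + 1 := by rw [card_P1, Nat.card_zmod]
  haveI : Finite (P1 (ZMod p)) := Nat.finite_of_card_ne_zero (by omega)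
  have := Fintype.ofFinite (P1 (ZMod p))
  have hur := (hur_pglF (ZMod p) p).subgroup H
  obtain ⟨x, y, w, h8, h9, h10⟩ := Fintype.two_lt_card_iff.1
    (by rw [← Nat.card_eq_fintype_card]; omega : 2 < Fintype.card (P1 (ZMod p)))
  rcases dickson3 hur h1 (rat_injective.ne h8) (rat_injective.ne h9)
    (rat_injective.ne h10) (h5 x) (h5 y) (h5 w) (h7 x 2 (by decide))
    (h7 y 2 (by decide)) (h7 w 2 (by decide)) with ⟨⟨e⟩⟩ | ⟨⟨e⟩⟩ | ⟨⟨e⟩⟩
  · rcases pow_alt4 e (t x) with h9 | h9 <;> exact h7 x _ (by decide) h9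
  · have h11 : p = 13 := by
      have h8 := h6 x 4 ((pow_sym4 e (t x)).resolve_left (h7 x 3 (by decide)))
      have h9 := Nat.le_of_dvd (by omega) h8
      have h10 : p ≤ 16 := by omega
      interval_cases p <;> first | exact absurd pp (by decide) | omega
    let f : P1 (ZMod p) → {s : Equiv.Perm (Fin 4) // s ^ 2 ≠ 1 ∧ s ^ 3 ≠ 1} := fun x =>
      ⟨e (t x), by simpa only [← map_pow, Ne, e.map_eq_one_iff] using
        ⟨h7 x 2 (by decide), h7 x 3 (by decide)⟩⟩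
    obtain ⟨s, hs⟩ := Fintype.exists_lt_card_fiber_of_mul_lt_card f (n := 2) (by
      rw [← Nat.card_eq_fintype_card (α := P1 _), hcard, h11]
      decide +kernel)
    obtain ⟨x, y, w, hx, hy, hw, h8, h9, h10⟩ := Finset.two_lt_card_iff.1 hs
    have k : ∀ x y, f x = s → f y = s → t x = t y := fun x y hx hy =>
      e.injective (congrArg Subtype.val (hx.trans hy.symm))
    simp only [Finset.mem_filter, Finset.mem_univ, true_and] at hx hy hw
    refine h7 x 2 (by decide) ?_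
    rw [hur.three (t x) _ _ _ (rat_injective.ne h8) (rat_injective.ne h9)
      (rat_injective.ne h10) (h5 x) (k x y hx hy ▸ h5 y) (k x w hx hw ▸ h5 w), one_pow]
  · rcases pow_alt5 e (t x) with h9 | h9 | h9 <;> exact h7 x _ (by decide) h9

end H90.RV
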