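import Cfsg.Agent.H86.TP.Spec
import Cfsg.Agent.H14.Tight

/-! An edge between two conjugates of a tightly embedded subgroup: the fixed points on a Sylow
subgroup. -/

set_option autoImplicit false

namespace H90.TpLD0

open Cfsg Subgroup MulAction H14 H98 H1.Gold H31.S2 H14.GC H14.FE H14.NF H86.TP
open scoped commutatorElement

universe u

variable {G : Type u} [Group G] [Finite G]

theorem two_dvd {T : Subgroup G} (h : IsPGroup 2 T) (h1 : T ≠ ⊥) : 2 ∣ Nat.card T := by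
  by_contra h5
  exact h1 ((isSyl_self h).eq_bot_iff.mpr h5)

theorem symm0 {K T : Subgroup G} (hK : IsTightlyEmbedded K) {g : G} (hg : g ∉ normalizer (K : Set G))
    (hT : T ≤ cj g K ⊓ normalizer (K : Set G)) (h2 : IsPGroup 2 T) :
    ∃ T₀ ≤ K ⊓ normalizer (cj g K : Set G), IsPGroup 2 T₀ ∧ Nat.card T ≤ Nat.card T₀ := by
  by_cases h0 : T = ⊥
  · exact ⟨⊥, bot_le, IsPGroup.of_bot, by rw [h0]⟩
  obtain ⟨T', hT', hTT⟩ := exists_isSyl_le h2 hT
  have h1 : T' ≠ ⊥ := fun e => h0 (le_bot_iff.1 (e ▸ hTT))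
  obtain ⟨S, hS, hTS⟩ := exists_isSyl_le hT'.isPGroup (le_sup_right : T' ≤ K ⊔ T')
  obtain ⟨-, -, -, ⟨φ⟩⟩ := te_structure hK hg h1 hT' hS hTS
  refine ⟨_, le_inf inf_le_right ((inf_le_left.trans inf_le_right).trans
    (te_normalizer_le (te_cj hK g) (two_dvd hT'.isPGroup h1) (hT'.le.trans inf_le_left))),
    hS.isPGroup.to_le (inf_le_left.trans inf_le_left), ?_⟩
  rw [Nat.card_congr φ.toEquiv]; exact card_le_of_le hTT

theorem iso {Q T R : Subgroup G} (hQ : IsTightlyEmbedded Q) {g : G} (hg : g ∉ normalizer (Q : Set G))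
    (hT : IsSyl 2 T (cj g Q ⊓ normalizer (Q : Set G))) (hT1 : T ≠ ⊥) (hR : IsSyl 2 R Q)
    (hn : T ≤ normalizer (R : Set G)) :
    Nonempty ((R ⊓ centralizer (T : Set G) : Subgroup G) ≃* T) := by
  have hp : IsPGroup 2 (R ⊔ T : Subgroup G) := hR.isPGroup.to_sup_of_normal_left' hT.isPGroup hn
  obtain ⟨S, hS, hle⟩ := exists_isSyl_le (H := Q ⊔ T) hp (sup_le_sup_right hR.le T)
  obtain ⟨-, h2, -, ⟨φ⟩⟩ := te_structure hQ hg hT1 hT hS (le_sup_right.trans hle)
  have hSQ : S ⊓ Q = R := hR.eq_of_le (hS.isPGroup.to_le inf_le_left)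
    (le_inf (le_sup_left.trans hle) hR.le) inf_le_right
  have e : S ⊓ normalizer (T : Set G) ⊓ Q = R ⊓ centralizer (T : Set G) := by
    apply le_antisymm
    · refine le_inf ?_ ?_
      · rw [← hSQ]
        exact le_inf (inf_le_left.trans inf_le_left) inf_le_right
      · rw [commutator_comm, commutator_eq_bot_iff_le_centralizer] at h2
        exact h2
    · exact le_inf (le_inf (inf_le_left.trans (le_sup_left.trans hle))
        (inf_le_right.trans (centralizer_le_normalizer _))) (inf_le_left.trans hR.le)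
  exact ⟨(MulEquiv.subgroupCongr e.symm).trans φ⟩

theorem jLD0 : JobLD0.{u} := by
  intro G _ _ Q hQ Q' T R hv hne hT hT1 hR hn
  obtain ⟨g, rfl⟩ := hv
  have hg : g ∉ normalizer (Q : Set G) := fun h => hne (cj_eq_self h)
  have hte := hQ.te
  have hte' := te_cj hte g
  obtain ⟨φ⟩ := iso hte hg hT hT1 hR hn
  have hc : Nat.card (R ⊓ centralizer (T : Set G) : Subgroup G) = Nat.card T :=
    Nat.card_congr φ.toEquiv
  have hTQ : T ≤ cj g Q := hT.le.trans inf_le_left
  have hRc : Nat.card R = Nat.card (cj g R) := (card_cj g R).symm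
  have hKK : ∀ y ∈ Q, y ∈ cj g Q → orderOf y ≠ 2 := fun y h1 h2 h3 =>
    hg (te_mem_normalizer hte h3 h1 h2)
  refine ⟨fun hf => ?_, fun hf => ?_⟩
  · have h1 : Nat.card T = Nat.card R := by
      rw [hf.card_eq, hR.card_eq, card_cj]
    have h2 : R ⊓ centralizer (T : Set G) = R :=
      Subgroup.eq_of_le_of_card_ge inf_le_left (by rw [hc, h1])
    exact h2.ge.trans inf_le_right
  obtain ⟨hel, hfour⟩ := hQ.all _ T ⟨g, rfl⟩ hne hT hT1 hf
  have hord : ∀ t ∈ T, t ≠ 1 → orderOf t = 2 := fun t ht h1 =>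
    orderOf_eq_prime (by rw [pow_two]; exact hel t ht) h1
  have hRQ : R ⊓ cj g Q = ⊥ := eq_bot_of_no_involution (hR.isPGroup.to_le inf_le_left)
    fun y hy => hKK y (hR.le hy.1) hy.2
  have hcn : ∀ t ∈ T, t ≠ 1 → centralizer ({t} : Set G) ≤ normalizer (cj g Q : Set G) :=
    fun t ht h1 => te_centralizer_le hte' (hord t ht h1) (hTQ ht)
  have hcc : ∀ t ∈ T, centralizer (T : Set G) ≤ centralizer ({t} : Set G) := fun t ht =>
    centralizer_le (Set.singleton_subset_iff.2 ht)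
  obtain ⟨t₀, ht₀, ht₀1⟩ := (Subgroup.ne_bot_iff_exists_ne_one.1 hT1).imp
    (fun (a : T) (h : a ≠ 1) => (⟨a.2, fun e => h (Subtype.ext e)⟩ : (a : G) ∈ T ∧ (a : G) ≠ 1))
  have hEle : R ⊓ centralizer (T : Set G) ≤ Q ⊓ normalizer (cj g Q : Set G) :=
    le_inf (inf_le_left.trans hR.le) (inf_le_right.trans ((hcc _ ht₀).trans (hcn _ ht₀ ht₀1)))
  have hEp : IsPGroup 2 (R ⊓ centralizer (T : Set G) : Subgroup G) := hR.isPGroup.to_le inf_le_left
  have hsyl : IsSyl 2 (R ⊓ centralizer (T : Set G)) (Q ⊓ normalizer (cj g Q : Set G)) := by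
    refine ⟨hEle, hEp, fun U hU h1 h2 => ?_⟩
    have e : cj g⁻¹ (cj g Q) = Q := by rw [cj_cj, inv_mul_cancel, cj_one]
    have hg' : g⁻¹ ∉ normalizer (cj g Q : Set G) := fun h => hne ((cj_eq_self h).symm.trans e)
    obtain ⟨T₀, h3, h4, h5⟩ := symm0 (T := U) hte' hg' (by rw [e]; exact h2) hU
    rw [e] at h3
    obtain ⟨x, -, hx⟩ := hT.exists_cj_le h4 h3
    have h6 : Nat.card T₀ ≤ Nat.card T := by
      rw [← card_cj x T₀]; exact card_le_of_le hx
    exact (Subgroup.eq_of_le_of_card_ge h1 (by rw [hc]; exact h5.trans h6)).symm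
  have hsq : ∀ a : T, ((φ.symm a : (R ⊓ centralizer (T : Set G) : Subgroup G)) : G) * φ.symm a = 1 := by
    intro a
    have : a * a = 1 := Subtype.ext (hel a a.2)
    rw [← Subgroup.coe_mul, ← map_mul, this, map_one, Subgroup.coe_one]
  refine
    { tq := hQ, vx := ⟨g, rfl⟩, ne := hne, syl := hT, el := hel, four := hfour, sylR := hR,
      norR := hn, eq := rfl, dis := ?_, fix := ?_, card := hc, elE := ?_, fourE := ?_, lt := ?_,
      sylE := hsyl, sylC := ?_ }
  · intro t ht h1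
    by_contra h2
    exact hKK t h1 (hTQ ht) (hord t ht h2)
  · intro t ht h1 c hc'
    refine ⟨hc'.1, mem_centralizer_iff.2 fun s hs => ?_⟩
    have h3 : c * s * c⁻¹ * s⁻¹ ∈ R ⊓ cj g Q := by
      refine ⟨?_, ?_⟩
      · have := (mem_normalizer_iff.1 (hn hs) c⁻¹).1 (R.inv_mem hc'.1)
        have e : c * s * c⁻¹ * s⁻¹ = c * (s * c⁻¹ * s⁻¹) := by group
        rw [e]
        exact R.mul_mem hc'.1 this
      · exact (cj g Q).mul_mem ((mem_normalizer_iff.1 (hcn t ht h1 hc'.2) s).1 (hTQ hs))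
          ((cj g Q).inv_mem (hTQ hs))
    rw [hRQ, mem_bot] at h3
    have : c * s = s * c := by
      calc c * s = (c * s * c⁻¹ * s⁻¹) * (s * c) := by group
        _ = s * c := by rw [h3, one_mul]
    exact this.symm
  · intro a ha
    have := hsq (φ ⟨a, ha⟩)
    rwa [φ.symm_apply_apply] at this
  · obtain ⟨s, hs, t, ht, h1, h2, h3, h4⟩ := hfour
    refine ⟨_, (φ.symm ⟨s, hs⟩).2, _, (φ.symm ⟨t, ht⟩).2, ⟨fun e => h1.1 ?_, hsq _⟩,
      ⟨fun e => h2.1 ?_, hsq _⟩, fun e => h3 ?_, ?_⟩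
    · have : φ.symm ⟨s, hs⟩ = φ.symm 1 := by rw [map_one]; exact Subtype.ext e
      exact congrArg Subtype.val (φ.symm.injective this)
    · have : φ.symm ⟨t, ht⟩ = φ.symm 1 := by rw [map_one]; exact Subtype.ext e
      exact congrArg Subtype.val (φ.symm.injective this)
    · exact congrArg Subtype.val (φ.symm.injective (Subtype.ext e))
    · have : (⟨s, hs⟩ : T) * ⟨t, ht⟩ = ⟨t, ht⟩ * ⟨s, hs⟩ := Subtype.ext h4
      rw [← Subgroup.coe_mul, ← Subgroup.coe_mul, ← map_mul, ← map_mul, this]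
  · intro h
    apply hf
    have e : R ⊓ centralizer (T : Set G) = R := le_antisymm inf_le_left h
    rw [e] at hc
    exact (hR.cj g).of_card_ge hT.isPGroup hTQ (by rw [← hRc, hc])
  · intro t ht h1
    exact hsyl.of_le (le_inf (inf_le_left.trans hR.le) (inf_le_right.trans (hcc t ht)))
      (inf_le_inf_left _ (hcn t ht h1))

end H90.TpLD0
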