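/- U5 tower: automorphisms of `Q₁`, `Q₂` and `S`. -/
import Cfsg.Agent.H90.U5Tri

set_option autoImplicit false
set_option linter.unusedSectionVars false
set_option linter.unusedSimpArgs false

open Subgroup H90.RF

universe v

namespace H90.U5

variable {K : Type v} [Field K] [Finite K] {T : BF K}

variable (T) in
/-- the alternating form on `Q₁ / Z` -/
def fm (u w : Co T) : K :=
  u.a * T.σ w.d - u.c * T.σ w.c + u.d * T.σ w.a - (w.a * T.σ u.d - w.c * T.σ u.c + w.d * T.σ u.a)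

theorem cm_fm {u w : Co T} (hu : u ∈ sQ1 T) (hw : w ∈ sQ1 T) : (cm u w).g = fm T u w := cm_g1 hu hw

theorem cm_eq_iff {u w u' w' : Co T} (hu : u ∈ sQ1 T) (hw : w ∈ sQ1 T) (hu' : u' ∈ sQ1 T) (hw' : w' ∈ sQ1 T) :
    cm u w = cm u' w' ↔ fm T u w = fm T u' w' :=
  ⟨fun h => by rw [← cm_fm hu hw, h, cm_fm hu' hw'],
    fun h => eq_of_Z (cm_Q1 hu hw) (cm_Q1 hu' hw') (by rw [cm_fm hu hw, h, cm_fm hu' hw'])⟩

theorem cm_one_iff {u w : Co T} (hu : u ∈ sQ1 T) (hw : w ∈ sQ1 T) : cm u w = 1 ↔ fm T u w = 0 :=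
  ⟨fun h => by rw [← cm_fm hu hw, h]; rfl, fun h => eq_of_Z (cm_Q1 hu hw) (one_mem _) (by rw [cm_fm hu hw, h]; rfl)⟩

theorem fm_au {β : Co T → Co T} (a : Au (sQ1 T) β) {u w u' w' : Co T} (hu : u ∈ sQ1 T) (hw : w ∈ sQ1 T)
    (hu' : u' ∈ sQ1 T) (hw' : w' ∈ sQ1 T) (h : fm T u w = fm T u' w') :
    fm T (β u) (β w) = fm T (β u') (β w') := by
  rw [← cm_eq_iff (a.mem u hu) (a.mem w hw) (a.mem u' hu') (a.mem w' hw'), ← a.cm hu hw, ← a.cm hu' hw',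
    (cm_eq_iff hu hw hu' hw').2 h]

theorem fm_nd {x y z : K} (h : ∀ a c d, x * T.σ d - y * T.σ c + z * T.σ a - (a * T.σ z - c * T.σ y + d * T.σ x) = 0) :
    x = 0 ∧ y = 0 ∧ z = 0 :=
  ⟨(T.lin_zero (x := -T.σ x) fun t => by have := h 0 0 t; simp at this; linear_combination this).2,
    neg_eq_zero.1 (T.lin_zero (x := T.σ y) fun t => by have := h 0 t 0; simp at this; linear_combination this).2,
    (T.lin_zero (x := -T.σ z) fun t => by have := h t 0 0; simp at this; linear_combination this).2⟩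

theorem jobA1 : JobA1.{v} := fun _ _ K _ _ _ T β a l hl => by
  obtain ⟨γ, b, e, -⟩ := a.exists_inv
  -- `lam m` is the image of `m ε` under `ζ l ζ⁻¹`
  have key : ∀ u ∈ sQ1 T, ∀ w ∈ sQ1 T, w.a = l * u.a → w.c = l * u.c → w.d = l * u.d →
      ∀ u' ∈ sQ1 T, ∀ w' ∈ sQ1 T, w'.a = l * u'.a → w'.c = l * u'.c → w'.d = l * u'.d →
      ∀ x ∈ sQ1 T, ∀ x' ∈ sQ1 T, fm T (β u) x = fm T (β u') x' → fm T (β w) x = fm T (β w') x' := by
    intro u hu w hw h1 h2 h3 u' hu' w' hw' h1' h2' h3' y hy y' hy' h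
    obtain ⟨x, hx, rfl⟩ := a.sur y hy
    obtain ⟨x', hx', rfl⟩ := a.sur y' hy'
    have k : fm T u x = fm T u' x' := by
      rw [← cm_eq_iff hu hx hu' hx']
      refine a.eq (Z2_le_Q1 (Z_le (cm_Q1 hu hx))) (Z2_le_Q1 (Z_le (cm_Q1 hu' hx'))) ?_
      rwa [a.cm hu hx, a.cm hu' hx', cm_eq_iff (a.mem _ hu) (a.mem _ hx) (a.mem _ hu') (a.mem _ hx')]
    refine fm_au a hw hx hw' hx' ?_
    simp only [fm, h1, h2, h3, h1', h2', h3', map_mul, hl] at k ⊢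
    linear_combination l * k
  let u0 := γ (xc T 1)
  have h0 : u0 ∈ sQ1 T := b.mem _ ⟨rfl, rfl⟩
  let w0 := w1 T (l * u0.a) (l * u0.c) (l * u0.d)
  have e0 : β u0 = xc T 1 := e _ ⟨rfl, rfl⟩
  have k0 := key u0 h0 w0 (w1_mem _ _ _) (w1_a _ _ _) (w1_c _ _ _) (w1_d _ _ _)
  obtain ⟨l', hl'⟩ := T.exists_ε (e := fm T (β w0) (xc T T.ω)) (by simp [fm, xc, T.sq]; ring)
  refine ⟨l', l'.2, fun u hu w hw h1 h2 h3 => ?_⟩
  have := fm_nd (T := T) (x := (β w).a - l' * (β u).a) (y := (β w).c - l' * (β u).c)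
    (z := (β w).d - l' * (β u).d) fun x y z => by
      obtain ⟨m, hm⟩ := T.exists_ε (e := fm T (β u) (w1 T x y z)) (by simp [fm, T.sq]; ring)
      have := k0 u hu w hw h1 h2 h3 (xc T (m * T.ω)) ⟨rfl, rfl⟩ _ (w1_mem x y z)
        (by rw [hm, e0]; simp [fm, xc, m.2, BF.ε]; ring)
      simp only [fm, xc, w1_a, w1_c, w1_d, map_mul, map_sub, map_zero, m.2, l'.2] at this hm hl' ⊢
      linear_combination -this - l' * hm + m * hl'
  exact ⟨sub_eq_zero.1 this.1, sub_eq_zero.1 this.2.1, sub_eq_zero.1 this.2.2⟩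

variable {p : ℕ} {Y0 Y1 Y2 : Subgroup (Equiv.Perm (Co T))}

theorem Tri.c1 (t : Tri T p Y0 Y1 Y2) (s : Co T) : ∃ γ ∈ Y1, ∀ u ∈ sQ1 T, γ u = s * u * s⁻¹ := by
  obtain ⟨y, hy, e⟩ := t.inn s
  obtain ⟨γ, hγ, e'⟩ := t.res1 y hy
  exact ⟨γ, hγ, fun u hu => by rw [e' u hu, e]⟩

theorem Tri.c2 (t : Tri T p Y0 Y1 Y2) (s : Co T) : ∃ γ ∈ Y2, ∀ u ∈ sQ2 T, γ u = s * u * s⁻¹ := by
  obtain ⟨y, hy, e⟩ := t.inn s
  obtain ⟨γ, hγ, e'⟩ := t.res2 y hy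
  exact ⟨γ, hγ, fun u hu => by rw [e' u hu, e]⟩

/-- `Y₂` contains an element with the given matrix on `Q₂ / V` -/
def Mx (Y2 : Subgroup (Equiv.Perm (Co T))) (m n r s : K) : Prop :=
  ∃ α ∈ Y2, ∀ u ∈ sQ2 T, (α u).c = m * u.c + n * u.b ∧ (α u).b = r * u.c + s * u.b

theorem Mx.mul (l : Lg (sQ2 T) Y2) {m n r s m' n' r' s' : K} (h : Mx Y2 m n r s) (h' : Mx Y2 m' n' r' s') :
    Mx Y2 (m * m' + n * r') (m * n' + n * s') (r * m' + s * r') (r * n' + s * s') := by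
  obtain ⟨α, hα, e⟩ := h
  obtain ⟨β, hβ, e'⟩ := h'
  refine ⟨α * β, mul_mem hα hβ, fun u hu => ?_⟩
  obtain ⟨h1, h2⟩ := e _ ((l.au β hβ).mem u hu)
  rw [Equiv.Perm.mul_apply, h1, h2, (e' u hu).1, (e' u hu).2]
  constructor <;> ring

theorem jobG2 : JobG2.{v} := fun _ _ K _ _ _ T a2 Y0 Y1 Y2 t ⟨α, hα, mv⟩ => by
  have U : ∀ x, Mx Y2 1 x 0 1 := fun x => (t.c2 (xa T x)).imp fun γ h =>
    ⟨h.1, fun u hu => by rw [h.2 u hu, (cj_Q2 _ hu).1, (cj_Q2 _ hu).2]; simp [xa]⟩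
  have a := t.l2.au α hα
  obtain ⟨φ, m, n, r, s, h⟩ := a2 α a
  have hr : r ≠ 0 := fun e => mv fun c hc => ⟨a.mem c hc.1, by simp [(h c hc.1).2, e, hc.2]⟩
  have hd : m * s - n * r ≠ 0 := fun e => by
    obtain ⟨u, hu, k⟩ := a.sur (xc T 1) rfl
    obtain ⟨h1, h2⟩ := h u hu
    simp only [k, xc] at h1 h2
    exact hr (by linear_combination r * h1 - m * h2 - φ u.b * e)
  have L : ∀ x, Mx Y2 1 0 x 1 := fun x => by
    obtain ⟨σ, hσ, e⟩ := U (φ.symm (-x * (m * s - n * r) / r ^ 2))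
    have k : Mx Y2 (1 + x * m / r) (-(x * m ^ 2 / r ^ 2)) x (1 - x * m / r) :=
      ⟨α * σ * α⁻¹, mul_mem (mul_mem hα hσ) (inv_mem hα), fun u hu => by
        obtain ⟨u, hu', rfl⟩ := a.sur u hu
        obtain ⟨h1, h2⟩ := h _ ((t.l2.au σ hσ).mem u hu')
        simp only [Equiv.Perm.mul_apply, show α⁻¹ (α u) = u from α.symm_apply_apply u, h1, h2, h u hu',
          e u hu', map_add, map_mul, φ.apply_symm_apply, one_mul, zero_mul, zero_add]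
        constructor <;> field_simp <;> ring⟩
    convert ((U (-m / r)).mul t.l2 k).mul t.l2 (U (m / r)) using 1 <;> field_simp <;> ring
  have N : ∀ x : K, x ≠ 0 → Mx Y2 0 x (-x⁻¹) 0 := fun x hx => by
    convert ((U x).mul t.l2 (L (-x⁻¹))).mul t.l2 (U x) using 1 <;> field_simp <;> ring
  exact ⟨by simpa [Mx] using N 1 one_ne_zero, fun s => by
    simpa [Mx] using (N s s.ne_zero).mul t.l2 (N (-1) (by simp))⟩

end H90.U5
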