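/- U5 tower: two distinct conjugates of `Z₂` are opposite. -/
import Cfsg.Agent.H90.U5A

set_option autoImplicit false
set_option linter.unusedSectionVars false
set_option linter.unusedSimpArgs false

open Subgroup H90.RF

universe v

namespace H90.U5

variable {K : Type v} [Field K] [Finite K] {T : BF K} {p : ℕ} {Y0 Y1 Y2 : Subgroup (Equiv.Perm (Co T))}
  {α β : Equiv.Perm (Co T)}

theorem fm_skew (u w : Co T) : fm T u w + T.σ (fm T u w) = 0 := by simp [fm, T.sq]; ring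

theorem modZ {β : Co T → Co T} (a : Au (sQ1 T) β) {u w : Co T} (hu : u ∈ sQ1 T) (hw : w ∈ sQ1 T)
    (h : w.a = u.a ∧ w.c = u.c ∧ w.d = u.d) : (β w).a = (β u).a ∧ (β w).c = (β u).c ∧ (β w).d = (β u).d :=
  (Q1_mod (a.mem u hu) (a.mem w hw)).1 (by
    rw [← a.inv hu, ← a.mul _ (inv_mem hu) _ hw]; exact pr_Z1 a _ ((Q1_mod hu hw).2 h))

theorem mulZ {β : Co T → Co T} (a : Au (sQ1 T) β) {u w : Co T} (hu : u ∈ sQ1 T) (hw : w ∈ sQ1 T) :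
    (β (u * w)).a = (β u).a + (β w).a ∧ (β (u * w)).c = (β u).c + (β w).c ∧ (β (u * w)).d = (β u).d + (β w).d := by
  rw [a.mul u hu w hw]
  simp [(a.mem w hw).1, (a.mem w hw).2]

theorem ia (α : Equiv.Perm (Co T)) (u : Co T) : α⁻¹ (α u) = u := α.symm_apply_apply u
theorem ai (α : Equiv.Perm (Co T)) (u : Co T) : α (α⁻¹ u) = u := α.apply_symm_apply u

theorem pr_inv {X Z : Subgroup (Co T)} {Y : Subgroup (Equiv.Perm (Co T))} (l : Lg X Y) (hZ : Z ≤ X) (hα : α ∈ Y)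
    (h : Pr α Z) : Pr ⇑α⁻¹ Z := fun c hc =>
  (l.au α hα).mem_of hZ h ((l.au _ (inv_mem hα)).mem c (hZ hc)) (by rwa [ai])

theorem xd_mem (t : K) : xd T t ∈ sZ2 T := ⟨rfl, rfl, rfl, rfl⟩

theorem mem_Z2 {u : Co T} (hu : u ∈ sQ1 T) (ha : u.a = 0) (hc : u.c = 0) : u ∈ sZ2 T := ⟨ha, hu.1, hc, hu.2⟩

/-- an element of `Q₁` whose image commutes with the image of `Z₂` -/
theorem a_of_fm {β : Co T → Co T} (a : Au (sQ1 T) β) {u : Co T} (hu : u ∈ sQ1 T)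
    (h : ∀ z ∈ sZ2 T, fm T (β u) (β z) = 0) : u.a = 0 :=
  a_of_Z2 fun z hz => a.inj _ (Z2_le_Q1 (Z_le (cm_Q1 hu (Z2_le_Q1 hz)))) (by
    rw [a.cm hu (Z2_le_Q1 hz), cm_one_iff (a.mem u hu) (a.mem z (Z2_le_Q1 hz)), h z hz])

theorem fm_Z2 {β : Co T → Co T} (a : Au (sQ1 T) β) {u z : Co T} (hu : u ∈ sZ2 T) (hz : z ∈ sZ2 T) :
    fm T (β u) (β z) = 0 := by
  rw [← cm_one_iff (a.mem u (Z2_le_Q1 hu)) (a.mem z (Z2_le_Q1 hz)), ← a.cm (Z2_le_Q1 hu) (Z2_le_Q1 hz),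
    cm_Q2_Z2 hu.1 hz, a.one]

variable [CharP K p]

theorem lemS (t : Tri T p Y0 Y1 Y2) (hα : α ∈ Y1)
    (h : ∀ z ∈ sZ2 T, α (xe T T.ω * α⁻¹ z * (xe T T.ω)⁻¹) ∈ sZ2 T) : Pr α (sZ2 T) := by
  set v := xe T T.ω
  have a := t.l1.au α hα
  obtain ⟨σ, hσ, e⟩ := t.c1 v
  have pw : ∀ n : ℕ, ∀ u ∈ sQ1 T, (σ ^ n) u = v ^ n * u * (v ^ n)⁻¹ := fun n => by
    induction n with
    | zero => simp
    | succ n ih =>
      intro u hu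
      rw [pow_succ, Equiv.Perm.mul_apply, e u hu, ih _ (nQ1.conj_mem u hu v), pow_succ]; group
  obtain ⟨k, hk⟩ := pgroup_Co p v
  obtain ⟨s, hs⟩ := t.pel1 _ (mul_mem (mul_mem hα hσ) (inv_mem hα)) (fun z hz => by
    rw [Equiv.Perm.mul_apply, Equiv.Perm.mul_apply, e _ ((t.l1.au _ (inv_mem hα)).mem z (Z2_le_Q1 hz))]
    exact h z hz)
    ⟨k, by rw [conj_pow, t.l1.ext (pow_mem hσ _) (one_mem _) fun u hu => by simp [pw _ u hu, hk]]; simp⟩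
  have c : ∀ u ∈ sQ1 T, α (cm v u) = cm s (α u) := fun u hu => by
    rw [cm, cm, a.mul _ (inv_mem hu) _ (nQ1.conj_mem u hu v), a.inv hu, ← hs _ (a.mem u hu)]
    simp [e u hu]
  have m : ∀ u ∈ sQ1 T, cm v u ∈ sZ2 T := fun u hu => cm_R rfl (Q1_le hu)
  have hb : s.b = 0 := by
    obtain ⟨u, hu, k⟩ := a.sur (xa T 1) ⟨rfl, rfl⟩
    have := c _ (Z2_le_Q1 (m u hu))
    rw [cm_Q2_Z2 rfl (m u hu), a.one, c u hu, k] at this
    have h1 := congrArg Co.d this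
    rw [cm_d] at h1
    exact T.nm_zero (by simpa [cm_c, cm_e, xa] using h1.symm)
  intro z hz
  have k := m (xa T (-z.d / T.ε)) ⟨rfl, rfl⟩
  have : (cm v (xa T (-z.d / T.ε)))⁻¹ * z ∈ sZ T := (Q1_mod (Z2_le_Q1 k) (Z2_le_Q1 hz)).2
    ⟨hz.1.trans k.1.symm, hz.2.2.1.trans k.2.2.1.symm, by
      have := T.ε_ne
      simp only [cm_d, xa, v, xe, map_zero, mul_zero, zero_mul, sub_zero, add_zero, zero_sub]
      rw [← BF.ε]; field_simp⟩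
  rw [← mul_inv_cancel_left (cm v (xa T (-z.d / T.ε))) z, a.mul _ (Z2_le_Q1 k) _ (Z2_le_Q1 (Z_le this)),
    c _ ⟨rfl, rfl⟩]
  exact mul_mem (cm_R hb (Q1_le (a.mem _ ⟨rfl, rfl⟩))) (Z_le (pr_Z1 a _ this))

theorem lemS' (t : Tri T p Y0 Y1 Y2) (hα : α ∈ Y1) (h : ∀ z ∈ sZ2 T, (α z).a = 0) : Pr α (sZ2 T) := by
  simpa using pr_inv t.l1 Z2_le_Q1 (inv_mem hα) (lemS t (inv_mem hα) fun z hz => by
    rwa [inv_inv, conj_eq_cm, cm_V' ⟨rfl, rfl, rfl⟩ (h z hz), mul_one, ia])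

theorem span (a1 : A1 T) {β : Co T → Co T} (a : Au (sQ1 T) β) {d : K} (hd : d ≠ 0) {z : Co T} (hz : z ∈ sZ2 T) :
    ∃ x y, T.σ x = x ∧ T.σ y = y ∧ (β z).a = x * (β (xd T d)).a + y * (β (xd T (T.ω * d))).a ∧
      (β z).c = x * (β (xd T d)).c + y * (β (xd T (T.ω * d))).c ∧
      (β z).d = x * (β (xd T d)).d + y * (β (xd T (T.ω * d))).d := by
  obtain ⟨x, y, e⟩ := T.exists_pair (z.d / d)
  obtain ⟨x', hx, h1⟩ := a1 β a x x.2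
  obtain ⟨y', hy, h2⟩ := a1 β a y y.2
  obtain ⟨a1, a2, a3⟩ := h1 (xd T d) ⟨rfl, rfl⟩ (xd T (x * d)) ⟨rfl, rfl⟩ (by simp [xd]) (by simp [xd]) rfl
  obtain ⟨b1, b2, b3⟩ := h2 (xd T (T.ω * d)) ⟨rfl, rfl⟩ (xd T (y * (T.ω * d))) ⟨rfl, rfl⟩ (by simp [xd])
    (by simp [xd]) rfl
  obtain ⟨c1, c2, c3⟩ := mulZ a (u := xd T (x * d)) (w := xd T (y * (T.ω * d))) ⟨rfl, rfl⟩ ⟨rfl, rfl⟩
  obtain ⟨d1, d2, d3⟩ := modZ a (mul_mem (show xd T (x * d) ∈ sQ1 T from ⟨rfl, rfl⟩)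
    (show xd T (y * (T.ω * d)) ∈ sQ1 T from ⟨rfl, rfl⟩)) (Z2_le_Q1 hz)
    ⟨by simp [xd, hz.1], by simp [xd, hz.2.2.1], by
      rw [div_eq_iff hd] at e
      simp [xd, e]; ring⟩
  exact ⟨x', y', hx, hy, by rw [d1, c1, a1, b1], by rw [d2, c2, a2, b2], by rw [d3, c3, a3, b3]⟩

theorem step2 (a1 : A1 T) (t : Tri T p Y0 Y1 Y2) (hβ : β ∈ Y1) {d : K} (hd : d ≠ 0) (h : β (xd T d) ∈ sZ2 T) :
    Pr β (sZ2 T) := by
  have a := t.l1.au β hβ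
  have a' := t.l1.au _ (inv_mem hβ)
  have sp := fun z hz => span a1 a hd (z := z) hz
  have f0 := fm_Z2 a (xd_mem (T.ω * d)) (xd_mem d)
  have hw := a.mem (xd T (T.ω * d)) ⟨rfl, rfl⟩
  set w := β (xd T (T.ω * d))
  have hz : (β (xd T d)).d ≠ 0 := fun e => hd (a.mem_of (Z_le.trans Z2_le_Q1) (pr_Z1 a) (c := xd T d) ⟨rfl, rfl⟩
    ⟨h.1, h.2.1, h.2.2.1, h.2.2.2, e⟩).2.2.2.2
  simp only [fm, h.1, h.2.2.1, map_zero, mul_zero, zero_mul, add_zero, zero_add, sub_zero] at f0 sp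
  by_cases ha : w.a = 0
  · exact lemS' t hβ fun z hz => by obtain ⟨x, y, -, -, e, -⟩ := sp z hz; rw [e, ha, mul_zero]
  by_cases h2 : (2 : K) = 0
  · simpa using pr_inv t.l1 Z2_le_Q1 (inv_mem hβ) (lemS t (inv_mem hβ) fun z hz' => by
      have q := a.mem z (Z2_le_Q1 hz')
      have m : cm (xe T T.ω) (β z) ∈ sZ2 T := cm_R rfl (Q1_le q)
      rw [inv_inv, conj_eq_cm, a'.mul _ q _ (Z2_le_Q1 m), ia]
      obtain ⟨x, y, -, hy, e, -⟩ := sp z hz'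
      obtain ⟨l, hl⟩ := T.exists_mul (x := (cm (xe T T.ω) (β z)).d) hz (by
        simp only [cm_d, xe, map_zero, mul_zero, zero_mul, sub_zero, add_zero, zero_sub, e, map_neg, map_mul, hy,
          map_sub, T.sq]
        linear_combination -y * (T.ω - T.σ T.ω) * f0 - y * (T.ω - T.σ T.ω) * (β (xd T d)).d * T.σ w.a * h2)
      obtain ⟨l', -, k⟩ := a1 _ a' l l.2
      obtain ⟨k1, k2, -⟩ := k _ (Z2_le_Q1 h) _ (Z2_le_Q1 m) (by simp [h.1]) (by simp [h.2.2.1, m.2.2.1]) hl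
      rw [ia] at k1 k2
      exact mul_mem hz' (mem_Z2 (a'.mem _ (Z2_le_Q1 m)) (by simpa [xd] using k1) (by simpa [xd] using k2)))
  exfalso
  have ha' : T.σ w.a ≠ 0 := (map_ne_zero _).2 ha
  obtain ⟨e, he, he'⟩ : ∃ e, e + T.σ e = 1 * T.σ 1 ∧
      w.a * T.σ w.a * (e - T.σ e) = -2 * (T.σ w.a * w.c - w.a * T.σ w.c) :=
    ⟨1 / 2 - (T.σ w.a * w.c - w.a * T.σ w.c) / (w.a * T.σ w.a), by
      simp only [map_sub, map_div₀, map_mul, map_one, T.sq, map_ofNat]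
      constructor <;> field_simp <;> ring⟩
  obtain ⟨σ, hσ, c⟩ := t.c1 (uu T 1 e he)⁻¹
  have k : ∀ z ∈ sZ2 T, β ((β⁻¹ * σ * β) z) = (uu T 1 e he)⁻¹ * β z * uu T 1 e he := fun z hz => by
    simp [c _ (a.mem z (Z2_le_Q1 hz))]
  have m := mul_mem (mul_mem (inv_mem hβ) hσ) hβ
  have := lemS' t m fun z hz => a_of_fm a ((t.l1.au _ m).mem z (Z2_le_Q1 hz)) fun z' hz' => by
    obtain ⟨c1, c2, c3⟩ := cj_Q1 (uu T 1 e he) (a.mem z (Z2_le_Q1 hz))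
    obtain ⟨x, y, hx, hy, e1, e2, e3⟩ := sp z hz
    obtain ⟨x', y', hx', hy', e1', e2', e3'⟩ := sp z' hz'
    have f1 := fm_Z2 a hz hz'
    rw [k z hz, fm, c1, c2, c3]
    simp only [fm, e1, e2, e3, e1', e2', e3', map_add, map_mul, hx, hy, hx', hy', uu, map_one, T.sq] at f1 ⊢
    linear_combination f1 + y * y' * he'
  obtain ⟨x, y, -, -, e1, e2, -⟩ := sp _ (this _ (xd_mem (T.ω * d)))
  obtain ⟨c1, c2, -⟩ := cj_Q1 (uu T 1 e he) hw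
  rw [k _ (xd_mem _)] at e1 e2
  rw [c1] at e1
  rw [c2, ← mul_right_cancel₀ ha ((one_mul _).trans e1)] at e2
  exact ha (by simpa [uu] using e2)

theorem jobOa : JobOa.{v} := fun p _ K _ _ _ T a1 Y0 Y1 Y2 t α hα => by
  refine or_iff_not_imp_right.2 fun h => ?_
  push Not at h
  obtain ⟨z, hz, h, hz'⟩ := h
  have a := t.l1.au α hα
  obtain ⟨σ, hσ, c⟩ := t.c1 (xe T T.ω)
  have h' : (α (xd T z.d)).a = 0 := (modZ a (w := xd T z.d) (Z2_le_Q1 hz) ⟨rfl, rfl⟩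
    ⟨hz.1.symm, hz.2.2.1.symm, rfl⟩).1.trans h
  have := step2 a1 t (mul_mem (mul_mem (inv_mem hα) hσ) hα) (d := z.d)
    (fun e => hz' ⟨hz.1, hz.2.1, hz.2.2.1, hz.2.2.2, e⟩) (by
      rw [Equiv.Perm.mul_apply, Equiv.Perm.mul_apply, c _ (a.mem _ ⟨rfl, rfl⟩), conj_eq_cm,
        cm_V' ⟨rfl, rfl, rfl⟩ h', mul_one, ia]
      exact xd_mem _)
  simpa using pr_inv t.l1 Z2_le_Q1 (inv_mem hα) (lemS t (inv_mem hα) fun z hz => by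
    simpa [c _ (a.mem z (Z2_le_Q1 hz))] using this z hz)

end H90.U5
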