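/- U5 tower: the conjugates of `Z₂` form two orbits under `S`. -/
import Cfsg.Agent.H90.U5Oa

set_option autoImplicit false
set_option linter.unusedSectionVars false
set_option linter.unusedSimpArgs false

open Subgroup H90.RF

universe v

namespace H90.U5

variable {K : Type v} [Field K] [Finite K] {T : BF K} {p : ℕ} {Y0 Y1 Y2 : Subgroup (Equiv.Perm (Co T))}
  {α α' : Equiv.Perm (Co T)} {β γ δ : K}

/-- the image of `Z₂` is a graph -/
structure Gph (α : Co T → Co T) (β γ δ : K) : Prop where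
  eq : ∀ z ∈ sZ2 T, (α z).c = β * T.σ (α z).a ∧ (α z).d = γ * (α z).a + δ * T.σ (α z).a
  sur : ∀ t, ∃ z ∈ sZ2 T, (α z).a = t

theorem sur_a {β : Co T → Co T} (a : Au (sQ1 T) β) (h : ∀ z ∈ sZ2 T, (β z).a = 0 → z ∈ sZ T) (t : K) :
    ∃ z ∈ sZ2 T, (β z).a = t := by
  obtain ⟨d, hd⟩ := Finite.surjective_of_injective (f := fun d => (β (xd T d)).a) (fun d d' e => by
    have := (h _ (mul_mem (inv_mem (xd_mem d)) (xd_mem d')) (by
      rw [a.mul _ (inv_mem (Z2_le_Q1 (xd_mem d))) _ (Z2_le_Q1 (xd_mem d')), a.inv (Z2_le_Q1 (xd_mem d))]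
      simpa [neg_add_eq_zero] using e)).2.2.2.2
    simpa [xd, neg_add_eq_zero] using this) t
  exact ⟨_, xd_mem d, hd⟩

theorem exists_gph (a1 : A1 T) (t : Tri T p Y0 Y1 Y2) (hα : α ∈ Y1) (h : ∀ z ∈ sZ2 T, (α z).a = 0 → z ∈ sZ T) :
    ∃ s, ∃ α' ∈ Y1, (∀ u ∈ sQ1 T, α' u = s⁻¹ * α u * s) ∧ ∃ β γ δ, Gph α' β γ δ := by
  have a := t.l1.au α hα
  have a' := t.l1.au _ (inv_mem hα)
  choose r hr hr' using sur_a a h
  have un : ∀ z ∈ sZ2 T, (α z).c = (α (r (α z).a)).c ∧ (α z).d = (α (r (α z).a)).d := fun z hz => by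
    have q := Z2_le_Q1 (hr (α z).a)
    have := h _ (mul_mem (inv_mem (hr (α z).a)) hz) (by
      rw [a.mul _ (inv_mem q) _ (Z2_le_Q1 hz), a.inv q]; simp [hr'])
    exact (modZ a q (Z2_le_Q1 hz) ((Q1_mod q (Z2_le_Q1 hz)).1 this)).2
  have ad : ∀ x y, (α (r (x + y))).c = (α (r x)).c + (α (r y)).c ∧
      (α (r (x + y))).d = (α (r x)).d + (α (r y)).d := fun x y => by
    obtain ⟨h1, h2, h3⟩ := mulZ a (Z2_le_Q1 (hr x)) (Z2_le_Q1 (hr y))
    have := un _ (mul_mem (hr x) (hr y))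
    rw [h1, h2, h3, hr', hr'] at this
    exact ⟨this.1.symm, this.2.symm⟩
  have sc : ∀ (l : T.κ) x, (α (r (l * x))).c = l * (α (r x)).c ∧ (α (r (l * x))).d = l * (α (r x)).d :=
    fun l x => by
      obtain ⟨l', -, k⟩ := a1 _ a' l l.2
      obtain ⟨k1, k2, -⟩ := k _ (a.mem _ (Z2_le_Q1 (hr x))) _ (w1_mem _ _ _) (w1_a _ _ _) (w1_c _ _ _) (w1_d _ _ _)
      rw [ia] at k1 k2
      have := un _ (mem_Z2 (a'.mem _ (w1_mem _ _ _)) (by rw [k1, (hr x).1, mul_zero])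
        (by rw [k2, (hr x).2.2.1, mul_zero]))
      simp only [ai, w1_a, w1_c, w1_d, hr'] at this
      exact ⟨this.1.symm, this.2.symm⟩
  obtain ⟨b0, β, hf⟩ := T.exists_lin (fun x => (α (r x)).c) (fun x y => (ad x y).1) fun l x => (sc l x).1
  obtain ⟨γ, δ, hg⟩ := T.exists_lin (fun x => (α (r x)).d) (fun x y => (ad x y).2) fun l x => (sc l x).2
  obtain ⟨σ, hσ, c⟩ := t.c1 (xb T (-b0))⁻¹
  have e : ∀ u ∈ sQ1 T, (σ * α) u = (xb T (-b0))⁻¹ * α u * xb T (-b0) := fun u hu => by simp [c _ (a.mem u hu)]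
  refine ⟨_, _, mul_mem hσ hα, e, β, γ + (xb T (-b0)).e - b0 * T.σ b0, δ - β * T.σ b0, fun z hz => ?_,
    fun x => ⟨r x, hr x, by rw [e _ (Z2_le_Q1 (hr x))]; simp [hr']⟩⟩
  obtain ⟨c1, c2, c3⟩ := cj_Q1 (xb T (-b0)) (a.mem z (Z2_le_Q1 hz))
  rw [e z (Z2_le_Q1 hz), c1, c2, c3, (un z hz).1, (un z hz).2, hf, hg]
  simp only [xb, map_neg]
  constructor <;> ring

theorem link (t : Tri T p Y0 Y1 Y2) (o : Opp T Y1) (hα : α ∈ Y1) (hα' : α' ∈ Y1) {z1 : Co T} (h1 : z1 ∈ sZ2 T)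
    (h2 : (α' z1).a = 1) (s : Co T) (h : ∀ z ∈ sZ2 T, fm T (s⁻¹ * α' z1 * s) (α z) = 0) :
    ∀ z ∈ sZ2 T, ∃ w ∈ sZ2 T, s⁻¹ * α' z * s = α w := by
  obtain ⟨σ, hσ, c⟩ := t.c1 s⁻¹
  have a' := t.l1.au α' hα'
  have k : ∀ z ∈ sZ2 T, α ((α⁻¹ * σ * α') z) = s⁻¹ * α' z * s := fun z hz => by
    simp [c _ (a'.mem z (Z2_le_Q1 hz))]
  have m := mul_mem (mul_mem (inv_mem hα) hσ) hα'
  rcases o _ m with q | q
  · exact fun z hz => ⟨_, q z hz, (k z hz).symm⟩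
  · have := (pr_Z1 a' _ (q z1 h1 (a_of_fm (t.l1.au α hα) ((t.l1.au _ m).mem _ (Z2_le_Q1 h1))
      fun z hz => by rw [k z1 h1, h z hz]))).1
    exact absurd (h2.symm.trans this) one_ne_zero

theorem Gph.fm (g : Gph α β γ δ) {u : Co T} (h : ∀ t, u.a * (T.σ γ * T.σ t + T.σ δ * t) - u.c * (T.σ β * t) +
    u.d * T.σ t - (t * T.σ u.d - β * T.σ t * T.σ u.c + (γ * t + δ * T.σ t) * T.σ u.a) = 0) :
    ∀ z ∈ sZ2 T, fm T u (α z) = 0 := fun z hz => by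
  simpa only [U5.fm, (g.eq z hz).1, (g.eq z hz).2, map_add, map_mul, T.sq] using h (α z).a

theorem Gph.par (t : Tri T p Y0 Y1 Y2) (o : Opp T Y1) (hα : α ∈ Y1) (g : Gph α β γ δ) : Par T β γ δ := by
  have a := t.l1.au α hα
  obtain ⟨z1, h1, e1⟩ := g.sur 1
  obtain ⟨z2, h2, e2⟩ := g.sur T.ω
  have p1 : γ + T.σ γ = -(β * T.σ β) := by
    have := fm_Z2 a h1 h2
    simp only [U5.fm, g.eq z1 h1, g.eq z2 h2, e1, e2, map_add, map_mul, map_one, T.sq] at this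
    exact mul_left_cancel₀ T.ε_ne (by rw [BF.ε]; linear_combination -this)
  refine ⟨p1, fun h => ?_, fun h => ?_⟩
  · have he : 8 * (β * T.σ β) + T.σ (8 * (β * T.σ β)) = -4 * β * T.σ (-4 * β) := by
      simp only [map_mul, map_neg, map_ofNat, T.sq]; ring
    obtain ⟨c1, c2, c3⟩ := cj_Q1 (uu T _ _ he) (a.mem _ (Z2_le_Q1 h1))
    obtain ⟨w, hw, e⟩ := link t o hα hα h1 e1 (uu T _ _ he) (g.fm fun x => by
      rw [c1, c2, c3]
      simp only [g.eq z1 h1, e1, uu, map_add, map_mul, map_neg, map_one, map_ofNat, T.sq]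
      linear_combination (T.σ x - x) * p1) z1 h1
    rw [e] at c1 c2
    rw [(g.eq w hw).1, c1, (g.eq z1 h1).1, e1] at c2
    exact mul_left_cancel₀ (mul_ne_zero h h) (by simp only [uu] at c2; linear_combination c2)
  · have k : ∀ z ∈ sZ2 T, T.σ δ * (α z).a ^ 2 + δ * T.σ (α z).a ^ 2 = 0 := fun z hz => by
      have q := a.mem z (Z2_le_Q1 hz)
      have : z * z = 1 := by
        ext <;> simp [hz.1, hz.2.1, hz.2.2.1, hz.2.2.2, ← two_mul, h]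
      have := congrArg Co.g ((a.mul z (Z2_le_Q1 hz) z (Z2_le_Q1 hz)).symm.trans (by rw [this, a.one]))
      simp only [Co.mul_g, q.1, q.2, g.eq z hz, map_add, map_mul, map_zero, T.sq, Co.one_g] at this
      linear_combination this - (α z).a * T.σ (α z).a * p1 +
        (β * T.σ β * (α z).a * T.σ (α z).a - (α z).g) * h
    have k1 := k z1 h1
    have k2 := k z2 h2
    rw [e1, map_one] at k1
    rw [e2] at k2
    exact mul_right_cancel₀ (pow_ne_zero 2 T.ε_ne) (by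
      rw [BF.ε]; linear_combination k2 - T.ω ^ 2 * k1 + (δ * T.ω ^ 2 - δ * T.ω * T.σ T.ω) * h)

theorem jobOb : JobOb.{v} := fun p _ K _ _ _ T a1 Y0 Y1 Y2 t o => by
  by_cases h : ∀ α ∈ Y1, Pr α (sZ2 T)
  · exact ⟨0, 0, 0, fun α hα => Or.inl (h α hα), by simp, fun _ => rfl, fun _ => rfl⟩
  push Not at h
  obtain ⟨α0, h0, m0⟩ := h
  obtain ⟨-, α1, h1, -, β, γ, δ, g⟩ := exists_gph a1 t h0 ((o α0 h0).resolve_left m0)
  have P := g.par t o h1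
  refine ⟨β, γ, δ, fun α hα => (o α hα).imp_right fun m => ?_, P⟩
  obtain ⟨s0, α', hα', e, β', γ', δ', g'⟩ := exists_gph a1 t hα m
  have P' := g'.par t o hα'
  obtain ⟨z1, k1, e1⟩ := g'.sur 1
  have q := (t.l1.au α' hα').mem _ (Z2_le_Q1 k1)
  obtain ⟨s, hs⟩ : ∃ s, ∀ z ∈ sZ2 T, fm T (s⁻¹ * α' z1 * s) (α1 z) = 0 := by
    by_cases h2 : (2 : K) = 0
    · have he : γ + γ' + β' * T.σ (β + β') + T.σ (γ + γ' + β' * T.σ (β + β')) = (β + β') * T.σ (β + β') := by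
        simp only [map_add, map_mul, T.sq]
        linear_combination P.1 + P'.1 - β * T.σ β * h2
      obtain ⟨c1, c2, c3⟩ := cj_Q1 (uu T _ _ he) q
      refine ⟨uu T _ _ he, g.fm fun x => ?_⟩
      rw [c1, c2, c3]
      simp only [g'.eq z1 k1, e1, uu, map_add, map_mul, map_one, T.sq, P.2.2 h2, P'.2.2 h2, map_zero]
      linear_combination (T.σ x - x) * P.1 + (T.σ x * (γ' + β' * T.σ β + β' * T.σ β' + β * T.σ β') -
        x * (T.σ γ' + T.σ β' * β + T.σ β' * β' + T.σ β * β')) * h2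
    · obtain ⟨b, he⟩ := T.exists_uu (γ - γ' + δ - δ')
      obtain ⟨c1, c2, c3⟩ := cj_Q1 (uu T _ _ he) q
      refine ⟨uu T _ _ he, g.fm fun x => ?_⟩
      have := P.1
      rw [c1, c2, c3]
      simp only [g'.eq z1 k1, e1, uu, map_add, map_mul, map_sub, map_one, T.sq, P.2.1 h2, P'.2.1 h2,
        map_zero] at this ⊢
      linear_combination (T.σ x - x) * this
  refine ⟨s0 * s, fun z hz => ?_⟩
  obtain ⟨w, hw, e'⟩ := link t o h1 hα' k1 e1 s hs z hz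
  have e2 : (s0 * s)⁻¹ * α z * (s0 * s) = α1 w := by rw [← e', e z (Z2_le_Q1 hz)]; group
  have e3 : (α z).a = (α1 w).a := by rw [← e2]; simp; ring
  rw [e2, e3]
  exact g.eq w hw

end H90.U5
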