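import Cfsg.Agent.H8.WZKit

/-! WZ-E: one class of involutions in the frame of type `G₂`. -/

set_option autoImplicit false

namespace H90.WZ

open Cfsg Cfsg.FusionSystem H92 H86 H35.G2S Subgroup H8.WZ

universe u

variable {Ω : Type*} [Group Ω] {S W : Subgroup Ω} {F : FusionSystem S} {k : ℕ} {x y u w : Ω}

theorem two_GS (h : GS S W k x y u w) : IsPGroup 2 S := by
  obtain ⟨e, he⟩ := h.wr.pow2
  exact IsPGroup.of_card (n := 6 + e * 2) (by rw [h.card, he, pow_add, pow_mul]; norm_num)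

theorem conj_back {s c g : Ω} (hs : s ∈ S) (hg : g ∈ S) (e : c = s * g * s⁻¹) :
    F.IsConjElt c g := e ▸ conj_symm (conj_conj (conj_refl F hg) hg hs)

/-- The involutions of `W`. -/
theorem inv_W (h : GS S W k x y u w) (tj : F.IsConjElt (wu x y (2 * k) 0) (jj k x y)) {c : Ω}
    (hc : c ∈ W) (o : orderOf c = 2) :
    F.IsConjElt c (jj k x y) ∨ ∃ s ∈ W, c = s * u * s⁻¹ := by
  rcases h.wr.exists_conj_of_sq hc (by rintro rfl; simp at o)
    (by rw [← pow_two, ← o, pow_orderOf_eq_one]) with e | ⟨s, hs, e⟩ | e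
  · exact Or.inl (by rw [e]; exact conj_refl F (h.t_mem _ _))
  · exact Or.inl (conj_trans (conj_back (h.W_le hs) (h.t_mem _ _) e) tj)
  · exact Or.inr e

variable [Finite S]

theorem thom (h : GS S W k x y u w) (hF : F.IsSaturated 2) (foc : S ≤ F.focalSubgroup) {t : Ω}
    (ht : t ∈ S) (o : orderOf t = 2) :
    ∃ c ∈ W, F.IsConjElt t c ∧ F.IsFullyNormalized (zpowers c) := by
  by_contra! r
  exact H95.thompson_transfer (two_GS h) hF h.relIndex ht o (fun c a b m => r c m a b) (foc ht)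

theorem t_j (h : Fr0 F W k x y u w) : F.IsConjElt (wu x y (2 * k) 0) (jj k x y) := by
  obtain ⟨ρ, m, r1, r2, -⟩ := h.rho
  have g := h.gs.wr
  have hx : x ∈ wrU x y ⊔ zpowers w := mem_sup_left (subset_closure (by simp))
  have hy : y ∈ wrU x y ⊔ zpowers w := mem_sup_left (subset_closure (by simp))
  have := conj_mor (conj_refl F (h.gs.t_mem (2 * k) (2 * k))) m (mem_sup_left (g.u_mem_U _ _))
  rw [wu, m.mulOn.map_mul (zpow_mem hx _) (zpow_mem hy _), m.mulOn.map_zpow hx,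
    m.mulOn.map_zpow hy, r1, r2, show y⁻¹ = wu x y 0 (-1) by simp [wu],
    show x * wu x y 0 (-1) = wu x y 1 (-1) by simp [wu], g.u_zpow, g.u_zpow, g.u_mul_u,
    g.u_congr (a := 2 * k) (b := 0) 0 (-1) (by ring) (by ring)] at this
  exact conj_symm this

theorem uw_j (h : Fr0 F W k x y u w) (foc : S ≤ F.focalSubgroup) :
    F.IsConjElt (u * w) (jj k x y) := by
  have g := h.gs.wr
  obtain ⟨W', h'⟩ := h.gs.swap
  obtain ⟨c, hc, e, fn⟩ := thom h.gs h.sat foc h'.u_mem h'.wr.orderOf_z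
  refine conj_trans e ((inv_W h.gs (t_j h) hc ((conj_orderOf e).trans h'.wr.orderOf_z)).resolve_right
    fun ⟨s, hs, es⟩ => ?_)
  obtain ⟨β, m, eβ⟩ := exists_ext_cS (two_GS h.gs) h.sat e (fc_of_fn (two_GS h.gs) h.sat fn)
  obtain ⟨n, hn⟩ := g.conj_zu hs 0 0
  rw [g.z_eq, ← es] at hn
  have a1 : wu x y 1 (-1) ∈ cS S (u * w) := mem_cS.2 ⟨h.gs.t_mem _ _, by
    simpa only [wu_inv_y] using h'.wr.cc_comm 1 h'.wr.z_mem⟩
  have cm : β (wu x y 1 (-1)) * c = c * β (wu x y 1 (-1)) := by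
    rw [← eβ, ← m.mulOn.map_mul a1 (self_mem_cS h'.u_mem),
      ← m.mulOn.map_mul (self_mem_cS h'.u_mem) a1, (mem_cS.1 a1).2]
  have c2 : c * c = 1 := by
    rw [es, show s * u * s⁻¹ * (s * u * s⁻¹) = s * (u * u) * s⁻¹ by group, g.zz, mul_one,
      mul_inv_cancel]
  rw [hn] at cm c2
  have jm : jj k x y ∈ cS S (u * w) := h.gs.v_pow ▸ pow_mem a1 _
  have z1 := pow_mem (h.gs.sq_mem_Z (m.mem a1) c2 cm) k
  rw [← pow_two, ← pow_mul, ← m.mulOn.map_pow a1, h.gs.v_pow] at z1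
  have fj : β (jj k x y) = jj k x y := g.eq_u0_of_mem_Z z1
    (fun r => g.u0_ne_one (m.inj jm (one_mem _) (r.trans m.mulOn.map_one.symm)))
    (by rw [← m.mulOn.map_mul jm jm]; exact (congrArg β g.u0_sq).trans m.mulOn.map_one)
  have q := g.GQ_Y
  have p4 : β (wu x y 1 (-1)) * β (wu x y 1 (-1)) * (β (wu x y 1 (-1)) * β (wu x y 1 (-1))) = 1 := by
    obtain ⟨i, r | r⟩ := (q.mem _).1 (h.h1 _ β m jm fj _ q.a_mem' a1)
    · rw [r, g.u_zpow, g.u_comm_zu_iff] at cm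
      obtain ⟨d, hd⟩ := cm
      rw [r, g.u_zpow, g.u_mul_u, g.u_mul_u, g.u_eq_one_iff]
      exact ⟨⟨2 * d, by linarith⟩, ⟨-2 * d, by linarith⟩⟩
    · rw [r, q.ba_sq, q.z_mul_z]
  rw [← pow_two, ← pow_two, ← pow_mul, ← m.mulOn.map_pow a1, ← m.mulOn.map_one] at p4
  have := Nat.le_of_dvd (by norm_num) (orderOf_dvd_of_pow_eq_one
    (m.inj (pow_mem a1 _) (one_mem _) p4))
  rw [g.orderOf_v] at this
  have := h.k2
  omega

theorem jobE : JobE.{u} := by
  intro Ω _ S _ F W k x y u w h foc t ht o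
  obtain ⟨W', h'⟩ := h.gs.swap
  have uj : F.IsConjElt u (jj k x y) := by
    obtain ⟨c, hc, e, -⟩ := thom h' h.sat foc h.gs.u_mem h.gs.wr.orderOf_z
    refine conj_trans e ?_
    rcases inv_W (F := F) h' (by rw [h.gs.jj_swap, wu_inv_y, neg_zero]; exact t_j h) hc
      ((conj_orderOf e).trans h.gs.wr.orderOf_z) with r | ⟨s, hs, r⟩
    · exact h.gs.jj_swap ▸ r
    · exact conj_trans (conj_back (h'.W_le hs) h'.u_mem r) (uw_j h foc)
  obtain ⟨c, hc, e, -⟩ := thom h.gs h.sat foc ht o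
  refine conj_trans e ?_
  rcases inv_W h.gs (t_j h) hc ((conj_orderOf e).trans o) with r | ⟨s, hs, r⟩
  · exact r
  · exact conj_trans (conj_back (h.gs.W_le hs) h.gs.u_mem r) uj

end H90.WZ
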