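import Cfsg.Agent.H90.Zass
import Cfsg.Agent.H21.MetacyclicPres

/-! Generators and a presentation of a finite group with cyclic Sylow subgroups. -/

set_option autoImplicit false

namespace H90

open Cfsg
open scoped commutatorElement

variable {G : Type*} [Group G]

theorem conj_pow_pow_eq' {x y : G} {r : ℕ} (h : x⁻¹ * y * x = y ^ r) (j : ℕ) :
    (x ^ j)⁻¹ * y * x ^ j = y ^ (r ^ j) := by
  have := H21.conj_pow_pow_eq (x := y) (y := x⁻¹) (r := r) (by simpa using h) j
  simpa [inv_pow] using this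

/-- Generators of a Z-group. -/
theorem zgroup_data [Finite G] [IsZGroup G] :
    ∃ (x y : G) (r : ℕ), Subgroup.closure {x, y} = ⊤ ∧ Subgroup.zpowers y = commutator G ∧
      x⁻¹ * y * x = y ^ r ∧ Nat.Coprime (r - 1) (orderOf y) ∧
      Nat.Coprime (orderOf x) (orderOf y) ∧ 1 ≤ r ∧ orderOf x * orderOf y = Nat.card G := by
  obtain ⟨H, hH⟩ :=
    Subgroup.exists_right_complement'_of_coprime (IsZGroup.coprime_commutator_index G)
  have h1 : Abelianization G ≃* H := hH.symm.QuotientMulEquiv
  have hHc : IsCyclic H := isCyclic_of_surjective _ h1.surjective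
  obtain ⟨x, hx⟩ := (Subgroup.isCyclic_iff_exists_zpowers_eq_top H).1 hHc
  obtain ⟨y, hy⟩ := (Subgroup.isCyclic_iff_exists_zpowers_eq_top _).1
    (IsZGroup.isCyclic_commutator G)
  have hcl : Subgroup.closure {x, y} = ⊤ := by
    rw [Set.insert_eq, Subgroup.closure_union, ← Subgroup.zpowers_eq_closure,
      ← Subgroup.zpowers_eq_closure, hx, hy, sup_comm, hH.sup_eq_top]
  have hm : 0 < orderOf y := orderOf_pos y
  have h2 : x⁻¹ * y * x ∈ Subgroup.zpowers y := by
    rw [hy]
    simpa using (inferInstance : (commutator G).Normal).conj_mem y (hy ▸ Subgroup.mem_zpowers y) x⁻¹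
  rw [← mem_powers_iff_mem_zpowers] at h2
  obtain ⟨k, hk⟩ := h2
  have hr : x⁻¹ * y * x = y ^ (k + orderOf y) := by
    rw [pow_add, pow_orderOf_eq_one, mul_one]; exact hk.symm
  have hox : orderOf x = Nat.card H := by rw [← hx, Nat.card_zpowers]
  have hoy : orderOf y = Nat.card (commutator G) := by rw [← hy, Nat.card_zpowers]
  refine ⟨x, y, k + orderOf y, hcl, hy, hr, ?_, ?_, by omega, ?_⟩
  · set r := k + orderOf y with hrdef
    have hr1 : y ^ r = y ^ (r - 1) * y := by rw [← pow_succ]; congr 1; omega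
    have hN : (Subgroup.zpowers (y ^ (r - 1))).Normal := by
      have hcl' : Subgroup.closure {x⁻¹, y} = ⊤ := by
        rw [eq_top_iff, ← hcl, Subgroup.closure_le]
        rintro _ (rfl | rfl)
        · exact (Subgroup.inv_mem_iff _).1 (Subgroup.subset_closure (by simp))
        · exact Subgroup.subset_closure (by simp)
      refine H21.normal_of_closure_pair hcl' _ (H21.conj_mem_zpowers ?_) (H21.conj_mem_zpowers ?_)
      · have : x⁻¹ * y ^ (r - 1) * x⁻¹⁻¹ = (y ^ (r - 1)) ^ r := by
          rw [← conj_pow, inv_inv, hr, ← pow_mul, ← pow_mul, mul_comm]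
        rw [this]; exact Subgroup.pow_mem _ (Subgroup.mem_zpowers _) _
      · have : y * y ^ (r - 1) * y⁻¹ = y ^ (r - 1) := by group
        rw [this]; exact Subgroup.mem_zpowers _
    have hle : commutator G ≤ Subgroup.zpowers (y ^ (r - 1)) := by
      refine H21.commutator_le_of_closure _ hcl _ ?_
      have key : ⁅x, y⁆ ∈ Subgroup.zpowers (y ^ (r - 1)) := by
        have e : ⁅x, y⁆ = (x * y) * (y ^ (r - 1))⁻¹ * (x * y)⁻¹ := by
          have e2 : y ^ (r - 1) = x⁻¹ * y * x * y⁻¹ := by rw [hr, hr1]; group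
          rw [e2, commutatorElement_def]
          have e3 : (x⁻¹ * y * x) * y = y * (x⁻¹ * y * x) := by rw [hr]; group
          calc x * y * x⁻¹ * y⁻¹ = x * y * (x⁻¹ * y⁻¹ * x) * x⁻¹ := by group
            _ = x * y * (y * ((x⁻¹ * y * x) * y)⁻¹) * x⁻¹ := by group
            _ = _ := by rw [e3]; group
        rw [e]
        exact hN.conj_mem _ (Subgroup.inv_mem _ (Subgroup.mem_zpowers _)) _
      rintro _ (rfl | rfl) _ (rfl | rfl)
      · simp
      · exact key
      · rw [← commutatorElement_inv]; exact Subgroup.inv_mem _ key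
      · simp
    rw [← hy, Subgroup.zpowers_le, mem_zpowers_pow_iff] at hle
    exact hle
  · rw [hox, hoy, ← hH.symm.index_eq_card]
    exact (IsZGroup.coprime_commutator_index G).symm
  · rw [hox, hoy, mul_comm, hH.card_mul_card]

/-- The presentation of a split metacyclic group. -/
theorem nonempty_equiv_metacyclic [Finite G] {x y : G} {r : ℕ}
    (hcl : Subgroup.closure {x, y} = ⊤) (hr : x⁻¹ * y * x = y ^ r)
    (hc : orderOf x * orderOf y = Nat.card G) :
    Nonempty (G ≃* PresentedGroup
      ({FreeGroup.of (0 : Fin 2) ^ orderOf x, FreeGroup.of (1 : Fin 2) ^ orderOf y,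
        (FreeGroup.of (0 : Fin 2))⁻¹ * FreeGroup.of 1 * FreeGroup.of 0 *
          (FreeGroup.of (1 : Fin 2) ^ r)⁻¹} : Set (FreeGroup (Fin 2)))) := by
  set rels : Set (FreeGroup (Fin 2)) := {FreeGroup.of (0 : Fin 2) ^ orderOf x,
    FreeGroup.of (1 : Fin 2) ^ orderOf y,
        (FreeGroup.of (0 : Fin 2))⁻¹ * FreeGroup.of 1 * FreeGroup.of 0 *
          (FreeGroup.of (1 : Fin 2) ^ r)⁻¹} with hrels
  have hrel : ∀ w ∈ rels, PresentedGroup.mk rels w = 1 := fun w hw => PresentedGroup.one_of_mem hw
  set a : PresentedGroup rels := PresentedGroup.of 0 with ha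
  set b : PresentedGroup rels := PresentedGroup.of 1 with hb
  have h1 : a ^ orderOf x = 1 := by
    simpa [PresentedGroup.of, ha] using hrel (FreeGroup.of (0 : Fin 2) ^ orderOf x) (by simp [hrels])
  have h2 : b ^ orderOf y = 1 := by
    simpa [PresentedGroup.of, hb] using hrel (FreeGroup.of (1 : Fin 2) ^ orderOf y) (by simp [hrels])
  have h3 : a⁻¹ * b * a = b ^ r := by
    have := hrel ((FreeGroup.of (0 : Fin 2))⁻¹ * FreeGroup.of 1 * FreeGroup.of 0 *
          (FreeGroup.of (1 : Fin 2) ^ r)⁻¹) (by simp [hrels])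
    simp only [map_mul, map_inv, map_pow] at this
    exact mul_inv_eq_one.1 this
  have hrn : r ^ orderOf x ≡ 1 [MOD orderOf y] := by
    have := conj_pow_pow_eq' hr (orderOf x)
    rw [pow_orderOf_eq_one] at this
    rw [← pow_eq_pow_iff_modEq, ← this]; simp
  obtain ⟨ψ, hψ1, hψ2⟩ := H21.exists_metaRels_hom (m := orderOf y) (n := orderOf x) (r := r) (t := 0)
    b a⁻¹ h2 (by simp [h1]) (by simpa using h3)
  have hcard := H21.metaRels_card (orderOf y) (orderOf x) r 0 (orderOf_pos y) (orderOf_pos x) hrn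
    (by simp [Nat.ModEq])
  have hfin : Finite (PresentedGroup (H21.metaRels (orderOf y) (orderOf x) r 0)) :=
    Nat.finite_of_card_ne_zero (by
      rw [hcard]; exact (Nat.mul_pos (orderOf_pos y) (orderOf_pos x)).ne')
  have hψ : Function.Surjective ψ := by
    rw [← MonoidHom.range_eq_top, eq_top_iff, ← PresentedGroup.closure_range_of, Subgroup.closure_le]
    rintro _ ⟨i, rfl⟩
    fin_cases i
    · exact (Subgroup.inv_mem_iff _).1 ⟨_, hψ2⟩
    · exact ⟨_, hψ1⟩
  have hfin' : Finite (PresentedGroup rels) := Finite.of_surjective _ hψ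
  let θ : PresentedGroup rels →* G := PresentedGroup.toGroup (f := ![x, y]) (by
    intro w hw
    simp only [hrels, Set.mem_insert_iff, Set.mem_singleton_iff] at hw
    rcases hw with rfl | rfl | rfl
    · simp [pow_orderOf_eq_one]
    · simp [pow_orderOf_eq_one]
    · simp [hr])
  have hθ : Function.Surjective θ := by
    rw [← MonoidHom.range_eq_top, eq_top_iff, ← hcl, Subgroup.closure_le]
    rintro _ (rfl | rfl)
    · exact ⟨a, by simp [θ, ha]⟩
    · exact ⟨b, by simp [θ, hb]⟩
  have hle : Nat.card (PresentedGroup rels) ≤ Nat.card G := by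
    rw [← hc, mul_comm, ← hcard]; exact Nat.card_le_card_of_surjective _ hψ
  exact ⟨(MulEquiv.ofBijective θ (hθ.bijective_of_nat_card_le hle)).symm⟩

end H90
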